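import Cfsg.Agent.Lib.L0.FiniteOrderEnd
import Cfsg.Prelude.Def_Characters
open Module
open scoped ComplexConjugate

namespace Cfsg.Agent.Lib.L0

section Rep
variable {G : Type*} [Group G] [Finite G] {V : Type*} [AddCommGroup V] [Module ℂ V]
  (ρ : Representation ℂ G V)

omit [Finite G] in
theorem rep_pow_orderOf (g : G) : ρ g ^ orderOf g = 1 := by
  rw [← map_pow, pow_orderOf_eq_one, map_one]

theorem rep_inv_eq_pow (g : G) : ρ g⁻¹ = ρ g ^ (orderOf g - 1) := by
  rw [← map_pow]
  congr 1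
  rw [inv_eq_iff_mul_eq_one, ← pow_succ', Nat.sub_add_cancel (orderOf_pos g), pow_orderOf_eq_one]

variable [FiniteDimensional ℂ V]

/-- `χ(g⁻¹) = conj χ(g)` for complex characters of finite groups. -/
theorem char_inv (g : G) : ρ.character g⁻¹ = conj (ρ.character g) := by
  unfold Representation.character
  rw [rep_inv_eq_pow]
  exact trace_pow_pred_eq_conj (orderOf_pos g) (rep_pow_orderOf ρ g)

theorem norm_char_le (g : G) : ‖ρ.character g‖ ≤ finrank ℂ V :=
  norm_trace_le (orderOf_pos g) (rep_pow_orderOf ρ g)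

theorem char_eq_finrank_iff (g : G) : ρ.character g = finrank ℂ V ↔ ρ g = 1 :=
  trace_eq_finrank_iff (orderOf_pos g) (rep_pow_orderOf ρ g)

theorem char_eq_char_one_iff (g : G) : ρ.character g = ρ.character 1 ↔ ρ g = 1 := by
  rw [Representation.char_one]; exact char_eq_finrank_iff ρ g

theorem norm_char_eq_finrank_iff (g : G) :
    ‖ρ.character g‖ = finrank ℂ V ↔ ∃ c : ℂ, ρ g = c • 1 :=
  norm_trace_eq_finrank_iff (orderOf_pos g) (rep_pow_orderOf ρ g)

theorem isIntegral_char (g : G) : IsIntegral ℤ (ρ.character g) :=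
  isIntegral_trace (orderOf_pos g) (rep_pow_orderOf ρ g)

end Rep

section CharPred
variable {G : Type*} [Group G]

theorem isCharacter_of_irr {χ : G → ℂ} (h : Cfsg.IsIrrCharacter G χ) : Cfsg.IsCharacter G χ := by
  obtain ⟨n, ρ, _, rfl⟩ := h
  exact ⟨n, ρ, rfl⟩

theorem isClassFunction_of_isCharacter {χ : G → ℂ} (h : Cfsg.IsCharacter G χ) :
    Cfsg.IsClassFunction G χ := by
  obtain ⟨n, ρ, rfl⟩ := h
  intro g k
  exact Representation.char_conj ρ g k

theorem isCharacter_apply_one {χ : G → ℂ} (h : Cfsg.IsCharacter G χ) : ∃ n : ℕ, χ 1 = n := by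
  obtain ⟨n, ρ, rfl⟩ := h
  exact ⟨n, by simp⟩

variable [Finite G]

theorem isCharacter_apply_inv {χ : G → ℂ} (h : Cfsg.IsCharacter G χ) (g : G) :
    χ g⁻¹ = conj (χ g) := by
  obtain ⟨n, ρ, rfl⟩ := h
  exact char_inv ρ g

theorem isCharacter_norm_le {χ : G → ℂ} (h : Cfsg.IsCharacter G χ) (g : G) :
    ‖χ g‖ ≤ ‖χ 1‖ := by
  obtain ⟨n, ρ, rfl⟩ := h
  rw [Representation.char_one]
  simpa using norm_char_le ρ g

theorem isCharacter_isIntegral {χ : G → ℂ} (h : Cfsg.IsCharacter G χ) (g : G) :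
    IsIntegral ℤ (χ g) := by
  obtain ⟨n, ρ, rfl⟩ := h
  exact isIntegral_char ρ g

end CharPred

section Orthogonality
variable {G : Type*} [Group G] [Fintype G]

theorem classInner_char_eq {V W : Type*} [AddCommGroup V] [Module ℂ V] [FiniteDimensional ℂ V]
    [AddCommGroup W] [Module ℂ W] [FiniteDimensional ℂ W]
    (ρ : Representation ℂ G V) (σ : Representation ℂ G W) :
    Cfsg.classInner ρ.character σ.character =
      (Nat.card G : ℂ)⁻¹ * ∑ g : G, ρ.character g * σ.character g⁻¹ := by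
  unfold Cfsg.classInner
  congr 1
  refine Finset.sum_congr rfl fun g _ => ?_
  rw [char_inv]

/-- `|G|` is invertible in `ℂ` (use with `letI`). -/
@[instance_reducible]
noncomputable def invertibleCard (G : Type*) [Group G] [Finite G] : Invertible (Nat.card G : ℂ) :=
  invertibleOfNonzero (by exact_mod_cast (Nat.card_pos (α := G)).ne')

open scoped Classical in
theorem classInner_irr_eq {V W : Type*} [AddCommGroup V] [Module ℂ V] [FiniteDimensional ℂ V]
    [AddCommGroup W] [Module ℂ W] [FiniteDimensional ℂ W]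
    (ρ : Representation ℂ G V) (σ : Representation ℂ G W) [ρ.IsIrreducible] [σ.IsIrreducible] :
    Cfsg.classInner ρ.character σ.character = if Nonempty (Representation.Equiv σ ρ) then 1 else 0 := by
  let := invertibleCard G
  rw [classInner_char_eq, Representation.char_orthonormal]

theorem irr_classInner_self {χ : G → ℂ} (h : Cfsg.IsIrrCharacter G χ) :
    Cfsg.classInner χ χ = 1 := by
  classical
  obtain ⟨n, ρ, hρ, rfl⟩ := h
  have := hρ
  rw [classInner_irr_eq, if_pos ⟨Representation.Equiv.refl ρ⟩]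

theorem irr_classInner_ne {χ ψ : G → ℂ} (hχ : Cfsg.IsIrrCharacter G χ)
    (hψ : Cfsg.IsIrrCharacter G ψ) (hne : χ ≠ ψ) : Cfsg.classInner χ ψ = 0 := by
  classical
  obtain ⟨n, ρ, hρ, rfl⟩ := hχ
  obtain ⟨m, σ, hσ, rfl⟩ := hψ
  have := hρ; have := hσ
  rw [classInner_irr_eq, if_neg]
  rintro ⟨e⟩
  exact hne (Representation.char_iso e).symm

theorem irr_classInner_eq {χ ψ : G → ℂ} (hχ : Cfsg.IsIrrCharacter G χ)
    (hψ : Cfsg.IsIrrCharacter G ψ) [Decidable (χ = ψ)] :
    Cfsg.classInner χ ψ = if χ = ψ then 1 else 0 := by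
  split_ifs with h
  · subst h; exact irr_classInner_self hχ
  · exact irr_classInner_ne hχ hψ h

end Orthogonality

end Cfsg.Agent.Lib.L0
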