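import Mathlib
import Cfsg.Agent.Lib.H23.BlockVanish
import Cfsg.Agent.Lib.H23.BlockIdem

/-!
# Blocks are determined by the `p`-regular classes (lead)

`sameBlock_of_pRegular`: two irreducible characters whose central characters agree modulo `M`
on all `p`-regular elements lie in the same block (Osima: the block idempotent is supported on
`p`-regular classes).
-/

set_option autoImplicit false

namespace Cfsg.Agent.Lib.L0.BlockPReg

open Cfsg Cfsg.Agent.Lib.H23 Cfsg.Agent.Lib.H24

variable {p : ℕ} {M : Ideal AlgInt} {G : Type*} [Group G] [Fintype G]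

theorem sameBlock_of_pRegular (hM : IsPModular p M) (χ ψ : IrrCharacter G)
    (h : ∀ g : G, ¬ p ∣ orderOf g →
      MemLocalIdeal M (centralChar (χ : G → ℂ) g - centralChar (ψ : G → ℂ) g)) :
    SameBlock M (χ : G → ℂ) (ψ : G → ℂ) := by
  classical
  haveI := Fintype.ofFinite (ConjClasses G)
  haveI hP := isPrime_of_isPModular hM
  set B := blockOf M (χ : G → ℂ) with hB
  have hχ := omega_blockIdem B χ
  rw [if_pos (mem_blockOf_self χ)] at hχ
  have hψ := omega_blockIdem B ψ
  by_contra hcon
  have hψB : ψ ∉ B := hcon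
  rw [if_neg hψB] at hψ
  rw [omega_eq_sum_centralChar (irr_isClassFunction χ) (blockIdem_mem_center B)] at hχ
  rw [omega_eq_sum_centralChar (irr_isClassFunction ψ) (blockIdem_mem_center B)] at hψ
  have hdiff : MemLocalIdeal M (∑ c : ConjClasses G, (blockIdem B).coeff (classRep c) *
      (centralChar (χ : G → ℂ) (classRep c) - centralChar (ψ : G → ℂ) (classRep c))) := by
    refine memLocalIdeal_sum _ _ fun c _ => ?_
    by_cases hc : p ∣ orderOf (classRep c)
    · rw [coeff_blockIdem, blockCoeff_eq_zero_of_dvd_orderOf hM χ _ hc, zero_mul]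
      exact memLocalIdeal_zero hP.ne_top
    · rw [coeff_blockIdem]
      exact memLocalIdeal_mul_left (memLocalRing_blockCoeff hM χ _) (h _ hc)
  have e : (∑ c : ConjClasses G, (blockIdem B).coeff (classRep c) *
      (centralChar (χ : G → ℂ) (classRep c) - centralChar (ψ : G → ℂ) (classRep c))) = 1 := by
    simp only [mul_sub, Finset.sum_sub_distrib]
    rw [hχ, hψ, sub_zero]
  rw [e] at hdiff
  exact not_memLocalIdeal_one hdiff

end Cfsg.Agent.Lib.L0.BlockPReg
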