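import Cfsg.Agent.Lib.L0.CharDegree
import Cfsg.Prelude.Def_Blocks
open Module
open scoped ComplexConjugate

namespace Cfsg.Agent.Lib.L0

section ConjSum
variable {G : Type*} [Group G]

/-- The fibre of `x ↦ x⁻¹ g x` over a conjugate of `g` is a coset of the centralizer. -/
theorem card_fiber_conj (g y : G) (hy : IsConj g y) :
    Nat.card {x : G // x⁻¹ * g * x = y} = Nat.card (Subgroup.centralizer ({g} : Set G)) := by
  obtain ⟨c, hc⟩ := isConj_iff.mp hy
  subst hc
  refine Nat.card_congr ?_
  refine ⟨fun x => ⟨x.1 * c, ?_⟩, fun z => ⟨z.1 * c⁻¹, ?_⟩, ?_, ?_⟩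
  · rw [Subgroup.mem_centralizer_singleton_iff]
    have h1 : x.1⁻¹ * g * x.1 = c * g * c⁻¹ := x.2
    have h3 : x.1 * (x.1⁻¹ * g * x.1) * c = x.1 * (c * g * c⁻¹) * c := by rw [h1]
    have h2 : g * (x.1 * c) = x.1 * c * g := by simpa [mul_assoc] using h3
    exact h2.symm
  · have hz := Subgroup.mem_centralizer_singleton_iff.mp z.2
    have : (z.1 * c⁻¹)⁻¹ * g * (z.1 * c⁻¹) = c * (z.1⁻¹ * g * z.1) * c⁻¹ := by group
    rw [this]
    have h4 : (z.1 : G)⁻¹ * g * z.1 = g := by
      rw [mul_assoc, ← hz, ← mul_assoc, inv_mul_cancel, one_mul]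
    rw [h4]
  · intro x; simp
  · intro z; simp

variable [Fintype G]

open scoped Classical in
/-- Summing a function over all conjugates `x⁻¹ g x` counts each conjugate `|C_G(g)|` times. -/
theorem sum_conj_eq (F : G → ℂ) (g : G) :
    ∑ x : G, F (x⁻¹ * g * x) =
      (Nat.card (Subgroup.centralizer ({g} : Set G)) : ℂ) *
        ∑ y ∈ Finset.univ.filter (fun y => IsConj g y), F y := by
  rw [Finset.sum_comp F (fun x => x⁻¹ * g * x), Finset.mul_sum]
  have himg : (Finset.univ.image fun x : G => x⁻¹ * g * x) = Finset.univ.filter (fun y => IsConj g y) := by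
    ext y
    simp only [Finset.mem_image, Finset.mem_univ, true_and, Finset.mem_filter]
    constructor
    · rintro ⟨x, rfl⟩
      exact isConj_iff.mpr ⟨x⁻¹, by simp⟩
    · intro hy
      obtain ⟨c, hc⟩ := isConj_iff.mp hy
      exact ⟨c⁻¹, by simpa using hc⟩
  rw [himg]
  refine Finset.sum_congr rfl fun y hy => ?_
  have hy' : IsConj g y := (Finset.mem_filter.mp hy).2
  rw [nsmul_eq_mul]
  congr 1
  rw [← card_fiber_conj g y hy', Nat.card_eq_fintype_card, Fintype.card_subtype]

open scoped Classical in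
/-- The induced function as a sum over the conjugates lying in the subgroup. -/
theorem indFun_eq_sum_conj (H : Subgroup G) (ξ : H → ℂ) (g : G) :
    Cfsg.indFun H ξ g = (Nat.card H : ℂ)⁻¹ * (Nat.card (Subgroup.centralizer ({g} : Set G)) : ℂ) *
      ∑ᶠ h ∈ {h : H | IsConj g (h : G)}, ξ h := by
  have := Fintype.ofFinite H
  rw [indFun_apply, sum_conj_eq (Cfsg.extendByZero H ξ) g, mul_assoc]
  congr 2
  rw [finsum_mem_eq_finite_toFinset_sum _ (Set.toFinite _)]
  -- sum over conjugates in G of the extension by zero = sum over conjugates in H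
  have h1 : ∑ y ∈ Finset.univ.filter (fun y => IsConj g y), Cfsg.extendByZero H ξ y
      = ∑ y : G, Cfsg.extendByZero H ξ y * (if IsConj g y then 1 else 0) := by
    rw [Finset.sum_filter]
    refine Finset.sum_congr rfl fun y _ => ?_
    split_ifs <;> simp
  rw [h1, sum_extendByZero_mul]
  simp only [mul_ite, mul_one, mul_zero]
  rw [← Finset.sum_filter]
  refine Finset.sum_congr ?_ fun _ _ => rfl
  ext h
  simp

end ConjSum

section CentralChar
variable {G : Type*} [Group G] [Fintype G]

/-- The induced central character is the central character of the induced function. -/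
theorem inducedCentralChar_eq (H : Subgroup G) (ξ : H → ℂ) (g : G) :
    Cfsg.inducedCentralChar H ξ g = Cfsg.centralChar (Cfsg.indFun H ξ) g := by
  classical
  unfold Cfsg.centralChar Cfsg.inducedCentralChar
  rw [indFun_apply_one, indFun_eq_sum_conj]
  have hH : (Nat.card H : ℂ) ≠ 0 := by exact_mod_cast (Nat.card_pos (α := H)).ne'
  have hC : (Nat.card (Subgroup.centralizer ({g} : Set G)) : ℂ) ≠ 0 := by
    exact_mod_cast (Nat.card_pos (α := Subgroup.centralizer ({g} : Set G))).ne'
  have hidx : ((Subgroup.centralizer ({g} : Set G)).index : ℂ) *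
      (Nat.card (Subgroup.centralizer ({g} : Set G)) : ℂ) = (H.index : ℂ) * (Nat.card H : ℂ) := by
    norm_cast
    rw [mul_comm, Subgroup.card_mul_index, mul_comm, Subgroup.card_mul_index]
  have hI : (H.index : ℂ) ≠ 0 := by
    exact_mod_cast (Subgroup.index_ne_zero_of_finite (H := H))
  by_cases h1 : ξ 1 = 0
  · simp [h1]
  · have hfin : ∑ᶠ h ∈ {h : H | IsConj g (h : G)}, ξ h / ξ 1
        = (∑ᶠ h ∈ {h : H | IsConj g (h : G)}, ξ h) / ξ 1 := by
      have := Fintype.ofFinite H
      rw [finsum_mem_eq_finite_toFinset_sum _ (Set.toFinite _),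
        finsum_mem_eq_finite_toFinset_sum _ (Set.toFinite _), Finset.sum_div]
    rw [hfin]
    field_simp
    linear_combination (∑ᶠ h ∈ {h : H | IsConj g (h : G)}, ξ h) * hidx.symm

end CentralChar

end Cfsg.Agent.Lib.L0
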