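import Mathlib
open Module
open scoped ComplexConjugate

namespace Cfsg.Agent.Lib.L0

section FiniteOrder
variable {V : Type*} [AddCommGroup V] [Module ℂ V]

theorem isSemisimple_of_pow_eq_one {f : End ℂ V} {m : ℕ} (hm : 0 < m) (h : f ^ m = 1) :
    f.IsSemisimple := by
  have hsep : (Polynomial.X ^ m - Polynomial.C (1 : ℂ)).Separable :=
    Polynomial.separable_X_pow_sub_C (1 : ℂ) (by exact_mod_cast hm.ne') one_ne_zero
  refine Module.End.isSemisimple_of_squarefree_aeval_eq_zero hsep.squarefree ?_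
  simp [h]

theorem pow_apply_of_apply_eq_smul {f : End ℂ V} {μ : ℂ} {x : V} (hx : f x = μ • x) (k : ℕ) :
    (f ^ k) x = μ ^ k • x := by
  induction k with
  | zero => simp
  | succ n ih => rw [pow_succ, Module.End.mul_apply, hx, map_smul, ih, smul_smul, pow_succ, mul_comm]

theorem eigenvalue_pow_eq_one {f : End ℂ V} {m : ℕ} (h : f ^ m = 1) (μ : f.Eigenvalues) :
    (μ : ℂ) ^ m = 1 := by
  obtain ⟨x, hx⟩ := (show f.HasEigenvalue (μ : ℂ) from μ.2).exists_hasEigenvector
  have h1 : (f ^ m) x = (μ : ℂ) ^ m • x := pow_apply_of_apply_eq_smul hx.apply_eq_smul m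
  rw [h, Module.End.one_apply] at h1
  have h2 : ((μ : ℂ) ^ m - 1) • x = 0 := by rw [sub_smul, one_smul, ← h1, sub_self]
  rcases smul_eq_zero.mp h2 with h3 | h3
  · exact sub_eq_zero.mp h3
  · exact absurd h3 hx.2

variable [FiniteDimensional ℂ V]

theorem isInternal_eigenspaces {f : End ℂ V} (hf : f.IsSemisimple) :
    DirectSum.IsInternal (fun μ : f.Eigenvalues => f.eigenspace (μ : ℂ)) := by
  classical
  refine DirectSum.isInternal_submodule_of_iSupIndep_of_iSup_eq_top
    (f.eigenspaces_iSupIndep.comp Subtype.val_injective) ?_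
  rw [eq_top_iff, ← hf.iSup_eigenspace_eq_top]
  refine iSup_le fun μ => ?_
  by_cases hμ : f.HasEigenvalue μ
  · exact le_iSup (fun μ : f.Eigenvalues => f.eigenspace (μ : ℂ)) ⟨μ, hμ⟩
  · have : f.eigenspace μ = ⊥ := by
      by_contra hne
      exact hμ hne
    rw [this]; exact bot_le

/-- trace of a power of a semisimple endomorphism as sum over eigenvalues. -/
theorem trace_pow_eq_sum {f : End ℂ V} (hf : f.IsSemisimple) (k : ℕ) :
    LinearMap.trace ℂ V (f ^ k) =
      ∑ μ : f.Eigenvalues, (finrank ℂ (f.eigenspace (μ : ℂ)) : ℂ) * (μ : ℂ) ^ k := by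
  classical
  have hmaps : ∀ μ : f.Eigenvalues, Set.MapsTo (f ^ k) (f.eigenspace (μ : ℂ)) (f.eigenspace (μ : ℂ)) := by
    intro μ x hx
    have hx' : f x = (μ : ℂ) • x := Module.End.mem_eigenspace_iff.mp hx
    show (f ^ k) x ∈ f.eigenspace (μ : ℂ)
    rw [pow_apply_of_apply_eq_smul hx' k]
    exact Submodule.smul_mem _ _ hx
  rw [LinearMap.trace_eq_sum_trace_restrict (isInternal_eigenspaces hf) hmaps]
  refine Finset.sum_congr rfl fun μ _ => ?_
  have : (f ^ k).restrict (hmaps μ) = ((μ : ℂ) ^ k) • (LinearMap.id : f.eigenspace (μ : ℂ) →ₗ[ℂ] f.eigenspace (μ : ℂ)) := by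
    ext ⟨x, hx⟩
    have hx' : f x = (μ : ℂ) • x := Module.End.mem_eigenspace_iff.mp hx
    simp only [LinearMap.smul_apply, LinearMap.id_coe, id_eq, Submodule.coe_smul]
    exact pow_apply_of_apply_eq_smul hx' k
  rw [this, map_smul, LinearMap.trace_id, smul_eq_mul, mul_comm]

theorem sum_finrank_eigenspace {f : End ℂ V} (hf : f.IsSemisimple) :
    ∑ μ : f.Eigenvalues, finrank ℂ (f.eigenspace (μ : ℂ)) = finrank ℂ V := by
  have h := trace_pow_eq_sum hf 0
  simp only [pow_zero, mul_one] at h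
  rw [show (1 : End ℂ V) = LinearMap.id from rfl, LinearMap.trace_id] at h
  exact_mod_cast h.symm

theorem finrank_eigenspace_pos {f : End ℂ V} (μ : f.Eigenvalues) :
    0 < finrank ℂ (f.eigenspace (μ : ℂ)) := by
  rw [Module.finrank_pos_iff]
  exact Submodule.nontrivial_iff_ne_bot.mpr μ.2

/-- If all eigenvalues of a semisimple endomorphism are equal to `c`, it is `c • 1`. -/
theorem eq_smul_one_of_eigenvalues {f : End ℂ V} (hf : f.IsSemisimple) (c : ℂ)
    (h : ∀ μ : f.Eigenvalues, (μ : ℂ) = c) : f = c • 1 := by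
  have htop : f.eigenspace c = ⊤ := by
    rw [eq_top_iff, ← hf.iSup_eigenspace_eq_top]
    refine iSup_le fun μ => ?_
    by_cases hμ : f.HasEigenvalue μ
    · rw [← h ⟨μ, hμ⟩]; exact le_rfl
    · have : f.eigenspace μ = ⊥ := by
        by_contra hne
        exact hμ hne
      rw [this]; exact bot_le
  ext x
  have : x ∈ f.eigenspace c := htop ▸ Submodule.mem_top
  simpa using Module.End.mem_eigenspace_iff.mp this

/-- Convexity lemma: a weighted sum of points of the unit disc with real part the total weight. -/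
theorem eq_one_of_re_sum_eq {ι : Type*} [Fintype ι] (d : ι → ℕ) (z : ι → ℂ) (hd : ∀ i, 0 < d i)
    (hz : ∀ i, ‖z i‖ ≤ 1) (h : (∑ i, (d i : ℂ) * z i).re = ∑ i, (d i : ℝ)) : ∀ i, z i = 1 := by
  have hre : ∀ i, (z i).re ≤ 1 := fun i => (Complex.re_le_norm (z i)).trans (hz i)
  have h1 : ∑ i, (d i : ℝ) * (1 - (z i).re) = 0 := by
    have : (∑ i, (d i : ℂ) * z i).re = ∑ i, (d i : ℝ) * (z i).re := by
      rw [Complex.re_sum]
      refine Finset.sum_congr rfl fun i _ => ?_
      simp
    rw [this] at h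
    simp only [mul_sub, mul_one, Finset.sum_sub_distrib, h, sub_self]
  have h2 : ∀ i ∈ Finset.univ, (d i : ℝ) * (1 - (z i).re) = 0 := by
    refine (Finset.sum_eq_zero_iff_of_nonneg fun i _ => ?_).mp h1
    exact mul_nonneg (Nat.cast_nonneg _) (sub_nonneg.mpr (hre i))
  intro i
  have h3 : (z i).re = 1 := by
    have := h2 i (Finset.mem_univ i)
    rcases mul_eq_zero.mp this with h4 | h4
    · exact absurd (by exact_mod_cast h4) (hd i).ne'
    · linarith
  have h4 : (z i).im = 0 := by
    have hn := hz i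
    have hsq : ‖z i‖ ^ 2 ≤ 1 := by nlinarith [norm_nonneg (z i)]
    rw [Complex.sq_norm, Complex.normSq_apply, h3] at hsq
    nlinarith
  exact Complex.ext (by simpa using h3) (by simpa using h4)

omit [FiniteDimensional ℂ V] in
theorem norm_eigenvalue_eq_one {f : End ℂ V} {m : ℕ} (hm : 0 < m) (h : f ^ m = 1)
    (μ : f.Eigenvalues) : ‖(μ : ℂ)‖ = 1 :=
  Complex.norm_eq_one_of_pow_eq_one (eigenvalue_pow_eq_one h μ) hm.ne'

/-- The trace of the inverse `f ^ (m - 1)` of a finite-order endomorphism is the conjugate. -/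
theorem trace_pow_pred_eq_conj {f : End ℂ V} {m : ℕ} (hm : 0 < m) (h : f ^ m = 1) :
    LinearMap.trace ℂ V (f ^ (m - 1)) = conj (LinearMap.trace ℂ V f) := by
  have hf := isSemisimple_of_pow_eq_one hm h
  have h1 := trace_pow_eq_sum hf 1
  rw [pow_one] at h1
  rw [trace_pow_eq_sum hf (m - 1), h1, map_sum]
  refine Finset.sum_congr rfl fun μ _ => ?_
  rw [map_mul, Complex.conj_natCast, pow_one]
  congr 1
  have hn : ‖(μ : ℂ)‖ = 1 := norm_eigenvalue_eq_one hm h μ
  have hμ0 : (μ : ℂ) ≠ 0 := by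
    intro h0; rw [h0, norm_zero] at hn; exact zero_ne_one hn
  have h2 : (μ : ℂ) * conj (μ : ℂ) = 1 := by
    rw [Complex.mul_conj, Complex.normSq_eq_norm_sq, hn]; simp
  have h3 : (μ : ℂ) * (μ : ℂ) ^ (m - 1) = 1 := by
    rw [← pow_succ', Nat.sub_add_cancel hm, eigenvalue_pow_eq_one h μ]
  exact mul_left_cancel₀ hμ0 (h3.trans h2.symm)

theorem norm_trace_le {f : End ℂ V} {m : ℕ} (hm : 0 < m) (h : f ^ m = 1) :
    ‖LinearMap.trace ℂ V f‖ ≤ finrank ℂ V := by
  have hf := isSemisimple_of_pow_eq_one hm h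
  have h1 := trace_pow_eq_sum hf 1
  rw [pow_one] at h1
  rw [h1]
  refine (norm_sum_le _ _).trans ?_
  have : ∀ μ : f.Eigenvalues, ‖(finrank ℂ (f.eigenspace (μ : ℂ)) : ℂ) * (μ : ℂ) ^ 1‖ =
      (finrank ℂ (f.eigenspace (μ : ℂ)) : ℝ) := by
    intro μ
    rw [pow_one, norm_mul, norm_eigenvalue_eq_one hm h μ, mul_one, Complex.norm_natCast]
  rw [Finset.sum_congr rfl fun μ _ => this μ, ← sum_finrank_eigenspace hf]
  push_cast
  exact le_rfl

/-- `trace f = dim V` iff `f = 1`, for `f` of finite order. -/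
theorem trace_eq_finrank_iff {f : End ℂ V} {m : ℕ} (hm : 0 < m) (h : f ^ m = 1) :
    LinearMap.trace ℂ V f = finrank ℂ V ↔ f = 1 := by
  constructor
  · intro ht
    have hf := isSemisimple_of_pow_eq_one hm h
    have h1 := trace_pow_eq_sum hf 1
    rw [pow_one] at h1
    have key := eq_one_of_re_sum_eq (fun μ : f.Eigenvalues => finrank ℂ (f.eigenspace (μ : ℂ)))
      (fun μ => (μ : ℂ)) finrank_eigenspace_pos (fun μ => (norm_eigenvalue_eq_one hm h μ).le) (by
        have : ∑ μ : f.Eigenvalues, (finrank ℂ (f.eigenspace (μ : ℂ)) : ℂ) * (μ : ℂ) = finrank ℂ V := by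
          rw [← ht, h1]; simp
        rw [this, ← sum_finrank_eigenspace hf]
        simp)
    have := eq_smul_one_of_eigenvalues hf 1 key
    rwa [one_smul] at this
  · rintro rfl
    exact LinearMap.trace_id ℂ V

/-- `|trace f| = dim V` iff `f` is a scalar, for `f` of finite order. -/
theorem norm_trace_eq_finrank_iff {f : End ℂ V} {m : ℕ} (hm : 0 < m) (h : f ^ m = 1) :
    ‖LinearMap.trace ℂ V f‖ = finrank ℂ V ↔ ∃ c : ℂ, f = c • 1 := by
  have hf := isSemisimple_of_pow_eq_one hm h
  have h1 := trace_pow_eq_sum hf 1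
  rw [pow_one] at h1
  simp only [pow_one] at h1
  constructor
  · intro ht
    rcases Nat.eq_zero_or_pos (finrank ℂ V) with h0 | hpos
    · refine ⟨0, ?_⟩
      have : Subsingleton V := Module.finrank_zero_iff.mp h0
      ext x; exact Subsingleton.elim _ _
    · set t : ℂ := LinearMap.trace ℂ V f / finrank ℂ V with ht_def
      have hnpos : (0 : ℝ) < finrank ℂ V := by exact_mod_cast hpos
      have hnC : ((finrank ℂ V : ℕ) : ℂ) ≠ 0 := by exact_mod_cast hpos.ne'
      have htn : ‖t‖ = 1 := by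
        rw [ht_def, norm_div, ht, Complex.norm_natCast, div_self hnpos.ne']
      have htt : t * conj t = 1 := by
        rw [Complex.mul_conj, Complex.normSq_eq_norm_sq, htn]; simp
      have htr : LinearMap.trace ℂ V f = finrank ℂ V * t := by
        rw [ht_def]; field_simp
      have key := eq_one_of_re_sum_eq (fun μ : f.Eigenvalues => finrank ℂ (f.eigenspace (μ : ℂ)))
        (fun μ => (μ : ℂ) * conj t) finrank_eigenspace_pos (fun μ => by
          rw [norm_mul, norm_eigenvalue_eq_one hm h μ, one_mul, Complex.norm_conj, htn]) (by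
          have : ∑ μ : f.Eigenvalues, (finrank ℂ (f.eigenspace (μ : ℂ)) : ℂ) * ((μ : ℂ) * conj t)
              = finrank ℂ V := by
            simp_rw [← mul_assoc]
            rw [← Finset.sum_mul, ← h1, htr, mul_assoc, htt, mul_one]
          rw [this, ← sum_finrank_eigenspace hf]
          simp)
      refine ⟨t, eq_smul_one_of_eigenvalues hf t fun μ => ?_⟩
      have h2 := key μ
      calc (μ : ℂ) = (μ : ℂ) * (conj t * t) := by rw [mul_comm (conj t), htt, mul_one]
        _ = ((μ : ℂ) * conj t) * t := by ring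
        _ = t := by rw [h2, one_mul]
  · rintro ⟨c, rfl⟩
    rcases Nat.eq_zero_or_pos (finrank ℂ V) with h0 | hpos
    · have : Subsingleton V := Module.finrank_zero_iff.mp h0
      have : (c • (1 : End ℂ V)) = 0 := by ext x; exact Subsingleton.elim _ _
      rw [this, map_zero, norm_zero, h0]; simp
    · have : Nontrivial V := Module.finrank_pos_iff.mp hpos
      have hc : c ^ m = 1 := by
        rw [smul_pow, one_pow] at h
        obtain ⟨x, hx⟩ := exists_ne (0 : V)
        have := LinearMap.congr_fun h x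
        simp only [LinearMap.smul_apply, Module.End.one_apply] at this
        have h2 : (c ^ m - 1) • x = 0 := by rw [sub_smul, one_smul, this, sub_self]
        rcases smul_eq_zero.mp h2 with h3 | h3
        · exact sub_eq_zero.mp h3
        · exact absurd h3 hx
      rw [map_smul, show (1 : End ℂ V) = LinearMap.id from rfl, LinearMap.trace_id, smul_eq_mul,
        norm_mul, Complex.norm_eq_one_of_pow_eq_one hc hm.ne', one_mul, Complex.norm_natCast]

/-- Traces of finite-order endomorphisms are algebraic integers. -/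
theorem isIntegral_trace {f : End ℂ V} {m : ℕ} (hm : 0 < m) (h : f ^ m = 1) :
    IsIntegral ℤ (LinearMap.trace ℂ V f) := by
  have hf := isSemisimple_of_pow_eq_one hm h
  have h1 := trace_pow_eq_sum hf 1
  rw [pow_one] at h1
  simp only [pow_one] at h1
  rw [h1]
  refine IsIntegral.sum _ fun μ _ => ?_
  refine IsIntegral.mul ?_ ?_
  · have := isIntegral_algebraMap (R := ℤ) (A := ℂ) (x := (finrank ℂ (f.eigenspace (μ : ℂ)) : ℤ))
    simpa using this
  · exact IsIntegral.of_pow hm (by rw [eigenvalue_pow_eq_one h μ]; exact isIntegral_one)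

end FiniteOrder
end Cfsg.Agent.Lib.L0
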