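import Mathlib
import Cfsg.Agent.Lib.H23.BlockLocal
import Cfsg.Agent.Lib.H23.BlockDefect
import Cfsg.Agent.Lib.L0.FiniteOrderEnd
import Cfsg.Agent.Lib.L0.CharBasic
import Cfsg.Agent.Lib.H24.CharOrth

set_option autoImplicit false

namespace Cfsg.Agent.Lib.L0.PReg

open Cfsg Cfsg.Agent.Lib.H23

variable {p : ℕ} {M : Ideal AlgInt}

theorem charP_quot (hM : IsPModular p M) : CharP (AlgInt ⧸ M) p := by
  have : M.IsPrime := isPrime_of_isPModular hM
  have : Nontrivial (AlgInt ⧸ M) := Ideal.Quotient.nontrivial_iff.mpr (Ideal.IsPrime.ne_top ‹_›)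
  rw [CharP.charP_iff_prime_eq_zero hM.1]
  have := hM.2.2
  rw [← Ideal.Quotient.eq_zero_iff_mem] at this
  simpa using this

theorem sum_pow_sub_mem (hM : IsPModular p M) {ι : Type*} (s : Finset ι) (d : ι → ℕ)
    (μ : ι → AlgInt) (k : ℕ) :
    (∑ i ∈ s, (d i : AlgInt) * μ i) ^ (p ^ k) - ∑ i ∈ s, (d i : AlgInt) * (μ i) ^ (p ^ k) ∈ M := by
  have := charP_quot hM
  have : Fact p.Prime := ⟨hM.1⟩
  rw [← Ideal.Quotient.eq_zero_iff_mem, map_sub, map_pow, sub_eq_zero,
    ← iterateFrobenius_def, map_sum, map_sum, map_sum]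
  refine Finset.sum_congr rfl fun i _ => ?_
  rw [map_mul, map_mul, map_natCast, map_mul, map_natCast, map_natCast, map_pow, iterateFrobenius_def]


variable {G : Type*} [Group G] [Finite G]

theorem char_pow_congr (hM : IsPModular p M) {χ : G → ℂ} (hχ : IsCharacter G χ) (g : G)
    (k : ℕ) :
    ∃ A B : AlgInt, (A : ℂ) = χ g ∧ (B : ℂ) = χ (g ^ (p ^ k)) ∧ A ^ (p ^ k) - B ∈ M := by
  classical
  obtain ⟨n, ρ, rfl⟩ := hχ
  set f : Module.End ℂ (Fin n → ℂ) := ρ g with hf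
  have hm : 0 < orderOf g := orderOf_pos g
  have hfm : f ^ orderOf g = 1 := by rw [hf, ← map_pow, pow_orderOf_eq_one, map_one]
  have hss := isSemisimple_of_pow_eq_one hm hfm
  have hμ : ∀ μ : f.Eigenvalues, IsIntegral ℤ (μ : ℂ) := fun μ =>
    ⟨Polynomial.X ^ orderOf g - 1, Polynomial.monic_X_pow_sub_C 1 hm.ne', by
      simp [eigenvalue_pow_eq_one hfm μ]⟩
  let μ' : f.Eigenvalues → AlgInt := fun μ => ⟨(μ : ℂ), hμ μ⟩
  refine ⟨∑ μ : f.Eigenvalues, ((Module.finrank ℂ (f.eigenspace (μ : ℂ)) : ℕ) : AlgInt) * μ' μ,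
    ∑ μ : f.Eigenvalues, ((Module.finrank ℂ (f.eigenspace (μ : ℂ)) : ℕ) : AlgInt) * (μ' μ) ^ (p ^ k), ?_, ?_,
    sum_pow_sub_mem hM _ _ _ k⟩
  · have h1 := trace_pow_eq_sum hss 1
    simp only [pow_one] at h1
    push_cast
    exact h1.symm
  · have h1 := trace_pow_eq_sum hss (p ^ k)
    push_cast
    rw [← h1, hf, ← map_pow]
    rfl


omit [Finite G] [Group G] in
theorem mem_of_pow_sub_pow_mem (hM : IsPModular p M) {A B : AlgInt} (k : ℕ)
    (h : A ^ (p ^ k) - B ^ (p ^ k) ∈ M) : A - B ∈ M := by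
  have := charP_quot hM
  have : Fact p.Prime := ⟨hM.1⟩
  have hP : M.IsPrime := isPrime_of_isPModular hM
  refine hP.mem_of_pow_mem (p ^ k) ?_
  rw [← Ideal.Quotient.eq_zero_iff_mem] at h ⊢
  rw [map_pow, map_sub, sub_pow_char_pow, ← map_pow, ← map_pow, ← map_sub]
  exact h

theorem char_ppart_congr (hM : IsPModular p M) {χ : G → ℂ} (hχ : IsCharacter G χ) {x a : G}
    (ha : IsPPart p x a) : MemLocalIdeal M (χ x - χ (a⁻¹ * x)) := by
  have hP : M.IsPrime := isPrime_of_isPModular hM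
  obtain ⟨y, rfl, hc, ⟨k, hk⟩, hy⟩ := ha
  have e : a⁻¹ * (a * y) = y := by group
  rw [e]
  obtain ⟨A, B, hA, hB, hAB⟩ := char_pow_congr hM hχ (a * y) k
  obtain ⟨A', B', hA', hB', hAB'⟩ := char_pow_congr hM hχ y k
  have hpow : (a * y) ^ (p ^ k) = y ^ (p ^ k) := by
    rw [hc.mul_pow, ← hk, pow_orderOf_eq_one, one_mul]
  have hBB : B = B' := Subtype.ext (by rw [hB, hB', hpow])
  have h1 : A ^ (p ^ k) - A' ^ (p ^ k) ∈ M := by
    have h := M.sub_mem hAB hAB'
    rw [hBB] at h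
    have e2 : A ^ p ^ k - B' - (A' ^ p ^ k - B') = A ^ (p ^ k) - A' ^ (p ^ k) := by ring
    rwa [e2] at h
  have h2 := mem_of_pow_sub_pow_mem hM k h1
  have h3 := (memLocalIdeal_coe_iff (M := M) (A - A')).2 h2
  rw [← hA, ← hA']
  exact_mod_cast h3


open scoped ComplexConjugate in
theorem isConj_of_forall_congr (hM : IsPModular p M) {x' y' : G} (hx : ¬ p ∣ orderOf x')
    (hy : ¬ p ∣ orderOf y')
    (h : ∀ χ : IrrCharacter G, MemLocalIdeal M ((χ : G → ℂ) x' - (χ : G → ℂ) y')) :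
    IsConj x' y' := by
  classical
  have hP : M.IsPrime := isPrime_of_isPModular hM
  haveI : Fact p.Prime := ⟨hM.1⟩
  haveI := Fintype.ofFinite G
  haveI := Fintype.ofFinite (IrrCharacter G)
  by_contra hne
  let C : Subgroup G := Subgroup.centralizer ({x'} : Set G)
  obtain ⟨P⟩ : Nonempty (Sylow p C) := inferInstance
  let D : Subgroup G := (P : Subgroup C).map C.subtype
  have hDc : ∀ u ∈ D, u * x' = x' * u := by
    rintro u ⟨v, _, rfl⟩
    exact (v.2 x' rfl).symm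
  have hDp : ∀ u ∈ D, ∃ j : ℕ, orderOf u = p ^ j := by
    rintro u ⟨v, hv, rfl⟩
    obtain ⟨j, hj⟩ := (IsPGroup.iff_orderOf.mp P.isPGroup') ⟨v, hv⟩
    refine ⟨j, ?_⟩
    rw [← hj]
    rw [Subgroup.orderOf_mk, Subgroup.coe_subtype, Subgroup.orderOf_coe]
  -- orders
  have hord : ∀ u ∈ D, orderOf (x' * u) = orderOf x' * orderOf u := by
    intro u hu
    obtain ⟨j, hj⟩ := hDp u hu
    have hcomm : Commute x' u := (hDc u hu).symm
    refine hcomm.orderOf_mul_eq_mul_orderOf_of_coprime ?_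
    rw [hj]
    exact (Nat.Coprime.pow_right j ((Nat.Prime.coprime_iff_not_dvd hM.1).2 hx).symm)
  have hu1 : ∀ u ∈ D, ¬ p ∣ orderOf (x' * u) → u = 1 := by
    intro u hu hnd
    obtain ⟨j, hj⟩ := hDp u hu
    rw [hord u hu, hj] at hnd
    rcases Nat.eq_zero_or_pos j with rfl | hjpos
    · rw [pow_zero] at hj
      exact orderOf_eq_one_iff.mp hj
    · exact absurd (Dvd.dvd.mul_left (dvd_pow_self p hjpos.ne') _) hnd
  have hconj1 : ∀ u : D, IsConj x' (x' * (u : G)) ↔ u = 1 := by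
    intro u
    constructor
    · intro hc
      have h1 : orderOf (x' * (u : G)) = orderOf x' :=
        (Cfsg.Agent.Lib.H23.orderOf_eq_of_isConj hc).symm
      have := hu1 u u.2 (by rw [h1]; exact hx)
      exact Subtype.ext this
    · rintro rfl
      rw [Subgroup.coe_one, mul_one]
  have hconj2 : ∀ u : D, ¬ IsConj y' (x' * (u : G)) := by
    intro u hc
    have h1 : orderOf (x' * (u : G)) = orderOf y' :=
      (Cfsg.Agent.Lib.H23.orderOf_eq_of_isConj hc).symm
    have h2 := hu1 u u.2 (by rw [h1]; exact hy)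
    rw [h2, mul_one] at hc
    exact hne hc.symm
  -- the coefficients
  let c : IrrCharacter G → ℂ := fun χ =>
    (Nat.card D : ℂ)⁻¹ * ∑ u : D, (χ : G → ℂ) (x' * (u : G))
  have hc : ∀ χ, IsIntegral ℤ (c χ) := fun χ =>
    isIntegral_average_char (Cfsg.Agent.Lib.L0.isCharacter_of_irr χ.2) D x' hDc
  have hS : MemLocalIdeal M (∑ χ : IrrCharacter G,
      conj (c χ) * ((χ : G → ℂ) x' - (χ : G → ℂ) y')) := by
    refine memLocalIdeal_sum _ _ fun χ _ => ?_
    exact memLocalIdeal_mul_left (isIntegral_mem_localRing (isIntegral_conj (hc χ))) (h χ)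
  have hval : (∑ χ : IrrCharacter G, conj (c χ) * ((χ : G → ℂ) x' - (χ : G → ℂ) y')) =
      (Nat.card D : ℂ)⁻¹ * (Nat.card C : ℂ) := by
    have e1 : ∀ χ : IrrCharacter G, conj (c χ) * ((χ : G → ℂ) x' - (χ : G → ℂ) y') =
        (Nat.card D : ℂ)⁻¹ * ∑ u : D, ((χ : G → ℂ) x' * conj ((χ : G → ℂ) (x' * (u : G))) -
          (χ : G → ℂ) y' * conj ((χ : G → ℂ) (x' * (u : G)))) := by
      intro χ
      simp only [c, map_mul, map_inv₀, map_sum, Complex.conj_natCast]
      rw [mul_assoc, Finset.sum_mul]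
      congr 1
      refine Finset.sum_congr rfl fun u _ => ?_
      ring
    simp only [e1]
    rw [← Finset.mul_sum, Finset.sum_comm]
    congr 1
    simp only [Finset.sum_sub_distrib]
    simp only [Cfsg.Agent.Lib.H24.second_orthogonality]
    simp only [hconj1, hconj2, if_false]
    rw [Finset.sum_ite_eq' Finset.univ (1 : D)]
    simp [C]
  rw [hval] at hS
  have hcard : Nat.card C = Nat.card D * (P : Subgroup C).index := by
    have h1 : Nat.card D = Nat.card (P : Subgroup C) :=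
      Nat.card_congr ((P : Subgroup C).equivMapOfInjective C.subtype
        (Subgroup.subtype_injective C)).symm.toEquiv
    rw [h1]
    exact ((P : Subgroup C).card_mul_index).symm
  have hD0 : (Nat.card D : ℂ) ≠ 0 := by exact_mod_cast (Nat.card_pos (α := D)).ne'
  rw [hcard] at hS
  push_cast at hS
  rw [inv_mul_cancel_left₀ hD0] at hS
  exact P.not_dvd_index ((natCast_memLocalIdeal_iff hM _).1 hS)

end Cfsg.Agent.Lib.L0.PReg
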