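import Mathlib
import Cfsg.Agent.Lib.H23.BlockDefect
import Cfsg.Agent.Lib.H23.BlockVanish
import Cfsg.Agent.Lib.L0.PRegCong

/-!
# Heights and defect classes (lead)

Consequences of helper23's `card_defectGroup` machinery:
* `natCast_div_mem_localRing`: `c / k` is a local integer when `ν_p k ≤ ν_p c`;
* `sInf_factorization_eq`: the minimal `p`-part of degrees in a block is the `p`-part of the
  size of a defect class;
* `not_dvd_orderOf_of_isDefectClass`: defect classes are `p`-regular;
* `height_zero_apply_not_mem` / `centralChar_not_mem` : statement S0927.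
-/

set_option autoImplicit false

namespace Cfsg.Agent.Lib.L0.BlockHeight

open Cfsg Cfsg.Agent.Lib.H23

variable {p : ℕ} {M : Ideal AlgInt}

theorem natCast_div_mem_localRing (hM : IsPModular p M) {c k : ℕ} (hk : k ≠ 0)
    (h : k.factorization p ≤ c.factorization p) : MemLocalRing M ((c : ℂ) / (k : ℂ)) := by
  have hP := isPrime_of_isPModular hM
  have hp := prime_of_isPModular hM
  have hk1 := Nat.ordProj_mul_ordCompl_eq_self k p
  have hc1 := Nat.ordProj_mul_ordCompl_eq_self c p
  have hk' : ¬ p ∣ k / p ^ k.factorization p := Nat.not_dvd_ordCompl hp hk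
  obtain ⟨e, he⟩ : ∃ e, c.factorization p = k.factorization p + e := ⟨_, (Nat.add_sub_cancel' h).symm⟩
  set k' := k / p ^ k.factorization p
  set c' := c / p ^ c.factorization p
  have hp0 : (p : ℂ) ≠ 0 := Nat.cast_ne_zero.2 hp.ne_zero
  have hk'0 : (k' : ℂ) ≠ 0 := by
    intro h0
    have : k' = 0 := by exact_mod_cast h0
    exact hk' (this ▸ dvd_zero p)
  have e1 : (c : ℂ) / (k : ℂ) = (p : ℂ) ^ e * (c' : ℂ) * (k' : ℂ)⁻¹ := by
    rw [← hk1, ← hc1, he]
    push_cast
    rw [pow_add]
    have hpk : (p : ℂ) ^ k.factorization p ≠ 0 := pow_ne_zero _ hp0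
    field_simp
  rw [e1]
  refine memLocalRing_mul (memLocalRing_mul ?_ ?_) ?_
  · exact memLocalRing_pow (natCast_mem_localRing p) _
  · exact natCast_mem_localRing c'
  · exact memLocalRing_inv_natCast hM hk'

variable {G : Type*} [Group G] [Fintype G] [Fact p.Prime]

theorem index_ne_zero (H : Subgroup G) : H.index ≠ 0 := by
  intro h0
  have := Subgroup.index_mul_card H
  rw [h0, zero_mul] at this
  exact (Nat.card_pos (α := G)).ne' this.symm

/-- The minimal `p`-part of a degree in a block equals the `p`-part of a defect class size. -/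
theorem sInf_factorization_eq (hM : IsPModular p M) (χ₀ : IrrCharacter G) (g : G)
    (hg : IsDefectClass M (blockOf M (χ₀ : G → ℂ)) g) :
    sInf ((fun χ : IrrCharacter G => (charDegree (χ : G → ℂ)).factorization p) ''
      blockOf M (χ₀ : G → ℂ)) = (Subgroup.centralizer ({g} : Set G)).index.factorization p := by
  classical
  haveI hP := isPrime_of_isPModular hM
  have hp := prime_of_isPModular hM
  set B := blockOf M (χ₀ : G → ℂ) with hB
  obtain ⟨hβS, hβP, hω⟩ := hg
  obtain ⟨P⟩ : Nonempty (Sylow p (Subgroup.centralizer ({g} : Set G))) := inferInstance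
  have hcardD : Nat.card ((P : Subgroup (Subgroup.centralizer ({g} : Set G))).map
      (Subgroup.centralizer ({g} : Set G)).subtype) =
      p ^ (Nat.card (Subgroup.centralizer ({g} : Set G))).factorization p := by
    rw [Subgroup.card_map_of_injective (Subgroup.subtype_injective _), Sylow.card_eq_multiplicity]
  set d := (Nat.card (Subgroup.centralizer ({g} : Set G))).factorization p with hd
  set a := (Nat.card G).factorization p with ha
  set i := (Subgroup.centralizer ({g} : Set G)).index.factorization p with hi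
  have hC0 : Nat.card (Subgroup.centralizer ({g} : Set G)) ≠ 0 := Nat.card_pos.ne'
  have hidx0 := index_ne_zero (Subgroup.centralizer ({g} : Set G))
  have hai : a = i + d := by
    rw [ha, ← Subgroup.index_mul_card (Subgroup.centralizer ({g} : Set G)),
      Nat.factorization_mul hidx0 hC0]
    rfl
  have h1 : ∀ χ ∈ B, i ≤ (charDegree (χ : G → ℂ)).factorization p := fun χ hχ =>
    index_factorization_le_of_centralChar hM χ g (hω χ hχ)
  have h2 : ∃ χ ∈ B, (charDegree (χ : G → ℂ)).factorization p ≤ i := by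
    by_contra hcon
    have hall : ∀ χ ∈ B, p ^ (i + 1) ∣ charDegree (χ : G → ℂ) := by
      intro χ hχ
      have hlt : i + 1 ≤ (charDegree (χ : G → ℂ)).factorization p := by
        by_contra hle
        exact hcon ⟨χ, hχ, by omega⟩
      exact (pow_dvd_pow p hlt).trans (Nat.ordProj_dvd _ p)
    apply hβP
    refine blockCoeff_memLocalIdeal_of_pow_dvd hM χ₀ g
      ((P : Subgroup (Subgroup.centralizer ({g} : Set G))).map
        (Subgroup.centralizer ({g} : Set G)).subtype)
      (P.isPGroup'.map _) ?_ (i + 1) hall ?_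
    · rintro u ⟨c, -, rfl⟩
      have := Subgroup.mem_centralizer_iff.1 c.2
      exact (this g rfl).symm
    · rw [hcardD, Nat.Prime.factorization_pow hp]
      simp only [Finsupp.single_eq_same]
      omega
  have hVne : ((fun χ : IrrCharacter G =>
      (charDegree (χ : G → ℂ)).factorization p) '' B).Nonempty :=
    ⟨_, χ₀, mem_blockOf_self χ₀, rfl⟩
  apply le_antisymm
  · obtain ⟨χ, hχ, hle⟩ := h2
    refine (Nat.sInf_le (Set.mem_image_of_mem _ hχ)).trans hle
  · obtain ⟨χ, hχ, hχe⟩ := Nat.sInf_mem hVne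
    rw [← hχe]
    exact h1 χ hχ

/-- Defect classes consist of `p`-regular elements. -/
theorem not_dvd_orderOf_of_isDefectClass (hM : IsPModular p M) (χ₀ : IrrCharacter G) (g : G)
    (hg : IsDefectClass M (blockOf M (χ₀ : G → ℂ)) g) : ¬ p ∣ orderOf g := by
  haveI hP := isPrime_of_isPModular hM
  intro hdvd
  apply hg.2.1
  rw [blockCoeff_eq_zero_of_dvd_orderOf hM χ₀ g hdvd]
  exact memLocalIdeal_zero hP.ne_top

theorem centralChar_eq_mul (χ : G → ℂ) (g : G) :
    centralChar χ g = (((Subgroup.centralizer ({g} : Set G)).index : ℂ) / χ 1) * χ g := by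
  rw [centralChar]; ring

theorem apply_eq_mul_centralChar (χ : IrrCharacter G) (g : G) :
    (χ : G → ℂ) g = ((χ : G → ℂ) 1 / ((Subgroup.centralizer ({g} : Set G)).index : ℂ)) *
      centralChar (χ : G → ℂ) g := by
  have h1 : (χ : G → ℂ) 1 ≠ 0 := Cfsg.Agent.Lib.H24.irr_one_ne_zero χ
  have h2 : ((Subgroup.centralizer ({g} : Set G)).index : ℂ) ≠ 0 :=
    Nat.cast_ne_zero.2 (index_ne_zero _)
  rw [centralChar]
  field_simp


/-- A height-zero character of a block does not vanish mod `M` on a defect class. -/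
theorem height_zero_apply_not_mem (hM : IsPModular p M) (χ₀ : IrrCharacter G) (y : G)
    (hy : IsDefectClass M (blockOf M (χ₀ : G → ℂ)) y) (χ : IrrCharacter G)
    (hχ : χ ∈ blockOf M (χ₀ : G → ℂ))
    (hh : blockHeight p (blockOf M (χ₀ : G → ℂ)) (χ : G → ℂ) = 0) :
    ¬ MemLocalIdeal M ((χ : G → ℂ) y) := by
  haveI hP := isPrime_of_isPModular hM
  intro hmem
  apply hy.2.2 χ hχ
  rw [centralChar_eq_mul]
  refine memLocalIdeal_mul_left ?_ hmem
  rw [apply_one_eq_charDegree (χ : G → ℂ) χ.2]
  refine natCast_div_mem_localRing hM (charDegree_pos (χ : G → ℂ) χ.2).ne' ?_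
  rw [← sInf_factorization_eq hM χ₀ y hy]
  exact Nat.sub_eq_zero_iff_le.mp hh

theorem apply_mul_sub_mem (hM : IsPModular p M) {χ : G → ℂ} (hχ : IsCharacter G χ) {x y : G}
    (hxy : Commute x y) (hx : ∃ k : ℕ, orderOf x = p ^ k) (hy : ¬ p ∣ orderOf y) :
    MemLocalIdeal M (χ (x * y) - χ y) := by
  have h := Cfsg.Agent.Lib.L0.PReg.char_ppart_congr hM hχ (x := x * y) (a := x)
    ⟨y, rfl, hxy, hx, hy⟩
  rwa [inv_mul_cancel_left] at h

/-- S0927 (a). -/
theorem height_zero_apply_mul_not_mem (hM : IsPModular p M) (χ₀ : IrrCharacter G) (y : G)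
    (hy : IsDefectClass M (blockOf M (χ₀ : G → ℂ)) y) (χ : IrrCharacter G)
    (hχ : χ ∈ blockOf M (χ₀ : G → ℂ))
    (hh : blockHeight p (blockOf M (χ₀ : G → ℂ)) (χ : G → ℂ) = 0) {x : G}
    (hxy : Commute x y) (hx : ∃ k : ℕ, orderOf x = p ^ k) :
    ¬ MemLocalIdeal M ((χ : G → ℂ) (x * y)) := by
  haveI hP := isPrime_of_isPModular hM
  intro hmem
  apply height_zero_apply_not_mem hM χ₀ y hy χ hχ hh
  have h1 := apply_mul_sub_mem hM (Cfsg.Agent.Lib.L0.isCharacter_of_irr χ.2) hxy hx
    (not_dvd_orderOf_of_isDefectClass hM χ₀ y hy)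
  have h2 := memLocalIdeal_sub hmem h1
  rwa [sub_sub_cancel] at h2

/-- A block contains a character of height zero. -/
theorem exists_height_zero [M.IsPrime] (χ₀ : IrrCharacter G) :
    ∃ ψ ∈ blockOf M (χ₀ : G → ℂ), blockHeight p (blockOf M (χ₀ : G → ℂ)) (ψ : G → ℂ) = 0 := by
  have hVne : ((fun χ : IrrCharacter G =>
      (charDegree (χ : G → ℂ)).factorization p) '' blockOf M (χ₀ : G → ℂ)).Nonempty :=
    ⟨_, χ₀, mem_blockOf_self χ₀, rfl⟩
  obtain ⟨ψ, hψ, hψe⟩ := Nat.sInf_mem hVne
  refine ⟨ψ, hψ, ?_⟩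
  rw [blockHeight]
  simp only at hψe
  rw [hψe, Nat.sub_self]

/-- S0927 (b). -/
theorem centralChar_mul_not_mem (hM : IsPModular p M) (χ₀ : IrrCharacter G) (y : G)
    (hy : IsDefectClass M (blockOf M (χ₀ : G → ℂ)) y) {x : G}
    (hxy : Commute x y) (hx : ∃ k : ℕ, orderOf x = p ^ k) (D : Subgroup G)
    (hD : Nat.card D = p ^ (Nat.card (Subgroup.centralizer ({y} : Set G))).factorization p)
    (hDc : ∀ w ∈ D, Commute w (x * y)) (χ : IrrCharacter G)
    (hχ : χ ∈ blockOf M (χ₀ : G → ℂ)) :
    ¬ MemLocalIdeal M (centralChar (χ : G → ℂ) (x * y)) := by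
  haveI hP := isPrime_of_isPModular hM
  have hp := prime_of_isPModular hM
  intro hmem
  obtain ⟨ψ, hψ, hψ0⟩ := exists_height_zero (p := p) (M := M) χ₀
  apply height_zero_apply_mul_not_mem hM χ₀ y hy ψ hψ hψ0 hxy hx
  have hψmem : MemLocalIdeal M (centralChar (ψ : G → ℂ) (x * y)) := by
    have h1 : SameBlock M (ψ : G → ℂ) (χ : G → ℂ) := sameBlock_trans (sameBlock_symm hψ) hχ
    have h2 := memLocalIdeal_add (h1 (x * y)) hmem
    rwa [sub_add_cancel] at h2
  rw [apply_eq_mul_centralChar]
  refine memLocalIdeal_mul_left ?_ hψmem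
  rw [apply_one_eq_charDegree (ψ : G → ℂ) ψ.2]
  refine natCast_div_mem_localRing hM (index_ne_zero _) ?_
  -- valuation of the class size of `x * y`
  have hψν : (charDegree (ψ : G → ℂ)).factorization p =
      (Subgroup.centralizer ({y} : Set G)).index.factorization p := by
    rw [← sInf_factorization_eq hM χ₀ y hy]
    have h3 : (charDegree (ψ : G → ℂ)).factorization p -
      sInf ((fun χ : IrrCharacter G => (charDegree (χ : G → ℂ)).factorization p) ''
        blockOf M (χ₀ : G → ℂ)) = 0 := hψ0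
    refine le_antisymm (Nat.sub_eq_zero_iff_le.mp h3) ?_
    exact Nat.sInf_le (Set.mem_image_of_mem _ hψ)
  rw [hψν]
  set Cy := Subgroup.centralizer ({y} : Set G)
  set Cxy := Subgroup.centralizer ({x * y} : Set G)
  have hDle : D ≤ Cxy := by
    intro w hw
    rw [Subgroup.mem_centralizer_iff]
    intro z hz
    rw [Set.mem_singleton_iff] at hz
    subst hz
    exact (hDc w hw).eq.symm
  have hdvd : p ^ (Nat.card Cy).factorization p ∣ Nat.card Cxy := by
    rw [← hD]
    exact Subgroup.card_dvd_of_le hDle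
  have hle : (Nat.card Cy).factorization p ≤ (Nat.card Cxy).factorization p :=
    (hp.pow_dvd_iff_le_factorization Nat.card_pos.ne').mp hdvd
  have e1 : (Nat.card G).factorization p = Cy.index.factorization p + (Nat.card Cy).factorization p := by
    rw [← Subgroup.index_mul_card Cy, Nat.factorization_mul (index_ne_zero _) Nat.card_pos.ne']
    rfl
  have e2 : (Nat.card G).factorization p = Cxy.index.factorization p + (Nat.card Cxy).factorization p := by
    rw [← Subgroup.index_mul_card Cxy, Nat.factorization_mul (index_ne_zero _) Nat.card_pos.ne']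
    rfl
  omega

end Cfsg.Agent.Lib.L0.BlockHeight
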