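import Cfsg.Agent.Lib.L0.CharInner
open Module
open scoped ComplexConjugate

namespace Cfsg.Agent.Lib.L0

section Transfer
variable {k G V W : Type*} [Field k] [Monoid G] [AddCommGroup V] [Module k V] [AddCommGroup W] [Module k W]
  {ρ : Representation k G V} {σ : Representation k G W}

/-- Image of a subrepresentation under an equivalence. -/
def subrepMap (φ : Representation.Equiv ρ σ) (U : Subrepresentation ρ) : Subrepresentation σ where
  toSubmodule := U.toSubmodule.map φ.toLinearMap
  apply_mem_toSubmodule g v hv := by
    obtain ⟨u, hu, rfl⟩ := hv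
    refine ⟨ρ g u, U.apply_mem_toSubmodule g hu, ?_⟩
    exact LinearMap.congr_fun (φ.toIntertwiningMap.isIntertwining' g) u

/-- Preimage of a subrepresentation under an equivalence. -/
def subrepComap (φ : Representation.Equiv ρ σ) (U : Subrepresentation σ) : Subrepresentation ρ where
  toSubmodule := U.toSubmodule.comap φ.toLinearMap
  apply_mem_toSubmodule g v hv := by
    show φ.toLinearMap (ρ g v) ∈ U.toSubmodule
    have : φ.toLinearMap (ρ g v) = σ g (φ.toLinearMap v) := LinearMap.congr_fun (φ.toIntertwiningMap.isIntertwining' g) v
    rw [this]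
    exact U.apply_mem_toSubmodule g hv

/-- An equivalence of representations induces an order isomorphism of subrepresentation lattices. -/
def subrepOrderIso (φ : Representation.Equiv ρ σ) : Subrepresentation ρ ≃o Subrepresentation σ where
  toFun := subrepMap φ
  invFun := subrepComap φ
  left_inv U := by
    apply Subrepresentation.toSubmodule_injective
    exact Submodule.comap_map_eq_of_injective φ.toLinearEquiv.injective U.toSubmodule
  right_inv U := by
    apply Subrepresentation.toSubmodule_injective
    exact Submodule.map_comap_eq_of_surjective φ.toLinearEquiv.surjective U.toSubmodule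
  map_rel_iff' := by
    intro U U'
    show U.toSubmodule.map φ.toLinearMap ≤ U'.toSubmodule.map φ.toLinearMap ↔ U.toSubmodule ≤ U'.toSubmodule
    exact Submodule.map_le_map_iff_of_injective φ.toLinearEquiv.injective _ _

theorem isIrreducible_of_equiv (φ : Representation.Equiv ρ σ) [h : ρ.IsIrreducible] : σ.IsIrreducible :=
  (subrepOrderIso φ).isSimpleOrder_iff.mp h

/-- Transport a representation along a linear equivalence. -/
def conjRep (e : V ≃ₗ[k] W) (ρ : Representation k G V) : Representation k G W :=
  (e.conjAlgEquiv k : Module.End k V ≃ₐ[k] Module.End k W).toAlgHom.toMonoidHom.comp ρ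

theorem conjRep_apply (e : V ≃ₗ[k] W) (ρ : Representation k G V) (g : G) (w : W) :
    conjRep e ρ g w = e (ρ g (e.symm w)) := rfl

/-- The transported representation is equivalent to the original. -/
def conjRepEquiv (e : V ≃ₗ[k] W) (ρ : Representation k G V) : Representation.Equiv ρ (conjRep e ρ) :=
  Representation.Equiv.mk e (fun g => by
    ext v
    simp [conjRep_apply])

end Transfer

section ToFin
variable {G : Type*} [Group G] {V : Type*} [AddCommGroup V] [Module ℂ V] [FiniteDimensional ℂ V]

theorem isCharacter_of_rep (ρ : Representation ℂ G V) : Cfsg.IsCharacter G ρ.character := by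
  let e : V ≃ₗ[ℂ] (Fin (finrank ℂ V) → ℂ) := (Module.finBasis ℂ V).equivFun
  exact ⟨finrank ℂ V, conjRep e ρ, (Representation.char_iso (conjRepEquiv e ρ)).symm⟩

theorem isIrrCharacter_of_irr (ρ : Representation ℂ G V) [ρ.IsIrreducible] :
    Cfsg.IsIrrCharacter G ρ.character := by
  let e : V ≃ₗ[ℂ] (Fin (finrank ℂ V) → ℂ) := (Module.finBasis ℂ V).equivFun
  exact ⟨finrank ℂ V, conjRep e ρ, isIrreducible_of_equiv (conjRepEquiv e ρ),
    (Representation.char_iso (conjRepEquiv e ρ)).symm⟩

end ToFin
section Additivity
variable {k : Type*} [Field k] {V : Type*} [AddCommGroup V] [Module k V] [FiniteDimensional k V]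

theorem trace_eq_add_of_isCompl (f : End k V) (p q : Submodule k V) (h : IsCompl p q)
    (hp : Set.MapsTo f p p) (hq : Set.MapsTo f q q) :
    LinearMap.trace k V f = LinearMap.trace k p (f.restrict hp) + LinearMap.trace k q (f.restrict hq) := by
  classical
  let N : Bool → Submodule k V := fun b => cond b p q
  have hN : DirectSum.IsInternal N := by
    rw [DirectSum.isInternal_submodule_iff_isCompl N (i := true) (j := false) (by simp) (by ext b; cases b <;> simp)]
    exact h
  have hmaps : ∀ b, Set.MapsTo f (N b) (N b) := by
    intro b; cases b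
    · exact hq
    · exact hp
  have := LinearMap.trace_eq_sum_trace_restrict hN hmaps
  rw [this, Fintype.sum_bool]
  rfl


theorem char_eq_add_of_isCompl {G : Type*} [Monoid G] (ρ : Representation k G V)
    (U U' : Subrepresentation ρ) (h : IsCompl U U') :
    ρ.character = U.toRepresentation.character + U'.toRepresentation.character := by
  have hc : IsCompl U.toSubmodule U'.toSubmodule := by
    constructor
    · rw [disjoint_iff]
      exact congrArg Subrepresentation.toSubmodule h.inf_eq_bot
    · rw [codisjoint_iff]
      exact congrArg Subrepresentation.toSubmodule h.sup_eq_top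
  funext g
  exact trace_eq_add_of_isCompl (ρ g) U.toSubmodule U'.toSubmodule hc
    (fun v hv => U.apply_mem_toSubmodule g hv) (fun v hv => U'.apply_mem_toSubmodule g hv)

end Additivity

section Decomp
universe u
variable {G : Type*} [Group G] [Finite G]

omit [Finite G] in
theorem char_eq_zero_of_finrank_eq_zero {V : Type*} [AddCommGroup V] [Module ℂ V] [FiniteDimensional ℂ V]
    (ρ : Representation ℂ G V) (h : finrank ℂ V = 0) : ρ.character = 0 := by
  have : Subsingleton V := Module.finrank_zero_iff.mp h
  funext g
  have : ρ g = 0 := by ext x; exact Subsingleton.elim _ _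
  simp [Representation.character, this]

theorem exists_irr_decomp_aux (n : ℕ) : ∀ {V : Type u} [AddCommGroup V] [Module ℂ V] [FiniteDimensional ℂ V]
    (ρ : Representation ℂ G V), finrank ℂ V = n →
    ∃ l : List (G → ℂ), (∀ χ ∈ l, Cfsg.IsIrrCharacter G χ) ∧ ρ.character = l.sum := by
  induction n using Nat.strong_induction_on with
  | _ n ih =>
    intro V _ _ _ ρ hn
    have : NeZero (Nat.card G : ℂ) := ⟨by exact_mod_cast (Nat.card_pos (α := G)).ne'⟩
    by_cases hirr : ρ.IsIrreducible
    · exact ⟨[ρ.character], by simpa using isIrrCharacter_of_irr ρ, by simp⟩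
    · by_cases h0 : n = 0
      · subst h0
        exact ⟨[], by simp, by simpa using char_eq_zero_of_finrank_eq_zero ρ hn⟩
      · have hV : Nontrivial V := Module.finrank_pos_iff (R := ℂ).mp (by rw [hn]; omega)
        have hnt : Nontrivial (Subrepresentation ρ) := by
          refine ⟨⊥, ⊤, fun h => ?_⟩
          have h' : (⊥ : Submodule ℂ V) = ⊤ := congrArg Subrepresentation.toSubmodule h
          exact bot_ne_top h'
        have : ∃ U : Subrepresentation ρ, U ≠ ⊥ ∧ U ≠ ⊤ := by
          by_contra hcon
          push Not at hcon
          apply hirr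
          exact { exists_pair_ne := hnt.exists_pair_ne
                  eq_bot_or_eq_top := fun U => by
                    by_cases hU : U = ⊥
                    · exact Or.inl hU
                    · exact Or.inr (hcon U hU) }
        obtain ⟨U, hUb, hUt⟩ := this
        obtain ⟨U', hc⟩ := exists_isCompl U
        have hU't : U' ≠ ⊤ := by
          rintro rfl
          apply hUb
          have := hc.inf_eq_bot
          rwa [inf_top_eq] at this
        have hlt : ∀ W : Subrepresentation ρ, W ≠ ⊤ → finrank ℂ W.toSubmodule < n := by
          intro W hW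
          rw [← hn]
          apply Submodule.finrank_lt
          intro h
          apply hW
          exact Subrepresentation.toSubmodule_injective h
        obtain ⟨l₁, hl₁, e₁⟩ := ih _ (hlt U hUt) U.toRepresentation rfl
        obtain ⟨l₂, hl₂, e₂⟩ := ih _ (hlt U' hU't) U'.toRepresentation rfl
        refine ⟨l₁ ++ l₂, ?_, ?_⟩
        · intro χ hχ
          rcases List.mem_append.mp hχ with h | h
          · exact hl₁ χ h
          · exact hl₂ χ h
        · rw [char_eq_add_of_isCompl ρ U U' hc, e₁, e₂, List.sum_append]

/-- Complete reducibility at the level of characters: every character of a finite group is a finite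
sum of irreducible characters. -/
theorem exists_irr_decomp {V : Type*} [AddCommGroup V] [Module ℂ V] [FiniteDimensional ℂ V]
    (ρ : Representation ℂ G V) :
    ∃ l : List (G → ℂ), (∀ χ ∈ l, Cfsg.IsIrrCharacter G χ) ∧ ρ.character = l.sum :=
  exists_irr_decomp_aux _ ρ rfl

theorem isCharacter_exists_irr_decomp {χ : G → ℂ} (h : Cfsg.IsCharacter G χ) :
    ∃ l : List (G → ℂ), (∀ ψ ∈ l, Cfsg.IsIrrCharacter G ψ) ∧ χ = l.sum := by
  obtain ⟨n, ρ, rfl⟩ := h
  exact exists_irr_decomp ρ

end Decomp

end Cfsg.Agent.Lib.L0
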