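import Cfsg.Agent.Lib.L0.CharOps
open Module
open scoped ComplexConjugate

namespace Cfsg.Agent.Lib.L0

section Linear
variable {G : Type*} [Group G]

theorem trace_fin_one (f : Module.End ℂ (Fin 1 → ℂ)) :
    LinearMap.trace ℂ (Fin 1 → ℂ) f = f (fun _ => 1) 0 := by
  rw [LinearMap.trace_eq_matrix_trace ℂ (Pi.basisFun ℂ (Fin 1)) f, Matrix.trace_fin_one,
    LinearMap.toMatrix_apply]
  simp only [Pi.basisFun_apply, Pi.basisFun_repr]
  have : (Pi.single 0 1 : Fin 1 → ℂ) = fun _ => 1 := by
    funext i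
    simp [Subsingleton.elim i 0]
  rw [this]

theorem trace_fin_one_mul (f g : Module.End ℂ (Fin 1 → ℂ)) :
    LinearMap.trace ℂ (Fin 1 → ℂ) (f * g) =
      LinearMap.trace ℂ (Fin 1 → ℂ) f * LinearMap.trace ℂ (Fin 1 → ℂ) g := by
  simp only [trace_fin_one, Module.End.mul_apply]
  have : g (fun _ => 1) = (g (fun _ => 1) 0) • (fun _ => (1 : ℂ)) := by
    funext i
    simp [Subsingleton.elim i 0]
  rw [this, map_smul]
  simp [mul_comm]

/-- A character of degree one of a rep on `Fin n → ℂ` forces `n = 1`, and it is multiplicative. -/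
theorem linear_char_mul {χ : G → ℂ} (hχ : Cfsg.IsCharacter G χ) (h1 : χ 1 = 1) (g h : G) :
    χ (g * h) = χ g * χ h := by
  obtain ⟨n, ρ, rfl⟩ := hχ
  rw [Representation.char_one, Module.finrank_fin_fun] at h1
  have hn : n = 1 := by exact_mod_cast h1
  subst hn
  simp only [Representation.character, map_mul]
  exact trace_fin_one_mul _ _

/-- The homomorphism `G →* ℂˣ` attached to a character of degree one. -/
noncomputable def linearCharHom {χ : G → ℂ} (hχ : Cfsg.IsCharacter G χ) (h1 : χ 1 = 1) : G →* ℂˣ :=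
  MonoidHom.toHomUnits
    { toFun := χ
      map_one' := h1
      map_mul' := linear_char_mul hχ h1 }

theorem linearCharHom_apply {χ : G → ℂ} (hχ : Cfsg.IsCharacter G χ) (h1 : χ 1 = 1) (g : G) :
    (linearCharHom hχ h1 g : ℂ) = χ g := rfl

/-- Irreducible characters of degree one correspond to homomorphisms to `ℂˣ`. -/
noncomputable def linearCharEquiv :
    {χ : Cfsg.IrrCharacter G // (χ : G → ℂ) 1 = 1} ≃ (G →* ℂˣ) where
  toFun χ := linearCharHom (isCharacter_of_irr χ.1.2) χ.2
  invFun f := ⟨⟨fun g => (f g : ℂ), isIrrCharacter_of_hom f⟩, by simp⟩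
  left_inv χ := by
    apply Subtype.ext; apply Subtype.ext
    funext g
    rfl
  right_inv f := by
    ext g
    rfl

theorem card_linear_irr [Finite G] :
    Nat.card {χ : Cfsg.IrrCharacter G // (χ : G → ℂ) 1 = 1} = (commutator G).index := by
  rw [Nat.card_congr linearCharEquiv]
  rw [Nat.card_congr (Abelianization.lift (G := G) (A := ℂˣ))]
  have : Finite (Abelianization G) := inferInstanceAs (Finite (G ⧸ commutator G))
  rw [CommGroup.card_monoidHom_of_hasEnoughRootsOfUnity]
  exact (Subgroup.index_eq_card (commutator G)).symm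

end Linear

end Cfsg.Agent.Lib.L0
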