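import Cfsg.Agent.Lib.L0.CharDecomp
open Module
open scoped ComplexConjugate

namespace Cfsg.Agent.Lib.L0

section Closure
variable {G : Type*} [Group G]

theorem isCharacter_zero : Cfsg.IsCharacter G (0 : G → ℂ) := by
  refine ⟨0, 1, ?_⟩
  funext g
  simp [Representation.character]

theorem isCharacter_add {χ ψ : G → ℂ} (hχ : Cfsg.IsCharacter G χ) (hψ : Cfsg.IsCharacter G ψ) :
    Cfsg.IsCharacter G (χ + ψ) := by
  obtain ⟨n, ρ, rfl⟩ := hχ
  obtain ⟨m, σ, rfl⟩ := hψ
  have h := isCharacter_of_rep (ρ.prod σ)
  convert h using 1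
  funext g
  simp only [Representation.character, Pi.add_apply]
  exact (LinearMap.trace_prodMap' (ρ g) (σ g)).symm

theorem isCharacter_list_sum {l : List (G → ℂ)} (h : ∀ χ ∈ l, Cfsg.IsCharacter G χ) :
    Cfsg.IsCharacter G l.sum := by
  induction l with
  | nil => exact isCharacter_zero
  | cons a l ih =>
    rw [List.sum_cons]
    exact isCharacter_add (h a (by simp)) (ih fun χ hχ => h χ (by simp [hχ]))

theorem isCharacter_nsmul {χ : G → ℂ} (hχ : Cfsg.IsCharacter G χ) (n : ℕ) :
    Cfsg.IsCharacter G (n • χ) := by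
  induction n with
  | zero => simpa using isCharacter_zero
  | succ n ih => rw [succ_nsmul]; exact isCharacter_add ih hχ

theorem isCharacter_mul {χ ψ : G → ℂ} (hχ : Cfsg.IsCharacter G χ) (hψ : Cfsg.IsCharacter G ψ) :
    Cfsg.IsCharacter G (χ * ψ) := by
  obtain ⟨n, ρ, rfl⟩ := hχ
  obtain ⟨m, σ, rfl⟩ := hψ
  have h := isCharacter_of_rep (ρ.tprod σ)
  rwa [Representation.char_tensor] at h

/-- Pull back a character along a group homomorphism (restriction, inflation). -/
theorem isCharacter_comp {H : Type*} [Group H] (f : H →* G) {χ : G → ℂ} (hχ : Cfsg.IsCharacter G χ) :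
    Cfsg.IsCharacter H (χ ∘ f) := by
  obtain ⟨n, ρ, rfl⟩ := hχ
  exact ⟨n, ρ.comp f, rfl⟩

theorem isCharacter_restrict (H : Subgroup G) {χ : G → ℂ} (hχ : Cfsg.IsCharacter G χ) :
    Cfsg.IsCharacter H (fun h : H => χ h) :=
  isCharacter_comp H.subtype hχ

theorem isCharacter_conj [Finite G] {χ : G → ℂ} (hχ : Cfsg.IsCharacter G χ) :
    Cfsg.IsCharacter G (fun g => conj (χ g)) := by
  obtain ⟨n, ρ, rfl⟩ := hχ
  have h := isCharacter_of_rep ρ.dual
  convert h using 1
  funext g
  rw [Representation.char_dual, char_inv]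

/-- A one-dimensional representation is irreducible. -/
theorem isIrreducible_of_finrank_eq_one {V : Type*} [AddCommGroup V] [Module ℂ V]
    (ρ : Representation ℂ G V) (h : finrank ℂ V = 1) : ρ.IsIrreducible := by
  have hfd : FiniteDimensional ℂ V := Module.finite_of_finrank_pos (by omega)
  have hV : Nontrivial V := Module.finrank_pos_iff (R := ℂ).mp (by omega)
  refine { exists_pair_ne := ⟨⊥, ⊤, fun hbt => ?_⟩, eq_bot_or_eq_top := fun U => ?_ }
  · have h' : (⊥ : Submodule ℂ V) = ⊤ := congrArg Subrepresentation.toSubmodule hbt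
    exact bot_ne_top h'
  · have hle : finrank ℂ U.toSubmodule ≤ 1 := h ▸ Submodule.finrank_le _
    rcases Nat.le_one_iff_eq_zero_or_eq_one.mp hle with h0 | h1
    · left
      apply Subrepresentation.toSubmodule_injective
      exact Submodule.finrank_eq_zero.mp h0
    · right
      apply Subrepresentation.toSubmodule_injective
      exact Submodule.eq_top_of_finrank_eq (h1.trans h.symm)

/-- Linear characters: a homomorphism to `ℂˣ` is an irreducible character. -/
theorem isIrrCharacter_of_hom (f : G →* ℂˣ) : Cfsg.IsIrrCharacter G (fun g => (f g : ℂ)) := by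
  let ρ : Representation ℂ G (Fin 1 → ℂ) :=
    { toFun := fun g => (f g : ℂ) • (1 : Module.End ℂ (Fin 1 → ℂ))
      map_one' := by simp
      map_mul' := fun a b => by
        rw [map_mul, Units.val_mul, smul_mul_smul_comm, mul_one] }
  refine ⟨1, ρ, isIrreducible_of_finrank_eq_one ρ (by simp), ?_⟩
  funext g
  simp [Representation.character, ρ]

theorem isIrrCharacter_one : Cfsg.IsIrrCharacter G (1 : G → ℂ) := by
  have := isIrrCharacter_of_hom (1 : G →* ℂˣ)
  simpa [Pi.one_def] using this

end Closure

section Inflation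
variable {G H : Type*} [Group G] [Group H] {k V : Type*} [Field k] [AddCommGroup V] [Module k V]

/-- Pulling back along a surjective homomorphism does not change the invariant subspaces. -/
def subrepCompOrderIso (ρ : Representation k G V) (f : H →* G) (hf : Function.Surjective f) :
    Subrepresentation (ρ.comp f) ≃o Subrepresentation ρ where
  toFun U := ⟨U.toSubmodule, fun g v hv => by
    obtain ⟨h, rfl⟩ := hf g
    exact U.apply_mem_toSubmodule h hv⟩
  invFun U := ⟨U.toSubmodule, fun h v hv => U.apply_mem_toSubmodule (f h) hv⟩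
  left_inv U := rfl
  right_inv U := rfl
  map_rel_iff' := Iff.rfl

theorem isIrreducible_comp_of_surjective (ρ : Representation k G V) (f : H →* G)
    (hf : Function.Surjective f) [h : ρ.IsIrreducible] :
    Representation.IsIrreducible (show Representation k H V from ρ.comp f) :=
  (subrepCompOrderIso ρ f hf).isSimpleOrder_iff.mpr h

theorem isIrrCharacter_comp_of_surjective (f : H →* G) (hf : Function.Surjective f) {χ : G → ℂ}
    (hχ : Cfsg.IsIrrCharacter G χ) : Cfsg.IsIrrCharacter H (χ ∘ f) := by
  obtain ⟨n, ρ, hρ, rfl⟩ := hχ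
  exact ⟨n, ρ.comp f, isIrreducible_comp_of_surjective ρ f hf, rfl⟩

end Inflation

section Mult
variable {G : Type*} [Group G] [Fintype G]

theorem classInner_list_sum_left (l : List (G → ℂ)) (ψ : G → ℂ) :
    Cfsg.classInner l.sum ψ = (l.map fun χ => Cfsg.classInner χ ψ).sum := by
  induction l with
  | nil => simp [classInner_zero_left]
  | cons a l ih => simp [classInner_add_left, ih]

theorem classInner_list_sum_right (φ : G → ℂ) (l : List (G → ℂ)) :
    Cfsg.classInner φ l.sum = (l.map fun χ => Cfsg.classInner φ χ).sum := by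
  induction l with
  | nil => simp [classInner_zero_right]
  | cons a l ih => simp [classInner_add_right, ih]

open scoped Classical in
/-- The multiplicity of an irreducible character in a sum of irreducible characters. -/
theorem classInner_irr_list_sum {l : List (G → ℂ)} (hl : ∀ χ ∈ l, Cfsg.IsIrrCharacter G χ)
    {ψ : G → ℂ} (hψ : Cfsg.IsIrrCharacter G ψ) :
    Cfsg.classInner l.sum ψ = (l.count ψ : ℂ) := by
  induction l with
  | nil => simp [classInner_zero_left]
  | cons a l ih =>
    rw [List.sum_cons, classInner_add_left, ih fun χ hχ => hl χ (by simp [hχ]),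
      irr_classInner_eq (hl a (by simp)) hψ, List.count_cons]
    by_cases h : a = ψ
    · simp [h, add_comm]
    · simp [h]

/-- Inner products of characters with irreducible characters are natural numbers. -/
theorem classInner_char_irr_nat {χ ψ : G → ℂ} (hχ : Cfsg.IsCharacter G χ)
    (hψ : Cfsg.IsIrrCharacter G ψ) : ∃ n : ℕ, Cfsg.classInner χ ψ = n := by
  classical
  obtain ⟨l, hl, rfl⟩ := isCharacter_exists_irr_decomp hχ
  exact ⟨l.count ψ, classInner_irr_list_sum hl hψ⟩

theorem classInner_irr_char_nat {χ ψ : G → ℂ} (hχ : Cfsg.IsCharacter G χ)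
    (hψ : Cfsg.IsIrrCharacter G ψ) : ∃ n : ℕ, Cfsg.classInner ψ χ = n := by
  obtain ⟨n, hn⟩ := classInner_char_irr_nat hχ hψ
  refine ⟨n, ?_⟩
  rw [← classInner_conj_symm, hn, Complex.conj_natCast]

/-- Inner products of characters are natural numbers. -/
theorem classInner_char_char_nat {χ ψ : G → ℂ} (hχ : Cfsg.IsCharacter G χ)
    (hψ : Cfsg.IsCharacter G ψ) : ∃ n : ℕ, Cfsg.classInner χ ψ = n := by
  obtain ⟨l, hl, rfl⟩ := isCharacter_exists_irr_decomp hψ
  clear hψ
  rw [classInner_list_sum_right]
  induction l with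
  | nil => exact ⟨0, by simp⟩
  | cons a l ih =>
    obtain ⟨n, hn⟩ := ih fun χ hχ => hl χ (by simp [hχ])
    obtain ⟨m, hm⟩ := classInner_char_irr_nat hχ (hl a (by simp))
    exact ⟨m + n, by simp [hm, hn]⟩

/-- A character of norm one is irreducible. -/
theorem isIrrCharacter_of_classInner_self_eq_one {χ : G → ℂ} (hχ : Cfsg.IsCharacter G χ)
    (h1 : Cfsg.classInner χ χ = 1) : Cfsg.IsIrrCharacter G χ := by
  classical
  obtain ⟨l, hl, rfl⟩ := isCharacter_exists_irr_decomp hχ
  rw [classInner_list_sum_right] at h1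
  have key : ∀ l' : List (G → ℂ), (∀ χ ∈ l', χ ∈ l) →
      ∃ n : ℕ, l'.length ≤ n ∧ (l'.map fun χ => Cfsg.classInner l.sum χ).sum = n := by
    intro l' hl'
    induction l' with
    | nil => exact ⟨0, by simp⟩
    | cons a l' ih =>
      obtain ⟨n, hn, hs⟩ := ih fun χ hχ => hl' χ (by simp [hχ])
      have ha : a ∈ l := hl' a (by simp)
      refine ⟨l.count a + n, ?_, ?_⟩
      · have : 0 < l.count a := List.count_pos_iff.mpr ha
        simp only [List.length_cons]; omega
      · simp [hs, classInner_irr_list_sum hl (hl a ha)]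
  obtain ⟨n, hn, hs⟩ := key l fun χ h => h
  rw [hs] at h1
  have hn1 : n = 1 := by exact_mod_cast h1
  have hlen : l.length ≤ 1 := hn1 ▸ hn
  match l, hl, hlen, hs with
  | [], _, _, hs => simp [hn1] at hs
  | [a], hl, _, _ => simpa using hl a (by simp)
  | a :: b :: l', _, hlen, _ => simp at hlen

end Mult

end Cfsg.Agent.Lib.L0
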