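import Cfsg.Agent.Lib.L0.CharInd
import Cfsg.Agent.Lib.H24.CharOrth
open Module
open scoped ComplexConjugate

namespace Cfsg.Agent.Lib.L0

section IndChar
variable {G : Type*} [Group G]

theorem isCharacter_finset_sum {ι : Type*} (s : Finset ι) (f : ι → G → ℂ)
    (h : ∀ i ∈ s, Cfsg.IsCharacter G (f i)) : Cfsg.IsCharacter G (∑ i ∈ s, f i) := by
  classical
  induction s using Finset.induction_on with
  | empty => simpa using isCharacter_zero
  | insert a s ha ih =>
    rw [Finset.sum_insert ha]
    exact isCharacter_add (h a (by simp)) (ih fun i hi => h i (by simp [hi]))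

variable [Fintype G]

/-- A class function all of whose inner products with irreducible characters are natural numbers
is a character. -/
theorem isCharacter_of_classInner_nat {f : G → ℂ} (hf : Cfsg.IsClassFunction G f)
    (h : ∀ χ : Cfsg.IrrCharacter G, ∃ n : ℕ, Cfsg.classInner f (χ : G → ℂ) = n) :
    Cfsg.IsCharacter G f := by
  classical
  have := Fintype.ofFinite (Cfsg.IrrCharacter G)
  rw [Cfsg.Agent.Lib.H24.classFunction_expansion f hf]
  refine isCharacter_finset_sum _ _ fun χ _ => ?_
  obtain ⟨n, hn⟩ := h χ
  rw [hn]
  have : ((n : ℂ) • (χ : G → ℂ)) = n • (χ : G → ℂ) := by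
    funext g; simp
  rw [this]
  exact isCharacter_nsmul (isCharacter_of_irr χ.2) n

/-- The function induced from a character of a subgroup is a character. -/
theorem isCharacter_indFun (H : Subgroup G) {θ : H → ℂ} (hθ : Cfsg.IsCharacter H θ) :
    Cfsg.IsCharacter G (Cfsg.indFun H θ) := by
  classical
  have := Fintype.ofFinite H
  refine isCharacter_of_classInner_nat (indFun_isClassFunction H θ) fun χ => ?_
  rw [frobenius_reciprocity H θ _ (isClassFunction_of_isCharacter (isCharacter_of_irr χ.2))]
  exact classInner_char_char_nat hθ (isCharacter_restrict H (isCharacter_of_irr χ.2))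

end IndChar

end Cfsg.Agent.Lib.L0
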