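import Mathlib
import Cfsg.Agent.Lib.H23.BlockDefect
import Cfsg.Agent.Lib.H23.BlockVanish
import Cfsg.Agent.Lib.H24.CharKer

/-!
# Kernels of blocks (lead)

* `normal_sum_dichotomy`: for an irreducible character `ψ` and a normal subgroup `N`, either
  `N ≤ ker ψ` or `∑ n ∈ N, ψ n = 0`;
* `le_charKer_of_sameBlock`: a normal `p'`-subgroup in the kernel of one character of a block
  is in the kernel of every character of the block;
* `not_dvd_card_of_le_charKer`: a subgroup in the kernel of all characters of a block has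
  order prime to `p`.
-/

set_option autoImplicit false

namespace Cfsg.Agent.Lib.L0.BlockKer

open Cfsg Cfsg.Agent.Lib.H23 Cfsg.Agent.Lib.H24 Cfsg.Agent.Lib.L0
open scoped ComplexConjugate

variable {G : Type*} [Group G] [Fintype G]

theorem normal_sum_dichotomy {ψ : G → ℂ} (hψ : IsIrrCharacter G ψ) (N : Subgroup G) [N.Normal]
    [Fintype N] :
    (∀ n ∈ N, ψ n = ψ 1) ∨ ∑ n : N, ψ (n : G) = 0 := by
  classical
  obtain ⟨d, ρ, hirr, rfl⟩ := hψ
  haveI := hirr
  set T : (Fin d → ℂ) →ₗ[ℂ] (Fin d → ℂ) := ∑ m : N, ρ (m : G) with hT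
  have hleft : ∀ m : N, ρ (m : G) * T = T := by
    intro m
    rw [hT, Finset.mul_sum]
    refine Fintype.sum_equiv (Equiv.mulLeft m) _ _ fun m' => ?_
    rw [← map_mul]
    rfl
  have hcomm : ∀ g : G, T ∘ₗ ρ g = ρ g ∘ₗ T := by
    intro g
    show T * ρ g = ρ g * T
    rw [hT, Finset.mul_sum, Finset.sum_mul]
    refine Fintype.sum_equiv (MulAut.conjNormal g⁻¹ (H := N)).toEquiv _ _ fun m => ?_
    rw [← map_mul, ← map_mul]
    congr 1
    simp only [MulEquiv.toEquiv_eq_coe, MulEquiv.coe_toEquiv, MulAut.conjNormal_apply, inv_inv]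
    group
  obtain ⟨c, hc⟩ := exists_scalar_of_commute ρ T hcomm
  have hTT : T * T = (Nat.card N : ℂ) • T := by
    have h1 : T * T = ∑ m : N, ρ (m : G) * T := by
      nth_rewrite 1 [hT]
      rw [Finset.sum_mul]
    rw [h1, Finset.sum_congr rfl (fun m _ => hleft m), Finset.sum_const, Finset.card_univ,
      ← Nat.card_eq_fintype_card, Nat.cast_smul_eq_nsmul]
  have hN0 : (Nat.card N : ℂ) ≠ 0 := by exact_mod_cast (Nat.card_pos (α := N)).ne'
  haveI : Nontrivial (Fin d → ℂ) := nontrivial_of_isIrreducible ρ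
  obtain ⟨v, hv⟩ := exists_ne (0 : Fin d → ℂ)
  have hcc : c * c = (Nat.card N : ℂ) * c := by
    rw [hc] at hTT
    have h1 : (c * c) • v = ((Nat.card N : ℂ) * c) • v := by
      have := LinearMap.congr_fun hTT v
      simpa [mul_smul] using this
    exact smul_left_injective ℂ hv h1
  by_cases hc0 : c = 0
  · right
    have h1 : T = 0 := by rw [hc, hc0, zero_smul]
    have h2 : LinearMap.trace ℂ (Fin d → ℂ) T = 0 := by rw [h1, map_zero]
    rw [hT, map_sum] at h2
    exact h2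
  · left
    intro n hn
    have h1 := hleft ⟨n, hn⟩
    rw [hc] at h1
    have h2 : ρ n = 1 := by
      have h3 : c • ρ n = c • (1 : (Fin d → ℂ) →ₗ[ℂ] (Fin d → ℂ)) := by
        refine LinearMap.ext fun w => ?_
        have := LinearMap.congr_fun h1 w
        simpa using this
      exact smul_right_injective _ hc0 h3
    exact (char_eq_char_one_iff ρ n).mpr h2

/-- The averaging element of a subgroup. -/
noncomputable def avg (N : Subgroup G) : MonoidAlgebra ℂ G := by
  classical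
  exact ofFun (fun g => if g ∈ N then (Nat.card N : ℂ)⁻¹ else 0)

theorem charEval_avg (χ : G → ℂ) (N : Subgroup G) [Fintype N] :
    charEval χ (avg N) = (Nat.card N : ℂ)⁻¹ * ∑ n : N, χ (n : G) := by
  classical
  rw [avg, charEval_ofFun, Finset.mul_sum]
  simp only [ite_mul, zero_mul]
  rw [← Finset.sum_filter]
  rw [← Finset.sum_subtype (Finset.univ.filter (· ∈ N)) (p := (· ∈ N)) (by simp)
    (fun g => (Nat.card N : ℂ)⁻¹ * χ g)]

theorem avg_mem_center (N : Subgroup G) [hN : N.Normal] :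
    avg N ∈ Subalgebra.center ℂ (MonoidAlgebra ℂ G) := by
  classical
  refine mem_center_of_classFunction fun g h => ?_
  simp only [avg, coeff_ofFun]
  have : h * g * h⁻¹ ∈ N ↔ g ∈ N := by
    constructor
    · intro h1
      have := hN.conj_mem _ h1 h⁻¹
      simpa [mul_assoc] using this
    · intro h1
      exact hN.conj_mem _ h1 h
  rw [if_congr this rfl rfl]

variable {p : ℕ} {M : Ideal AlgInt}

theorem avg_mem_intCoeff (hM : IsPModular p M) (N : Subgroup G) (hN : ¬ p ∣ Nat.card N) :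
    haveI := isPrime_of_isPModular hM
    avg N ∈ intCoeff (G := G) M := by
  classical
  haveI := isPrime_of_isPModular hM
  intro g
  simp only [avg, coeff_ofFun]
  split_ifs
  · exact memLocalRing_inv_natCast hM hN
  · exact memLocalRing_zero (Ideal.IsPrime.ne_top ‹_›)

theorem omega_avg (ψ : IrrCharacter G) (N : Subgroup G) [N.Normal] :
    ((∀ n ∈ N, (ψ : G → ℂ) n = (ψ : G → ℂ) 1) ∧ omega (ψ : G → ℂ) (avg N) = 1) ∨
    ((¬ ∀ n ∈ N, (ψ : G → ℂ) n = (ψ : G → ℂ) 1) ∧ omega (ψ : G → ℂ) (avg N) = 0) := by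
  haveI := Fintype.ofFinite N
  have h1 : (ψ : G → ℂ) 1 ≠ 0 := irr_one_ne_zero ψ
  have hN0 : (Nat.card N : ℂ) ≠ 0 := by exact_mod_cast (Nat.card_pos (α := N)).ne'
  by_cases hker : ∀ n ∈ N, (ψ : G → ℂ) n = (ψ : G → ℂ) 1
  · left
    refine ⟨hker, ?_⟩
    rw [omega, charEval_avg]
    have : ∑ n : N, (ψ : G → ℂ) (n : G) = (Nat.card N : ℂ) * (ψ : G → ℂ) 1 := by
      rw [Finset.sum_congr rfl (fun (n : N) _ => hker (n : G) n.2), Finset.sum_const, Finset.card_univ,
        ← Nat.card_eq_fintype_card, nsmul_eq_mul]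
    rw [this]
    field_simp
  · right
    refine ⟨hker, ?_⟩
    rcases normal_sum_dichotomy ψ.2 N with h | h
    · exact absurd h hker
    · rw [omega, charEval_avg, h, mul_zero, zero_div]

/-- A normal `p'`-subgroup contained in the kernel of one character of a block lies in the
kernel of all of them. -/
theorem le_charKer_of_sameBlock (hM : IsPModular p M) {χ ψ : IrrCharacter G}
    (h : SameBlock M (χ : G → ℂ) (ψ : G → ℂ)) (N : Subgroup G) [N.Normal]
    (hN : ¬ p ∣ Nat.card N) (hχ : ∀ n ∈ N, (χ : G → ℂ) n = (χ : G → ℂ) 1) :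
    ∀ n ∈ N, (ψ : G → ℂ) n = (ψ : G → ℂ) 1 := by
  haveI hP := isPrime_of_isPModular hM
  have h1 := omega_sub_memLocalIdeal h (avg_mem_center N) (avg_mem_intCoeff hM N hN)
  rcases omega_avg χ N with ⟨_, hχ1⟩ | ⟨hχ0, _⟩
  · rcases omega_avg ψ N with ⟨hψ, _⟩ | ⟨_, hψ0⟩
    · exact hψ
    · rw [hχ1, hψ0, sub_zero] at h1
      exact absurd h1 not_memLocalIdeal_one
  · exact absurd hχ hχ0


theorem blockCoeff_one_ne_zero [hP : M.IsPrime] (χ₀ : IrrCharacter G) :
    blockCoeff (blockOf M (χ₀ : G → ℂ)) 1 ≠ 0 := by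
  classical
  haveI := Fintype.ofFinite (IrrCharacter G)
  set B := blockOf M (χ₀ : G → ℂ)
  have h1 : blockCoeff B 1 = (Nat.card G : ℂ)⁻¹ *
      ((∑ χ : IrrCharacter G, if χ ∈ B then (charDegree (χ : G → ℂ)) ^ 2 else 0 : ℕ) : ℂ) := by
    rw [blockCoeff_eq_sum]
    congr 1
    push_cast
    refine Finset.sum_congr rfl fun χ _ => ?_
    split_ifs
    · rw [apply_one_eq_charDegree (χ : G → ℂ) χ.2, Complex.conj_natCast, sq]
    · rfl
  rw [h1]
  have hG0 : (Nat.card G : ℂ) ≠ 0 := by exact_mod_cast (Nat.card_pos (α := G)).ne'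
  refine mul_ne_zero (inv_ne_zero hG0) ?_
  rw [Nat.cast_ne_zero]
  have h2 : (if χ₀ ∈ B then (charDegree (χ₀ : G → ℂ)) ^ 2 else 0) ≤
      ∑ χ : IrrCharacter G, if χ ∈ B then (charDegree (χ : G → ℂ)) ^ 2 else 0 :=
    Finset.single_le_sum (f := fun χ : IrrCharacter G =>
      if χ ∈ B then (charDegree (χ : G → ℂ)) ^ 2 else 0) (fun _ _ => Nat.zero_le _)
      (Finset.mem_univ χ₀)
  rw [if_pos (mem_blockOf_self χ₀)] at h2
  have h3 : 0 < (charDegree (χ₀ : G → ℂ)) ^ 2 := pow_pos (charDegree_pos _ χ₀.2) 2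
  omega

/-- A subgroup contained in the kernel of all characters of a block has order prime to `p`. -/
theorem not_dvd_card_of_le_charKer [Fact p.Prime] (hM : IsPModular p M) (χ₀ : IrrCharacter G)
    (K : Subgroup G)
    (hK : ∀ ψ ∈ blockOf M (χ₀ : G → ℂ), ∀ k ∈ K, (ψ : G → ℂ) k = (ψ : G → ℂ) 1) :
    ¬ p ∣ Nat.card K := by
  haveI hP := isPrime_of_isPModular hM
  intro hdvd
  obtain ⟨k, hk⟩ := exists_prime_orderOf_dvd_card' p hdvd
  have hk' : orderOf (k : G) = p := by rw [Subgroup.orderOf_coe, hk]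
  have h0 : blockCoeff (blockOf M (χ₀ : G → ℂ)) (k : G) = 0 :=
    blockCoeff_eq_zero_of_dvd_orderOf hM χ₀ (k : G) (by rw [hk'])
  apply blockCoeff_one_ne_zero (M := M) χ₀
  rw [← h0, blockCoeff, blockCoeff]
  congr 1
  refine finsum_mem_congr rfl fun ψ hψ => ?_
  rw [hK ψ hψ (k : G) k.2]

end Cfsg.Agent.Lib.L0.BlockKer
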