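import Cfsg.Agent.Lib.H24.CharBasic
import Cfsg.Agent.Lib.L0.CharBasic
open Module
open scoped ComplexConjugate

namespace Cfsg.Agent.Lib.L0

section InnerAlgebra
variable {G : Type*} [Group G] [Fintype G]

theorem classInner_add_left (φ₁ φ₂ ψ : G → ℂ) :
    Cfsg.classInner (φ₁ + φ₂) ψ = Cfsg.classInner φ₁ ψ + Cfsg.classInner φ₂ ψ := by
  simp only [Cfsg.classInner, Pi.add_apply, add_mul, Finset.sum_add_distrib, mul_add]

theorem classInner_add_right (φ ψ₁ ψ₂ : G → ℂ) :
    Cfsg.classInner φ (ψ₁ + ψ₂) = Cfsg.classInner φ ψ₁ + Cfsg.classInner φ ψ₂ := by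
  simp only [Cfsg.classInner, Pi.add_apply, map_add, mul_add, Finset.sum_add_distrib]

theorem classInner_smul_left (c : ℂ) (φ ψ : G → ℂ) :
    Cfsg.classInner (c • φ) ψ = c * Cfsg.classInner φ ψ := by
  simp only [Cfsg.classInner, Pi.smul_apply, smul_eq_mul, Finset.mul_sum]
  refine Finset.sum_congr rfl fun g _ => ?_
  ring

theorem classInner_smul_right (c : ℂ) (φ ψ : G → ℂ) :
    Cfsg.classInner φ (c • ψ) = conj c * Cfsg.classInner φ ψ := by
  simp only [Cfsg.classInner, Pi.smul_apply, smul_eq_mul, Finset.mul_sum, map_mul]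
  refine Finset.sum_congr rfl fun g _ => ?_
  ring

theorem classInner_zero_left (ψ : G → ℂ) : Cfsg.classInner (0 : G → ℂ) ψ = 0 := by
  simp [Cfsg.classInner]

theorem classInner_zero_right (φ : G → ℂ) : Cfsg.classInner φ (0 : G → ℂ) = 0 := by
  simp [Cfsg.classInner]

theorem classInner_neg_left (φ ψ : G → ℂ) : Cfsg.classInner (-φ) ψ = -Cfsg.classInner φ ψ := by
  simp [Cfsg.classInner, Finset.sum_neg_distrib]

theorem classInner_neg_right (φ ψ : G → ℂ) : Cfsg.classInner φ (-ψ) = -Cfsg.classInner φ ψ := by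
  simp [Cfsg.classInner, Finset.sum_neg_distrib]

theorem classInner_sub_left (φ₁ φ₂ ψ : G → ℂ) :
    Cfsg.classInner (φ₁ - φ₂) ψ = Cfsg.classInner φ₁ ψ - Cfsg.classInner φ₂ ψ := by
  rw [sub_eq_add_neg, classInner_add_left, classInner_neg_left, ← sub_eq_add_neg]

theorem classInner_sub_right (φ ψ₁ ψ₂ : G → ℂ) :
    Cfsg.classInner φ (ψ₁ - ψ₂) = Cfsg.classInner φ ψ₁ - Cfsg.classInner φ ψ₂ := by
  rw [sub_eq_add_neg, classInner_add_right, classInner_neg_right, ← sub_eq_add_neg]

theorem classInner_sum_left {ι : Type*} (s : Finset ι) (φ : ι → G → ℂ) (ψ : G → ℂ) :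
    Cfsg.classInner (∑ i ∈ s, φ i) ψ = ∑ i ∈ s, Cfsg.classInner (φ i) ψ := by
  classical
  induction s using Finset.induction_on with
  | empty => simp [classInner_zero_left]
  | insert a s ha ih => rw [Finset.sum_insert ha, Finset.sum_insert ha, classInner_add_left, ih]

theorem classInner_sum_right {ι : Type*} (s : Finset ι) (φ : G → ℂ) (ψ : ι → G → ℂ) :
    Cfsg.classInner φ (∑ i ∈ s, ψ i) = ∑ i ∈ s, Cfsg.classInner φ (ψ i) := by
  classical
  induction s using Finset.induction_on with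
  | empty => simp [classInner_zero_right]
  | insert a s ha ih => rw [Finset.sum_insert ha, Finset.sum_insert ha, classInner_add_right, ih]

theorem classInner_conj_symm (φ ψ : G → ℂ) :
    conj (Cfsg.classInner φ ψ) = Cfsg.classInner ψ φ := by
  simp only [Cfsg.classInner, map_mul, map_inv₀, Complex.conj_natCast, map_sum, Complex.conj_conj]
  congr 1
  refine Finset.sum_congr rfl fun g _ => ?_
  ring

theorem classInner_self_eq (φ : G → ℂ) :
    Cfsg.classInner φ φ = (((Nat.card G : ℝ)⁻¹ * ∑ g : G, ‖φ g‖ ^ 2 : ℝ) : ℂ) := by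
  simp only [Cfsg.classInner, Complex.mul_conj, Complex.normSq_eq_norm_sq]
  push_cast
  rfl

theorem classInner_self_eq_zero {φ : G → ℂ} (h : Cfsg.classInner φ φ = 0) : φ = 0 := by
  rw [classInner_self_eq] at h
  have h1 : (Nat.card G : ℝ)⁻¹ * ∑ g : G, ‖φ g‖ ^ 2 = 0 := by exact_mod_cast h
  have hpos : (0 : ℝ) < (Nat.card G : ℝ)⁻¹ := by
    rw [inv_pos]; exact_mod_cast Nat.card_pos
  have h2 : ∑ g : G, ‖φ g‖ ^ 2 = 0 := by
    rcases mul_eq_zero.mp h1 with h3 | h3
    · exact absurd h3 hpos.ne'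
    · exact h3
  have h3 := (Finset.sum_eq_zero_iff_of_nonneg fun g _ => sq_nonneg ‖φ g‖).mp h2
  funext g
  have := h3 g (Finset.mem_univ g)
  simpa using this

end InnerAlgebra

section LinIndep
variable {G : Type*} [Group G] [Finite G]

theorem irr_linearIndependent :
    LinearIndependent ℂ (fun χ : Cfsg.IrrCharacter G => (χ : G → ℂ)) := by
  classical
  letI := Fintype.ofFinite G
  rw [linearIndependent_iff']
  intro s c hc j hj
  have h1 : Cfsg.classInner (∑ i ∈ s, c i • (i : G → ℂ)) (j : G → ℂ) = 0 := by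
    rw [hc, classInner_zero_left]
  rw [classInner_sum_left] at h1
  simp only [classInner_smul_left] at h1
  rw [Finset.sum_eq_single j] at h1
  · rw [irr_classInner_self j.2, mul_one] at h1
    exact h1
  · intro i _ hij
    rw [irr_classInner_ne i.2 j.2 (fun h => hij (Subtype.ext h)), mul_zero]
  · intro hj'; exact absurd hj hj'

end LinIndep

end Cfsg.Agent.Lib.L0
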