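import Cfsg.Agent.Lib.L0.TildeChar

/-!
# Automorphisms acting on irreducible characters and blocks

`cj σ θ = θ ∘ σ⁻¹` for `σ : MulAut H`; it preserves degrees, central characters up to `σ`,
blocks, inner products, and fixes the Sylow permutation character.
-/

set_option autoImplicit false
open Cfsg

namespace Cfsg.Agent.Lib.L0.BlockAut

open Cfsg.Agent.Lib.H23 Cfsg.Agent.Lib.H24 Cfsg.Agent.Lib.L0 Cfsg.Agent.Lib.L0.Tilde
open scoped ComplexConjugate

variable {H : Type*} [Group H]

/-- Twisting an irreducible character by an automorphism. -/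
noncomputable def cj (σ : MulAut H) (θ : IrrCharacter H) : IrrCharacter H :=
  ⟨(θ : H → ℂ) ∘ ((σ⁻¹ : MulAut H) : H ≃* H).toMonoidHom,
    isIrrCharacter_comp_of_surjective _ ((σ⁻¹ : MulAut H) : H ≃* H).surjective θ.2⟩

theorem cj_apply (σ : MulAut H) (θ : IrrCharacter H) (h : H) :
    (cj σ θ : H → ℂ) h = (θ : H → ℂ) (σ⁻¹ h) := rfl

theorem cj_apply_apply (σ : MulAut H) (θ : IrrCharacter H) (h : H) :
    (cj σ θ : H → ℂ) (σ h) = (θ : H → ℂ) h := by
  rw [cj_apply]; simp

theorem cj_one (θ : IrrCharacter H) : cj (1 : MulAut H) θ = θ := by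
  apply Subtype.ext; funext h; rw [cj_apply]; simp

theorem cj_mul (σ τ : MulAut H) (θ : IrrCharacter H) : cj (σ * τ) θ = cj σ (cj τ θ) := by
  apply Subtype.ext; funext h; rw [cj_apply, cj_apply, cj_apply]; simp [mul_inv_rev]

theorem cj_apply_one (σ : MulAut H) (θ : IrrCharacter H) :
    (cj σ θ : H → ℂ) 1 = (θ : H → ℂ) 1 := by
  rw [cj_apply]; simp

theorem charDegree_cj (σ : MulAut H) (θ : IrrCharacter H) :
    charDegree (cj σ θ : H → ℂ) = charDegree (θ : H → ℂ) := by
  unfold charDegree; rw [cj_apply_one]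

theorem index_centralizer_apply (σ : MulAut H) (h : H) :
    (Subgroup.centralizer ({σ h} : Set H)).index = (Subgroup.centralizer ({h} : Set H)).index := by
  have : Subgroup.centralizer ({σ h} : Set H) =
      (Subgroup.centralizer ({h} : Set H)).map (σ : H ≃* H).toMonoidHom := by
    ext x
    simp only [Subgroup.mem_centralizer_iff, Set.mem_singleton_iff, forall_eq, Subgroup.mem_map,
      MulEquiv.coe_toMonoidHom]
    constructor
    · intro hx
      refine ⟨σ⁻¹ x, ?_, by simp⟩
      apply (σ : H ≃* H).injective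
      simp only [map_mul]
      simpa using hx
    · rintro ⟨y, hy, rfl⟩
      rw [← map_mul, ← map_mul, hy]
  rw [this]
  exact Subgroup.index_map_equiv _ (σ : H ≃* H)

theorem centralChar_cj (σ : MulAut H) (θ : IrrCharacter H) (h : H) :
    centralChar (cj σ θ : H → ℂ) (σ h) = centralChar (θ : H → ℂ) h := by
  unfold centralChar
  rw [index_centralizer_apply, cj_apply_apply, cj_apply_one]

theorem sameBlock_cj {M : Ideal AlgInt} (σ : MulAut H) {θ ψ : IrrCharacter H}
    (h : SameBlock M (θ : H → ℂ) (ψ : H → ℂ)) :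
    SameBlock M (cj σ θ : H → ℂ) (cj σ ψ : H → ℂ) := by
  intro g
  have := h (σ⁻¹ g)
  rw [← centralChar_cj σ θ, ← centralChar_cj σ ψ] at this
  simpa using this

section Fin
variable [Fintype H]

theorem classInner_comp (σ : MulAut H) (f g : H → ℂ) :
    classInner (fun h => f (σ h)) (fun h => g (σ h)) = classInner f g := by
  unfold classInner
  congr 1
  exact Fintype.sum_equiv (σ : H ≃* H).toEquiv _ _ fun _ => rfl

theorem sylowPerm_apply_aut {p : ℕ} [Fact p.Prime] (P : Sylow p H) (σ : MulAut H) (x : H) :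
    sylowPerm P (σ x) = sylowPerm P x := by
  classical
  obtain ⟨c, hc⟩ := MulAction.exists_smul_eq H P (σ⁻¹ • P)
  have hmem : ∀ y : H, σ y ∈ (P : Subgroup H) ↔ c⁻¹ * y * c ∈ (P : Subgroup H) := by
    intro y
    have h1 : y ∈ ((σ⁻¹ • P : Sylow p H) : Subgroup H) ↔ σ y ∈ (P : Subgroup H) := by
      rw [Sylow.pointwise_smul_def, Subgroup.mem_pointwise_smul_iff_inv_smul_mem, inv_inv]
      rfl
    have h2 : y ∈ ((c • P : Sylow p H) : Subgroup H) ↔ c⁻¹ * y * c ∈ (P : Subgroup H) := by
      rw [Sylow.smul_def, Sylow.pointwise_smul_def,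
        Subgroup.mem_pointwise_smul_iff_inv_smul_mem, ← map_inv]
      simp [MulAut.smul_def]
    rw [← h1, ← hc, h2]
  have hext : ∀ y : H, extendByZero (P : Subgroup H) (fun _ => (1 : ℂ)) y =
      if y ∈ (P : Subgroup H) then 1 else 0 := by
    intro y
    by_cases hy : y ∈ (P : Subgroup H)
    · rw [if_pos hy, extendByZero_apply_of_mem _ _ hy]
    · rw [if_neg hy, extendByZero_apply_not_mem _ _ hy]
  rw [sylowPerm, indFun_apply, indFun_apply]
  congr 1
  simp only [hext]
  calc ∑ g : H, (if g⁻¹ * σ x * g ∈ (P : Subgroup H) then (1 : ℂ) else 0)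
      = ∑ g : H, (if (σ g)⁻¹ * σ x * σ g ∈ (P : Subgroup H) then (1 : ℂ) else 0) :=
        (Fintype.sum_equiv (σ : H ≃* H).toEquiv _ _ fun _ => rfl).symm
    _ = ∑ g : H, (if (g * c)⁻¹ * x * (g * c) ∈ (P : Subgroup H) then (1 : ℂ) else 0) := by
        refine Finset.sum_congr rfl fun g _ => ?_
        have e1 : (σ g)⁻¹ * σ x * σ g = σ (g⁻¹ * x * g) := by simp
        have e2 : (g * c)⁻¹ * x * (g * c) = c⁻¹ * (g⁻¹ * x * g) * c := by group
        rw [e1, e2]
        exact if_congr (hmem _) rfl rfl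
    _ = ∑ g : H, (if g⁻¹ * x * g ∈ (P : Subgroup H) then (1 : ℂ) else 0) :=
        Fintype.sum_equiv (Equiv.mulRight c) _ _ fun _ => rfl

theorem sylowMult_cj {p : ℕ} [Fact p.Prime] (P : Sylow p H) (σ : MulAut H)
    (θ : IrrCharacter H) : sylowMult P (cj σ θ) = sylowMult P θ := by
  have h1 := sylowMult_spec P (cj σ θ)
  have h2 := sylowMult_spec P θ
  have h3 : classInner (sylowPerm P) (cj σ θ : H → ℂ) = classInner (sylowPerm P) (θ : H → ℂ) := by
    rw [← classInner_comp σ (sylowPerm P) (cj σ θ : H → ℂ)]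
    congr 1
    · funext h; exact sylowPerm_apply_aut P σ h
    · funext h; exact cj_apply_apply σ θ h
  rw [h1, h2] at h3
  exact_mod_cast h3

end Fin

end Cfsg.Agent.Lib.L0.BlockAut
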