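import Cfsg.Agent.Lib.L0.CharOps
open Module
open scoped ComplexConjugate

namespace Cfsg.Agent.Lib.L0

section Ind
variable {G : Type*} [Group G]

theorem extendByZero_apply_mem (H : Subgroup G) (θ : H → ℂ) (h : H) :
    Cfsg.extendByZero H θ (h : G) = θ h := by
  unfold Cfsg.extendByZero
  exact Subtype.val_injective.extend_apply θ 0 h

theorem extendByZero_apply_of_mem (H : Subgroup G) (θ : H → ℂ) {g : G} (hg : g ∈ H) :
    Cfsg.extendByZero H θ g = θ ⟨g, hg⟩ :=
  extendByZero_apply_mem H θ ⟨g, hg⟩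

theorem extendByZero_apply_not_mem (H : Subgroup G) (θ : H → ℂ) {g : G} (hg : g ∉ H) :
    Cfsg.extendByZero H θ g = 0 := by
  unfold Cfsg.extendByZero
  rw [Function.extend_apply']
  · rfl
  · rintro ⟨h, rfl⟩
    exact hg h.2

variable [Fintype G]

theorem sum_extendByZero_mul (H : Subgroup G) [Fintype H] (θ : H → ℂ) (F : G → ℂ) :
    ∑ g : G, Cfsg.extendByZero H θ g * F g = ∑ h : H, θ h * F h := by
  classical
  have h1 : ∑ g : G, Cfsg.extendByZero H θ g * F g
      = ∑ g ∈ Finset.univ.filter (· ∈ H), Cfsg.extendByZero H θ g * F g := by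
    rw [Finset.sum_filter]
    refine Finset.sum_congr rfl fun g _ => ?_
    split_ifs with hg
    · rfl
    · rw [extendByZero_apply_not_mem H θ hg, zero_mul]
  rw [h1, Finset.sum_subtype (p := (· ∈ H)) _ (by simp)]
  refine Finset.sum_congr rfl fun h _ => ?_
  rw [extendByZero_apply_mem]

theorem indFun_apply (H : Subgroup G) (θ : H → ℂ) (g : G) :
    Cfsg.indFun H θ g = (Nat.card H : ℂ)⁻¹ * ∑ x : G, Cfsg.extendByZero H θ (x⁻¹ * g * x) := rfl

/-- Frobenius reciprocity for induced class functions. -/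
theorem frobenius_reciprocity (H : Subgroup G) [Fintype H] (θ : H → ℂ) (χ : G → ℂ)
    (hχ : Cfsg.IsClassFunction G χ) :
    Cfsg.classInner (Cfsg.indFun H θ) χ = Cfsg.classInner θ (fun h : H => χ h) := by
  unfold Cfsg.classInner
  simp only [indFun_apply]
  have h1 : ∑ g : G, (Nat.card H : ℂ)⁻¹ * (∑ x : G, Cfsg.extendByZero H θ (x⁻¹ * g * x)) * conj (χ g)
      = (Nat.card H : ℂ)⁻¹ * ∑ x : G, ∑ g : G, Cfsg.extendByZero H θ (x⁻¹ * g * x) * conj (χ g) := by
    rw [Finset.sum_comm, Finset.mul_sum]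
    refine Finset.sum_congr rfl fun g _ => ?_
    rw [mul_assoc, Finset.sum_mul]
  have h2 : ∀ x : G, ∑ g : G, Cfsg.extendByZero H θ (x⁻¹ * g * x) * conj (χ g)
      = ∑ h : H, θ h * conj (χ h) := by
    intro x
    rw [← sum_extendByZero_mul H θ (fun g => conj (χ g))]
    refine Fintype.sum_equiv (MulAut.conj x⁻¹).toEquiv _ _ fun g => ?_
    simp only [MulEquiv.toEquiv_eq_coe, MulEquiv.coe_toEquiv, MulAut.conj_apply, inv_inv]
    congr 2
    have := hχ (x⁻¹ * g * x) x
    rw [← this]
    congr 1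
    group
  rw [h1, Finset.sum_congr rfl fun x _ => h2 x, Finset.sum_const, Finset.card_univ, nsmul_eq_mul]
  have hG : (Nat.card G : ℂ) ≠ 0 := by exact_mod_cast (Nat.card_pos (α := G)).ne'
  rw [Nat.card_eq_fintype_card (α := G)] at hG ⊢
  field_simp

end Ind

section IndTrans
variable {G : Type*} [Group G] [Fintype G]

theorem indFun_isClassFunction (H : Subgroup G) (θ : H → ℂ) :
    Cfsg.IsClassFunction G (Cfsg.indFun H θ) := by
  intro g k
  simp only [indFun_apply]
  congr 1
  refine Fintype.sum_equiv (Equiv.mulLeft k⁻¹) _ _ fun x => ?_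
  simp only [Equiv.coe_mulLeft]
  congr 1
  group

theorem indFun_add (H : Subgroup G) (θ₁ θ₂ : H → ℂ) :
    Cfsg.indFun H (θ₁ + θ₂) = Cfsg.indFun H θ₁ + Cfsg.indFun H θ₂ := by
  funext g
  simp only [indFun_apply, Pi.add_apply, ← mul_add, ← Finset.sum_add_distrib]
  congr 1
  refine Finset.sum_congr rfl fun x _ => ?_
  by_cases hx : x⁻¹ * g * x ∈ H
  · simp [extendByZero_apply_of_mem H _ hx]
  · simp [extendByZero_apply_not_mem H _ hx]

theorem indFun_smul (H : Subgroup G) (c : ℂ) (θ : H → ℂ) :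
    Cfsg.indFun H (c • θ) = c • Cfsg.indFun H θ := by
  funext g
  simp only [indFun_apply, Pi.smul_apply, smul_eq_mul]
  rw [mul_left_comm, Finset.mul_sum (a := c)]
  congr 1
  refine Finset.sum_congr rfl fun x _ => ?_
  by_cases hx : x⁻¹ * g * x ∈ H
  · simp [extendByZero_apply_of_mem H _ hx]
  · simp [extendByZero_apply_not_mem H _ hx]

theorem indFun_zero (H : Subgroup G) : Cfsg.indFun H (0 : H → ℂ) = 0 := by
  have := indFun_smul H 0 (0 : H → ℂ)
  simpa using this

theorem indFun_sum {ι : Type*} (H : Subgroup G) (s : Finset ι) (θ : ι → H → ℂ) :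
    Cfsg.indFun H (∑ i ∈ s, θ i) = ∑ i ∈ s, Cfsg.indFun H (θ i) := by
  classical
  induction s using Finset.induction_on with
  | empty => simp [indFun_zero]
  | insert a s ha ih => rw [Finset.sum_insert ha, Finset.sum_insert ha, indFun_add, ih]

/-- Transitivity of induction. -/
theorem indFun_trans (H K : Subgroup G) [Fintype K] (hHK : H ≤ K) (θ : H → ℂ) :
    Cfsg.indFun K (Cfsg.indFun (H.subgroupOf K)
      (fun x => θ ⟨(x : K), Subgroup.mem_subgroupOf.mp x.2⟩)) = Cfsg.indFun H θ := by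
  classical
  set θ' : H.subgroupOf K → ℂ := fun x => θ ⟨(x : K), Subgroup.mem_subgroupOf.mp x.2⟩ with hθ'
  have hext : ∀ k : K, Cfsg.extendByZero (H.subgroupOf K) θ' k = Cfsg.extendByZero H θ (k : G) := by
    intro k
    by_cases hk : (k : G) ∈ H
    · rw [extendByZero_apply_of_mem H θ hk,
        extendByZero_apply_of_mem (H.subgroupOf K) θ' (Subgroup.mem_subgroupOf.mpr hk)]
    · rw [extendByZero_apply_not_mem H θ hk,
        extendByZero_apply_not_mem (H.subgroupOf K) θ' (fun h => hk (Subgroup.mem_subgroupOf.mp h))]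
  have hφ : ∀ g : G, Cfsg.extendByZero K (Cfsg.indFun (H.subgroupOf K) θ') g
      = (Nat.card (H.subgroupOf K) : ℂ)⁻¹ * ∑ y : K, Cfsg.extendByZero H θ ((y : G)⁻¹ * g * y) := by
    intro g
    by_cases hg : g ∈ K
    · rw [extendByZero_apply_of_mem K _ hg, indFun_apply]
      congr 1
      refine Finset.sum_congr rfl fun y _ => ?_
      rw [hext]
      rfl
    · rw [extendByZero_apply_not_mem K _ hg]
      symm
      rw [mul_eq_zero]; right
      refine Finset.sum_eq_zero fun y _ => ?_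
      apply extendByZero_apply_not_mem
      intro h
      apply hg
      have := K.mul_mem (K.mul_mem y.2 (hHK h)) (K.inv_mem y.2)
      simpa [mul_assoc] using this
  funext g
  rw [indFun_apply, indFun_apply]
  simp only [hφ]
  rw [← Finset.mul_sum, Finset.sum_comm]
  have h3 : ∀ y : K, ∑ x : G, Cfsg.extendByZero H θ ((y : G)⁻¹ * (x⁻¹ * g * x) * y)
      = ∑ z : G, Cfsg.extendByZero H θ (z⁻¹ * g * z) := by
    intro y
    refine Fintype.sum_equiv (Equiv.mulRight (y : G)) _ _ fun x => ?_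
    simp only [Equiv.coe_mulRight]
    congr 1
    group
  rw [Finset.sum_congr rfl fun y _ => h3 y, Finset.sum_const, Finset.card_univ, nsmul_eq_mul]
  have hK : (Nat.card K : ℂ) ≠ 0 := by exact_mod_cast (Nat.card_pos (α := K)).ne'
  have hcard : Nat.card (H.subgroupOf K) = Nat.card H :=
    Nat.card_congr (Subgroup.subgroupOfEquivOfLe hHK).toEquiv
  rw [hcard]
  rw [Nat.card_eq_fintype_card (α := K)] at hK ⊢
  field_simp

end IndTrans

end Cfsg.Agent.Lib.L0
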