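import Mathlib
import Cfsg.Agent.Lib.L0.BlockKer
import Cfsg.Agent.Lib.H24.ChiefFactor

/-!
# Blocks covering characters of a normal `p'`-subgroup (lead)

* `classInner_conjChar`: `⟨φ_N, θ^k⟩ = ⟨φ_N, θ⟩` for a class function `φ` of `G`;
* `not_sameBlock_of_constituent`: if `N` is a normal `p'`-subgroup, `θ ∈ Irr(N)` lies under `χ`
  but not under `ψ`, then `χ` and `ψ` lie in different blocks.
-/

set_option autoImplicit false

namespace Cfsg.Agent.Lib.L0.BlockCover

open Cfsg Cfsg.Agent.Lib.H23 Cfsg.Agent.Lib.H24 Cfsg.Agent.Lib.L0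
open scoped ComplexConjugate

variable {G : Type*} [Group G] [Fintype G] (N : Subgroup G) [hNn : N.Normal] [Fintype N]

theorem classInner_conjChar {φ : G → ℂ} (hφ : IsClassFunction G φ) (θ : N → ℂ) (k : G) :
    classInner (fun n : N => φ n) (conjChar N θ k) = classInner (fun n : N => φ n) θ := by
  rw [classInner, classInner]
  congr 1
  refine Fintype.sum_equiv (MulAut.conjNormal k (H := N)).toEquiv _ _ fun n => ?_
  simp only [MulEquiv.toEquiv_eq_coe, MulEquiv.coe_toEquiv, conjChar_apply]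
  have h1 : ((MulAut.conjNormal k (H := N)) n : G) = k * n * k⁻¹ := by
    simp [MulAut.conjNormal_apply]
  have h2 : (MulAut.conjNormal k (H := N)) n = ⟨k * n * k⁻¹, hNn.conj_mem n n.2 k⟩ :=
    Subtype.ext h1
  rw [← h2, h1, hφ]

theorem conjChar_one (θ : N → ℂ) (k : G) : conjChar N θ k 1 = θ 1 := by
  rw [conjChar_apply]
  congr 1
  apply Subtype.ext
  simp

/-- The separating central element. -/
noncomputable def sepElt (χ : G → ℂ) (c : ℂ) : MonoidAlgebra ℂ G := by
  classical
  exact ofFun (fun g => if g ∈ N then c * conj (χ g) else 0)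

theorem sepElt_mem_center {χ : G → ℂ} (hχ : IsClassFunction G χ) (c : ℂ) :
    sepElt N χ c ∈ Subalgebra.center ℂ (MonoidAlgebra ℂ G) := by
  classical
  refine mem_center_of_classFunction fun g h => ?_
  simp only [sepElt, coeff_ofFun]
  have : h * g * h⁻¹ ∈ N ↔ g ∈ N := by
    constructor
    · intro h1
      have := hNn.conj_mem _ h1 h⁻¹
      simpa [mul_assoc] using this
    · intro h1
      exact hNn.conj_mem _ h1 h
  rw [if_congr this rfl rfl, hχ]

theorem charEval_sepElt (φ χ : G → ℂ) (c : ℂ) :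
    charEval φ (sepElt N χ c) =
      c * (Nat.card N : ℂ) * classInner (fun n : N => φ n) (fun n : N => χ n) := by
  classical
  have hN0 : (Nat.card N : ℂ) ≠ 0 := by exact_mod_cast (Nat.card_pos (α := N)).ne'
  rw [sepElt, charEval_ofFun, classInner]
  simp only [ite_mul, zero_mul]
  rw [← Finset.sum_filter]
  have e1 : c * (Nat.card N : ℂ) * ((Nat.card N : ℂ)⁻¹ * ∑ g : N, φ g * conj (χ g)) =
      ∑ n : N, c * conj (χ n) * φ n := by
    rw [mul_assoc c, mul_inv_cancel_left₀ hN0, Finset.mul_sum]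
    refine Finset.sum_congr rfl fun n _ => ?_
    ring
  rw [e1, ← Finset.sum_subtype (Finset.univ.filter (· ∈ N)) (p := (· ∈ N)) (by simp)
    (fun g => c * conj (χ g) * φ g)]

variable {p : ℕ} {M : Ideal AlgInt}

theorem not_sameBlock_of_constituent (hM : IsPModular p M) (hNp : ¬ p ∣ Nat.card N)
    (χ ψ : IrrCharacter G) (θ : N → ℂ) (hθ : IsIrrCharacter N θ)
    (hχθ : classInner (fun n : N => (χ : G → ℂ) n) θ ≠ 0)
    (hψθ : classInner (fun n : N => (ψ : G → ℂ) n) θ = 0) :
    ¬ SameBlock M (χ : G → ℂ) (ψ : G → ℂ) := by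
  classical
  haveI hP := isPrime_of_isPModular hM
  intro hsame
  obtain ⟨F, hF, -, hres⟩ := clifford_finset N (χ : G → ℂ) χ.2 θ hθ hχθ
  set e := classInner (fun n : N => (χ : G → ℂ) n) θ with he
  have hN0 : (Nat.card N : ℂ) ≠ 0 := by exact_mod_cast (Nat.card_pos (α := N)).ne'
  have hce : conj e ≠ 0 := by
    intro h0
    exact hχθ ((map_eq_zero _).mp h0)
  set c : ℂ := θ 1 / (conj e * (Nat.card N : ℂ)) with hc
  set z := sepElt N (χ : G → ℂ) c with hz
  have hzc : z ∈ Subalgebra.center ℂ (MonoidAlgebra ℂ G) :=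
    sepElt_mem_center N (irr_isClassFunction χ) c
  -- inner products against the restriction of χ
  have hinner : ∀ φ : G → ℂ, IsClassFunction G φ →
      classInner (fun n : N => φ n) (fun n : N => (χ : G → ℂ) n) =
        conj e * ((F.card : ℂ) * classInner (fun n : N => φ n) θ) := by
    intro φ hφ
    rw [hres]
    rw [classInner, classInner]
    simp only [Pi.smul_apply, Finset.sum_apply, smul_eq_mul, map_mul, map_sum]
    have h1 : ∀ ξ ∈ F, ∑ n : N, φ n * conj (ξ n) = ∑ n : N, φ n * conj (θ n) := by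
      intro ξ hξ
      obtain ⟨k, rfl⟩ := hF ξ hξ
      have := classInner_conjChar N hφ θ k
      rw [classInner, classInner] at this
      exact mul_left_cancel₀ (inv_ne_zero hN0) this
    have h2 : ∑ n : N, φ n * (conj e * ∑ ξ ∈ F, conj (ξ n)) =
        conj e * ∑ ξ ∈ F, ∑ n : N, φ n * conj (ξ n) := by
      rw [Finset.sum_comm, Finset.mul_sum]
      simp only [Finset.mul_sum]
      refine Finset.sum_congr rfl fun n _ => ?_
      refine Finset.sum_congr rfl fun ξ _ => ?_
      ring
    rw [h2, Finset.sum_congr rfl h1, Finset.sum_const, nsmul_eq_mul]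
    ring
  have hχ1 : (χ : G → ℂ) 1 = e * ((F.card : ℂ) * θ 1) := by
    have h1 := congrFun hres 1
    simp only [Pi.smul_apply, Finset.sum_apply, smul_eq_mul] at h1
    have h2 : ∀ ξ ∈ F, ξ 1 = θ 1 := by
      intro ξ hξ
      obtain ⟨k, rfl⟩ := hF ξ hξ
      exact conjChar_one N θ k
    rw [Finset.sum_congr rfl h2, Finset.sum_const, nsmul_eq_mul] at h1
    exact h1
  have hχ10 : (χ : G → ℂ) 1 ≠ 0 := irr_one_ne_zero χ
  have hωχ : omega (χ : G → ℂ) z = 1 := by
    rw [omega, hz, charEval_sepElt, hinner _ (irr_isClassFunction χ), ← he, hc]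
    rw [div_eq_one_iff_eq hχ10, hχ1]
    field_simp
  have hωψ : omega (ψ : G → ℂ) z = 0 := by
    rw [omega, hz, charEval_sepElt, hinner _ (irr_isClassFunction ψ), hψθ]
    simp
  have hzint : z ∈ intCoeff (G := G) M := by
    intro g
    simp only [hz, sepElt, coeff_ofFun]
    split_ifs with hg
    · have h1 := congrFun hres ⟨g, hg⟩
      simp only [Pi.smul_apply, Finset.sum_apply, smul_eq_mul] at h1
      rw [h1, map_mul, map_sum, hc]
      have e1 : θ 1 / (conj e * (Nat.card N : ℂ)) * (conj e * ∑ ξ ∈ F, conj (ξ ⟨g, hg⟩)) =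
          (Nat.card N : ℂ)⁻¹ * (θ 1 * ∑ ξ ∈ F, conj (ξ ⟨g, hg⟩)) := by
        field_simp
      rw [e1]
      refine memLocalRing_mul (memLocalRing_inv_natCast hM hNp) ?_
      refine memLocalRing_mul ?_ ?_
      · exact isIntegral_mem_localRing (isCharacter_isIntegral (isCharacter_of_irr hθ) 1)
      · refine memLocalRing_sum _ _ fun ξ hξ => ?_
        obtain ⟨k, rfl⟩ := hF ξ hξ
        rw [conjChar_apply]
        exact isIntegral_mem_localRing
          (isIntegral_conj (isCharacter_isIntegral (isCharacter_of_irr hθ) _))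
    · exact memLocalRing_zero hP.ne_top
  have h1 := omega_sub_memLocalIdeal hsame hzc hzint
  rw [hωχ, hωψ, sub_zero] at h1
  exact not_memLocalIdeal_one h1

end Cfsg.Agent.Lib.L0.BlockCover
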