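import Cfsg.Agent.Lib.H23.BlockAlgebra
import Cfsg.Agent.Lib.H24.CharOrth
import Cfsg.Agent.Lib.H24.CharBasic
import Cfsg.Agent.Lib.L0.CharInner

/-!
# Central characters and normal subgroups

For `N` normal in `G`, `z` a central element of `ℂ[G]` supported on `N`, `χ ∈ Irr(G)` and `θ` an
irreducible constituent of `χ|_N`:  `ω_χ(z) = ω_θ(z|_N)` (`omega_eq_of_constituent`).
Consequently two irreducible characters of `G` whose restrictions to `N` share a constituent
have the same central character on such `z` (`omega_eq_of_common_constituent`).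
-/

set_option autoImplicit false
open Cfsg

namespace Cfsg.Agent.Lib.L0.BlockNormal

open Cfsg.Agent.Lib.H23 Cfsg.Agent.Lib.H24 Cfsg.Agent.Lib.L0
open scoped ComplexConjugate

variable {G : Type*} [Group G] [Fintype G] (N : Subgroup G) [Fintype N]

/-- Restriction of a group algebra element to a subgroup. -/
noncomputable def resAlg (z : MonoidAlgebra ℂ G) : MonoidAlgebra ℂ N :=
  ofFun (fun n : N => z.coeff (n : G))

@[simp] theorem coeff_resAlg (z : MonoidAlgebra ℂ G) (n : N) :
    (resAlg N z).coeff n = z.coeff (n : G) := rfl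

theorem resAlg_mem_center {z : MonoidAlgebra ℂ G}
    (hz : z ∈ Subalgebra.center ℂ (MonoidAlgebra ℂ G)) :
    resAlg N z ∈ Subalgebra.center ℂ (MonoidAlgebra ℂ N) := by
  refine mem_center_of_classFunction fun g h => ?_
  rw [coeff_resAlg, coeff_resAlg]
  exact coeff_conj_of_mem_center hz (g : G) (h : G)

theorem charEval_mul_single (φ : G → ℂ) (z : MonoidAlgebra ℂ G) (y : G) :
    charEval φ (z * MonoidAlgebra.single y 1) = ∑ h : G, z.coeff h * φ (h * y) := by
  unfold charEval
  simp only [MonoidAlgebra.coeff_mul_single_apply, mul_one]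
  refine Fintype.sum_equiv (Equiv.mulRight y⁻¹) _ _ fun g => ?_
  simp

theorem charEval_mul_single_of_support {z : MonoidAlgebra ℂ G}
    (hsupp : ∀ g : G, g ∉ N → z.coeff g = 0) (φ : G → ℂ) (y : N) :
    charEval φ (z * MonoidAlgebra.single (y : G) 1) =
      charEval (fun n : N => φ n) (resAlg N z * MonoidAlgebra.single y 1) := by
  classical
  rw [charEval_mul_single, charEval_mul_single]
  simp only [coeff_resAlg]
  have h1 : ∑ h : G, z.coeff h * φ (h * (y : G)) =
      ∑ h ∈ Finset.univ.filter (fun h : G => h ∈ N), z.coeff h * φ (h * (y : G)) := by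
    symm
    apply Finset.sum_subset (Finset.filter_subset _ _)
    intro h _ hh
    have : h ∉ N := fun hN => hh (Finset.mem_filter.mpr ⟨Finset.mem_univ _, hN⟩)
    rw [hsupp h this, zero_mul]
  rw [h1]
  rw [Finset.sum_subtype (Finset.univ.filter (fun h : G => h ∈ N)) (p := fun h => h ∈ N)
    (by simp) (fun h => z.coeff h * φ (h * (y : G)))]
  rfl

theorem charEval_sum_smul_left {ι : Type*} (s : Finset ι) (c : ι → ℂ) (f : ι → G → ℂ)
    (z : MonoidAlgebra ℂ G) :
    charEval (∑ i ∈ s, c i • f i) z = ∑ i ∈ s, c i * charEval (f i) z := by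
  unfold charEval
  simp only [Finset.sum_apply, Pi.smul_apply, smul_eq_mul, Finset.mul_sum]
  rw [Finset.sum_comm]
  refine Finset.sum_congr rfl fun i _ => Finset.sum_congr rfl fun g _ => ?_
  ring

theorem isClassFunction_restrict [N.Normal] {φ : G → ℂ} (hφ : IsClassFunction G φ) :
    IsClassFunction N (fun n : N => φ n) := by
  intro g h
  exact hφ (g : G) (h : G)

/-- **Central characters over a normal subgroup.** -/
theorem omega_eq_of_constituent [N.Normal] (χ : IrrCharacter G) (θ : IrrCharacter N)
    (hθ : classInner (fun n : N => (χ : G → ℂ) n) (θ : N → ℂ) ≠ 0)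
    {z : MonoidAlgebra ℂ G} (hz : z ∈ Subalgebra.center ℂ (MonoidAlgebra ℂ G))
    (hsupp : ∀ g : G, g ∉ N → z.coeff g = 0) :
    omega (χ : G → ℂ) z = omega (θ : N → ℂ) (resAlg N z) := by
  classical
  haveI := Fintype.ofFinite (IrrCharacter N)
  set f : N → ℂ := fun n : N => (χ : G → ℂ) n with hf
  have hfc : IsClassFunction N f := isClassFunction_restrict N (irr_isClassFunction χ)
  have hexp := classFunction_expansion f hfc
  set m : IrrCharacter N → ℂ := fun θ' => classInner f (θ' : N → ℂ) with hm
  have hzN := resAlg_mem_center N hz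
  -- the function identity on `N`
  have hid : (omega (χ : G → ℂ) z) • f =
      ∑ θ' : IrrCharacter N, (m θ' * omega (θ' : N → ℂ) (resAlg N z)) • (θ' : N → ℂ) := by
    funext y
    have h1 : charEval (χ : G → ℂ) (z * MonoidAlgebra.single (y : G) 1) =
        omega (χ : G → ℂ) z * (χ : G → ℂ) y := by
      rw [charEval_mul_of_mem_center χ.2 hz, charEval_single, one_mul]; rfl
    have h2 := charEval_mul_single_of_support N hsupp (χ : G → ℂ) y
    have h3 : charEval f (resAlg N z * MonoidAlgebra.single y 1) =
        ∑ θ' : IrrCharacter N, m θ' * (omega (θ' : N → ℂ) (resAlg N z) * (θ' : N → ℂ) y) := by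
      conv_lhs => rw [hexp]
      rw [charEval_sum_smul_left]
      refine Finset.sum_congr rfl fun θ' _ => ?_
      rw [charEval_mul_of_mem_center θ'.2 hzN, charEval_single, one_mul]; rfl
    simp only [Pi.smul_apply, smul_eq_mul, Finset.sum_apply]
    rw [← h1, h2, h3]
    refine Finset.sum_congr rfl fun θ' _ => ?_
    ring
  have h4 := congrArg (fun F : N → ℂ => classInner F (θ : N → ℂ)) hid
  simp only [classInner_smul_left, classInner_sum_left] at h4
  rw [Finset.sum_eq_single θ] at h4
  · rw [irr_orthonormal, if_pos rfl, mul_one] at h4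
    have h5 : m θ ≠ 0 := hθ
    have h6 : omega (χ : G → ℂ) z * m θ = m θ * omega (θ : N → ℂ) (resAlg N z) := h4
    have h7 : m θ * omega (χ : G → ℂ) z = m θ * omega (θ : N → ℂ) (resAlg N z) := by
      rw [← h6]; ring
    exact mul_left_cancel₀ h5 h7
  · intro θ' _ hne
    rw [irr_orthonormal, if_neg hne, mul_zero]
  · intro h; exact absurd (Finset.mem_univ θ) h

/-- Two irreducible characters of `G` whose restrictions to the normal subgroup `N` are not
orthogonal have the same central character on central elements supported on `N`. -/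
theorem omega_eq_of_common_constituent [N.Normal] (χ ψ : IrrCharacter G)
    (h : classInner (fun n : N => (χ : G → ℂ) n) (fun n : N => (ψ : G → ℂ) n) ≠ 0)
    {z : MonoidAlgebra ℂ G} (hz : z ∈ Subalgebra.center ℂ (MonoidAlgebra ℂ G))
    (hsupp : ∀ g : G, g ∉ N → z.coeff g = 0) :
    omega (χ : G → ℂ) z = omega (ψ : G → ℂ) z := by
  classical
  haveI := Fintype.ofFinite (IrrCharacter N)
  have hψc : IsClassFunction N (fun n : N => (ψ : G → ℂ) n) :=
    isClassFunction_restrict N (irr_isClassFunction ψ)
  have hexp := classFunction_expansion _ hψc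
  -- some common constituent
  have : ∃ θ : IrrCharacter N, classInner (fun n : N => (χ : G → ℂ) n) (θ : N → ℂ) ≠ 0 ∧
      classInner (fun n : N => (ψ : G → ℂ) n) (θ : N → ℂ) ≠ 0 := by
    by_contra hcon
    push Not at hcon
    apply h
    rw [hexp, classInner_sum_right]
    refine Finset.sum_eq_zero fun θ _ => ?_
    rw [classInner_smul_right]
    by_cases h1 : classInner (fun n : N => (χ : G → ℂ) n) (θ : N → ℂ) = 0
    · rw [h1, mul_zero]
    · rw [hcon θ h1, map_zero, zero_mul]
  obtain ⟨θ, h1, h2⟩ := this
  rw [omega_eq_of_constituent N χ θ h1 hz hsupp, omega_eq_of_constituent N ψ θ h2 hz hsupp]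

end Cfsg.Agent.Lib.L0.BlockNormal
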