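import Mathlib
import Cfsg.Agent.Lib.L0.BlockHeight

/-!
# Min–max facts for defect classes (lead)

For a block `B` of defect `d`:
* `sInf_eq_sub_blockDefect`: the minimal `p`-part of a degree in `B` is `a - d`;
* `blockCoeff_memLocalIdeal_of_defect_lt`: `a_B(g) ∈ 𝔭` if `ν_p |C(g)| > d`;
* `centralChar_memLocalIdeal_of_lt_defect`: `ω_χ(g) ∈ 𝔭` (`χ ∈ B`) if `ν_p |C(g)| < d`;
* `omega_blockIdem_sub_sum_mem`: modulo `𝔭`, `ω_ψ(e_B)` is the sum over the `p`-regular classes of
  defect exactly `d` of `a_B(K) ω_ψ(K)`, when `B` and the block of `ψ` have defect `d`.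
-/

set_option autoImplicit false

namespace Cfsg.Agent.Lib.L0.BlockMinMax

open Cfsg Cfsg.Agent.Lib.H23 Cfsg.Agent.Lib.L0.BlockHeight

variable {p : ℕ} {M : Ideal AlgInt} {G : Type*} [Group G] [Fintype G] [Fact p.Prime]

/-- The `p`-part of the degrees of the members of a block. -/
noncomputable abbrev minDeg (p : ℕ) (B : Set (IrrCharacter G)) : ℕ :=
  sInf ((fun χ : IrrCharacter G => (charDegree (χ : G → ℂ)).factorization p) '' B)

omit [Fact p.Prime] in
theorem minDeg_le [M.IsPrime] (χ₀ : IrrCharacter G) {χ : IrrCharacter G}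
    (hχ : χ ∈ blockOf M (χ₀ : G → ℂ)) :
    minDeg p (blockOf M (χ₀ : G → ℂ)) ≤ (charDegree (χ : G → ℂ)).factorization p :=
  Nat.sInf_le (Set.mem_image_of_mem _ hχ)

theorem minDeg_le_card [M.IsPrime] (χ₀ : IrrCharacter G) :
    minDeg p (blockOf M (χ₀ : G → ℂ)) ≤ (Nat.card G).factorization p := by
  have hp : p.Prime := Fact.out
  refine (minDeg_le (p := p) χ₀ (mem_blockOf_self χ₀)).trans ?_
  have hdvd := charDegree_dvd_card (χ₀ : G → ℂ) χ₀.2
  exact (Nat.factorization_le_iff_dvd (charDegree_pos _ χ₀.2).ne' Nat.card_pos.ne').mpr hdvd p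

theorem minDeg_eq_sub_blockDefect [M.IsPrime] (χ₀ : IrrCharacter G) :
    minDeg p (blockOf M (χ₀ : G → ℂ)) =
      (Nat.card G).factorization p - blockDefect p (blockOf M (χ₀ : G → ℂ)) := by
  have h := minDeg_le_card (p := p) (M := M) χ₀
  rw [blockDefect]
  unfold minDeg at h ⊢
  omega

theorem factorization_card_eq (g : G) :
    (Nat.card G).factorization p = (Subgroup.centralizer ({g} : Set G)).index.factorization p +
      (Nat.card (Subgroup.centralizer ({g} : Set G))).factorization p := by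
  rw [← Subgroup.index_mul_card (Subgroup.centralizer ({g} : Set G)),
    Nat.factorization_mul (index_ne_zero _) Nat.card_pos.ne']
  rfl

/-- Min–max, first half. -/
theorem blockCoeff_memLocalIdeal_of_defect_lt (hM : IsPModular p M) (χ₀ : IrrCharacter G) (g : G)
    (h : blockDefect p (blockOf M (χ₀ : G → ℂ)) <
      (Nat.card (Subgroup.centralizer ({g} : Set G))).factorization p) :
    MemLocalIdeal M (blockCoeff (blockOf M (χ₀ : G → ℂ)) g) := by
  classical
  haveI hP := isPrime_of_isPModular hM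
  have hp := prime_of_isPModular hM
  obtain ⟨P⟩ : Nonempty (Sylow p (Subgroup.centralizer ({g} : Set G))) := inferInstance
  have hcardD : Nat.card ((P : Subgroup (Subgroup.centralizer ({g} : Set G))).map
      (Subgroup.centralizer ({g} : Set G)).subtype) =
      p ^ (Nat.card (Subgroup.centralizer ({g} : Set G))).factorization p := by
    rw [Subgroup.card_map_of_injective (Subgroup.subtype_injective _), Sylow.card_eq_multiplicity]
  refine blockCoeff_memLocalIdeal_of_pow_dvd hM χ₀ g
    ((P : Subgroup (Subgroup.centralizer ({g} : Set G))).map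
      (Subgroup.centralizer ({g} : Set G)).subtype)
    (P.isPGroup'.map _) ?_ (minDeg p (blockOf M (χ₀ : G → ℂ))) ?_ ?_
  · rintro u ⟨c, -, rfl⟩
    have := Subgroup.mem_centralizer_iff.1 c.2
    exact (this g rfl).symm
  · intro χ hχ
    exact (pow_dvd_pow p (minDeg_le χ₀ hχ)).trans (Nat.ordProj_dvd _ p)
  · rw [hcardD, Nat.Prime.factorization_pow hp]
    simp only [Finsupp.single_eq_same]
    have h1 := minDeg_eq_sub_blockDefect (p := p) (M := M) χ₀
    have h2 := minDeg_le_card (p := p) (M := M) χ₀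
    have h3 : blockDefect p (blockOf M (χ₀ : G → ℂ)) ≤ (Nat.card G).factorization p := by
      rw [blockDefect]; omega
    omega

/-- Min–max, second half. -/
theorem centralChar_memLocalIdeal_of_lt_defect (hM : IsPModular p M) (χ₀ : IrrCharacter G)
    {χ : IrrCharacter G} (hχ : χ ∈ blockOf M (χ₀ : G → ℂ)) (g : G)
    (h : (Nat.card (Subgroup.centralizer ({g} : Set G))).factorization p <
      blockDefect p (blockOf M (χ₀ : G → ℂ))) :
    MemLocalIdeal M (centralChar (χ : G → ℂ) g) := by
  haveI hP := isPrime_of_isPModular hM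
  by_contra hne
  obtain ⟨ψ, hψ, hψ0⟩ := exists_height_zero (p := p) (M := M) χ₀
  have hψne : ¬ MemLocalIdeal M (centralChar (ψ : G → ℂ) g) := by
    intro hmem
    apply hne
    have h1 : SameBlock M (χ : G → ℂ) (ψ : G → ℂ) := sameBlock_trans (sameBlock_symm hχ) hψ
    have h2 := memLocalIdeal_add (h1 g) hmem
    rwa [sub_add_cancel] at h2
  have h1 := index_factorization_le_of_centralChar hM ψ g hψne
  have h2 : (charDegree (ψ : G → ℂ)).factorization p = minDeg p (blockOf M (χ₀ : G → ℂ)) := by
    have h3 : (charDegree (ψ : G → ℂ)).factorization p - minDeg p (blockOf M (χ₀ : G → ℂ)) = 0 :=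
      hψ0
    exact le_antisymm (Nat.sub_eq_zero_iff_le.mp h3) (minDeg_le χ₀ hψ)
  have h4 := minDeg_eq_sub_blockDefect (p := p) (M := M) χ₀
  have h5 := factorization_card_eq (p := p) g
  have h6 : blockDefect p (blockOf M (χ₀ : G → ℂ)) ≤ (Nat.card G).factorization p := by
    rw [blockDefect]; omega
  omega


/-- The class of `c` is `p`-regular of defect exactly `d`. -/
def IsRegDefect (p : ℕ) (d : ℕ) (c : ConjClasses G) : Prop :=
  ¬ p ∣ orderOf (classRep c) ∧
    (Nat.card (Subgroup.centralizer ({classRep c} : Set G))).factorization p = d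

/-- Modulo the local ideal, `ω_ψ(e_B)` only involves the `p`-regular classes of defect `d`, when `B`
and the block of `ψ` both have defect `d`. -/
theorem omega_blockIdem_sub_sum_mem [Fintype (ConjClasses G)] (hM : IsPModular p M)
    (χ₀ ψ₀ : IrrCharacter G) (d : ℕ)
    (hd : blockDefect p (blockOf M (χ₀ : G → ℂ)) = d)
    (hd' : blockDefect p (blockOf M (ψ₀ : G → ℂ)) = d)
    [DecidablePred (IsRegDefect (G := G) p d)] :
    MemLocalIdeal M (omega (ψ₀ : G → ℂ) (blockIdem (blockOf M (χ₀ : G → ℂ))) -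
      ∑ c : ConjClasses G, if IsRegDefect p d c then
        blockCoeff (blockOf M (χ₀ : G → ℂ)) (classRep c) * centralChar (ψ₀ : G → ℂ) (classRep c)
        else 0) := by
  haveI hP := isPrime_of_isPModular hM
  rw [omega_eq_sum_centralChar (Cfsg.Agent.Lib.H24.irr_isClassFunction ψ₀)
    (blockIdem_mem_center _), ← Finset.sum_sub_distrib]
  refine memLocalIdeal_sum _ _ fun c _ => ?_
  rw [coeff_blockIdem]
  have hω : MemLocalRing M (centralChar (ψ₀ : G → ℂ) (classRep c)) :=
    coe_mem_localRing (omegaInt ψ₀ (classRep c))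
  have ha : MemLocalRing M (blockCoeff (blockOf M (χ₀ : G → ℂ)) (classRep c)) :=
    memLocalRing_blockCoeff hM χ₀ _
  by_cases hc : IsRegDefect p d c
  · rw [if_pos hc, sub_self]
    exact memLocalIdeal_zero hP.ne_top
  · rw [if_neg hc, sub_zero]
    by_cases hreg : p ∣ orderOf (classRep c)
    · rw [blockCoeff_eq_zero_of_dvd_orderOf hM χ₀ _ hreg, zero_mul]
      exact memLocalIdeal_zero hP.ne_top
    · have hne : (Nat.card (Subgroup.centralizer ({classRep c} : Set G))).factorization p ≠ d :=
        fun h => hc ⟨hreg, h⟩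
      rcases lt_or_gt_of_ne hne with hlt | hgt
      · refine memLocalIdeal_mul_left ha ?_
        exact centralChar_memLocalIdeal_of_lt_defect hM ψ₀ (mem_blockOf_self ψ₀) _ (hd'.symm ▸ hlt)
      · refine memLocalIdeal_mul_right ?_ hω
        exact blockCoeff_memLocalIdeal_of_defect_lt hM χ₀ _ (hd.symm ▸ hgt)

end Cfsg.Agent.Lib.L0.BlockMinMax
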