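import Mathlib
import Cfsg.Prelude.Def_Blocks
import Cfsg.Agent.Lib.H23.BlockCovering
import Cfsg.Agent.Lib.H23.BlockCoveringCentral
import Cfsg.Agent.Lib.H23.BlockFong
import Cfsg.Agent.Lib.H23.BlockFongIndex
import Cfsg.Agent.Lib.H23.BlockEquiv
import Cfsg.Agent.Lib.L0.BlockCover

/-!
# The block covering a block of a normal subgroup containing `C_H(Q)`, `Q` a normal `p`-subgroup (lead)

`H` a finite group, `N ⊴ H`, `Q ⊴ H` a `p`-subgroup with `C_H(Q) ≤ N`, `b` a block of `N`.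
* `overSet_orbitSet_eq_blockOf`: the irreducible characters of `H` lying over the `H`-orbit of `b`
  form a single block;
* `blockIdem_eq_orbitIdem`: its idempotent is the orbit idempotent of `b`;
* `exists_block_of_invariant`: if `b` is `H`-stable, some block of `H` has the idempotent
  coefficients of `b`;
* `blockCoeff_irrEquiv_image`: transport of idempotent coefficients along an isomorphism.
-/

set_option autoImplicit false

namespace Cfsg.Agent.Lib.L0.BlockOrbitCover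

open Cfsg MonoidAlgebra Cfsg.Agent.Lib.H23 Cfsg.Agent.Lib.H24 Cfsg.Agent.Lib.L0
open scoped ComplexConjugate

section Cover

variable {H : Type*} [Group H] [Fintype H] (N : Subgroup H) [hN : N.Normal] [Fintype N]
  {p : ℕ} {M : Ideal AlgInt}

theorem overSet_orbitSet_eq_blockOf [Fact p.Prime] (hM : IsPModular p M)
    (Q : Subgroup H) [Q.Normal] (hQ : IsPGroup p Q)
    (hC : Subgroup.centralizer (Q : Set H) ≤ N) (θ₀ : IrrCharacter N) (χ₀ : IrrCharacter H)
    (hχ₀ : classInner (fun n : N => (χ₀ : H → ℂ) n) (θ₀ : N → ℂ) ≠ 0) :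
    overSet N (orbitSet N (blockOf M (θ₀ : N → ℂ))) = blockOf M (χ₀ : H → ℂ) := by
  classical
  haveI hPr := isPrime_of_isPModular hM
  have h0 := isInducedBlock_of_covers_of_centralizer_le hM Q hQ N hC θ₀ χ₀
    ⟨χ₀, mem_blockOf_self χ₀, θ₀, mem_blockOf_self θ₀, hχ₀⟩
  apply Set.Subset.antisymm
  · rintro χ ⟨θ, ⟨g, hg⟩, hcon⟩
    have h1 : classInner (fun n : N => (χ : H → ℂ) n) (conjIrr N θ g : N → ℂ) ≠ 0 := by
      have h2 := BlockCover.classInner_conjChar N (irr_isClassFunction χ) (θ : N → ℂ) g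
      have h3 : conjChar N (θ : N → ℂ) g = (conjIrr N θ g : N → ℂ) := rfl
      rw [h3] at h2
      rw [h2]
      exact hcon
    have h4 := isInducedBlock_of_covers_of_centralizer_le hM Q hQ N hC θ₀ χ
      ⟨χ, mem_blockOf_self χ, conjIrr N θ g, hg, h1⟩
    have h5 : blockOf M (χ₀ : H → ℂ) = blockOf M (χ : H → ℂ) := isInducedBlock_unique N h0 h4
    rw [h5]
    exact mem_blockOf_self χ
  · intro χ' hχ'
    obtain ⟨ψ, hψ⟩ := exists_constituent_restrict N χ'
    have h1 := omega_orbitIdem N (blockOf M (θ₀ : N → ℂ)) χ₀ θ₀ hχ₀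
    rw [if_pos (subset_orbitSet N _ (mem_blockOf_self θ₀))] at h1
    have h2 := omega_orbitIdem N (blockOf M (θ₀ : N → ℂ)) χ' ψ hψ
    have h3 := omega_sub_memLocalIdeal hχ' (orbitIdem_mem_center N _)
      (orbitIdem_mem_intCoeff N hM θ₀)
    rw [h1, h2] at h3
    by_contra hcon
    have h4 : ψ ∉ orbitSet N (blockOf M (θ₀ : N → ℂ)) := fun h => hcon ⟨ψ, h, hψ⟩
    rw [if_neg h4, sub_zero] at h3
    exact not_memLocalIdeal_one h3

theorem blockIdem_eq_orbitIdem [Fact p.Prime] (hM : IsPModular p M)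
    (Q : Subgroup H) [Q.Normal] (hQ : IsPGroup p Q)
    (hC : Subgroup.centralizer (Q : Set H) ≤ N) (θ₀ : IrrCharacter N) (χ₀ : IrrCharacter H)
    (hχ₀ : classInner (fun n : N => (χ₀ : H → ℂ) n) (θ₀ : N → ℂ) ≠ 0) :
    blockIdem (blockOf M (χ₀ : H → ℂ)) = orbitIdem N (blockOf M (θ₀ : N → ℂ)) := by
  classical
  haveI hPr := isPrime_of_isPModular hM
  rw [← overSet_orbitSet_eq_blockOf N hM Q hQ hC θ₀ χ₀ hχ₀]
  refine eq_of_forall_omega_eq (blockIdem_mem_center _) (orbitIdem_mem_center N _) fun χ => ?_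
  rw [omega_blockIdem]
  obtain ⟨ψ, hψ⟩ := exists_constituent_restrict N χ
  rw [omega_orbitIdem N _ χ ψ hψ]
  by_cases h : ψ ∈ orbitSet N (blockOf M (θ₀ : N → ℂ))
  · rw [if_pos h, if_pos ⟨ψ, h, hψ⟩]
  · rw [if_neg h, if_neg]
    rintro ⟨θ, hθ, hcon⟩
    -- `θ` and `ψ` are both constituents of `χ|_N`: they are conjugate
    apply h
    obtain ⟨g, hg⟩ := exists_conj_mem_of_sameBlock N hM χ χ (sameBlock_refl _) θ ψ hcon hψ
    obtain ⟨k, hk⟩ := hθ
    refine ⟨g * k, ?_⟩
    have h1 : conjIrr N ψ (g * k) = conjIrr N (conjIrr N ψ g) k := by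
      rw [conjIrr_conjIrr]
    rw [h1]
    exact sameBlock_trans hk (sameBlock_conjIrr N hg k)

/-- If `b` is `H`-stable, some block of `H` has the idempotent coefficients of `b`. -/
theorem exists_block_of_invariant [Fact p.Prime] (hM : IsPModular p M)
    (Q : Subgroup H) [Q.Normal] (hQ : IsPGroup p Q)
    (hC : Subgroup.centralizer (Q : Set H) ≤ N) (θ₀ : IrrCharacter N)
    (hinv : ∀ g : H, ∀ θ ∈ blockOf M (θ₀ : N → ℂ), conjIrr N θ g ∈ blockOf M (θ₀ : N → ℂ)) :
    ∃ χ₀ : IrrCharacter H, ∀ g : H, blockCoeff (blockOf M (χ₀ : H → ℂ)) g =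
      subgroupBlockCoeff N (blockOf M (θ₀ : N → ℂ)) g := by
  classical
  obtain ⟨χ₀, hχ₀⟩ := exists_irr_over_restrict N θ₀
  refine ⟨χ₀, fun g => ?_⟩
  have h1 := blockIdem_eq_orbitIdem N hM Q hQ hC θ₀ χ₀ hχ₀
  have h2 := congrArg (fun z : MonoidAlgebra ℂ H => z.coeff g) h1
  simp only [coeff_blockIdem] at h2
  rw [h2, orbitIdem, orbitSet_eq_of_invariant N _ hinv]
  unfold subgroupBlockCoeff
  by_cases hg : g ∈ N
  · rw [coeff_extAlg_of_mem N _ hg, coeff_blockIdem, dif_pos hg]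
  · rw [coeff_extAlg_of_not_mem N _ hg, dif_neg hg]

end Cover

section Transport

variable {A B : Type*} [Group A] [Group B] (e : A ≃* B)

/-- Transport of idempotent coefficients along an isomorphism. -/
theorem blockCoeff_irrEquiv_image (f : Set (IrrCharacter B)) (a : A) :
    blockCoeff (irrEquiv e '' f) a = blockCoeff f (e a) := by
  unfold blockCoeff
  rw [Nat.card_congr e.toEquiv]
  congr 1
  rw [finsum_mem_image (fun x _ y _ h => (irrEquiv e).injective h)]
  refine finsum_congr fun θ => ?_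
  refine finsum_congr fun _ => ?_
  rw [irrEquiv_apply, irrEquiv_apply, map_one]

theorem isPBlock_irrEquiv_image {M : Ideal AlgInt} {f : Set (IrrCharacter B)}
    (hf : IsPBlock M f) : IsPBlock M (irrEquiv e '' f) := by
  obtain ⟨θ, rfl⟩ := hf
  refine ⟨irrEquiv e θ, ?_⟩
  ext φ
  constructor
  · rintro ⟨ψ, hψ, rfl⟩
    exact (irrEquiv_mem_blockOf_iff e θ ψ).2 hψ
  · intro hφ
    refine ⟨(irrEquiv e).symm φ, ?_, Equiv.apply_symm_apply _ _⟩
    have : irrEquiv e ((irrEquiv e).symm φ) ∈ blockOf M (irrEquiv e θ : A → ℂ) := by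
      rw [Equiv.apply_symm_apply]; exact hφ
    exact (irrEquiv_mem_blockOf_iff e θ _).1 this

end Transport

end Cfsg.Agent.Lib.L0.BlockOrbitCover
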