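import Mathlib
import Cfsg.Prelude.Def_BlockRank
import Cfsg.Agent.Lib.H23.BlockOrth
import Cfsg.Agent.Lib.H23.BlockIdem
import Cfsg.Agent.Lib.H24.CharOrth

/-!
# The `p`-regular rank of a block as a trace (lead)

* `inner0 p φ ψ`: the inner product of `φ` and `ψ` restricted to the `p`-regular elements;
* `pRegularPart_eq_sum`: for `ξ'` in the block `b`: `ξ'⁰ = ∑_{ξ ∈ b} ⟨ξ', ξ⟩⁰ ξ⁰`;
* `sum_inner0_eq_blockRank`: `∑_{ξ ∈ b} ⟨ξ, ξ⟩⁰ = l(b)`.
-/

set_option autoImplicit false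

namespace Cfsg.Agent.Lib.L0.BlockRankTrace

open Cfsg Cfsg.Agent.Lib.H23 Cfsg.Agent.Lib.H24
open scoped ComplexConjugate

variable {K : Type*} [Group K] [Fintype K]

/-- The inner product on the `p`-regular elements. -/
noncomputable def inner0 (p : ℕ) (φ ψ : K → ℂ) : ℂ :=
  (Nat.card K : ℂ)⁻¹ * ∑ s : K, if p ∣ orderOf s then 0 else φ s * conj (ψ s)

theorem pRegularPart_apply (p : ℕ) (χ : K → ℂ) (g : K) :
    pRegularPart p χ g = if p ∣ orderOf g then 0 else χ g := by
  unfold pRegularPart IsPRegular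
  by_cases h : p ∣ orderOf g
  · rw [if_pos h, if_neg (not_not.mpr h)]
  · rw [if_neg h, if_pos h]

theorem pRegularPart_isClassFunction (p : ℕ) {χ : K → ℂ} (hχ : IsClassFunction K χ) :
    IsClassFunction K (pRegularPart p χ) := by
  intro g h
  have h1 : orderOf (h * g * h⁻¹) = orderOf g := (MulAut.conj h).orderOf_eq g
  rw [pRegularPart_apply, pRegularPart_apply, h1, hχ g h]

theorem classInner_pRegularPart (p : ℕ) (φ ψ : K → ℂ) :
    classInner (pRegularPart p φ) ψ = inner0 p φ ψ := by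
  unfold classInner inner0
  congr 1
  refine Finset.sum_congr rfl fun s _ => ?_
  rw [pRegularPart_apply]
  split_ifs
  · rw [zero_mul]
  · rfl

theorem inner0_pRegularPart_left (p : ℕ) (φ ψ : K → ℂ) :
    inner0 p (pRegularPart p φ) ψ = inner0 p φ ψ := by
  unfold inner0
  congr 1
  refine Finset.sum_congr rfl fun s _ => ?_
  rw [pRegularPart_apply]
  split_ifs <;> rfl

/-- `pRegularPart` as a linear map. -/
noncomputable def pRegL (p : ℕ) : (K → ℂ) →ₗ[ℂ] (K → ℂ) where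
  toFun := pRegularPart p
  map_add' f g := by
    funext s
    simp only [pRegularPart_apply, Pi.add_apply]
    split_ifs <;> simp
  map_smul' c f := by
    funext s
    simp only [pRegularPart_apply, Pi.smul_apply, RingHom.id_apply, smul_eq_mul]
    split_ifs <;> simp

@[simp] theorem pRegL_apply (p : ℕ) (f : K → ℂ) : pRegL p f = pRegularPart p f := rfl

theorem pRegularPart_idem (p : ℕ) (f : K → ℂ) :
    pRegularPart p (pRegularPart p f) = pRegularPart p f := by
  funext s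
  simp only [pRegularPart_apply]
  split_ifs <;> rfl

/-- `f ↦ ⟨f, ψ⟩⁰` as a linear functional. -/
noncomputable def inner0L (p : ℕ) (ψ : K → ℂ) : (K → ℂ) →ₗ[ℂ] ℂ where
  toFun f := inner0 p f ψ
  map_add' f g := by
    unfold inner0
    rw [← mul_add, ← Finset.sum_add_distrib]
    congr 1
    refine Finset.sum_congr rfl fun s _ => ?_
    split_ifs
    · simp
    · simp only [Pi.add_apply]; ring
  map_smul' c f := by
    unfold inner0
    simp only [RingHom.id_apply, smul_eq_mul]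
    have h : ∀ s : K, (if p ∣ orderOf s then (0 : ℂ) else (c • f) s * conj (ψ s)) =
        c * (if p ∣ orderOf s then (0 : ℂ) else f s * conj (ψ s)) := by
      intro s
      split_ifs
      · simp
      · simp only [Pi.smul_apply, smul_eq_mul]; ring
    simp only [h, ← Finset.mul_sum]
    ring

@[simp] theorem inner0L_apply (p : ℕ) (ψ f : K → ℂ) : inner0L p ψ f = inner0 p f ψ := rfl

variable {p : ℕ} {M : Ideal AlgInt}

/-- For `ξ'` in the block `b`: `ξ'⁰ = ∑_{ξ ∈ b} ⟨ξ', ξ⟩⁰ ξ⁰`. -/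
theorem pRegularPart_eq_sum (hM : IsPModular p M) (ξ₀ : IrrCharacter K)
    [Fintype (IrrCharacter K)] [DecidablePred (· ∈ blockOf M (ξ₀ : K → ℂ))]
    {ξ' : IrrCharacter K} (hξ' : ξ' ∈ blockOf M (ξ₀ : K → ℂ)) :
    pRegularPart p (ξ' : K → ℂ) = ∑ ξ ∈ Finset.univ.filter (· ∈ blockOf M (ξ₀ : K → ℂ)),
      inner0 p (ξ' : K → ℂ) (ξ : K → ℂ) • pRegularPart p (ξ : K → ℂ) := by
  haveI hPr := isPrime_of_isPModular hM
  have hcf : IsClassFunction K (pRegularPart p (ξ' : K → ℂ)) :=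
    pRegularPart_isClassFunction p (irr_isClassFunction ξ')
  have h1 := classFunction_expansion _ hcf
  simp only [classInner_pRegularPart] at h1
  have h2 : ∑ ξ : IrrCharacter K, inner0 p (ξ' : K → ℂ) (ξ : K → ℂ) • (ξ : K → ℂ) =
      ∑ ξ ∈ Finset.univ.filter (· ∈ blockOf M (ξ₀ : K → ℂ)),
        inner0 p (ξ' : K → ℂ) (ξ : K → ℂ) • (ξ : K → ℂ) := by
    rw [Finset.sum_filter]
    refine Finset.sum_congr rfl fun ξ _ => ?_
    split_ifs with h
    · rfl
    · have hns : ¬ SameBlock M (ξ' : K → ℂ) (ξ : K → ℂ) := fun hs =>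
        h (sameBlock_trans hξ' hs)
      unfold inner0
      rw [sum_pRegular_mul_conj_eq_zero hM ξ' ξ hns, mul_zero, zero_smul]
  rw [h2] at h1
  have h3 := congrArg (pRegL p) h1
  rw [pRegL_apply, pRegularPart_idem, map_sum] at h3
  rw [h3]
  refine Finset.sum_congr rfl fun ξ _ => ?_
  rw [map_smul, pRegL_apply]

/-- `∑_{ξ ∈ b} ⟨ξ, ξ⟩⁰ = l(b)`. -/
theorem sum_inner0_eq_blockRank (hM : IsPModular p M) (ξ₀ : IrrCharacter K)
    [Fintype (IrrCharacter K)] [DecidablePred (· ∈ blockOf M (ξ₀ : K → ℂ))] :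
    ∑ ξ ∈ Finset.univ.filter (· ∈ blockOf M (ξ₀ : K → ℂ)),
      inner0 p (ξ : K → ℂ) (ξ : K → ℂ) = (blockRank p (blockOf M (ξ₀ : K → ℂ)) : ℂ) := by
  set bf := Finset.univ.filter (· ∈ blockOf M (ξ₀ : K → ℂ)) with hbf
  set V : Submodule ℂ (K → ℂ) :=
    Submodule.span ℂ ((fun χ : IrrCharacter K => pRegularPart p (χ : K → ℂ)) ''
      blockOf M (ξ₀ : K → ℂ)) with hV
  set T : (K → ℂ) →ₗ[ℂ] (K → ℂ) :=
    ∑ ξ ∈ bf, (inner0L p (ξ : K → ℂ)).smulRight (pRegularPart p (ξ : K → ℂ)) with hT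
  have hTapply : ∀ f : K → ℂ, T f = ∑ ξ ∈ bf, inner0 p f (ξ : K → ℂ) •
      pRegularPart p (ξ : K → ℂ) := by
    intro f
    rw [hT, LinearMap.sum_apply]
    rfl
  have hproj : LinearMap.IsProj V T := by
    refine ⟨fun f => ?_, fun f hf => ?_⟩
    · rw [hTapply]
      refine Submodule.sum_mem _ fun ξ hξ => Submodule.smul_mem _ _ (Submodule.subset_span ?_)
      exact ⟨ξ, (Finset.mem_filter.mp hξ).2, rfl⟩
    · refine Submodule.span_induction (p := fun f _ => T f = f) ?_ ?_ ?_ ?_ hf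
      · rintro _ ⟨ξ', hξ', rfl⟩
        rw [hTapply]
        simp only [inner0_pRegularPart_left]
        exact (pRegularPart_eq_sum hM ξ₀ hξ').symm
      · exact map_zero T
      · intro f g _ _ h1 h2
        rw [map_add, h1, h2]
      · intro c f _ h1
        rw [map_smul, h1]
  have h1 := hproj.trace
  rw [hT, map_sum] at h1
  simp only [LinearMap.trace_smulRight, inner0L_apply, inner0_pRegularPart_left] at h1
  rw [h1]
  rfl

end Cfsg.Agent.Lib.L0.BlockRankTrace
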