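import Cfsg.Agent.Lib.L0.FrobTI
import Cfsg.Agent.Lib.H8.Coherence
import Cfsg.Agent.Lib.H23.DegreeDvd

/-!
# Coherence for a T.I. subgroup with Frobenius normalizer (lead's library)
-/

set_option autoImplicit false

namespace Cfsg.Agent.Lib.L0

open Cfsg Cfsg.Agent.Lib.H8
open scoped ComplexConjugate

variable {G : Type*} [Group G]

/-- The normalizer of `K` (abbreviation). -/
abbrev FrobTI.nz (K : Subgroup G) : Subgroup G := Subgroup.normalizer (K : Set G)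

/-- The coherence hypotheses of S0852/S0853. -/
structure FrobTI.Coh [Fintype G] (K : Subgroup G) [Fintype (FrobTI.nz K)]
    (S : Set (FrobTI.nz K → ℂ)) (star : (FrobTI.nz K → ℂ) → (G → ℂ)) : Prop where
  hS : S = {χ : FrobTI.nz K → ℂ | IsIrrCharacter (FrobTI.nz K) χ ∧ FrobTI.Rel K χ}
  hstar : IsLinearIsometryOn (zspan S) star
  hext : ∀ α ∈ zspanOn S ({1}ᶜ : Set (FrobTI.nz K)), star α = indFun (FrobTI.nz K) α

namespace FrobTI

variable [Fintype G] {K : Subgroup G} [Fintype (nz K)]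
variable {S : Set (nz K → ℂ)} {star : (nz K → ℂ) → (G → ℂ)}

theorem Coh.mem_iff (c : Coh K S star) (χ : nz K → ℂ) :
    χ ∈ S ↔ IsIrrCharacter (nz K) χ ∧ Rel K χ := by
  rw [c.hS]; rfl

theorem zsmul_fun_apply {X : Type*} (n : ℤ) (f : X → ℂ) (x : X) : (n • f) x = (n : ℂ) * f x := by
  simp

/-- The basic degree-zero combination. -/
def base (χ ξ : nz K → ℂ) (a b : ℕ) : nz K → ℂ := (b : ℤ) • χ - (a : ℤ) • ξ

theorem base_apply (χ ξ : nz K → ℂ) (a b : ℕ) (x : nz K) :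
    base χ ξ a b x = (b : ℂ) * χ x - (a : ℂ) * ξ x := by
  simp [base]

theorem base_mem_zspan {χ ξ : nz K → ℂ} (hχ : χ ∈ S) (hξ : ξ ∈ S) (a b : ℕ) :
    base χ ξ a b ∈ zspan S :=
  sub_mem_zspan (zsmul_mem_zspan (subset_zspan S hχ) _) (zsmul_mem_zspan (subset_zspan S hξ) _)

theorem base_mem_zspanOn {χ ξ : nz K → ℂ} (hχ : χ ∈ S) (hξ : ξ ∈ S) {a b : ℕ}
    (ha : χ 1 = a) (hb : ξ 1 = b) :
    base χ ξ a b ∈ zspanOn S ({1}ᶜ : Set (nz K)) := by
  rw [mem_zspanOn_compl_one]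
  refine ⟨base_mem_zspan hχ hξ a b, ?_⟩
  rw [base_apply, ha, hb]; ring

theorem Coh.star_base (c : Coh K S star) {χ ξ : nz K → ℂ} (hχ : χ ∈ S) (hξ : ξ ∈ S) (a b : ℕ) :
    star (base χ ξ a b) = (b : ℤ) • star χ - (a : ℤ) • star ξ := by
  unfold base
  rw [lio_sub c.hstar (isZClosed_zspan S) (zsmul_mem_zspan (subset_zspan S hχ) _)
    (zsmul_mem_zspan (subset_zspan S hξ) _),
    lio_zsmul c.hstar (subset_zspan S hχ), lio_zsmul c.hstar (subset_zspan S hξ)]

theorem base_isClassFunction {χ ξ : nz K → ℂ} (hχ : IsIrrCharacter (nz K) χ)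
    (hξ : IsIrrCharacter (nz K) ξ) (a b : ℕ) : IsClassFunction (nz K) (base χ ξ a b) := by
  intro x y
  rw [base_apply, base_apply,
    isClassFunction_of_isCharacter (isCharacter_of_irr hχ) x y,
    isClassFunction_of_isCharacter (isCharacter_of_irr hξ) x y]

theorem Coh.base_vanish (h : FrobTI K) (c : Coh K S star) {χ ξ : nz K → ℂ} (hχ : χ ∈ S)
    (hξ : ξ ∈ S) (a b : ℕ) (x : nz K) (hx : (x : G) ∉ K) : base χ ξ a b x = 0 := by
  obtain ⟨hχ1, hχ2⟩ := (c.mem_iff χ).mp hχ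
  obtain ⟨hξ1, hξ2⟩ := (c.mem_iff ξ).mp hξ
  rw [base_apply, h.vanish hχ1 hχ2 x hx, h.vanish hξ1 hξ2 x hx]; ring

/-- On `N`, the induced function of a base combination is the combination itself. -/
theorem Coh.ind_base_apply (h : FrobTI K) (hlt : K < nz K) (c : Coh K S star) {χ ξ : nz K → ℂ}
    (hχ : χ ∈ S) (hξ : ξ ∈ S) {a b : ℕ} (ha : χ 1 = a) (hb : ξ 1 = b) (x : nz K) :
    indFun (nz K) (base χ ξ a b) x = base χ ξ a b x := by
  obtain ⟨hχ1, -⟩ := (c.mem_iff χ).mp hχ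
  obtain ⟨hξ1, -⟩ := (c.mem_iff ξ).mp hξ
  have := (Cfsg.Agent.S0850.result K h.hTI hlt h.hC).2 (base χ ξ a b)
    (base_isClassFunction hχ1 hξ1 a b) (c.base_vanish h hχ hξ a b)
    (by rw [base_apply, ha, hb]; ring) x
  exact this

/-- Claim A: the defects `star χ - χ` on `K ∖ {1}` are proportional to the degrees. -/
theorem Coh.delta_prop (h : FrobTI K) (hlt : K < nz K) (c : Coh K S star) {χ ξ : nz K → ℂ}
    (hχ : χ ∈ S) (hξ : ξ ∈ S) {a b : ℕ} (ha : χ 1 = a) (hb : ξ 1 = b) (x : nz K) :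
    (b : ℂ) * (star χ x - χ x) = (a : ℂ) * (star ξ x - ξ x) := by
  have h1 := c.hext _ (base_mem_zspanOn hχ hξ ha hb)
  rw [c.star_base hχ hξ a b] at h1
  have h2 := congrFun h1 (x : G)
  rw [c.ind_base_apply h hlt hχ hξ ha hb x, base_apply] at h2
  rw [Pi.sub_apply, zsmul_fun_apply, zsmul_fun_apply] at h2
  push_cast at h2
  linear_combination h2

/-- Frobenius reciprocity against a base combination. -/
theorem Coh.inner_restrict_base (c : Coh K S star) (θ : G → ℂ) (hθ : IsClassFunction G θ)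
    {χ ξ : nz K → ℂ} (hχ : χ ∈ S) (hξ : ξ ∈ S) {a b : ℕ} (ha : χ 1 = a) (hb : ξ 1 = b) :
    classInner (fun x : nz K => θ x) (base χ ξ a b)
      = (b : ℂ) * classInner θ (star χ) - (a : ℂ) * classInner θ (star ξ) := by
  have h1 := c.hext _ (base_mem_zspanOn hχ hξ ha hb)
  rw [← classInner_conj_symm, ← frobenius_reciprocity _ _ _ hθ, ← h1, c.star_base hχ hξ a b,
    classInner_conj_symm, classInner_sub_right, classInner_zsmul_right, classInner_zsmul_right]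
  simp

theorem classInner_base (f χ ξ : nz K → ℂ) (a b : ℕ) :
    classInner f (base χ ξ a b) = (b : ℂ) * classInner f χ - (a : ℂ) * classInner f ξ := by
  unfold base
  rw [classInner_sub_right, classInner_zsmul_right, classInner_zsmul_right]
  simp

/-- A class function of `N` orthogonal to all base combinations is constant on `K ∖ {1}`. -/
theorem Coh.const_on_of_inner_base (c : Coh K S star) (f : nz K → ℂ)
    (hf : IsClassFunction (nz K) f)
    (h0 : ∀ ζ ∈ S, ∀ ξ ∈ S, ∀ a b : ℕ, ζ 1 = a → ξ 1 = b → classInner f (base ζ ξ a b) = 0)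
    (k k' : nz K) (hk : (k : G) ∈ K) (hk1 : k ≠ 1) (hk' : (k' : G) ∈ K) (hk'1 : k' ≠ 1) :
    f k = f k' := by
  apply const_on f hf _ k k' hk hk1 hk' hk'1
  intro ζ ξ hζ hξ
  obtain ⟨a, -, ha⟩ := Cfsg.Agent.Lib.H24.irr_one_eq ζ
  obtain ⟨b, -, hb⟩ := Cfsg.Agent.Lib.H24.irr_one_eq ξ
  have hζS : (ζ : nz K → ℂ) ∈ S := (c.mem_iff _).mpr ⟨ζ.2, hζ⟩
  have hξS : (ξ : nz K → ℂ) ∈ S := (c.mem_iff _).mpr ⟨ξ.2, hξ⟩
  have := h0 _ hζS _ hξS a b ha hb
  rw [classInner_base] at this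
  rw [ha, hb]
  linear_combination this

/-- Claim B: the defect `star χ - χ` is constant on `K ∖ {1}`. -/
theorem Coh.delta_const (c : Coh K S star) {χ : nz K → ℂ} (hχ : χ ∈ S)
    (k k' : nz K) (hk : (k : G) ∈ K) (hk1 : k ≠ 1) (hk' : (k' : G) ∈ K) (hk'1 : k' ≠ 1) :
    star χ k - χ k = star χ k' - χ k' := by
  obtain ⟨hχ1, -⟩ := (c.mem_iff χ).mp hχ
  have hcf : IsClassFunction G (star χ) :=
    isClassFunction_of_isGeneralizedCharacter (lio_genChar c.hstar (subset_zspan S hχ))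
  have hf : IsClassFunction (nz K) ((fun x : nz K => star χ x) - χ) := by
    intro x y
    simp only [Pi.sub_apply]
    rw [isClassFunction_of_isCharacter (isCharacter_of_irr hχ1) x y]
    have := hcf (x : G) (y : G)
    simp only [Subgroup.coe_mul, Subgroup.coe_inv]
    rw [this]
  have := c.const_on_of_inner_base ((fun x : nz K => star χ x) - χ) hf ?_ k k' hk hk1 hk' hk'1
  · simpa using this
  · intro ζ hζ ξ hξ a b ha hb
    rw [classInner_sub_left, c.inner_restrict_base (star χ) hcf hζ hξ ha hb,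
      lio_inner c.hstar (subset_zspan S hχ) (subset_zspan S hζ),
      lio_inner c.hstar (subset_zspan S hχ) (subset_zspan S hξ), classInner_base]
    ring

/-- Rational algebraic integers are integers. -/
theorem int_of_isIntegral_of_rat {z : ℂ} (hz : IsIntegral ℤ z) (q : ℚ) (hq : z = q) :
    ∃ n : ℤ, z = n := by
  rw [hq] at hz
  have h2 : IsIntegral ℤ q := (isIntegral_algebraMap_iff (algebraMap ℚ ℂ).injective).mp hz
  obtain ⟨n, hn⟩ := IsIntegrallyClosed.isIntegral_iff.mp h2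
  exact ⟨n, by rw [hq, ← hn]; simp⟩

theorem isGeneralizedCharacter_restrict {H : Type*} [Group H] (M : Subgroup H) {θ : H → ℂ}
    (hθ : IsGeneralizedCharacter H θ) : IsGeneralizedCharacter M (fun x : M => θ x) := by
  obtain ⟨A, B, hA, hB, rfl⟩ := hθ
  exact ⟨fun x : M => A x, fun x : M => B x, isCharacter_restrict M hA, isCharacter_restrict M hB,
    rfl⟩

theorem isGeneralizedCharacter_isIntegral {H : Type*} [Group H] [Finite H] {θ : H → ℂ}
    (hθ : IsGeneralizedCharacter H θ) (x : H) : IsIntegral ℤ (θ x) := by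
  obtain ⟨A, B, hA, hB, rfl⟩ := hθ
  exact IsIntegral.sub (isCharacter_isIntegral hA x) (isCharacter_isIntegral hB x)

theorem isGeneralizedCharacter_apply_one {H : Type*} [Group H] {θ : H → ℂ}
    (hθ : IsGeneralizedCharacter H θ) : ∃ z : ℤ, θ 1 = z := by
  obtain ⟨A, B, hA, hB, rfl⟩ := hθ
  obtain ⟨n, hn⟩ := isCharacter_apply_one hA
  obtain ⟨m, hm⟩ := isCharacter_apply_one hB
  exact ⟨(n : ℤ) - m, by rw [Pi.sub_apply, hn, hm]; push_cast; ring⟩

/-- The defect at a non-identity element of `K` is a rational integer. -/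
theorem Coh.delta_int (c : Coh K S star) {χ : nz K → ℂ} (hχ : χ ∈ S)
    (k₀ : nz K) (hk₀ : (k₀ : G) ∈ K) (hk₀1 : k₀ ≠ 1) : ∃ z : ℤ, star χ k₀ - χ k₀ = z := by
  classical
  obtain ⟨hχ1, -⟩ := (c.mem_iff χ).mp hχ
  have hgen : IsGeneralizedCharacter G (star χ) := lio_genChar c.hstar (subset_zspan S hχ)
  set η : nz K → ℂ := (fun x : nz K => star χ x) - χ with hη
  have hηgen : IsGeneralizedCharacter (nz K) η :=
    isGeneralizedCharacter_sub (isGeneralizedCharacter_restrict (nz K) hgen)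
      (isGeneralizedCharacter_of_isCharacter (isCharacter_of_irr hχ1))
  set KN := K.subgroupOf (nz K) with hKN
  have : Fintype KN := Fintype.ofFinite _
  have hηK : IsGeneralizedCharacter KN (fun y : KN => η y) := isGeneralizedCharacter_restrict KN hηgen
  obtain ⟨z₁, hz₁⟩ := genChar_classInner_irr_int hηK (isIrrCharacter_one (G := KN))
  obtain ⟨z₂, hz₂⟩ := isGeneralizedCharacter_apply_one hηgen
  set d := star χ k₀ - χ k₀ with hd
  have hconst : ∀ y : KN, y ≠ 1 → η y = d := by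
    intro y hy
    have hy' : (y : nz K) ≠ 1 := fun h1 => hy (Subtype.ext h1)
    have := c.delta_const hχ (y : nz K) k₀ (Subgroup.mem_subgroupOf.mp y.2) hy' hk₀ hk₀1
    simpa [hη] using this
  have hsum : ∑ y : KN, (η y - d) = η 1 - d := by
    rw [Finset.sum_eq_single (1 : KN)]
    · rfl
    · intro y _ hy
      rw [hconst y hy, sub_self]
    · intro h; exact absurd (Finset.mem_univ _) h
  have hcard : (Nat.card KN : ℂ) ≠ 0 := by exact_mod_cast (Nat.card_pos (α := KN)).ne'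
  have hinner : (Nat.card KN : ℂ) * (z₁ : ℂ) = ∑ y : KN, η y := by
    rw [← hz₁]
    unfold classInner
    rw [← mul_assoc, mul_inv_cancel₀ hcard, one_mul]
    refine Finset.sum_congr rfl fun y _ => ?_
    simp
  have hsum2 : ∑ y : KN, η y = (Nat.card KN : ℂ) * d + (η 1 - d) := by
    rw [← hsum, Finset.sum_sub_distrib, Finset.sum_const, Finset.card_univ, nsmul_eq_mul,
      Nat.card_eq_fintype_card]
    ring
  have hK2 : 2 ≤ Nat.card KN := by
    have : Nontrivial KN := ⟨⟨⟨k₀, Subgroup.mem_subgroupOf.mpr hk₀⟩, 1, fun h1 =>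
      hk₀1 (congrArg Subtype.val h1)⟩⟩
    exact Finite.one_lt_card
  have hK1 : ((Nat.card KN : ℂ) - 1) ≠ 0 := by
    have : ((Nat.card KN : ℕ) : ℂ) ≠ 1 := by
      have : Nat.card KN ≠ 1 := by omega
      exact_mod_cast this
    exact sub_ne_zero.mpr this
  have hrat : d = (((Nat.card KN : ℚ) * z₁ - z₂) / ((Nat.card KN : ℚ) - 1) : ℚ) := by
    push_cast
    rw [eq_div_iff hK1]
    rw [hsum2, hz₂] at hinner
    linear_combination -hinner
  have hint : IsIntegral ℤ d :=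
    IsIntegral.sub (isGeneralizedCharacter_isIntegral hgen _)
      (isCharacter_isIntegral (isCharacter_of_irr hχ1) _)
  exact int_of_isIntegral_of_rat hint _ hrat

/-- A relevant character is not constant on `K ∖ {1}` when there is a second relevant character. -/
theorem exists_ne_of_rel (h : FrobTI K) {χ ξ : nz K → ℂ} (hχ : IsIrrCharacter (nz K) χ)
    (hχr : Rel K χ) (hξ : IsIrrCharacter (nz K) ξ) (hξr : Rel K ξ) (hne : χ ≠ ξ) :
    ∃ k₁ k₂ : nz K, (k₁ : G) ∈ K ∧ k₁ ≠ 1 ∧ (k₂ : G) ∈ K ∧ k₂ ≠ 1 ∧ χ k₁ ≠ χ k₂ := by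
  classical
  obtain ⟨k₁, hk₁, hk₁ne⟩ := hχr
  have hk₁1 : k₁ ≠ 1 := fun h1 => hk₁ne (by rw [h1])
  by_contra hcon
  push Not at hcon
  set v := χ k₁ with hv
  have hconst : ∀ x : nz K, (x : G) ∈ K → x ≠ 1 → χ x = v := by
    intro x hx hx1
    exact (hcon k₁ x hk₁ hk₁1 hx hx1).symm
  have hsum : ∑ x : nz K, (χ x - v) * conj (ξ x) = (χ 1 - v) * conj (ξ 1) := by
    rw [Finset.sum_eq_single (1 : nz K)]
    · intro x _ hx1
      by_cases hx : (x : G) ∈ K
      · rw [hconst x hx hx1, sub_self, zero_mul]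
      · rw [h.vanish hξ hξr x hx, map_zero, mul_zero]
    · intro h1; exact absurd (Finset.mem_univ _) h1
  have h1 : classInner χ ξ = 0 := irr_classInner_ne hχ hξ hne
  have hξ1 : ξ ≠ 1 := by
    intro h1
    obtain ⟨k, _, hkne⟩ := hξr
    apply hkne; rw [h1]; rfl
  have h2 : classInner (1 : nz K → ℂ) ξ = 0 :=
    irr_classInner_ne isIrrCharacter_one hξ (fun h => hξ1 h.symm)
  have hN : (Nat.card (nz K) : ℂ) ≠ 0 := by exact_mod_cast (Nat.card_pos (α := nz K)).ne'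
  have hsum0 : ∑ x : nz K, (χ x - v) * conj (ξ x) = 0 := by
    have e1 : ∑ x : nz K, χ x * conj (ξ x) = 0 := by
      unfold classInner at h1
      exact (mul_eq_zero.mp h1).resolve_left (inv_ne_zero hN)
    have e2 : ∑ x : nz K, conj (ξ x) = 0 := by
      unfold classInner at h2
      have := (mul_eq_zero.mp h2).resolve_left (inv_ne_zero hN)
      simpa using this
    simp only [sub_mul, Finset.sum_sub_distrib, ← Finset.mul_sum, e1, e2]
    ring
  rw [hsum0] at hsum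
  obtain ⟨b, hb, hb'⟩ := Cfsg.Agent.Lib.H24.irr_one_eq ⟨ξ, hξ⟩
  simp only at hb'
  have hb0 : (b : ℂ) ≠ 0 := by exact_mod_cast hb.ne'
  rw [hb', Complex.conj_natCast] at hsum
  have : χ 1 - v = 0 := (mul_eq_zero.mp hsum.symm).resolve_right hb0
  apply hk₁ne
  linear_combination -this

/-- S0852: the irreducible characters `± star χ` are exactly those not constant on `K ∖ {1}`. -/
theorem Coh.iff_not_const (h : FrobTI K) (c : Coh K S star)
    (htwo : ∃ χ ∈ S, ∃ ξ ∈ S, χ ≠ ξ) (ψ : G → ℂ) (hψ : IsIrrCharacter G ψ) :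
    (∃ χ ∈ S, ψ = star χ ∨ ψ = -star χ) ↔
      ∃ a ∈ K, ∃ b ∈ K, a ≠ 1 ∧ b ≠ 1 ∧ ψ a ≠ ψ b := by
  classical
  have hKN : K ≤ nz K := Subgroup.le_normalizer
  constructor
  · rintro ⟨χ, hχ, hψχ⟩
    obtain ⟨hχ1, hχ2⟩ := (c.mem_iff χ).mp hχ
    -- a second member
    have hex : ∃ ξ ∈ S, χ ≠ ξ := by
      obtain ⟨χ', hχ', ξ', hξ', hne'⟩ := htwo
      by_cases h1 : χ = χ'
      · exact ⟨ξ', hξ', fun h2 => hne' (h1.symm.trans h2)⟩
      · exact ⟨χ', hχ', h1⟩
    obtain ⟨ξ, hξ, hne⟩ := hex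
    obtain ⟨hξ1, hξ2⟩ := (c.mem_iff ξ).mp hξ
    obtain ⟨k₁, k₂, hk₁, hk₁1, hk₂, hk₂1, hk⟩ := exists_ne_of_rel h hχ1 hχ2 hξ1 hξ2 hne
    have hd := c.delta_const hχ k₁ k₂ hk₁ hk₁1 hk₂ hk₂1
    refine ⟨k₁, hk₁, k₂, hk₂, fun h1 => hk₁1 (Subtype.ext h1), fun h1 => hk₂1 (Subtype.ext h1), ?_⟩
    have hstar : star χ k₁ ≠ star χ k₂ := by
      intro heq
      apply hk
      linear_combination heq - hd
    rcases hψχ with rfl | rfl
    · exact hstar
    · simp only [Pi.neg_apply]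
      intro heq
      exact hstar (neg_injective heq)
  · rintro ⟨a, ha, b, hb, ha1, hb1, hab⟩
    by_contra hcon
    push Not at hcon
    have horth : ∀ χ ∈ S, classInner ψ (star χ) = 0 := by
      intro χ hχ
      obtain ⟨hχ1, -⟩ := (c.mem_iff χ).mp hχ
      have hgen := lio_genChar c.hstar (subset_zspan S hχ)
      have hnorm : classInner (star χ) (star χ) = 1 := by
        rw [lio_inner c.hstar (subset_zspan S hχ) (subset_zspan S hχ)]
        exact irr_classInner_self hχ1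
      rcases genChar_norm_one hgen hnorm with hi | hi
      · exact irr_classInner_ne hψ hi (hcon χ hχ).1
      · have := irr_classInner_ne hψ hi (hcon χ hχ).2
        rw [classInner_neg_right] at this
        exact neg_eq_zero.mp this
    have hcf : IsClassFunction G ψ := isClassFunction_of_isCharacter (isCharacter_of_irr hψ)
    have hf : IsClassFunction (nz K) (fun x : nz K => ψ x) := by
      intro x y
      have := hcf (x : G) (y : G)
      simp only [Subgroup.coe_mul, Subgroup.coe_inv]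
      rw [this]
    have := c.const_on_of_inner_base (fun x : nz K => ψ x) hf ?_ ⟨a, hKN ha⟩ ⟨b, hKN hb⟩ ha
      (fun h1 => ha1 (congrArg Subtype.val h1)) hb (fun h1 => hb1 (congrArg Subtype.val h1))
    · exact hab this
    · intro ζ hζ ξ hξ a' b' ha' hb'
      rw [c.inner_restrict_base ψ hcf hζ hξ ha' hb', horth ζ hζ, horth ξ hξ]
      ring

/-- S0853: a single integer `m` governs all defects. -/
theorem Coh.exists_defect (h : FrobTI K) (hlt : K < nz K) (c : Coh K S star) :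
    ∃ m : ℤ, ∀ χ ∈ S, ∀ k : nz K, (k : G) ∈ K → k ≠ 1 →
      star χ k - χ k = (m : ℂ) * χ 1 / ((K.subgroupOf (nz K)).index : ℂ) := by
  classical
  by_cases hK : ∃ k₀ : nz K, (k₀ : G) ∈ K ∧ k₀ ≠ 1
  swap
  · exact ⟨0, fun χ _ k hk hk1 => absurd ⟨k, hk, hk1⟩ hK⟩
  obtain ⟨k₀, hk₀, hk₀1⟩ := hK
  by_cases hSne : ∃ χ₀, χ₀ ∈ S
  swap
  · exact ⟨0, fun χ hχ => absurd ⟨χ, hχ⟩ hSne⟩
  obtain ⟨χ₀, hχ₀⟩ := hSne
  obtain ⟨hχ₀1, hχ₀2⟩ := (c.mem_iff χ₀).mp hχ₀
  obtain ⟨a₀, ha₀pos, ha₀, ha₀dvd⟩ := Cfsg.Agent.Lib.H23.irr_apply_one_dvd_card χ₀ hχ₀1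
  have ha₀c : (a₀ : ℂ) ≠ 0 := by exact_mod_cast ha₀pos.ne'
  obtain ⟨z₀, hz₀⟩ := c.delta_int hχ₀ k₀ hk₀ hk₀1
  set cc : ℂ := (z₀ : ℂ) / a₀ with hcc
  have hprop : ∀ χ ∈ S, star χ k₀ - χ k₀ = cc * χ 1 := by
    intro χ hχ
    obtain ⟨a, -, ha⟩ := Cfsg.Agent.Lib.H24.irr_one_eq ⟨χ, ((c.mem_iff χ).mp hχ).1⟩
    simp only at ha
    have := c.delta_prop h hlt hχ hχ₀ ha ha₀ k₀
    rw [hz₀] at this
    rw [ha, hcc]; field_simp; linear_combination this
  have := Fintype.ofFinite (IrrCharacter (nz K))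
  -- integer values of the defects
  have hzf : ∀ ζ : IrrCharacter (nz K), ∃ z : ℤ, Rel K (ζ : nz K → ℂ) →
      star (ζ : nz K → ℂ) k₀ - (ζ : nz K → ℂ) k₀ = z := by
    intro ζ
    by_cases hζ : Rel K (ζ : nz K → ℂ)
    · obtain ⟨z, hz⟩ := c.delta_int ((c.mem_iff _).mpr ⟨ζ.2, hζ⟩) k₀ hk₀ hk₀1
      exact ⟨z, fun _ => hz⟩
    · exact ⟨0, fun h' => absurd h' hζ⟩
  choose zf hzf using hzf
  have hsq := sum_rel_sq (K := K)
  set e := (K.subgroupOf (nz K)).index with he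
  have he0 : (e : ℂ) ≠ 0 := by
    have : e ≠ 0 := Subgroup.index_ne_zero_of_finite
    exact_mod_cast this
  -- cc * (|N| - e) is an integer
  have hm₂ : cc * ((Nat.card (nz K) : ℂ) - (e : ℂ))
      = ((∑ ζ ∈ Finset.univ.filter (fun ζ : IrrCharacter (nz K) => Rel K (ζ : nz K → ℂ)),
          (charDegree (ζ : nz K → ℂ) : ℤ) * zf ζ : ℤ) : ℂ) := by
    rw [← hsq, Finset.mul_sum]
    push_cast
    refine Finset.sum_congr rfl fun ζ hζ => ?_
    have hζ' : Rel K (ζ : nz K → ℂ) := (Finset.mem_filter.mp hζ).2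
    rw [← hzf ζ hζ', hprop _ ((c.mem_iff _).mpr ⟨ζ.2, hζ'⟩),
      ← Cfsg.Agent.Lib.H23.apply_one_eq_charDegree _ ζ.2]
    ring
  -- cc * |N| is an integer
  obtain ⟨q, hq⟩ := ha₀dvd
  have hm₁ : cc * (Nat.card (nz K) : ℂ) = ((z₀ * (q : ℤ) : ℤ) : ℂ) := by
    rw [hq, hcc]; push_cast; field_simp
  refine ⟨z₀ * (q : ℤ) - ∑ ζ ∈ Finset.univ.filter (fun ζ : IrrCharacter (nz K) =>
      Rel K (ζ : nz K → ℂ)), (charDegree (ζ : nz K → ℂ) : ℤ) * zf ζ, ?_⟩
  intro χ hχ k hk hk1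
  have hm : ((z₀ * (q : ℤ) - ∑ ζ ∈ Finset.univ.filter (fun ζ : IrrCharacter (nz K) =>
      Rel K (ζ : nz K → ℂ)), (charDegree (ζ : nz K → ℂ) : ℤ) * zf ζ : ℤ) : ℂ) = cc * e := by
    rw [Int.cast_sub, ← hm₁, ← hm₂]; ring
  rw [hm, c.delta_const hχ k k₀ hk hk1 hk₀ hk₀1, hprop χ hχ]
  field_simp

end FrobTI

end Cfsg.Agent.Lib.L0
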