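import Mathlib
import Cfsg.Agent.Lib.L0.PRegCong

/-!
# Congruences of character values modulo `p` (lead)

Versions of the lemmas of `PRegCong` for the ideal `(p)` of the ring of algebraic integers
(rather than a maximal ideal over `p`), and existence of a maximal ideal over `p`.
-/

set_option autoImplicit false

namespace Cfsg.Agent.Lib.L0.PRegP

open Cfsg Cfsg.Agent.Lib.H23 Cfsg.Agent.Lib.L0.PReg

variable {p : ℕ}

/-- A prime number is not a unit in the ring of algebraic integers. -/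
theorem natCast_mem_nonunits (hp : p.Prime) : (p : AlgInt) ∈ nonunits AlgInt := by
  intro hu
  obtain ⟨u, hu⟩ := hu.exists_right_inv
  have h1 : (p : ℂ) * (u : ℂ) = 1 := by
    have := congrArg (fun a : AlgInt => (a : ℂ)) hu
    simpa using this
  have hp0 : (p : ℂ) ≠ 0 := Nat.cast_ne_zero.2 hp.ne_zero
  have h2 : (u : ℂ) = algebraMap ℚ ℂ ((p : ℚ)⁻¹) := by
    rw [map_inv₀, map_natCast]
    field_simp
    rw [mul_comm]; exact h1
  have h3 : IsIntegral ℤ (algebraMap ℚ ℂ ((p : ℚ)⁻¹)) := h2 ▸ u.2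
  have h4 : IsIntegral ℤ ((p : ℚ)⁻¹) :=
    (isIntegral_algebraMap_iff (algebraMap ℚ ℂ).injective).mp h3
  obtain ⟨y, hy⟩ := IsIntegrallyClosed.isIntegral_iff.mp h4
  have hpq : (p : ℚ) ≠ 0 := Nat.cast_ne_zero.2 hp.ne_zero
  have h5 : (p : ℚ) * (y : ℚ) = 1 := by
    have : (algebraMap ℤ ℚ y) = (y : ℚ) := rfl
    rw [this] at hy
    rw [hy]; field_simp
  have h6 : (p : ℤ) * y = 1 := by exact_mod_cast h5
  have h7 : (p : ℤ) ∣ 1 := ⟨y, h6.symm⟩
  have h8 : p ∣ 1 := by exact_mod_cast h7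
  exact hp.one_lt.ne' (Nat.dvd_one.mp h8)

/-- There is a maximal ideal of the algebraic integers over every prime. -/
theorem exists_isPModular (hp : p.Prime) : ∃ M : Ideal AlgInt, IsPModular p M := by
  have hne : Ideal.span ({(p : AlgInt)} : Set AlgInt) ≠ ⊤ := by
    rw [Ne, Ideal.span_singleton_eq_top]
    exact natCast_mem_nonunits hp
  obtain ⟨M, hM, hle⟩ := Ideal.exists_le_maximal _ hne
  exact ⟨M, hp, hM, hle (Ideal.mem_span_singleton_self _)⟩

/-- The ideal `(p)` of the algebraic integers. -/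
noncomputable abbrev pIdeal (p : ℕ) : Ideal AlgInt := Ideal.span ({(p : AlgInt)} : Set AlgInt)

theorem charP_quot_pIdeal (hp : p.Prime) : CharP (AlgInt ⧸ pIdeal p) p := by
  haveI : Fact p.Prime := ⟨hp⟩
  exact CharP.quotient AlgInt p (natCast_mem_nonunits hp)

theorem sum_pow_sub_mem_pIdeal (hp : p.Prime) {ι : Type*} (s : Finset ι) (d : ι → ℕ)
    (μ : ι → AlgInt) (k : ℕ) :
    (∑ i ∈ s, (d i : AlgInt) * μ i) ^ (p ^ k) - ∑ i ∈ s, (d i : AlgInt) * (μ i) ^ (p ^ k) ∈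
      pIdeal p := by
  have := charP_quot_pIdeal hp
  have : Fact p.Prime := ⟨hp⟩
  rw [← Ideal.Quotient.eq_zero_iff_mem, map_sub, map_pow, sub_eq_zero,
    ← iterateFrobenius_def, map_sum, map_sum, map_sum]
  refine Finset.sum_congr rfl fun i _ => ?_
  rw [map_mul, map_mul, map_natCast, map_mul, map_natCast, map_natCast, map_pow, iterateFrobenius_def]

variable {G : Type*} [Group G] [Finite G]

/-- `χ(g)^(p^k) ≡ χ(g^(p^k))` modulo `p` (in the ring of algebraic integers). -/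
theorem char_pow_congr_pIdeal (hp : p.Prime) {χ : G → ℂ} (hχ : IsCharacter G χ) (g : G)
    (k : ℕ) :
    ∃ A B : AlgInt, (A : ℂ) = χ g ∧ (B : ℂ) = χ (g ^ (p ^ k)) ∧ A ^ (p ^ k) - B ∈ pIdeal p := by
  classical
  obtain ⟨n, ρ, rfl⟩ := hχ
  set f : Module.End ℂ (Fin n → ℂ) := ρ g with hf
  have hm : 0 < orderOf g := orderOf_pos g
  have hfm : f ^ orderOf g = 1 := by rw [hf, ← map_pow, pow_orderOf_eq_one, map_one]
  have hss := isSemisimple_of_pow_eq_one hm hfm
  have hμ : ∀ μ : f.Eigenvalues, IsIntegral ℤ (μ : ℂ) := fun μ =>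
    ⟨Polynomial.X ^ orderOf g - 1, Polynomial.monic_X_pow_sub_C 1 hm.ne', by
      simp [eigenvalue_pow_eq_one hfm μ]⟩
  let μ' : f.Eigenvalues → AlgInt := fun μ => ⟨(μ : ℂ), hμ μ⟩
  refine ⟨∑ μ : f.Eigenvalues, ((Module.finrank ℂ (f.eigenspace (μ : ℂ)) : ℕ) : AlgInt) * μ' μ,
    ∑ μ : f.Eigenvalues, ((Module.finrank ℂ (f.eigenspace (μ : ℂ)) : ℕ) : AlgInt) * (μ' μ) ^ (p ^ k), ?_, ?_,
    sum_pow_sub_mem_pIdeal hp _ _ _ k⟩
  · have h1 := trace_pow_eq_sum hss 1
    simp only [pow_one] at h1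
    push_cast
    exact h1.symm
  · have h1 := trace_pow_eq_sum hss (p ^ k)
    push_cast
    rw [← h1, hf, ← map_pow]
    rfl

end Cfsg.Agent.Lib.L0.PRegP
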