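import Mathlib
import Cfsg.Agent.Lib.H23.BlockOrth
import Cfsg.Agent.Lib.H23.BlockVanish
import Cfsg.Agent.Lib.L0.BlockHeight
import Cfsg.Agent.Lib.L0.BlockMinMax
import Cfsg.Agent.Lib.L0.CharIndChar

/-!
# The class functions `χ̃ = p^a χ` on `p`-regular elements, `0` on `p`-singular ones (lead)

* `tilde p θ`, `AA p χ ψ = [χ̃, ψ]`;
* `AA_eq_zero_of_not_sameBlock`;
* `regElt p ψ` (the central element `∑_{x p-regular} conj ψ(x) x`), `AA_mul_ordCompl`;
* `sylowPerm P` (permutation character on the cosets of a Sylow `p`-subgroup), its multiplicities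
  `sylowMult`, and `sum_sylowMult_mul_AA : ∑_χ λ_χ [χ̃, ψ] = ψ(1)`;
* `sum_AA_mul_degree : ∑_{ψ} [χ̃, ψ] ψ(1) = p^a χ(1)`.
-/

set_option autoImplicit false

namespace Cfsg.Agent.Lib.L0.Tilde

open Cfsg Cfsg.Agent.Lib.H23 Cfsg.Agent.Lib.H24 Cfsg.Agent.Lib.L0
open scoped ComplexConjugate

variable {G : Type*} [Group G] [Fintype G]

/-- `p^a θ` on `p`-regular elements and `0` on `p`-singular elements. -/
noncomputable def tilde (p : ℕ) (θ : G → ℂ) : G → ℂ :=
  fun x => if p ∣ orderOf x then 0 else ((p ^ (Nat.card G).factorization p : ℕ) : ℂ) * θ x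

theorem tilde_isClassFunction (p : ℕ) {θ : G → ℂ} (hθ : IsClassFunction G θ) :
    IsClassFunction G (tilde p θ) := by
  intro g h
  have h1 : orderOf (h * g * h⁻¹) = orderOf g := (MulAut.conj h).orderOf_eq g
  simp only [tilde, h1, hθ g h]

theorem tilde_sum (p : ℕ) {ι : Type*} (s : Finset ι) (c : ι → ℂ) (f : ι → G → ℂ) :
    tilde p (∑ i ∈ s, c i • f i) = ∑ i ∈ s, c i • tilde p (f i) := by
  funext x
  simp only [tilde, Finset.sum_apply, Pi.smul_apply, smul_eq_mul]
  split_ifs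
  · simp
  · rw [Finset.mul_sum]
    refine Finset.sum_congr rfl fun i _ => ?_
    ring

/-- The inner product `[χ̃, ψ]`. -/
noncomputable def AA (p : ℕ) (χ ψ : G → ℂ) : ℂ := classInner (tilde p χ) ψ

theorem AA_eq (p : ℕ) (χ ψ : G → ℂ) :
    AA p χ ψ = ((p ^ (Nat.card G).factorization p : ℕ) : ℂ) * (Nat.card G : ℂ)⁻¹ *
      ∑ x : G, (if p ∣ orderOf x then 0 else χ x * conj (ψ x)) := by
  unfold AA classInner tilde
  have : ∑ g : G, (if p ∣ orderOf g then (0 : ℂ) else
      ((p ^ (Nat.card G).factorization p : ℕ) : ℂ) * χ g) * conj (ψ g) =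
      ((p ^ (Nat.card G).factorization p : ℕ) : ℂ) *
        ∑ x : G, (if p ∣ orderOf x then 0 else χ x * conj (ψ x)) := by
    rw [Finset.mul_sum]
    refine Finset.sum_congr rfl fun x _ => ?_
    by_cases h : p ∣ orderOf x
    · rw [if_pos h, if_pos h, zero_mul, mul_zero]
    · rw [if_neg h, if_neg h, mul_assoc]
  rw [this]
  ring

variable {p : ℕ} {M : Ideal AlgInt}

theorem AA_eq_zero_of_not_sameBlock (hM : IsPModular p M) (χ ψ : IrrCharacter G)
    (h : ¬ SameBlock M (χ : G → ℂ) (ψ : G → ℂ)) : AA p (χ : G → ℂ) (ψ : G → ℂ) = 0 := by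
  rw [AA_eq, sum_pRegular_mul_conj_eq_zero hM χ ψ h, mul_zero]

/-- The central element `∑_{x p-regular} conj ψ(x) x`. -/
noncomputable def regElt (p : ℕ) (ψ : G → ℂ) : MonoidAlgebra ℂ G :=
  ofFun (fun x => if p ∣ orderOf x then 0 else conj (ψ x))

theorem regElt_mem_center (p : ℕ) {ψ : G → ℂ} (hψ : IsClassFunction G ψ) :
    regElt p ψ ∈ Subalgebra.center ℂ (MonoidAlgebra ℂ G) := by
  refine mem_center_of_classFunction fun g h => ?_
  have h1 : orderOf (h * g * h⁻¹) = orderOf g := (MulAut.conj h).orderOf_eq g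
  simp only [regElt, coeff_ofFun, h1, hψ g h]

theorem regElt_mem_intCoeff [M.IsPrime] (p : ℕ) (ψ : IrrCharacter G) :
    regElt p (ψ : G → ℂ) ∈ intCoeff (G := G) M := by
  intro g
  simp only [regElt, coeff_ofFun]
  split_ifs
  · exact memLocalRing_zero (Ideal.IsPrime.ne_top ‹_›)
  · exact isIntegral_mem_localRing (isIntegral_conj (irr_isIntegral ψ g))

theorem AA_mul_card (p : ℕ) (χ ψ : G → ℂ) :
    AA p χ ψ * (Nat.card G : ℂ) =
      ((p ^ (Nat.card G).factorization p : ℕ) : ℂ) * charEval χ (regElt p ψ) := by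
  have hG : (Nat.card G : ℂ) ≠ 0 := by exact_mod_cast (Nat.card_pos (α := G)).ne'
  rw [AA_eq, regElt, charEval_ofFun]
  have : ∑ x : G, (if p ∣ orderOf x then 0 else χ x * conj (ψ x)) =
      ∑ g : G, (if p ∣ orderOf g then 0 else conj (ψ g)) * χ g := by
    refine Finset.sum_congr rfl fun x _ => ?_
    split_ifs
    · simp
    · ring
  rw [this]
  field_simp

/-- `[χ̃, ψ] · |G|_{p'} = χ(1) ω_χ(regElt ψ)`. -/
theorem AA_mul_ordCompl (hp : p.Prime) (χ : IrrCharacter G) (ψ : G → ℂ) :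
    AA p (χ : G → ℂ) ψ * ((Nat.card G / p ^ (Nat.card G).factorization p : ℕ) : ℂ) =
      (χ : G → ℂ) 1 * omega (χ : G → ℂ) (regElt p ψ) := by
  have h := AA_mul_card p (χ : G → ℂ) ψ
  have hsplit := Nat.ordProj_mul_ordCompl_eq_self (Nat.card G) p
  have hpa : ((p ^ (Nat.card G).factorization p : ℕ) : ℂ) ≠ 0 := by
    exact_mod_cast (pow_pos hp.pos _).ne'
  have h2 : (Nat.card G : ℂ) = ((p ^ (Nat.card G).factorization p : ℕ) : ℂ) *
      ((Nat.card G / p ^ (Nat.card G).factorization p : ℕ) : ℂ) := by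
    exact_mod_cast hsplit.symm
  rw [h2] at h
  have h3 : AA p (χ : G → ℂ) ψ * ((Nat.card G / p ^ (Nat.card G).factorization p : ℕ) : ℂ) =
      charEval (χ : G → ℂ) (regElt p ψ) := by
    apply mul_left_cancel₀ hpa
    rw [← h]; ring
  rw [h3, omega, mul_div_cancel₀ _ (irr_one_ne_zero χ)]

section Sylow

variable [Fact p.Prime]

/-- The permutation character on the cosets of a Sylow `p`-subgroup. -/
noncomputable def sylowPerm (P : Sylow p G) : G → ℂ :=
  indFun (P : Subgroup G) (fun _ => (1 : ℂ))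

omit [Fact p.Prime] in
theorem sylowPerm_isCharacter (P : Sylow p G) : IsCharacter G (sylowPerm P) := by
  have h1 : IsCharacter (P : Subgroup G) (fun _ : (P : Subgroup G) => (1 : ℂ)) :=
    isCharacter_of_irr isIrrCharacter_one
  exact isCharacter_indFun _ h1

theorem tilde_sylowPerm_one (P : Sylow p G) :
    tilde p (sylowPerm P) 1 = (Nat.card G : ℂ) := by
  classical
  have hp : p.Prime := Fact.out
  simp only [tilde]
  rw [if_neg (by rw [orderOf_one]; exact fun h => hp.one_lt.ne' (Nat.dvd_one.mp h))]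
  rw [sylowPerm, indFun_apply]
  have h1 : ∀ g : G, extendByZero (P : Subgroup G) (fun _ => (1 : ℂ)) (g⁻¹ * 1 * g) = 1 := by
    intro g
    have : g⁻¹ * 1 * g = 1 := by group
    rw [this, extendByZero_apply_of_mem _ _ (Subgroup.one_mem _)]
  have h2 : ∑ x : G, extendByZero (P : Subgroup G) (fun _ => (1 : ℂ)) (x⁻¹ * 1 * x) =
      (Nat.card G : ℂ) := by
    rw [Finset.sum_congr rfl fun g _ => h1 g, Finset.sum_const, Finset.card_univ, nsmul_eq_mul,
      mul_one, Nat.card_eq_fintype_card]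
  rw [h2]
  have hP : Nat.card (P : Subgroup G) = p ^ (Nat.card G).factorization p :=
    P.card_eq_multiplicity
  rw [hP]
  have hpa : ((p ^ (Nat.card G).factorization p : ℕ) : ℂ) ≠ 0 := by
    exact_mod_cast (pow_pos hp.pos _).ne'
  field_simp

theorem tilde_sylowPerm_ne (P : Sylow p G) {x : G} (hx1 : x ≠ 1) :
    tilde p (sylowPerm P) x = 0 := by
  classical
  have hp : p.Prime := Fact.out
  simp only [tilde]
  by_cases hx : p ∣ orderOf x
  · rw [if_pos hx]
  · rw [if_neg hx, sylowPerm, indFun_apply]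
    have h1 : ∀ g : G, extendByZero (P : Subgroup G) (fun _ => (1 : ℂ)) (g⁻¹ * x * g) = 0 := by
      intro g
      apply extendByZero_apply_not_mem
      intro hmem
      -- an element of `P` of order prime to `p` is trivial
      obtain ⟨k, hk⟩ := P.isPGroup' ⟨_, hmem⟩
      have hk' : (g⁻¹ * x * g) ^ (p ^ k) = 1 := by
        have := congrArg Subtype.val hk
        simpa using this
      have ho : orderOf (g⁻¹ * x * g) = orderOf x := by
        have := (MulAut.conj g⁻¹).orderOf_eq x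
        simpa [MulAut.conj_apply] using this
      have hdvd : orderOf x ∣ p ^ k := ho ▸ orderOf_dvd_of_pow_eq_one hk'
      obtain ⟨j, _, hj⟩ := (Nat.dvd_prime_pow hp).mp hdvd
      rcases Nat.eq_zero_or_pos j with h0 | h0
      · rw [h0, pow_zero, orderOf_eq_one_iff] at hj
        exact hx1 hj
      · exact hx (hj ▸ dvd_pow_self p h0.ne')
    simp only [h1, Finset.sum_const_zero, mul_zero]

/-- The multiplicity of `χ` in the Sylow permutation character. -/
noncomputable def sylowMult (P : Sylow p G) (χ : IrrCharacter G) : ℕ :=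
  Classical.choose (classInner_char_irr_nat (sylowPerm_isCharacter P) χ.2)

theorem sylowMult_spec (P : Sylow p G) (χ : IrrCharacter G) :
    classInner (sylowPerm P) (χ : G → ℂ) = (sylowMult P χ : ℂ) :=
  Classical.choose_spec (classInner_char_irr_nat (sylowPerm_isCharacter P) χ.2)

/-- `∑_χ λ_χ [χ̃, ψ] = ψ(1)`. -/
theorem sum_sylowMult_mul_AA [Fintype (IrrCharacter G)] (P : Sylow p G) (ψ : IrrCharacter G) :
    ∑ χ : IrrCharacter G, (sylowMult P χ : ℂ) * AA p (χ : G → ℂ) (ψ : G → ℂ) =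
      (ψ : G → ℂ) 1 := by
  classical
  have hexp := classFunction_expansion (sylowPerm P)
    (isClassFunction_of_isCharacter (sylowPerm_isCharacter P))
  simp only [sylowMult_spec] at hexp
  have h1 : tilde p (sylowPerm P) =
      ∑ χ : IrrCharacter G, (sylowMult P χ : ℂ) • tilde p (χ : G → ℂ) := by
    conv_lhs => rw [hexp]
    exact tilde_sum p _ _ _
  have h2 : classInner (tilde p (sylowPerm P)) (ψ : G → ℂ) =
      ∑ χ : IrrCharacter G, (sylowMult P χ : ℂ) * AA p (χ : G → ℂ) (ψ : G → ℂ) := by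
    rw [h1, classInner_sum_left]
    refine Finset.sum_congr rfl fun χ _ => ?_
    rw [classInner_smul_left]
    rfl
  rw [← h2, classInner]
  have hG : (Nat.card G : ℂ) ≠ 0 := by exact_mod_cast (Nat.card_pos (α := G)).ne'
  rw [Finset.sum_eq_single 1]
  · rw [tilde_sylowPerm_one, apply_one_eq_charDegree _ ψ.2, Complex.conj_natCast]
    field_simp
  · intro b _ hb
    rw [tilde_sylowPerm_ne P hb, zero_mul]
  · intro h
    exact absurd (Finset.mem_univ _) h

end Sylow

/-- `∑_ψ [χ̃, ψ] ψ(1) = p^a χ(1)`. -/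
theorem sum_AA_mul_degree [Fintype (IrrCharacter G)] (hp : p.Prime) (χ : IrrCharacter G) :
    ∑ ψ : IrrCharacter G, AA p (χ : G → ℂ) (ψ : G → ℂ) * (ψ : G → ℂ) 1 =
      ((p ^ (Nat.card G).factorization p : ℕ) : ℂ) * (χ : G → ℂ) 1 := by
  have hexp := classFunction_expansion (tilde p (χ : G → ℂ))
    (tilde_isClassFunction p (irr_isClassFunction χ))
  have h1 := congrFun hexp 1
  rw [Finset.sum_apply] at h1
  simp only [Pi.smul_apply, smul_eq_mul] at h1
  have h2 : tilde p (χ : G → ℂ) 1 =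
      ((p ^ (Nat.card G).factorization p : ℕ) : ℂ) * (χ : G → ℂ) 1 := by
    simp only [tilde]
    rw [if_neg]
    rw [orderOf_one]
    exact fun h => hp.one_lt.ne' (Nat.dvd_one.mp h)
  rw [← h2, h1]
  rfl

end Cfsg.Agent.Lib.L0.Tilde
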