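import Mathlib
import Cfsg.Agent.Lib.L0.TildeChar
import Cfsg.Agent.Lib.H23.DefectZero

/-!
# `χ̃` is a generalized character (lead)

* `indFun_restrict_of_normal`: for `K ⊴ E` and a class function `θ` of `E`,
  `Ind_K^E (θ|_K) = |E : K| θ` on `K` and `0` off `K`;
* `tilde_isGeneralizedCharacter`: `χ̃` is a generalized character (via Brauer's characterization);
* `AA_int`: `[χ̃, ψ]` is an integer; `AA_symm`.
-/

set_option autoImplicit false

namespace Cfsg.Agent.Lib.L0.Tilde

open Cfsg Cfsg.Agent.Lib.H23 Cfsg.Agent.Lib.H24 Cfsg.Agent.Lib.L0 Cfsg.Agent.Lib.H8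
open scoped ComplexConjugate

theorem indFun_restrict_of_normal {E : Type*} [Group E] [Fintype E] (K : Subgroup E) [K.Normal]
    {θ : E → ℂ} (hθ : IsClassFunction E θ) (e : E) [Decidable (e ∈ K)] :
    indFun K (fun k : K => θ k) e = if e ∈ K then (K.index : ℂ) * θ e else 0 := by
  classical
  rw [indFun_apply]
  have hK0 : (Nat.card K : ℂ) ≠ 0 := by exact_mod_cast (Nat.card_pos (α := K)).ne'
  by_cases he : e ∈ K
  · rw [if_pos he]
    have h1 : ∀ x : E, extendByZero K (fun k : K => θ k) (x⁻¹ * e * x) = θ e := by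
      intro x
      have hmem : x⁻¹ * e * x ∈ K := by
        have := (inferInstance : K.Normal).conj_mem e he x⁻¹
        simpa using this
      rw [extendByZero_apply_of_mem _ _ hmem]
      have := hθ e x⁻¹
      simpa using this
    rw [Finset.sum_congr rfl fun x _ => h1 x, Finset.sum_const, Finset.card_univ, nsmul_eq_mul,
      ← Nat.card_eq_fintype_card]
    have h2 : (Nat.card E : ℂ) = (K.index : ℂ) * (Nat.card K : ℂ) := by
      exact_mod_cast (Subgroup.index_mul_card K).symm
    rw [h2]
    field_simp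
  · rw [if_neg he]
    have h1 : ∀ x : E, extendByZero K (fun k : K => θ k) (x⁻¹ * e * x) = 0 := by
      intro x
      apply extendByZero_apply_not_mem
      intro hmem
      apply he
      have := (inferInstance : K.Normal).conj_mem _ hmem x
      simpa [mul_assoc] using this
    rw [Finset.sum_congr rfl fun x _ => h1 x, Finset.sum_const_zero, mul_zero]

variable {G : Type*} [Group G] [Fintype G]

/-- `χ̃` is a generalized character. -/
theorem tilde_isGeneralizedCharacter {p : ℕ} (hp : p.Prime) {χ : G → ℂ} (hχ : IsCharacter G χ) :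
    IsGeneralizedCharacter G (tilde p χ) := by
  classical
  refine brauer_characterization
    (tilde_isClassFunction p (isClassFunction_of_isCharacter hχ)) ?_
  intro E q hq hE
  haveI : Fintype E := Fintype.ofFinite E
  haveI hnil : Group.IsNilpotent E := isNilpotent_of_isElementary hq hE
  obtain ⟨P, K, ⟨a', ha'⟩, hKcop, hcard, hcomm, hK⟩ := exists_hall_decomp E p hp
  haveI hKn : K.Normal := by
    constructor
    intro k hk g
    rw [hK] at hk ⊢
    have : orderOf (g * k * g⁻¹) = orderOf k := (MulAut.conj g).orderOf_eq k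
    rwa [this]
  set a := (Nat.card G).factorization p with ha
  -- `p ^ a'` divides `p ^ a`
  have hle : a' ≤ a := by
    have h1 : p ^ a' ∣ Nat.card E := by
      rw [← ha', ← hcard]; exact dvd_mul_right _ _
    have h2 : Nat.card E ∣ Nat.card G := Subgroup.card_subgroup_dvd_card E
    exact (hp.pow_dvd_iff_le_factorization Nat.card_pos.ne').mp (h1.trans h2)
  have hidx : K.index = p ^ a' := by
    have h1 := Subgroup.index_mul_card K
    rw [← hcard, ha'] at h1
    have hK0 : 0 < Nat.card K := Nat.card_pos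
    exact Nat.eq_of_mul_eq_mul_right hK0 h1
  set θ : E → ℂ := fun e => χ e with hθ
  have hθc : IsCharacter E θ := isCharacter_restrict E hχ
  have hθK : IsCharacter K (fun k : K => θ k) := isCharacter_restrict K hθc
  have hind : IsCharacter E (indFun K (fun k : K => θ k)) := isCharacter_indFun K hθK
  have heq : (fun e : E => tilde p χ e) = (p ^ (a - a')) • indFun K (fun k : K => θ k) := by
    funext e
    rw [Pi.smul_apply, indFun_restrict_of_normal K (isClassFunction_of_isCharacter hθc) e]
    simp only [tilde]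
    rw [Subgroup.orderOf_coe]
    by_cases he : p ∣ orderOf e
    · rw [if_pos he, if_neg, smul_zero]
      rw [hK]; exact not_not.mpr he
    · rw [if_neg he, if_pos ((hK e).mpr he), hidx, nsmul_eq_mul]
      have : a = (a - a') + a' := (Nat.sub_add_cancel hle).symm
      conv_lhs => rw [← ha, this, pow_add]
      push_cast
      ring
  rw [heq]
  exact isGeneralizedCharacter_nsmul (isGeneralizedCharacter_of_isCharacter hind) _

/-- `[χ̃, ψ]` is an integer. -/
theorem AA_int {p : ℕ} (hp : p.Prime) {χ : G → ℂ} (hχ : IsCharacter G χ) (ψ : IrrCharacter G) :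
    ∃ n : ℤ, AA p χ (ψ : G → ℂ) = n :=
  genChar_classInner_irr_int (tilde_isGeneralizedCharacter hp hχ) ψ.2

/-- `[χ̃, ψ] = [ψ̃, χ]`. -/
theorem AA_symm {p : ℕ} (hp : p.Prime) (χ ψ : IrrCharacter G) :
    AA p (χ : G → ℂ) (ψ : G → ℂ) = AA p (ψ : G → ℂ) (χ : G → ℂ) := by
  obtain ⟨n, hn⟩ := AA_int hp (isCharacter_of_irr χ.2) ψ
  have h1 : AA p (ψ : G → ℂ) (χ : G → ℂ) = conj (AA p (χ : G → ℂ) (ψ : G → ℂ)) := by
    rw [AA_eq, AA_eq, map_mul, map_mul, map_inv₀, Complex.conj_natCast, Complex.conj_natCast,
      map_sum]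
    congr 1
    refine Finset.sum_congr rfl fun x _ => ?_
    split_ifs
    · simp
    · rw [map_mul, Complex.conj_conj, mul_comm]
  rw [h1, hn, map_intCast]

end Cfsg.Agent.Lib.L0.Tilde
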