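import Mathlib
import Cfsg.Agent.Lib.L0.TildeGen
import Cfsg.Agent.Lib.L0.PRegCongP
import Cfsg.Agent.Lib.L0.FrobTICoh

/-!
# Divisibility properties of the integers `[χ̃, ψ]` (lead)

* `pow_dvd_AA`: `p^{ν_p(χ(1))}` divides `[χ̃, ψ]`;
* `exists_int_apply_one_of_vanish`: a generalized character vanishing on the `p`-singular
  elements has degree divisible by `|G|_p`;
* `not_isGeneralizedCharacter_tilde_div`: `χ̃ / p^{ν_p(χ(1)) + 1}` is not a generalized character.
-/

set_option autoImplicit false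

namespace Cfsg.Agent.Lib.L0.Tilde

open Cfsg Cfsg.Agent.Lib.H23 Cfsg.Agent.Lib.H24 Cfsg.Agent.Lib.L0 Cfsg.Agent.Lib.H8
open scoped ComplexConjugate

variable {G : Type*} [Group G] [Fintype G] {p : ℕ}

/-- `p^{ν_p(χ(1))}` divides the integer `[χ̃, ψ]`. -/
theorem pow_dvd_AA (hp : p.Prime) (χ ψ : IrrCharacter G) (n : ℤ)
    (hn : AA p (χ : G → ℂ) (ψ : G → ℂ) = n) :
    (p : ℤ) ^ (charDegree (χ : G → ℂ)).factorization p ∣ n := by
  obtain ⟨M, hM⟩ := Cfsg.Agent.Lib.L0.PRegP.exists_isPModular hp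
  haveI hP := isPrime_of_isPModular hM
  set b := (charDegree (χ : G → ℂ)).factorization p with hb
  set m' := Nat.card G / p ^ (Nat.card G).factorization p with hm'
  have hm'p : ¬ p ∣ m' := Nat.not_dvd_ordCompl hp Nat.card_pos.ne'
  have h := AA_mul_ordCompl hp χ (ψ : G → ℂ)
  rw [hn, apply_one_eq_charDegree _ χ.2] at h
  have hω : MemLocalRing M (omega (χ : G → ℂ) (regElt p (ψ : G → ℂ))) :=
    omega_memLocalRing χ (regElt_mem_center p (irr_isClassFunction ψ)) (regElt_mem_intCoeff p ψ)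
  have hsplit := Nat.ordProj_mul_ordCompl_eq_self (charDegree (χ : G → ℂ)) p
  set d' := charDegree (χ : G → ℂ) / p ^ b with hd'
  have hp0 : ((p : ℂ)) ^ b ≠ 0 := pow_ne_zero _ (Nat.cast_ne_zero.2 hp.ne_zero)
  have h2 : MemLocalRing M (((n * (m' : ℤ) : ℤ) : ℂ) / (p : ℂ) ^ b) := by
    have e : ((n * (m' : ℤ) : ℤ) : ℂ) / (p : ℂ) ^ b =
        (d' : ℂ) * omega (χ : G → ℂ) (regElt p (ψ : G → ℂ)) := by
      push_cast
      rw [h, ← hsplit]
      push_cast
      rw [← hb]
      field_simp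
    rw [e]
    exact memLocalRing_mul (natCast_mem_localRing _) hω
  have h3 := pow_dvd_of_intCast_div_mem hM b _ h2
  have hcop : IsCoprime ((p : ℤ) ^ b) (m' : ℤ) := by
    apply IsCoprime.pow_left
    rw [Nat.isCoprime_iff_coprime]
    exact (Nat.Prime.coprime_iff_not_dvd hp).mpr hm'p
  exact hcop.dvd_of_dvd_mul_right h3

/-- A generalized character vanishing on `p`-singular elements has degree divisible by
`|G|_p`. -/
theorem exists_int_apply_one_of_vanish (hp : p.Prime) {ζ : G → ℂ}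
    (hζ : IsGeneralizedCharacter G ζ) (h0 : ∀ x : G, p ∣ orderOf x → ζ x = 0) :
    ∃ k : ℤ, ζ 1 = (k : ℂ) * ((p ^ (Nat.card G).factorization p : ℕ) : ℂ) := by
  classical
  haveI : Fact p.Prime := ⟨hp⟩
  obtain ⟨P⟩ : Nonempty (Sylow p G) := inferInstance
  haveI : Fintype (P : Subgroup G) := Fintype.ofFinite _
  have hres : IsGeneralizedCharacter (P : Subgroup G) (fun u : (P : Subgroup G) => ζ u) :=
    FrobTI.isGeneralizedCharacter_restrict (P : Subgroup G) hζ
  obtain ⟨k, hk⟩ := genChar_classInner_irr_int hres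
    (isIrrCharacter_one (G := (P : Subgroup G)))
  refine ⟨k, ?_⟩
  have hP : Nat.card (P : Subgroup G) = p ^ (Nat.card G).factorization p :=
    P.card_eq_multiplicity
  rw [classInner, Finset.sum_eq_single (1 : (P : Subgroup G))] at hk
  · simp only [Pi.one_apply, map_one, mul_one, Subgroup.coe_one] at hk
    rw [← hP, ← hk]
    have hP0 : (Nat.card (P : Subgroup G) : ℂ) ≠ 0 := by
      exact_mod_cast (Nat.card_pos (α := (P : Subgroup G))).ne'
    field_simp
  · intro u _ hu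
    have hdvd : p ∣ orderOf (u : G) := by
      rw [Subgroup.orderOf_coe]
      obtain ⟨j, hj⟩ := P.isPGroup' u
      have hdvd : orderOf u ∣ p ^ j := orderOf_dvd_of_pow_eq_one hj
      obtain ⟨i, _, hi⟩ := (Nat.dvd_prime_pow hp).mp hdvd
      rcases Nat.eq_zero_or_pos i with h0 | h0
      · rw [h0, pow_zero, orderOf_eq_one_iff] at hi
        exact absurd hi hu
      · exact hi ▸ dvd_pow_self p h0.ne'
    rw [h0 _ hdvd, zero_mul]
  · intro h
    exact absurd (Finset.mem_univ _) h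

/-- `χ̃ / p^{b+1}` is not a generalized character, where `p^b` is the `p`-part of `χ(1)`. -/
theorem not_isGeneralizedCharacter_tilde_div (hp : p.Prime) (χ : IrrCharacter G) :
    ¬ IsGeneralizedCharacter G (fun x => tilde p (χ : G → ℂ) x /
      (p : ℂ) ^ ((charDegree (χ : G → ℂ)).factorization p + 1)) := by
  intro hζ
  set b := (charDegree (χ : G → ℂ)).factorization p with hb
  have h0 : ∀ x : G, p ∣ orderOf x → (fun x => tilde p (χ : G → ℂ) x / (p : ℂ) ^ (b + 1)) x = 0 := by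
    intro x hx
    simp only [tilde, if_pos hx, zero_div]
  obtain ⟨k, hk⟩ := exists_int_apply_one_of_vanish hp hζ h0
  simp only [tilde] at hk
  rw [if_neg (by rw [orderOf_one]; exact fun h => hp.one_lt.ne' (Nat.dvd_one.mp h)),
    apply_one_eq_charDegree _ χ.2] at hk
  have hpa : ((p ^ (Nat.card G).factorization p : ℕ) : ℂ) ≠ 0 := by
    exact_mod_cast (pow_pos hp.pos _).ne'
  have hp0 : ((p : ℂ)) ^ (b + 1) ≠ 0 := pow_ne_zero _ (Nat.cast_ne_zero.2 hp.ne_zero)
  have h1 : (charDegree (χ : G → ℂ) : ℂ) = (k : ℂ) * (p : ℂ) ^ (b + 1) := by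
    field_simp at hk
    rw [hk]; ring
  have h2 : (charDegree (χ : G → ℂ) : ℤ) = k * (p : ℤ) ^ (b + 1) := by exact_mod_cast h1
  have h3 : (p : ℤ) ^ (b + 1) ∣ (charDegree (χ : G → ℂ) : ℤ) := ⟨k, by rw [h2, mul_comm]⟩
  have h4 : p ^ (b + 1) ∣ charDegree (χ : G → ℂ) := by exact_mod_cast h3
  exact Nat.pow_succ_factorization_not_dvd (charDegree_pos _ χ.2).ne' hp h4

end Cfsg.Agent.Lib.L0.Tilde
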