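import Mathlib
import Cfsg.Agent.Lib.L0.TildeVal
import Cfsg.Agent.Lib.L0.BlockMinMax
import Cfsg.Agent.Lib.H23.BlockDefectZero
import Cfsg.Agent.Lib.H23.DefectZero

/-!
# The Brauer–Feit integers `m_{χψ}` (lead)

For irreducible characters `χ, ψ` the integer `AAz χ ψ = [χ̃, ψ] = p^a [χ, ψ]⁰` (inner product over
the `p`-regular elements, times `|G|_p`).

* `AAz_symm`, `pow_dvd_AAz_left/right`, `AAz_eq_zero_of_not_sameBlock`;
* `sum_AAz_sq : ∑_ψ (AAz χ ψ)² = p^a · AAz χ χ`;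
* `AAz_self_pos`, `AAz_self_le`, `vanish_of_AAz_self_eq`;
* `pow_succ_dvd_AAz_of_lt` : if `χ, χ'` lie in one block and `ν(χ'(1)) < ν(ψ(1))` then
  `p^{ν(χ(1))+1} ∣ AAz χ ψ`;
* `not_pow_succ_dvd_AAz_self` : for `χ₀` of height zero, `p^{ν(χ₀(1))+1} ∤ AAz χ₀ χ₀`;
* `not_pow_succ_dvd_AAz` : for `χ₀` of height zero and `ψ` in its block,
  `p^{ν(ψ(1))+1} ∤ AAz ψ χ₀`.
-/

set_option autoImplicit false

namespace Cfsg.Agent.Lib.L0.BrauerFeit

open Cfsg Cfsg.Agent.Lib.H23 Cfsg.Agent.Lib.H24 Cfsg.Agent.Lib.L0 Cfsg.Agent.Lib.L0.Tilde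
  Cfsg.Agent.Lib.L0.BlockMinMax Cfsg.Agent.Lib.H8
open scoped ComplexConjugate

variable {G : Type*} [Group G] [Fintype G] {p : ℕ} {M : Ideal AlgInt}

/-- The integer `[χ̃, ψ]`. -/
noncomputable def AAz (hp : p.Prime) (χ ψ : IrrCharacter G) : ℤ :=
  Classical.choose (AA_int hp (isCharacter_of_irr χ.2) ψ)

theorem AAz_spec (hp : p.Prime) (χ ψ : IrrCharacter G) :
    AA p (χ : G → ℂ) (ψ : G → ℂ) = (AAz hp χ ψ : ℂ) :=
  Classical.choose_spec (AA_int hp (isCharacter_of_irr χ.2) ψ)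

theorem AAz_symm (hp : p.Prime) (χ ψ : IrrCharacter G) : AAz hp χ ψ = AAz hp ψ χ := by
  have h := AA_symm hp χ ψ
  rw [AAz_spec hp, AAz_spec hp] at h
  exact_mod_cast h

theorem pow_dvd_AAz_left (hp : p.Prime) (χ ψ : IrrCharacter G) :
    (p : ℤ) ^ (charDegree (χ : G → ℂ)).factorization p ∣ AAz hp χ ψ :=
  pow_dvd_AA hp χ ψ _ (AAz_spec hp χ ψ)

theorem pow_dvd_AAz_right (hp : p.Prime) (χ ψ : IrrCharacter G) :
    (p : ℤ) ^ (charDegree (ψ : G → ℂ)).factorization p ∣ AAz hp χ ψ := by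
  rw [AAz_symm]; exact pow_dvd_AAz_left hp ψ χ

theorem AAz_eq_zero_of_not_sameBlock (hM : IsPModular p M) (χ ψ : IrrCharacter G)
    (h : ¬ SameBlock M (χ : G → ℂ) (ψ : G → ℂ)) : AAz hM.1 χ ψ = 0 := by
  have := AA_eq_zero_of_not_sameBlock hM χ ψ h
  rw [AAz_spec hM.1] at this
  exact_mod_cast this

/-- `∑_ψ [χ̃, ψ]² = p^a [χ̃, χ]`. -/
theorem sum_AAz_sq [Fintype (IrrCharacter G)] (hp : p.Prime) (χ : IrrCharacter G) :
    ∑ ψ : IrrCharacter G, AAz hp χ ψ ^ 2 =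
      (p : ℤ) ^ (Nat.card G).factorization p * AAz hp χ χ := by
  classical
  have hcf : IsClassFunction G (tilde p (χ : G → ℂ)) :=
    tilde_isClassFunction p (irr_isClassFunction χ)
  have hexp := classFunction_expansion (tilde p (χ : G → ℂ)) hcf
  -- compute [χ̃, χ̃] in two ways
  have h1 : classInner (tilde p (χ : G → ℂ)) (tilde p (χ : G → ℂ)) =
      ∑ ψ : IrrCharacter G, ((AAz hp χ ψ : ℂ)) ^ 2 := by
    calc classInner (tilde p (χ : G → ℂ)) (tilde p (χ : G → ℂ))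
        = classInner (∑ ψ : IrrCharacter G,
            classInner (tilde p (χ : G → ℂ)) (ψ : G → ℂ) • (ψ : G → ℂ))
            (tilde p (χ : G → ℂ)) := by rw [← hexp]
      _ = ∑ ψ : IrrCharacter G, ((AAz hp χ ψ : ℂ)) ^ 2 := by
        rw [classInner_sum_left]
        refine Finset.sum_congr rfl fun ψ _ => ?_
        rw [classInner_smul_left]
        have : classInner (ψ : G → ℂ) (tilde p (χ : G → ℂ)) =
            conj (classInner (tilde p (χ : G → ℂ)) (ψ : G → ℂ)) :=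
          (classInner_conj_symm _ _).symm
        rw [this]
        have e : classInner (tilde p (χ : G → ℂ)) (ψ : G → ℂ) = (AAz hp χ ψ : ℂ) :=
          AAz_spec hp χ ψ
        rw [e, map_intCast]
        ring
  have h2 : classInner (tilde p (χ : G → ℂ)) (tilde p (χ : G → ℂ)) =
      ((p ^ (Nat.card G).factorization p : ℕ) : ℂ) * (AAz hp χ χ : ℂ) := by
    rw [← AAz_spec hp χ χ]
    unfold AA classInner
    have : ∑ g : G, tilde p (χ : G → ℂ) g * conj (tilde p (χ : G → ℂ) g) =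
        ((p ^ (Nat.card G).factorization p : ℕ) : ℂ) *
          ∑ g : G, tilde p (χ : G → ℂ) g * conj ((χ : G → ℂ) g) := by
      rw [Finset.mul_sum]
      refine Finset.sum_congr rfl fun x _ => ?_
      simp only [tilde]
      split_ifs
      · simp
      · rw [map_mul, Complex.conj_natCast]; ring
    rw [this]
    ring
  have h3 : ((∑ ψ : IrrCharacter G, AAz hp χ ψ ^ 2 : ℤ) : ℂ) =
      (((p : ℤ) ^ (Nat.card G).factorization p * AAz hp χ χ : ℤ) : ℂ) := by
    push_cast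
    rw [← h1, h2]
    push_cast
    ring
  exact_mod_cast h3


/-- `[χ̃, χ]` as a real number. -/
theorem AAz_self_real (hp : p.Prime) (χ : IrrCharacter G) :
    ((AAz hp χ χ : ℤ) : ℝ) = ((p ^ (Nat.card G).factorization p : ℕ) : ℝ) * (Nat.card G : ℝ)⁻¹ *
      ∑ x : G, (if p ∣ orderOf x then 0 else Complex.normSq ((χ : G → ℂ) x)) := by
  have h := AAz_spec hp χ χ
  rw [AA_eq] at h
  have e : ∑ x : G, (if p ∣ orderOf x then (0 : ℂ) else (χ : G → ℂ) x * conj ((χ : G → ℂ) x)) =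
      ((∑ x : G, (if p ∣ orderOf x then 0 else Complex.normSq ((χ : G → ℂ) x)) : ℝ) : ℂ) := by
    push_cast
    refine Finset.sum_congr rfl fun x _ => ?_
    split_ifs
    · simp
    · rw [Complex.mul_conj]
  rw [e] at h
  have h' : (((AAz hp χ χ : ℤ) : ℝ) : ℂ) = ((((p ^ (Nat.card G).factorization p : ℕ) : ℝ) *
      (Nat.card G : ℝ)⁻¹ *
      ∑ x : G, (if p ∣ orderOf x then 0 else Complex.normSq ((χ : G → ℂ) x)) : ℝ) : ℂ) := by
    push_cast
    push_cast at h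
    rw [← h]
  exact_mod_cast h'

theorem sum_normSq_irr (χ : IrrCharacter G) :
    ∑ x : G, Complex.normSq ((χ : G → ℂ) x) = (Nat.card G : ℝ) := by
  have h := irr_orthonormal χ χ
  rw [if_pos rfl, classInner] at h
  have hG : (Nat.card G : ℂ) ≠ 0 := by exact_mod_cast (Nat.card_pos (α := G)).ne'
  have e : ∑ g : G, (χ : G → ℂ) g * conj ((χ : G → ℂ) g) =
      ((∑ x : G, Complex.normSq ((χ : G → ℂ) x) : ℝ) : ℂ) := by
    push_cast
    refine Finset.sum_congr rfl fun x _ => ?_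
    rw [Complex.mul_conj]
  rw [e] at h
  have h2 : ((∑ x : G, Complex.normSq ((χ : G → ℂ) x) : ℝ) : ℂ) = ((Nat.card G : ℝ) : ℂ) := by
    push_cast
    push_cast at h
    field_simp at h
    exact h
  exact_mod_cast h2

theorem AAz_self_pos (hp : p.Prime) (χ : IrrCharacter G) : 0 < AAz hp χ χ := by
  have h := AAz_self_real hp χ
  have hG : (0 : ℝ) < (Nat.card G : ℝ) := by exact_mod_cast (Nat.card_pos (α := G))
  have hpa : (0 : ℝ) < ((p ^ (Nat.card G).factorization p : ℕ) : ℝ) := by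
    exact_mod_cast pow_pos hp.pos _
  have hsum : 0 < ∑ x : G, (if p ∣ orderOf x then 0 else Complex.normSq ((χ : G → ℂ) x)) := by
    have h1 : (if p ∣ orderOf (1 : G) then 0 else Complex.normSq ((χ : G → ℂ) 1)) ≤
        ∑ x : G, (if p ∣ orderOf x then 0 else Complex.normSq ((χ : G → ℂ) x)) := by
      refine Finset.single_le_sum (f := fun x : G =>
        (if p ∣ orderOf x then 0 else Complex.normSq ((χ : G → ℂ) x))) ?_ (Finset.mem_univ 1)
      intro x _
      split_ifs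
      · exact le_refl _
      · exact Complex.normSq_nonneg _
    rw [if_neg (by rw [orderOf_one]; exact fun h => hp.one_lt.ne' (Nat.dvd_one.mp h))] at h1
    exact lt_of_lt_of_le (Complex.normSq_pos.mpr (irr_one_ne_zero χ)) h1
  have : (0 : ℝ) < ((AAz hp χ χ : ℤ) : ℝ) := by
    rw [h]; positivity
  exact_mod_cast this

theorem AAz_self_le (hp : p.Prime) (χ : IrrCharacter G) :
    AAz hp χ χ ≤ (p : ℤ) ^ (Nat.card G).factorization p := by
  have h := AAz_self_real hp χ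
  have hG : (0 : ℝ) < (Nat.card G : ℝ) := by exact_mod_cast (Nat.card_pos (α := G))
  have hpa : (0 : ℝ) < ((p ^ (Nat.card G).factorization p : ℕ) : ℝ) := by
    exact_mod_cast pow_pos hp.pos _
  have hle : ∑ x : G, (if p ∣ orderOf x then 0 else Complex.normSq ((χ : G → ℂ) x)) ≤
      (Nat.card G : ℝ) := by
    rw [← sum_normSq_irr χ]
    refine Finset.sum_le_sum fun x _ => ?_
    split_ifs
    · exact Complex.normSq_nonneg _
    · exact le_refl _
  have : ((AAz hp χ χ : ℤ) : ℝ) ≤ (((p : ℤ) ^ (Nat.card G).factorization p : ℤ) : ℝ) := by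
    rw [h]
    push_cast
    calc (p : ℝ) ^ (Nat.card G).factorization p * (Nat.card G : ℝ)⁻¹ *
          ∑ x : G, (if p ∣ orderOf x then 0 else Complex.normSq ((χ : G → ℂ) x))
        ≤ (p : ℝ) ^ (Nat.card G).factorization p * (Nat.card G : ℝ)⁻¹ * (Nat.card G : ℝ) := by
          apply mul_le_mul_of_nonneg_left hle
          positivity
      _ = (p : ℝ) ^ (Nat.card G).factorization p := by field_simp
  exact_mod_cast this

/-- If `[χ̃, χ] = p^a` then `χ` vanishes on the `p`-singular elements. -/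
theorem vanish_of_AAz_self_eq (hp : p.Prime) (χ : IrrCharacter G)
    (h : AAz hp χ χ = (p : ℤ) ^ (Nat.card G).factorization p) (x : G) (hx : p ∣ orderOf x) :
    (χ : G → ℂ) x = 0 := by
  have hr := AAz_self_real hp χ
  have hG : (0 : ℝ) < (Nat.card G : ℝ) := by exact_mod_cast (Nat.card_pos (α := G))
  have hpa : (0 : ℝ) < ((p ^ (Nat.card G).factorization p : ℕ) : ℝ) := by
    exact_mod_cast pow_pos hp.pos _
  rw [h] at hr
  have hsum : ∑ x : G, (if p ∣ orderOf x then 0 else Complex.normSq ((χ : G → ℂ) x)) =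
      (Nat.card G : ℝ) := by
    push_cast at hr
    field_simp at hr
    linarith
  have hdiff : ∑ x : G, (if p ∣ orderOf x then Complex.normSq ((χ : G → ℂ) x) else 0) = 0 := by
    have hsplit : ∀ x : G, Complex.normSq ((χ : G → ℂ) x) =
        (if p ∣ orderOf x then 0 else Complex.normSq ((χ : G → ℂ) x)) +
        (if p ∣ orderOf x then Complex.normSq ((χ : G → ℂ) x) else 0) := by
      intro x; split_ifs <;> simp
    have := sum_normSq_irr χ
    rw [Finset.sum_congr rfl (fun x _ => hsplit x), Finset.sum_add_distrib, hsum] at this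
    linarith
  have hnn : ∀ y ∈ (Finset.univ : Finset G),
      0 ≤ (if p ∣ orderOf y then Complex.normSq ((χ : G → ℂ) y) else 0) := by
    intro y _; split_ifs
    · exact Complex.normSq_nonneg _
    · exact le_refl _
  have := (Finset.sum_eq_zero_iff_of_nonneg hnn).mp hdiff x (Finset.mem_univ x)
  rw [if_pos hx] at this
  exact Complex.normSq_eq_zero.mp this


/-- `ω_χ(regElt ψ) = [χ̃, ψ] · |G|_{p'} / χ(1)`. -/
theorem omega_regElt (hp : p.Prime) (χ ψ : IrrCharacter G) :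
    omega (χ : G → ℂ) (regElt p (ψ : G → ℂ)) =
      (AAz hp χ ψ : ℂ) * ((Nat.card G / p ^ (Nat.card G).factorization p : ℕ) : ℂ) /
        (χ : G → ℂ) 1 := by
  have h := AA_mul_ordCompl hp χ (ψ : G → ℂ)
  rw [AAz_spec hp] at h
  rw [h, mul_div_cancel_left₀ _ (irr_one_ne_zero χ)]

/-- For an integer `n`: `n · |G|_{p'} / χ(1)` lies in the local ideal iff `p^{ν(χ(1))+1} ∣ n`. -/
theorem memLocalIdeal_iff_pow_succ_dvd (hM : IsPModular p M) (χ : IrrCharacter G) (n : ℤ) :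
    MemLocalIdeal M ((n : ℂ) * ((Nat.card G / p ^ (Nat.card G).factorization p : ℕ) : ℂ) /
      (χ : G → ℂ) 1) ↔ (p : ℤ) ^ ((charDegree (χ : G → ℂ)).factorization p + 1) ∣ n := by
  haveI hP := isPrime_of_isPModular hM
  have hp : p.Prime := hM.1
  set b := (charDegree (χ : G → ℂ)).factorization p with hb
  set m' := Nat.card G / p ^ (Nat.card G).factorization p with hm'
  have hm'p : ¬ p ∣ m' := Nat.not_dvd_ordCompl hp Nat.card_pos.ne'
  have hsplit := Nat.ordProj_mul_ordCompl_eq_self (charDegree (χ : G → ℂ)) p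
  set c := charDegree (χ : G → ℂ) / p ^ b with hc
  have hcp : ¬ p ∣ c := Nat.not_dvd_ordCompl hp (charDegree_pos _ χ.2).ne'
  have hχ1 : (χ : G → ℂ) 1 = (p : ℂ) ^ b * (c : ℂ) := by
    rw [apply_one_eq_charDegree _ χ.2, ← hsplit]
    push_cast
    rfl
  have hp0 : (p : ℂ) ≠ 0 := Nat.cast_ne_zero.2 hp.ne_zero
  have hpb0 : ((p : ℂ)) ^ b ≠ 0 := pow_ne_zero _ hp0
  have hc0 : (c : ℂ) ≠ 0 := by
    intro h0
    have : c = 0 := by exact_mod_cast h0
    exact hcp (this ▸ dvd_zero p)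
  constructor
  · intro hz
    have h1 : MemLocalIdeal M (((n * (m' : ℤ) : ℤ) : ℂ) / (p : ℂ) ^ b) := by
      have e : ((n * (m' : ℤ) : ℤ) : ℂ) / (p : ℂ) ^ b =
          (c : ℂ) * ((n : ℂ) * (m' : ℂ) / (χ : G → ℂ) 1) := by
        rw [hχ1]
        push_cast
        field_simp
      rw [e]
      exact memLocalIdeal_mul_left (natCast_mem_localRing c) hz
    obtain ⟨q, hq⟩ := pow_dvd_of_intCast_div_mem hM b _ (memLocalRing_of_memLocalIdeal h1)
    have h2 : MemLocalIdeal M (q : ℂ) := by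
      have e : (q : ℂ) = ((n * (m' : ℤ) : ℤ) : ℂ) / (p : ℂ) ^ b := by
        rw [hq]
        push_cast
        field_simp
      rw [e]; exact h1
    obtain ⟨q', hq'⟩ := (intCast_memLocalIdeal_iff hM q).1 h2
    have h3 : (p : ℤ) ^ (b + 1) ∣ n * (m' : ℤ) := by
      rw [hq, hq', pow_succ]
      exact ⟨q', by ring⟩
    have hcop : IsCoprime ((p : ℤ) ^ (b + 1)) (m' : ℤ) := by
      apply IsCoprime.pow_left
      rw [Nat.isCoprime_iff_coprime]
      exact (Nat.Prime.coprime_iff_not_dvd hp).mpr hm'p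
    exact hcop.dvd_of_dvd_mul_right h3
  · rintro ⟨n', rfl⟩
    have e : (((p : ℤ) ^ (b + 1) * n' : ℤ) : ℂ) * (m' : ℂ) / (χ : G → ℂ) 1 =
        (p : ℂ) * ((n' : ℂ) * (m' : ℂ) * (c : ℂ)⁻¹) := by
      rw [hχ1]
      push_cast
      field_simp
      ring
    rw [e]
    refine memLocalIdeal_mul_right (memLocalIdeal_p hM) ?_
    exact memLocalRing_mul (memLocalRing_mul (intCast_mem_localRing n') (natCast_mem_localRing m'))
      (memLocalRing_inv_natCast hM hcp)

/-- Same block: `p^{ν(χ(1))+1} ∣ [χ̃, ψ]` iff `p^{ν(χ'(1))+1} ∣ [χ̃', ψ]`. -/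
theorem pow_succ_dvd_AAz_iff (hM : IsPModular p M) {χ χ' : IrrCharacter G}
    (h : SameBlock M (χ : G → ℂ) (χ' : G → ℂ)) (ψ : IrrCharacter G) :
    (p : ℤ) ^ ((charDegree (χ : G → ℂ)).factorization p + 1) ∣ AAz hM.1 χ ψ ↔
      (p : ℤ) ^ ((charDegree (χ' : G → ℂ)).factorization p + 1) ∣ AAz hM.1 χ' ψ := by
  haveI hP := isPrime_of_isPModular hM
  rw [← memLocalIdeal_iff_pow_succ_dvd hM χ, ← memLocalIdeal_iff_pow_succ_dvd hM χ',
    ← omega_regElt hM.1, ← omega_regElt hM.1]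
  have hcong := omega_sub_memLocalIdeal h (regElt_mem_center p (irr_isClassFunction ψ))
    (regElt_mem_intCoeff (M := M) p ψ)
  constructor
  · intro h1
    have := memLocalIdeal_sub h1 hcong
    rwa [sub_sub_cancel] at this
  · intro h1
    have := memLocalIdeal_add hcong h1
    rwa [sub_add_cancel] at this

/-- If `χ, χ'` lie in one block and `ν(χ'(1)) < ν(ψ(1))`, then `p^{ν(χ(1))+1} ∣ [χ̃, ψ]`. -/
theorem pow_succ_dvd_AAz_of_lt (hM : IsPModular p M) {χ χ' : IrrCharacter G}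
    (h : SameBlock M (χ : G → ℂ) (χ' : G → ℂ)) (ψ : IrrCharacter G)
    (hlt : (charDegree (χ' : G → ℂ)).factorization p < (charDegree (ψ : G → ℂ)).factorization p) :
    (p : ℤ) ^ ((charDegree (χ : G → ℂ)).factorization p + 1) ∣ AAz hM.1 χ ψ := by
  rw [pow_succ_dvd_AAz_iff hM h ψ]
  exact (pow_dvd_pow _ hlt).trans (pow_dvd_AAz_right hM.1 χ' ψ)


/-- If `χ₀` has minimal `p`-part of the degree in its block (height zero), then
`p^{ν(χ₀(1))+1} ∤ [χ̃₀, χ₀]`. -/
theorem not_pow_succ_dvd_AAz_self (hM : IsPModular p M) (χ₀ : IrrCharacter G)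
    (hmin : ∀ ψ : IrrCharacter G, SameBlock M (χ₀ : G → ℂ) (ψ : G → ℂ) →
      (charDegree (χ₀ : G → ℂ)).factorization p ≤ (charDegree (ψ : G → ℂ)).factorization p) :
    ¬ (p : ℤ) ^ ((charDegree (χ₀ : G → ℂ)).factorization p + 1) ∣ AAz hM.1 χ₀ χ₀ := by
  classical
  have hP := isPrime_of_isPModular hM
  have hp : p.Prime := hM.1
  intro hdvd
  set e := (charDegree (χ₀ : G → ℂ)).factorization p with he
  have hall : ∀ ψ : IrrCharacter G, (p : ℤ) ^ (e + 1) ∣ AAz hp χ₀ ψ := by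
    intro ψ
    by_cases hs : SameBlock M (χ₀ : G → ℂ) (ψ : G → ℂ)
    · have h1 : (p : ℤ) ^ ((charDegree (ψ : G → ℂ)).factorization p + 1) ∣ AAz hp ψ χ₀ :=
        (pow_succ_dvd_AAz_iff hM (sameBlock_symm hs) χ₀).mpr hdvd
      rw [AAz_symm hp χ₀ ψ]
      exact (pow_dvd_pow _ (Nat.succ_le_succ (hmin ψ hs))).trans h1
    · rw [AAz_eq_zero_of_not_sameBlock hM χ₀ ψ hs]
      exact dvd_zero _
  apply not_isGeneralizedCharacter_tilde_div hp χ₀
  have hcf : IsClassFunction G (fun x => tilde p (χ₀ : G → ℂ) x / (p : ℂ) ^ (e + 1)) := by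
    intro g h
    show tilde p (χ₀ : G → ℂ) (h * g * h⁻¹) / _ = tilde p (χ₀ : G → ℂ) g / _
    rw [tilde_isClassFunction p (irr_isClassFunction χ₀) g h]
  refine isGeneralizedCharacter_of_classInner_int hcf fun ψ => ?_
  obtain ⟨n, hn⟩ := hall ψ
  refine ⟨n, ?_⟩
  have hp0 : ((p : ℂ)) ^ (e + 1) ≠ 0 := pow_ne_zero _ (Nat.cast_ne_zero.2 hp.ne_zero)
  have e1 : (fun x => tilde p (χ₀ : G → ℂ) x / (p : ℂ) ^ (e + 1)) =
      ((p : ℂ) ^ (e + 1))⁻¹ • tilde p (χ₀ : G → ℂ) := by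
    funext x
    rw [Pi.smul_apply, smul_eq_mul, div_eq_inv_mul]
  rw [e1, classInner_smul_left]
  have e2 : classInner (tilde p (χ₀ : G → ℂ)) (ψ : G → ℂ) = (AAz hp χ₀ ψ : ℂ) := AAz_spec hp χ₀ ψ
  rw [e2, hn]
  push_cast
  field_simp

/-- For `χ₀` of height zero and `ψ` in its block, `p^{ν(ψ(1))+1} ∤ [ψ̃, χ₀]`; in particular
`[χ̃₀, ψ] ≠ 0`. -/
theorem not_pow_succ_dvd_AAz (hM : IsPModular p M) (χ₀ : IrrCharacter G)
    (hmin : ∀ ψ : IrrCharacter G, SameBlock M (χ₀ : G → ℂ) (ψ : G → ℂ) →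
      (charDegree (χ₀ : G → ℂ)).factorization p ≤ (charDegree (ψ : G → ℂ)).factorization p)
    (ψ : IrrCharacter G) (hs : SameBlock M (χ₀ : G → ℂ) (ψ : G → ℂ)) :
    ¬ (p : ℤ) ^ ((charDegree (ψ : G → ℂ)).factorization p + 1) ∣ AAz hM.1 χ₀ ψ := by
  haveI hP := isPrime_of_isPModular hM
  intro h
  rw [AAz_symm] at h
  exact not_pow_succ_dvd_AAz_self hM χ₀ hmin
    ((pow_succ_dvd_AAz_iff hM (sameBlock_symm hs) χ₀).mp h)

theorem AAz_ne_zero (hM : IsPModular p M) (χ₀ : IrrCharacter G)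
    (hmin : ∀ ψ : IrrCharacter G, SameBlock M (χ₀ : G → ℂ) (ψ : G → ℂ) →
      (charDegree (χ₀ : G → ℂ)).factorization p ≤ (charDegree (ψ : G → ℂ)).factorization p)
    (ψ : IrrCharacter G) (hs : SameBlock M (χ₀ : G → ℂ) (ψ : G → ℂ)) :
    AAz hM.1 χ₀ ψ ≠ 0 := by
  intro h0
  apply not_pow_succ_dvd_AAz hM χ₀ hmin ψ hs
  rw [h0]; exact dvd_zero _

end Cfsg.Agent.Lib.L0.BrauerFeit
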