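import Mathlib
import Cfsg.Agent.Lib.H23.BlockInduce
import Cfsg.Agent.Lib.H23.FullyRamified
import Cfsg.Agent.Lib.L0.CharIndChar
import Cfsg.Agent.Lib.L0.BrauerFeit

/-!
# Block parts of characters induced from a block with defined induced block (lead)

* `pow_succ_dvd_of_memLocalIdeal_div`: if `n / t` lies in the local ideal (`n : ℤ`, `t : ℕ` positive)
  then `p ^ (ν_p(t) + 1) ∣ n`;
* `charEval_indFun`: `ξ^G(z) = [G:H] ξ(res z)` for central `z`;
* `omega_indFun`: `ω_{ξ^G}(z) = ω_ξ(res z)`;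
* `blockPart_one_eq_charEval`: `(ϑ_B)(1) = ϑ(e_B)` for class functions `ϑ`;
* `blockPart_indFun_div_sub_mem`: if `b^G = B₀`, `ξ ∈ b`: `(ξ^G)_B(1)/ξ^G(1) ≡ δ_{B,B₀}`.
-/

set_option autoImplicit false

namespace Cfsg.Agent.Lib.L0.InducedBlockPart

open Cfsg Cfsg.Agent.Lib.H23 Cfsg.Agent.Lib.H24 Cfsg.Agent.Lib.L0
open scoped ComplexConjugate

section Arith

variable {p : ℕ} {M : Ideal AlgInt}

theorem pow_succ_dvd_of_memLocalIdeal_div (hM : IsPModular p M) (n : ℤ) (t : ℕ) (ht : 0 < t)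
    (h : MemLocalIdeal M ((n : ℂ) / (t : ℂ))) : (p : ℤ) ^ (t.factorization p + 1) ∣ n := by
  have hP := isPrime_of_isPModular hM
  have hp : p.Prime := hM.1
  set s := t.factorization p with hs
  set c := t / p ^ s with hc
  have hsplit : p ^ s * c = t := Nat.ordProj_mul_ordCompl_eq_self t p
  have hcp : ¬ p ∣ c := Nat.not_dvd_ordCompl hp ht.ne'
  have hp0 : (p : ℂ) ≠ 0 := Nat.cast_ne_zero.2 hp.ne_zero
  have hc0 : (c : ℂ) ≠ 0 := by
    intro h0
    have : c = 0 := by exact_mod_cast h0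
    exact hcp (this ▸ dvd_zero p)
  have h1 : MemLocalIdeal M ((n : ℂ) / (p : ℂ) ^ s) := by
    have e : (n : ℂ) / (p : ℂ) ^ s = (c : ℂ) * ((n : ℂ) / (t : ℂ)) := by
      rw [← hsplit]
      push_cast
      field_simp
    rw [e]
    exact memLocalIdeal_mul_left (natCast_mem_localRing c) h
  obtain ⟨q, hq⟩ := pow_dvd_of_intCast_div_mem hM s n (memLocalRing_of_memLocalIdeal h1)
  have h2 : MemLocalIdeal M (q : ℂ) := by
    have e : (q : ℂ) = (n : ℂ) / (p : ℂ) ^ s := by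
      rw [hq]
      push_cast
      field_simp
    rw [e]; exact h1
  obtain ⟨q', hq'⟩ := (intCast_memLocalIdeal_iff hM q).1 h2
  rw [hq, hq', pow_succ]
  exact ⟨q', by ring⟩

/-- If `n / t ≡ 1` modulo the local ideal then `n ≠ 0` and `ν_p(n) = ν_p(t)`. -/
theorem factorization_eq_of_div_sub_one_mem (hM : IsPModular p M) (n t : ℕ) (ht : 0 < t)
    (h : MemLocalIdeal M ((n : ℂ) / (t : ℂ) - 1)) :
    n ≠ 0 ∧ n.factorization p = t.factorization p := by
  have hp : p.Prime := hM.1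
  have ht0 : (t : ℂ) ≠ 0 := Nat.cast_ne_zero.2 ht.ne'
  have h1 : MemLocalIdeal M ((((n : ℤ) - (t : ℤ) : ℤ) : ℂ) / (t : ℂ)) := by
    have e : (((n : ℤ) - (t : ℤ) : ℤ) : ℂ) / (t : ℂ) = (n : ℂ) / (t : ℂ) - 1 := by
      push_cast
      field_simp
    rw [e]; exact h
  have h2 := pow_succ_dvd_of_memLocalIdeal_div hM _ t ht h1
  set s := t.factorization p with hs
  have hts : (p : ℤ) ^ s ∣ (t : ℤ) := by
    exact_mod_cast Nat.ordProj_dvd t p
  have hts' : ¬ (p : ℤ) ^ (s + 1) ∣ (t : ℤ) := by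
    intro hd
    have : p ^ (s + 1) ∣ t := by exact_mod_cast hd
    exact Nat.pow_succ_factorization_not_dvd ht.ne' hp this
  have hn1 : (p : ℤ) ^ s ∣ (n : ℤ) := by
    have : (p : ℤ) ^ s ∣ (n : ℤ) - (t : ℤ) := (pow_dvd_pow _ (Nat.le_succ s)).trans h2
    have := dvd_add this hts
    simpa using this
  have hn2 : ¬ (p : ℤ) ^ (s + 1) ∣ (n : ℤ) := by
    intro hd
    apply hts'
    have := dvd_sub hd h2
    simpa using this
  have hn0 : n ≠ 0 := by
    intro h0
    apply hn2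
    rw [h0]
    exact dvd_zero _
  refine ⟨hn0, ?_⟩
  have hn1' : p ^ s ∣ n := by exact_mod_cast hn1
  have hn2' : ¬ p ^ (s + 1) ∣ n := fun hd => hn2 (by exact_mod_cast hd)
  have h3 : s ≤ n.factorization p := (hp.pow_dvd_iff_le_factorization hn0).mp hn1'
  have h4 : ¬ s + 1 ≤ n.factorization p := fun hle =>
    hn2' ((hp.pow_dvd_iff_le_factorization hn0).mpr hle)
  omega

end Arith

section Ind

variable {G : Type*} [Group G] [Fintype G] (H : Subgroup G) [Fintype H]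

/-- `ξ^G(z) = [G:H] ξ(res z)` for central `z`. -/
theorem charEval_indFun (ξ : H → ℂ) {z : MonoidAlgebra ℂ G}
    (hz : z ∈ Subalgebra.center ℂ (MonoidAlgebra ℂ G)) :
    charEval (indFun H ξ) z = (H.index : ℂ) * charEval ξ (resAlg H z) := by
  classical
  unfold charEval
  simp only [indFun_apply, coeff_resAlg]
  have h1 : ∑ g : G, z.coeff g * ((Nat.card H : ℂ)⁻¹ * ∑ x : G, extendByZero H ξ (x⁻¹ * g * x)) =
      (Nat.card H : ℂ)⁻¹ * ∑ x : G, ∑ g : G, extendByZero H ξ (x⁻¹ * g * x) * z.coeff g := by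
    rw [Finset.sum_comm, Finset.mul_sum]
    refine Finset.sum_congr rfl fun g _ => ?_
    rw [← Finset.sum_mul]
    ring
  have h2 : ∀ x : G, ∑ g : G, extendByZero H ξ (x⁻¹ * g * x) * z.coeff g =
      ∑ h : H, ξ h * z.coeff (h : G) := by
    intro x
    rw [← sum_extendByZero_mul H ξ (fun g => z.coeff g)]
    refine Fintype.sum_equiv (MulAut.conj x⁻¹).toEquiv _ _ fun g => ?_
    simp only [MulEquiv.toEquiv_eq_coe, MulEquiv.coe_toEquiv, MulAut.conj_apply, inv_inv]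
    congr 1
    have := coeff_conj_of_mem_center hz g x⁻¹
    rw [inv_inv] at this
    exact this.symm
  rw [h1, Finset.sum_congr rfl fun x _ => h2 x, Finset.sum_const, Finset.card_univ, nsmul_eq_mul,
    ← Nat.card_eq_fintype_card, ← Subgroup.card_mul_index H]
  have hA : (Nat.card H : ℂ) ≠ 0 := Nat.cast_ne_zero.mpr Nat.card_pos.ne'
  push_cast
  have h3 : ∑ h : H, ξ h * z.coeff (h : G) = ∑ h : H, z.coeff (h : G) * ξ h :=
    Finset.sum_congr rfl fun h _ => mul_comm _ _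
  rw [h3]
  field_simp

theorem omega_indFun (ξ : H → ℂ) {z : MonoidAlgebra ℂ G}
    (hz : z ∈ Subalgebra.center ℂ (MonoidAlgebra ℂ G)) :
    omega (indFun H ξ) z = omega ξ (resAlg H z) := by
  rw [omega, omega, charEval_indFun H ξ hz, indFun_one']
  have hI : (H.index : ℂ) ≠ 0 := Nat.cast_ne_zero.mpr (Subgroup.index_ne_zero_of_finite)
  by_cases h1 : ξ 1 = 0
  · rw [h1, mul_zero, div_zero, div_zero]
  · field_simp

end Ind

section Part

variable {G : Type*} [Group G] [Fintype G]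

theorem blockPart_apply (B : Set (IrrCharacter G)) (ϑ : G → ℂ) (g : G) :
    blockPart B ϑ g = ∑ᶠ χ ∈ B, classInner ϑ (χ : G → ℂ) * (χ : G → ℂ) g := by
  have h : Fintype.ofFinite G = ‹Fintype G› := Subsingleton.elim _ _
  unfold blockPart
  rw [h]

/-- `(ϑ_B)(1) = ϑ(e_B)`. -/
theorem blockPart_one_eq_charEval [Fintype (IrrCharacter G)] (B : Set (IrrCharacter G))
    [DecidablePred (· ∈ B)] (ϑ : G → ℂ) :
    blockPart B ϑ 1 = charEval ϑ (blockIdem B) := by
  classical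
  rw [blockPart_apply]
  unfold charEval
  simp only [coeff_blockIdem, blockCoeff_eq_sum]
  rw [finsum_mem_eq_sum_ite]
  simp only [Finset.sum_mul, Finset.mul_sum]
  rw [Finset.sum_comm]
  refine Finset.sum_congr rfl fun χ _ => ?_
  split_ifs with h
  · unfold classInner
    rw [Finset.mul_sum, Finset.sum_mul]
    refine Finset.sum_congr rfl fun g _ => ?_
    rw [Nat.card_eq_fintype_card]
    ring
  · simp

/-- If `b^G = B₀` and `ξ ∈ b`, then `(ξ^G)_B(1) / ξ^G(1) ≡ δ_{B, B₀}` modulo the local ideal. -/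
theorem blockPart_indFun_div_sub_mem {p : ℕ} {M : Ideal AlgInt} (hM : IsPModular p M)
    (H : Subgroup G) [Fintype H] {b : Set (IrrCharacter H)} {B₀ : Set (IrrCharacter G)}
    (hind : IsInducedBlock M H b B₀) {ξ : IrrCharacter H} (hξ : ξ ∈ b)
    {χ₀ : IrrCharacter G} (hχ₀ : χ₀ ∈ B₀) (χ₁ : IrrCharacter G)
    [DecidablePred (· ∈ blockOf M (χ₁ : G → ℂ))] :
    MemLocalIdeal M (blockPart (blockOf M (χ₁ : G → ℂ)) (indFun H (ξ : H → ℂ)) 1 /
      indFun H (ξ : H → ℂ) 1 - if χ₀ ∈ blockOf M (χ₁ : G → ℂ) then 1 else 0) := by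
  classical
  haveI := Fintype.ofFinite (IrrCharacter G)
  haveI hPr := isPrime_of_isPModular hM
  have hc := blockIdem_mem_center (blockOf M (χ₁ : G → ℂ))
  have hi : blockIdem (blockOf M (χ₁ : G → ℂ)) ∈ intCoeff (G := G) M :=
    fun g => blockIdem_memLocalRing hM χ₁ g
  have h1 := omega_resAlg_sub_memLocalIdeal H hind hξ hχ₀ hc hi
  rw [omega_blockIdem, ← omega_indFun H _ hc, omega, ← blockPart_one_eq_charEval] at h1
  convert h1 using 2

end Part

end Cfsg.Agent.Lib.L0.InducedBlockPart
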