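import Mathlib
import Cfsg.Agent.S0925
import Cfsg.Agent.Lib.L0.BlockRankTrace
import Cfsg.Agent.Lib.L0.InducedBlockPart
import Cfsg.Agent.Lib.H23.BlockSection
import Cfsg.Agent.Lib.H23.BlockGenDecomp
import Cfsg.Agent.Lib.H23.BlockFirstMain
import Cfsg.Agent.Lib.H23.BlockSecondMain

/-!
# The trace identity for subsections (lead)

`x` a `p`-element of `G`, `C = C_G(x)`, `b` a block of `C`. For `ζ ∈ Irr(G)` let
`F^ζ(s) = ∑_k β_b(k) ζ(k x s)` (the `b`-part of `c ↦ ζ(x c)`).
* `orth_section`: `∑_ζ ζ(x c) conj ζ(x c') = ∑_ξ ξ(c) conj ξ(c')` for `p`-regular `c, c' ∈ C`;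
* `sum_normSq_bpart`: `∑_ζ |F^ζ(s)|² = ∑_{ξ ∈ b} |ξ(s)|²` for `p`-regular `s`;
* `sum_bpart_eq_card_mul_blockRank`: `∑_ζ ∑_{s p-regular} |F^ζ(s)|² = |C| l(b)`.
-/

set_option autoImplicit false

namespace Cfsg.Agent.Lib.L0.SubsectionTrace

open Cfsg MonoidAlgebra Cfsg.Agent.Lib.H23 Cfsg.Agent.Lib.H24 Cfsg.Agent.Lib.L0
  Cfsg.Agent.Lib.L0.BlockRankTrace Cfsg.Agent.Lib.L0.InducedBlockPart
open scoped ComplexConjugate

section GroupTheory

variable {G : Type*} [Group G] [Fintype G] {p : ℕ} (hp : p.Prime) {x : G}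
  (hx : ∃ k : ℕ, orderOf x = p ^ k) {C : Subgroup G}
  (hC : C = Subgroup.centralizer ({x} : Set G))

include hC in
theorem comm_of_mem (c : C) : (c : G) * x = x * (c : G) := by
  have h1 : (c : G) ∈ Subgroup.centralizer ({x} : Set G) := hC ▸ c.2
  exact (Subgroup.mem_centralizer_singleton_iff.1 h1)

include hp hx hC in
/-- Conjugacy in the section of `x` is conjugacy in `C_G(x)` of the `p`-regular factors. -/
theorem isConj_section_iff {c c' : C} (hc : ¬ p ∣ orderOf c) (hc' : ¬ p ∣ orderOf c') :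
    IsConj (x * (c : G)) (x * (c' : G)) ↔ IsConj c c' := by
  have hcG : ¬ p ∣ orderOf (c : G) := by rwa [Subgroup.orderOf_coe]
  have hcG' : ¬ p ∣ orderOf (c' : G) := by rwa [Subgroup.orderOf_coe]
  have hcomm : Commute x (c : G) := (comm_of_mem hC c).symm
  have hcomm' : Commute x (c' : G) := (comm_of_mem hC c').symm
  constructor
  · intro h
    obtain ⟨g, hg⟩ := isConj_iff.1 h
    have h1 : IsPPart p (g * (x * (c : G)) * g⁻¹) (g * x * g⁻¹) :=
      IsPPart.conj (isPPart_mul hcomm hx hcG) g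
    rw [hg] at h1
    have h2 : g * x * g⁻¹ = x := IsPPart.unique hp h1 (isPPart_mul hcomm' hx hcG')
    have hgC : g ∈ C := by
      rw [hC, Subgroup.mem_centralizer_singleton_iff]
      calc g * x = (g * x * g⁻¹) * g := by group
        _ = x * g := by rw [h2]
    rw [isConj_iff]
    refine ⟨⟨g, hgC⟩, ?_⟩
    apply Subtype.ext
    simp only [Subgroup.coe_mul, Subgroup.coe_inv]
    have h3 : g * (x * (c : G)) * g⁻¹ = (g * x * g⁻¹) * (g * (c : G) * g⁻¹) := by group
    rw [h3, h2] at hg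
    exact mul_left_cancel hg
  · intro h
    obtain ⟨k, hk⟩ := isConj_iff.1 h
    rw [isConj_iff]
    refine ⟨(k : G), ?_⟩
    have h1 : (k : G) * (c : G) * (k : G)⁻¹ = (c' : G) := by
      have := congrArg (Subtype.val : C → G) hk
      simpa using this
    have h2 := comm_of_mem hC k
    calc (k : G) * (x * (c : G)) * (k : G)⁻¹ = ((k : G) * x) * (c : G) * (k : G)⁻¹ := by group
      _ = (x * (k : G)) * (c : G) * (k : G)⁻¹ := by rw [h2]
      _ = x * ((k : G) * (c : G) * (k : G)⁻¹) := by group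
      _ = x * (c' : G) := by rw [h1]

include hp hx hC in
theorem card_centralizer_section {c : C} (hc : ¬ p ∣ orderOf c) :
    Nat.card (Subgroup.centralizer ({x * (c : G)} : Set G)) =
      Nat.card (Subgroup.centralizer ({c} : Set C)) := by
  have hcG : ¬ p ∣ orderOf (c : G) := by rwa [Subgroup.orderOf_coe]
  have hcomm : Commute x (c : G) := (comm_of_mem hC c).symm
  have h1 : (Subgroup.centralizer ({c} : Set C)).map C.subtype =
      Subgroup.centralizer ({x * (c : G)} : Set G) := by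
    rw [map_centralizer_subtype]
    ext g
    rw [Subgroup.mem_inf, Subgroup.mem_centralizer_singleton_iff,
      Subgroup.mem_centralizer_singleton_iff]
    constructor
    · rintro ⟨h1, h2⟩
      have h3 := comm_of_mem hC ⟨g, h2⟩
      simp only at h3
      calc g * (x * (c : G)) = (g * x) * (c : G) := by group
        _ = (x * g) * (c : G) := by rw [h3]
        _ = x * (g * (c : G)) := by group
        _ = x * ((c : G) * g) := by rw [h1]
        _ = x * (c : G) * g := by group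
    · intro h
      have h1 : IsPPart p (g * (x * (c : G)) * g⁻¹) (g * x * g⁻¹) :=
        IsPPart.conj (isPPart_mul hcomm hx hcG) g
      have h0 : g * (x * (c : G)) * g⁻¹ = x * (c : G) := by
        rw [h]; group
      rw [h0] at h1
      have h2 : g * x * g⁻¹ = x := IsPPart.unique hp h1 (isPPart_mul hcomm hx hcG)
      have hgx : g * x = x * g := by
        calc g * x = (g * x * g⁻¹) * g := by group
          _ = x * g := by rw [h2]
      refine ⟨?_, ?_⟩
      · have h3 : x * (g * (c : G)) = x * ((c : G) * g) := by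
          calc x * (g * (c : G)) = (x * g) * (c : G) := by group
            _ = (g * x) * (c : G) := by rw [hgx]
            _ = g * (x * (c : G)) := by group
            _ = x * (c : G) * g := h
            _ = x * ((c : G) * g) := by group
        exact mul_left_cancel h3
      · rw [hC, Subgroup.mem_centralizer_singleton_iff]
        exact hgx
  rw [← h1, Subgroup.card_map_of_injective C.subtype_injective]

end GroupTheory

section Proj

variable {K : Type*} [Group K] [Fintype K] {p : ℕ} {M : Ideal AlgInt}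

/-- The `b`-part of a function, via the block idempotent. -/
noncomputable def proj (b : Set (IrrCharacter K)) (ϑ : K → ℂ) (s : K) : ℂ :=
  ∑ k : K, blockCoeff b k * ϑ (k * s)

theorem proj_irr (b : Set (IrrCharacter K)) [DecidablePred (· ∈ b)] (ξ : IrrCharacter K) (s : K) :
    proj b (ξ : K → ℂ) s = if ξ ∈ b then (ξ : K → ℂ) s else 0 :=
  sum_blockCoeff_mul_irr b ξ s

theorem proj_eq_blockPart (b : Set (IrrCharacter K)) {ϑ : K → ℂ} (hϑ : IsClassFunction K ϑ)
    (s : K) : proj b ϑ s = blockPart b ϑ s := by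
  classical
  haveI := Fintype.ofFinite (IrrCharacter K)
  unfold proj
  rw [sum_blockCoeff_mul_classFunction b hϑ s, blockPart_apply, finsum_mem_eq_sum_ite]
  refine Finset.sum_congr rfl fun ψ _ => ?_
  split_ifs
  · ring
  · ring

theorem proj_sub (b : Set (IrrCharacter K)) (ϑ ϑ' : K → ℂ) (s : K) :
    proj b (ϑ - ϑ') s = proj b ϑ s - proj b ϑ' s := by
  unfold proj
  rw [← Finset.sum_sub_distrib]
  refine Finset.sum_congr rfl fun k _ => ?_
  simp only [Pi.sub_apply]
  ring

theorem proj_sum {ι : Type*} (t : Finset ι) (b : Set (IrrCharacter K)) (a : ι → ℂ)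
    (f : ι → K → ℂ) (s : K) :
    proj b (fun c => ∑ i ∈ t, a i * f i c) s = ∑ i ∈ t, a i * proj b (f i) s := by
  unfold proj
  simp only [Finset.mul_sum]
  rw [Finset.sum_comm]
  refine Finset.sum_congr rfl fun i _ => ?_
  refine Finset.sum_congr rfl fun k _ => ?_
  ring

/-- The block parts of a class function vanishing on the `p`-regular elements vanish there. -/
theorem proj_eq_zero_of_vanish [Fact p.Prime] (hM : IsPModular p M) (ξ₀ : IrrCharacter K)
    {ϑ : K → ℂ} (hϑ : IsClassFunction K ϑ) (hv : ∀ c : K, ¬ p ∣ orderOf c → ϑ c = 0)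
    {s : K} (hs : ¬ p ∣ orderOf s) : proj (blockOf M (ξ₀ : K → ℂ)) ϑ s = 0 := by
  rw [proj_eq_blockPart _ hϑ]
  have h := (Cfsg.Agent.S0925.result (G := K) p M hM).1 ϑ hϑ 1 ⟨0, by simp⟩
  refine h ?_ _ ⟨ξ₀, rfl⟩ s 1 ⟨s, one_mul s, Commute.one_left s, ⟨0, by rw [orderOf_one, pow_zero]⟩, hs⟩ (IsConj.refl 1)
  intro u z hz hconj
  have hz1 : z = 1 := ((isConj_one_left).1 hconj.symm)
  subst hz1
  obtain ⟨y, hy1, _, _, hy⟩ := hz
  rw [one_mul] at hy1
  subst hy1
  exact hv _ hy

end Proj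

section Orth

variable {G : Type*} [Group G] [Fintype G] {p : ℕ} (hp : p.Prime) {x : G}
  (hx : ∃ k : ℕ, orderOf x = p ^ k) {C : Subgroup G}
  (hC : C = Subgroup.centralizer ({x} : Set G))

include hp hx hC in
/-- Column orthogonality in the section of `x`. -/
theorem orth_section [Fintype (IrrCharacter G)] [Fintype (IrrCharacter C)] {c c' : C}
    (hc : ¬ p ∣ orderOf c) (hc' : ¬ p ∣ orderOf c') :
    ∑ ζ : IrrCharacter G, (ζ : G → ℂ) (x * (c : G)) * conj ((ζ : G → ℂ) (x * (c' : G))) =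
      ∑ ξ : IrrCharacter C, (ξ : C → ℂ) c * conj ((ξ : C → ℂ) c') := by
  classical
  rw [second_orthogonality, second_orthogonality, card_centralizer_section hp hx hC hc]
  by_cases h : IsConj c c'
  · rw [if_pos h, if_pos ((isConj_section_iff hp hx hC hc hc').2 h)]
  · rw [if_neg h, if_neg (fun h' => h ((isConj_section_iff hp hx hC hc hc').1 h'))]

/-- The function `c ↦ ζ(x c)` on `C`. -/
def sec (x : G) (C : Subgroup G) (ζ : G → ℂ) : C → ℂ := fun c => ζ (x * (c : G))

include hC in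
theorem sec_isClassFunction (ζ : IrrCharacter G) : IsClassFunction C (sec x C (ζ : G → ℂ)) := by
  intro g h
  unfold sec
  have h1 := comm_of_mem hC h
  have h2 : x * ((h * g * h⁻¹ : C) : G) = (h : G) * (x * (g : G)) * (h : G)⁻¹ := by
    simp only [Subgroup.coe_mul, Subgroup.coe_inv]
    calc x * ((h : G) * (g : G) * (h : G)⁻¹) = (x * (h : G)) * (g : G) * (h : G)⁻¹ := by group
      _ = ((h : G) * x) * (g : G) * (h : G)⁻¹ := by rw [h1]
      _ = (h : G) * (x * (g : G)) * (h : G)⁻¹ := by group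
  rw [h2, irr_conj]

end Orth

section Trace

variable {G : Type*} [Group G] [Fintype G] {p : ℕ} [hpF : Fact p.Prime] {M : Ideal AlgInt}
  {x : G} (hx : ∃ k : ℕ, orderOf x = p ^ k) {C : Subgroup G} [Fintype C]
  (hC : C = Subgroup.centralizer ({x} : Set G))

theorem isClassFunction_sum_mul {K : Type*} [Group K] {ι : Type*} (t : Finset ι) (a : ι → ℂ)
    (f : ι → K → ℂ) (hf : ∀ i, IsClassFunction K (f i)) :
    IsClassFunction K (fun c => ∑ i ∈ t, a i * f i c) := by
  intro g h
  simp only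
  refine Finset.sum_congr rfl fun i _ => ?_
  rw [hf i g h]

theorem isClassFunction_sub {K : Type*} [Group K] {f g : K → ℂ} (hf : IsClassFunction K f)
    (hg : IsClassFunction K g) : IsClassFunction K (f - g) := by
  intro a h
  simp only [Pi.sub_apply]
  rw [hf a h, hg a h]

include hx hC in
/-- (†): `∑_ζ conj ζ(x s') F^ζ(s) = ∑_{ξ ∈ b} conj ξ(s') ξ(s)` for `p`-regular `s, s'`. -/
theorem dagger (hM : IsPModular p M) (ξ₀ : IrrCharacter C)
    [Fintype (IrrCharacter G)] [Fintype (IrrCharacter C)]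
    [DecidablePred (· ∈ blockOf M (ξ₀ : C → ℂ))] {s s' : C}
    (hs : ¬ p ∣ orderOf s) (hs' : ¬ p ∣ orderOf s') :
    ∑ ζ : IrrCharacter G, conj ((ζ : G → ℂ) (x * (s' : G))) *
        proj (blockOf M (ξ₀ : C → ℂ)) (sec x C (ζ : G → ℂ)) s =
      ∑ ξ : IrrCharacter C, if ξ ∈ blockOf M (ξ₀ : C → ℂ) then
        conj ((ξ : C → ℂ) s') * (ξ : C → ℂ) s else 0 := by
  set b := blockOf M (ξ₀ : C → ℂ) with hb
  set f : C → ℂ := fun c => ∑ ζ ∈ (Finset.univ : Finset (IrrCharacter G)),
    conj ((ζ : G → ℂ) (x * (s' : G))) * sec x C (ζ : G → ℂ) c with hf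
  set g : C → ℂ := fun c => ∑ ξ ∈ (Finset.univ : Finset (IrrCharacter C)),
    conj ((ξ : C → ℂ) s') * (ξ : C → ℂ) c with hg
  have hfcf : IsClassFunction C f :=
    isClassFunction_sum_mul _ _ _ (fun ζ => sec_isClassFunction hC ζ)
  have hgcf : IsClassFunction C g :=
    isClassFunction_sum_mul _ _ _ (fun ξ => irr_isClassFunction ξ)
  have hv : ∀ c : C, ¬ p ∣ orderOf c → (f - g) c = 0 := by
    intro c hc
    have h := orth_section hpF.out hx hC hc hs'
    simp only [Pi.sub_apply, hf, hg, sec]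
    rw [sub_eq_zero, ← (Finset.sum_congr rfl fun ξ _ => mul_comm _ _ :
      ∑ ξ : IrrCharacter C, (ξ : C → ℂ) c * conj ((ξ : C → ℂ) s') = _), ← h]
    exact Finset.sum_congr rfl fun ζ _ => mul_comm _ _
  have h0 := proj_eq_zero_of_vanish hM ξ₀ (isClassFunction_sub hfcf hgcf) hv hs
  rw [proj_sub, hf, hg, proj_sum, proj_sum, sub_eq_zero] at h0
  rw [h0]
  refine Finset.sum_congr rfl fun ξ _ => ?_
  rw [proj_irr]
  split_ifs
  · rfl
  · rw [mul_zero]

include hx hC in
/-- `∑_ζ |F^ζ(s)|² = ∑_{ξ ∈ b} |ξ(s)|²` for `p`-regular `s`. -/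
theorem sum_normSq_bpart (hM : IsPModular p M) (ξ₀ : IrrCharacter C)
    [Fintype (IrrCharacter G)] [Fintype (IrrCharacter C)]
    [DecidablePred (· ∈ blockOf M (ξ₀ : C → ℂ))] {s : C} (hs : ¬ p ∣ orderOf s) :
    ∑ ζ : IrrCharacter G, conj (proj (blockOf M (ξ₀ : C → ℂ)) (sec x C (ζ : G → ℂ)) s) *
        proj (blockOf M (ξ₀ : C → ℂ)) (sec x C (ζ : G → ℂ)) s =
      ∑ ξ : IrrCharacter C, if ξ ∈ blockOf M (ξ₀ : C → ℂ) then
        conj ((ξ : C → ℂ) s) * (ξ : C → ℂ) s else 0 := by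
  set b := blockOf M (ξ₀ : C → ℂ) with hb
  set f : C → ℂ := fun c => ∑ ζ ∈ (Finset.univ : Finset (IrrCharacter G)),
    conj (proj b (sec x C (ζ : G → ℂ)) s) * sec x C (ζ : G → ℂ) c with hf
  set g : C → ℂ := fun c => ∑ ξ ∈ (Finset.univ : Finset (IrrCharacter C)),
    (if ξ ∈ b then conj ((ξ : C → ℂ) s) else 0) * (ξ : C → ℂ) c with hg
  have hfcf : IsClassFunction C f :=
    isClassFunction_sum_mul _ _ _ (fun ζ => sec_isClassFunction hC ζ)
  have hgcf : IsClassFunction C g :=
    isClassFunction_sum_mul _ _ _ (fun ξ => irr_isClassFunction ξ)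
  have hv : ∀ c : C, ¬ p ∣ orderOf c → (f - g) c = 0 := by
    intro c hc
    have h := congrArg conj (dagger hx hC hM ξ₀ hs hc)
    simp only [Pi.sub_apply, hf, hg, sec]
    rw [sub_eq_zero]
    rw [map_sum, map_sum] at h
    convert h using 1
    · refine Finset.sum_congr rfl fun ζ _ => ?_
      rw [map_mul, Complex.conj_conj, mul_comm]
    · refine Finset.sum_congr rfl fun ξ _ => ?_
      split_ifs
      · rw [map_mul, Complex.conj_conj, mul_comm]
      · rw [zero_mul, map_zero]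
  have h0 := proj_eq_zero_of_vanish hM ξ₀ (isClassFunction_sub hfcf hgcf) hv hs
  rw [proj_sub, hf, hg, proj_sum, proj_sum, sub_eq_zero] at h0
  rw [h0]
  refine Finset.sum_congr rfl fun ξ _ => ?_
  rw [proj_irr]
  split_ifs
  · rfl
  · rw [mul_zero]

end Trace

section Trace2

variable {G : Type*} [Group G] [Fintype G] {p : ℕ} [hpF : Fact p.Prime] {M : Ideal AlgInt}
  {x : G} (hx : ∃ k : ℕ, orderOf x = p ^ k) {C : Subgroup G} [Fintype C]
  (hC : C = Subgroup.centralizer ({x} : Set G))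

include hx hC in
/-- `∑_ζ ∑_{s p-regular} |F^ζ(s)|² = |C| l(b)`. -/
theorem sum_bpart_eq_card_mul_blockRank (hM : IsPModular p M) (ξ₀ : IrrCharacter C)
    [Fintype (IrrCharacter G)] :
    ∑ ζ : IrrCharacter G, ∑ s : C, (if p ∣ orderOf s then 0 else
        conj (proj (blockOf M (ξ₀ : C → ℂ)) (sec x C (ζ : G → ℂ)) s) *
          proj (blockOf M (ξ₀ : C → ℂ)) (sec x C (ζ : G → ℂ)) s) =
      (Nat.card C : ℂ) * (blockRank p (blockOf M (ξ₀ : C → ℂ)) : ℂ) := by
  classical
  haveI := Fintype.ofFinite (IrrCharacter C)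
  rw [Finset.sum_comm]
  have h1 : ∀ s : C, ∑ ζ : IrrCharacter G, (if p ∣ orderOf s then 0 else
        conj (proj (blockOf M (ξ₀ : C → ℂ)) (sec x C (ζ : G → ℂ)) s) *
          proj (blockOf M (ξ₀ : C → ℂ)) (sec x C (ζ : G → ℂ)) s) =
      ∑ ξ ∈ Finset.univ.filter (· ∈ blockOf M (ξ₀ : C → ℂ)),
        (if p ∣ orderOf s then 0 else (ξ : C → ℂ) s * conj ((ξ : C → ℂ) s)) := by
    intro s
    by_cases hs : p ∣ orderOf s
    · simp only [if_pos hs, Finset.sum_const_zero]
    · simp only [if_neg hs]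
      rw [sum_normSq_bpart hx hC hM ξ₀ hs, Finset.sum_filter]
      refine Finset.sum_congr rfl fun ξ _ => ?_
      split_ifs
      · rw [mul_comm]
      · rfl
  rw [Finset.sum_congr rfl fun s _ => h1 s, Finset.sum_comm, ← sum_inner0_eq_blockRank hM ξ₀,
    Finset.mul_sum]
  refine Finset.sum_congr rfl fun ξ _ => ?_
  unfold inner0
  rw [← mul_assoc, mul_inv_cancel₀, one_mul]
  exact_mod_cast (Nat.card_pos (α := C)).ne'

include hx hC in
/-- Brauer's second main theorem: the `b`-part of `c ↦ ζ(x c)` vanishes on `p`-regular elements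
for `ζ ∉ b^G`. -/
theorem proj_sec_eq_zero (hM : IsPModular p M) {b : Set (IrrCharacter C)}
    {B : Set (IrrCharacter G)} (hind : IsInducedBlock M C b B) (ζ : IrrCharacter G)
    (hζ : ζ ∉ B) {s : C} (hs : ¬ p ∣ orderOf s) : proj b (sec x C (ζ : G → ℂ)) s = 0 := by
  have hxC : x ∈ C := by rw [hC]; exact Subgroup.mem_centralizer_singleton_iff.2 rfl
  have hsG : ¬ p ∣ orderOf (s : G) := by rwa [Subgroup.orderOf_coe]
  have hcomm : Commute x (s : G) := (comm_of_mem hC s).symm
  have hcent : ∀ z : G, IsPPart p (((⟨x, hxC⟩ * s : C) : G)) z →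
      Subgroup.centralizer ({z} : Set G) ≤ C := by
    intro z hz
    have h1 : x = z := IsPPart.unique hpF.out (isPPart_mul hcomm hx hsG) hz
    rw [← h1, hC]
  have h := second_main C hM hind (⟨x, hxC⟩ * s) hcent ζ hζ
  unfold proj sec
  rw [← h]
  refine Finset.sum_congr rfl fun k _ => ?_
  congr 2
  simp only [Subgroup.coe_mul]
  have h2 := comm_of_mem hC k
  have h3 : x * ((k : G) * (s : G)) = (k : G) * (x * (s : G)) := by
    calc x * ((k : G) * (s : G)) = (x * (k : G)) * (s : G) := by group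
      _ = ((k : G) * x) * (s : G) := by rw [h2]
      _ = (k : G) * (x * (s : G)) := by group
  rw [h3]

include hx hC in
/-- `∑_{ζ ∈ B} ∑_{s p-regular} |F^ζ(s)|² = |C| l(b)` when `b^G = B`. -/
theorem sum_block_bpart_eq_card_mul_blockRank (hM : IsPModular p M) (ξ₀ : IrrCharacter C)
    {B : Set (IrrCharacter G)} (hind : IsInducedBlock M C (blockOf M (ξ₀ : C → ℂ)) B)
    [Fintype (IrrCharacter G)] [DecidablePred (· ∈ B)] :
    ∑ ζ : IrrCharacter G, (if ζ ∈ B then ∑ s : C, (if p ∣ orderOf s then 0 else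
        conj (proj (blockOf M (ξ₀ : C → ℂ)) (sec x C (ζ : G → ℂ)) s) *
          proj (blockOf M (ξ₀ : C → ℂ)) (sec x C (ζ : G → ℂ)) s) else 0) =
      (Nat.card C : ℂ) * (blockRank p (blockOf M (ξ₀ : C → ℂ)) : ℂ) := by
  rw [← sum_bpart_eq_card_mul_blockRank hx hC hM ξ₀]
  refine Finset.sum_congr rfl fun ζ _ => ?_
  split_ifs with hζ
  · rfl
  · symm
    refine Finset.sum_eq_zero fun s _ => ?_
    split_ifs with hs
    · rfl
    · rw [proj_sec_eq_zero hx hC hM hind ζ hζ hs, mul_zero]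

end Trace2

section Inv

variable {K : Type*} [Group K] [Fintype K]

theorem blockCoeff_inv (b : Set (IrrCharacter K)) (k : K) :
    blockCoeff b k⁻¹ = conj (blockCoeff b k) := by
  classical
  haveI := Fintype.ofFinite (IrrCharacter K)
  rw [blockCoeff_eq_sum, blockCoeff_eq_sum, map_mul, map_inv₀, Complex.conj_natCast, map_sum]
  congr 1
  refine Finset.sum_congr rfl fun χ _ => ?_
  split_ifs
  · rw [map_mul, irr_one_conj, irr_inv]
  · rw [map_zero]

/-- If `ϑ'(c⁻¹) = conj ϑ(c)` and `ϑ` is a class function, the `b`-part of `ϑ'` at `s⁻¹` is the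
conjugate of the `b`-part of `ϑ` at `s`. -/
theorem proj_inv (b : Set (IrrCharacter K)) {ϑ ϑ' : K → ℂ} (hϑ : IsClassFunction K ϑ)
    (h : ∀ c : K, ϑ' c⁻¹ = conj (ϑ c)) (s : K) :
    proj b ϑ' s⁻¹ = conj (proj b ϑ s) := by
  unfold proj
  rw [map_sum]
  rw [← Equiv.sum_comp (Equiv.inv K)]
  refine Finset.sum_congr rfl fun k _ => ?_
  simp only [Equiv.inv_apply]
  rw [blockCoeff_inv, map_mul]
  congr 1
  have h1 : k⁻¹ * s⁻¹ = (s * k)⁻¹ := by group
  rw [h1, h]
  congr 1
  have h2 : s * k = s * (k * s) * s⁻¹ := by group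
  rw [h2, hϑ]

end Inv

end Cfsg.Agent.Lib.L0.SubsectionTrace
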