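import Mathlib
import Cfsg.Agent.Lib.L0.SubsectionTrace

/-!
# Blockwise Parseval identity on the `p`-regular elements (lead)

For a class function `ϑ` on `K`, with `ϑ_b = proj b ϑ` its `b`-part:
* `sum_proj_eq`: `∑_b ϑ_b = ϑ`;
* `cross_zero`: `∑_{s p-regular} ϑ_b(s) conj ϑ_{b'}(s) = 0` for blocks `b ≠ b'`;
* `sum_pRegular_normSq_eq`: `∑_{s p-regular} |ϑ(s)|² = ∑_b ∑_{s p-regular} |ϑ_b(s)|²`.
-/

set_option autoImplicit false

namespace Cfsg.Agent.Lib.L0.BlockParseval

open Cfsg MonoidAlgebra Cfsg.Agent.Lib.H23 Cfsg.Agent.Lib.H24 Cfsg.Agent.Lib.L0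
  Cfsg.Agent.Lib.L0.SubsectionTrace
open scoped ComplexConjugate

open scoped Classical

variable {K : Type*} [Group K] [Fintype K] {p : ℕ} {M : Ideal AlgInt}

/-- The finite set of blocks of `K`. -/
noncomputable def blocks (M : Ideal AlgInt) (K : Type*) [Group K] [Fintype (IrrCharacter K)] :
    Finset (Set (IrrCharacter K)) :=
  Finset.univ.image (fun ξ : IrrCharacter K => blockOf M (ξ : K → ℂ))

theorem mem_blocks [Fintype (IrrCharacter K)] {b : Set (IrrCharacter K)} :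
    b ∈ blocks M K ↔ IsPBlock M b := by
  unfold blocks IsPBlock
  rw [Finset.mem_image]
  constructor
  · rintro ⟨ξ, _, h⟩
    exact ⟨ξ, h.symm⟩
  · rintro ⟨ξ, h⟩
    exact ⟨ξ, Finset.mem_univ _, h.symm⟩

theorem sum_blockCoeff_blocks [Fintype (IrrCharacter K)] [hPr : M.IsPrime] (k : K) :
    ∑ b ∈ blocks M K, blockCoeff b k = if k = 1 then 1 else 0 := by
  have h := congrArg (fun z : MonoidAlgebra ℂ K => z.coeff k) (sum_blockIdem_eq_one (G := K) (M := M))
  rw [MonoidAlgebra.coeff_sum, Finsupp.finsetSum_apply, MonoidAlgebra.one_def,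
    MonoidAlgebra.coeff_single, Finsupp.single_apply] at h
  simp only [coeff_blockIdem] at h
  rw [blocks, h]
  by_cases hk : k = 1
  · rw [if_pos hk, if_pos hk.symm]
  · rw [if_neg hk, if_neg (fun h' => hk h'.symm)]

theorem sum_proj_eq [Fintype (IrrCharacter K)] [hPr : M.IsPrime] (ϑ : K → ℂ) (s : K) :
    ∑ b ∈ blocks M K, proj b ϑ s = ϑ s := by
  unfold proj
  rw [Finset.sum_comm]
  simp only [← Finset.sum_mul, sum_blockCoeff_blocks]
  rw [Finset.sum_eq_single 1]
  · rw [if_pos rfl, one_mul, one_mul]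
  · intro k _ hk
    rw [if_neg hk, zero_mul]
  · intro h
    exact absurd (Finset.mem_univ _) h

theorem cross_zero [Fintype (IrrCharacter K)] (hM : IsPModular p M)
    {b b' : Set (IrrCharacter K)} (hb : IsPBlock M b) (hb' : IsPBlock M b') (hne : b ≠ b')
    {ϑ : K → ℂ} (hϑ : IsClassFunction K ϑ) :
    ∑ s : K, (if p ∣ orderOf s then 0 else conj (proj b ϑ s) * proj b' ϑ s) = 0 := by
  haveI hPr := isPrime_of_isPModular hM
  simp only [proj, sum_blockCoeff_mul_classFunction _ hϑ]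
  have h1 : ∀ s : K, (if p ∣ orderOf s then (0 : ℂ) else
      conj (∑ ψ : IrrCharacter K, (if ψ ∈ b then (ψ : K → ℂ) s else 0) *
        classInner ϑ (ψ : K → ℂ)) *
      ∑ ψ : IrrCharacter K, (if ψ ∈ b' then (ψ : K → ℂ) s else 0) *
        classInner ϑ (ψ : K → ℂ)) =
      ∑ ψ : IrrCharacter K, ∑ ψ' : IrrCharacter K,
        ((if ψ ∈ b then conj (classInner ϑ (ψ : K → ℂ)) else 0) *
          (if ψ' ∈ b' then classInner ϑ (ψ' : K → ℂ) else 0)) *
        (if p ∣ orderOf s then 0 else (ψ' : K → ℂ) s * conj ((ψ : K → ℂ) s)) := by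
    intro s
    by_cases hs : p ∣ orderOf s
    · simp only [if_pos hs, mul_zero, Finset.sum_const_zero]
    · simp only [if_neg hs]
      rw [map_sum, Finset.sum_mul_sum]
      refine Finset.sum_congr rfl fun ψ _ => ?_
      refine Finset.sum_congr rfl fun ψ' _ => ?_
      by_cases h1 : ψ ∈ b
      · by_cases h2 : ψ' ∈ b'
        · simp only [if_pos h1, if_pos h2, map_mul]
          ring
        · simp only [if_neg h2, zero_mul, mul_zero]
      · simp only [if_neg h1, zero_mul, map_zero]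
  rw [Finset.sum_congr rfl fun s _ => h1 s, Finset.sum_comm]
  refine Finset.sum_eq_zero fun ψ _ => ?_
  rw [Finset.sum_comm]
  refine Finset.sum_eq_zero fun ψ' _ => ?_
  rw [← Finset.mul_sum]
  by_cases hψ : ψ ∈ b
  · by_cases hψ' : ψ' ∈ b'
    · have hns : ¬ SameBlock M (ψ' : K → ℂ) (ψ : K → ℂ) := by
        intro hs
        apply hne
        obtain ⟨ξ, rfl⟩ := hb
        obtain ⟨ξ', rfl⟩ := hb'
        have e1 : blockOf M (ψ : K → ℂ) = blockOf M (ξ : K → ℂ) := blockOf_eq_of_mem hψ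
        have e2 : blockOf M (ψ' : K → ℂ) = blockOf M (ξ' : K → ℂ) := blockOf_eq_of_mem hψ'
        have e3 : blockOf M (ψ : K → ℂ) = blockOf M (ψ' : K → ℂ) := blockOf_eq_of_mem hs
        rw [← e1, ← e2, e3]
      rw [sum_pRegular_mul_conj_eq_zero hM ψ' ψ hns, mul_zero]
    · rw [if_neg hψ', mul_zero, zero_mul]
  · rw [if_neg hψ, zero_mul, zero_mul]

/-- `∑_{s p-regular} |ϑ(s)|² = ∑_b ∑_{s p-regular} |ϑ_b(s)|²`. -/
theorem sum_pRegular_normSq_eq [Fintype (IrrCharacter K)] (hM : IsPModular p M)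
    {ϑ : K → ℂ} (hϑ : IsClassFunction K ϑ) :
    ∑ s : K, (if p ∣ orderOf s then 0 else conj (ϑ s) * ϑ s) =
      ∑ b ∈ blocks M K, ∑ s : K,
        (if p ∣ orderOf s then 0 else conj (proj b ϑ s) * proj b ϑ s) := by
  haveI hPr := isPrime_of_isPModular hM
  have h1 : ∀ s : K, (if p ∣ orderOf s then (0 : ℂ) else conj (ϑ s) * ϑ s) =
      ∑ b ∈ blocks M K, ∑ b' ∈ blocks M K,
        (if p ∣ orderOf s then 0 else conj (proj b ϑ s) * proj b' ϑ s) := by
    intro s
    by_cases hs : p ∣ orderOf s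
    · simp only [if_pos hs, Finset.sum_const_zero]
    · simp only [if_neg hs]
      rw [← Finset.sum_mul_sum, ← map_sum, sum_proj_eq]
  rw [Finset.sum_congr rfl fun s _ => h1 s, Finset.sum_comm]
  refine Finset.sum_congr rfl fun b hb => ?_
  rw [Finset.sum_comm, Finset.sum_eq_single b]
  · intro b' hb' hne
    exact cross_zero hM (mem_blocks.1 hb) (mem_blocks.1 hb') hne.symm hϑ
  · intro h
    exact absurd hb h

end Cfsg.Agent.Lib.L0.BlockParseval
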