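import Mathlib
import Cfsg.Prelude.Def_BrauerPairs
import Cfsg.Agent.Lib.H23.BlockBrauerHom
import Cfsg.Agent.Lib.H23.BlockInduce
import Cfsg.Agent.Lib.H23.BlockHom

/-!
# Brauer pairs and the Brauer homomorphism (lead)

For a `p`-subgroup `Q` of `G`, `C = C_G(Q)` and `ξ ∈ Irr(C)`, the map `z ↦ ω_ξ(res_C z)` is, modulo
the local ideal, the central character `ω_{χ₀}` of a block of `G`.
* `brauerOmega_blockCoeff`: `brauerOmega Q (blockCoeff B) ξ = ω_ξ(res_C e_B)`;
* `exists_corr`: existence of `χ₀`;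
* `isBrauerPairOf_iff`: `(Q, bl(ξ₀))` is a Brauer pair of `bl(χ₁)` iff `χ₀ ∈ bl(χ₁)`;
* `omega_resAlg_sub_of_isBrauerPairOf`: for a Brauer pair `(Q, e)` of `B`, `ξ ∈ e`, `χ ∈ B`:
  `ω_ξ(res_C z) ≡ ω_χ(z)`.
-/

set_option autoImplicit false

namespace Cfsg.Agent.Lib.L0.BrauerPairHom

open Cfsg MonoidAlgebra Cfsg.Agent.Lib.H23 Cfsg.Agent.Lib.H24
open scoped ComplexConjugate

variable {G : Type*} [Group G] [Fintype G] {p : ℕ} {M : Ideal AlgInt} (Q : Subgroup G)
  [Fintype (Subgroup.centralizer (Q : Set G))]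

theorem brAlg_eq_resAlg (z : MonoidAlgebra ℂ G) :
    brAlg Q (Subgroup.centralizer (Q : Set G)) z = resAlg (Subgroup.centralizer (Q : Set G)) z := by
  classical
  apply MonoidAlgebra.ext
  ext h
  rw [coeff_brAlg, coeff_resAlg, if_pos h.2]

theorem brauerOmega_blockCoeff (B : Set (IrrCharacter G))
    (ξ : IrrCharacter (Subgroup.centralizer (Q : Set G))) :
    brauerOmega Q (blockCoeff B) (ξ : Subgroup.centralizer (Q : Set G) → ℂ) =
      omega (ξ : Subgroup.centralizer (Q : Set G) → ℂ)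
        (resAlg (Subgroup.centralizer (Q : Set G)) (blockIdem B)) := by
  unfold brauerOmega omega resAlg
  rw [charEval_ofFun, finsum_eq_sum_of_fintype, Finset.sum_div]
  refine Finset.sum_congr rfl fun x _ => ?_
  rfl

/-- The central character `ω_ξ ∘ res` of `Z(ℂG)` is, modulo the local ideal, that of a block. -/
theorem exists_corr [hPr : M.IsPrime] (hM : IsPModular p M) (hQ : IsPGroup p Q)
    (ξ : IrrCharacter (Subgroup.centralizer (Q : Set G))) :
    ∃ χ₀ : IrrCharacter G, ∀ z ∈ Subalgebra.center ℂ (MonoidAlgebra ℂ G),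
      z ∈ intCoeff (G := G) M →
      MemLocalIdeal M (omega (ξ : Subgroup.centralizer (Q : Set G) → ℂ)
        (resAlg (Subgroup.centralizer (Q : Set G)) z) - omega (χ₀ : G → ℂ) z) := by
  obtain ⟨χ₀, hχ₀⟩ := exists_brauer_block Q (Subgroup.centralizer (Q : Set G)) hM hQ le_rfl
    (Subgroup.centralizer_le_normalizer _) ξ
  refine ⟨χ₀, fun z hz hz' => ?_⟩
  have := hχ₀ z hz hz'
  rwa [brAlg_eq_resAlg] at this

theorem isBrauerPairOf_iff [hPr : M.IsPrime] (hM : IsPModular p M) (hQ : IsPGroup p Q)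
    (ξ₀ : IrrCharacter (Subgroup.centralizer (Q : Set G))) (χ₀ : IrrCharacter G)
    (hcorr : ∀ z ∈ Subalgebra.center ℂ (MonoidAlgebra ℂ G), z ∈ intCoeff (G := G) M →
      MemLocalIdeal M (omega (ξ₀ : Subgroup.centralizer (Q : Set G) → ℂ)
        (resAlg (Subgroup.centralizer (Q : Set G)) z) - omega (χ₀ : G → ℂ) z))
    (χ₁ : IrrCharacter G) :
    IsBrauerPairOf p M (blockOf M (χ₁ : G → ℂ)) Q
      (blockOf M (ξ₀ : Subgroup.centralizer (Q : Set G) → ℂ)) ↔
      χ₀ ∈ blockOf M (χ₁ : G → ℂ) := by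
  classical
  set B := blockOf M (χ₁ : G → ℂ) with hB
  have hec : blockIdem B ∈ Subalgebra.center ℂ (MonoidAlgebra ℂ G) := blockIdem_mem_center B
  have hei : blockIdem B ∈ intCoeff (G := G) M := fun g => blockIdem_memLocalRing hM χ₁ g
  have h1 := hcorr _ hec hei
  rw [omega_blockIdem] at h1
  constructor
  · intro h
    by_contra hnot
    have h2 := h.2.2 ξ₀ (mem_blockOf_self ξ₀)
    rw [brauerOmega_blockCoeff] at h2
    rw [if_neg hnot, sub_zero] at h1
    have h3 := memLocalIdeal_sub h1 h2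
    rw [sub_sub_cancel] at h3
    exact not_memLocalIdeal_one h3
  · intro h
    refine ⟨⟨hQ, ξ₀, rfl⟩, ⟨χ₁, rfl⟩, fun ξ hξ => ?_⟩
    rw [brauerOmega_blockCoeff]
    rw [if_pos h] at h1
    have h2 := omega_sub_memLocalIdeal (sameBlock_symm hξ)
      (resAlg_mem_center (Subgroup.centralizer (Q : Set G)) hec)
      (resAlg_mem_intCoeff (Subgroup.centralizer (Q : Set G)) hei)
    have h3 := memLocalIdeal_add h2 h1
    rwa [sub_add_sub_cancel] at h3

/-- For a Brauer pair `(Q, e)` of `B`, `ξ ∈ e` and `χ ∈ B`: `ω_ξ(res_C z) ≡ ω_χ(z)`. -/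
theorem omega_resAlg_sub_of_isBrauerPairOf [hPr : M.IsPrime] (hM : IsPModular p M) {B : Set (IrrCharacter G)}
    {e : Set (IrrCharacter (Subgroup.centralizer (Q : Set G)))}
    (h : IsBrauerPairOf p M B Q e) {ξ : IrrCharacter (Subgroup.centralizer (Q : Set G))}
    (hξ : ξ ∈ e) {χ : IrrCharacter G} (hχ : χ ∈ B) {z : MonoidAlgebra ℂ G}
    (hz : z ∈ Subalgebra.center ℂ (MonoidAlgebra ℂ G)) (hz' : z ∈ intCoeff (G := G) M) :
    MemLocalIdeal M (omega (ξ : Subgroup.centralizer (Q : Set G) → ℂ)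
      (resAlg (Subgroup.centralizer (Q : Set G)) z) - omega (χ : G → ℂ) z) := by
  obtain ⟨ξ₀, he⟩ := h.1.2
  obtain ⟨χ₁, hB⟩ := h.2.1
  subst he hB
  obtain ⟨χ₀, hcorr⟩ := exists_corr Q hM h.1.1 ξ₀
  have hχ₀ := (isBrauerPairOf_iff Q hM h.1.1 ξ₀ χ₀ hcorr χ₁).1 h
  have h1 := hcorr z hz hz'
  have h2 := omega_sub_memLocalIdeal (sameBlock_symm hξ)
    (resAlg_mem_center (Subgroup.centralizer (Q : Set G)) hz)
    (resAlg_mem_intCoeff (Subgroup.centralizer (Q : Set G)) hz')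
  have h3 : SameBlock M (χ₀ : G → ℂ) (χ : G → ℂ) := sameBlock_trans (sameBlock_symm hχ₀) hχ
  have h4 := omega_sub_memLocalIdeal h3 hz hz'
  have h5 := memLocalIdeal_add (memLocalIdeal_add h2 h1) h4
  have e : omega (ξ : Subgroup.centralizer (Q : Set G) → ℂ)
      (resAlg (Subgroup.centralizer (Q : Set G)) z) -
      omega (ξ₀ : Subgroup.centralizer (Q : Set G) → ℂ)
        (resAlg (Subgroup.centralizer (Q : Set G)) z) +
      (omega (ξ₀ : Subgroup.centralizer (Q : Set G) → ℂ)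
        (resAlg (Subgroup.centralizer (Q : Set G)) z) - omega (χ₀ : G → ℂ) z) +
      (omega (χ₀ : G → ℂ) z - omega (χ : G → ℂ) z) =
      omega (ξ : Subgroup.centralizer (Q : Set G) → ℂ)
        (resAlg (Subgroup.centralizer (Q : Set G)) z) - omega (χ : G → ℂ) z := by ring
  rwa [e] at h5

end Cfsg.Agent.Lib.L0.BrauerPairHom
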