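import Mathlib
import Cfsg.Prelude.Def_BrauerPairs
import Cfsg.Agent.Lib.H23.BlockBrauerHom
import Cfsg.Agent.Lib.H23.BlockInduce
import Cfsg.Agent.Lib.H23.BlockHom
import Cfsg.Agent.Lib.H23.BlockMinMax
import Cfsg.Agent.Lib.H23.BlockSecondMain
import Cfsg.Agent.Lib.L0.BrauerPairHom

/-!
# The Brauer character `Λ_ξ = ω_ξ ∘ res_{C_G(P)}` on `P C_G(P)`-invariant elements (lead)

For a `p`-subgroup `P` and `ξ ∈ Irr(C_G(P))`, `lam P ξ z = ω_ξ(res_{C_G(P)} z)`.
On the elements `z ∈ ℂG` with local-integer coefficients that are invariant under `P` and `C_G(P)`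
(`Good P z`), `Λ_ξ` is multiplicative modulo the local ideal.
* `lam_mul`, `lam_pow`, `lam_nil`, `lam_idem`, `lam_orth`, `lam_congr`;
* `lam_incl_nil`: for `C ≥ C_G(P)`, `y ∈ Z(ℂC)` integral, `P`-stable, with all `ω_ψ(y)` in the
  local ideal: `Λ_ξ(y) ≡ 0`;
* `lam_incl_sub_omega`: if `f` is a `P`-stable block of `C` with `Λ_ξ(e_f) ≡ 1` and `ψ ∈ f` then
  `Λ_ξ(y) ≡ ω_ψ(y)` for `P`-stable integral `y ∈ Z(ℂC)`.
-/

set_option autoImplicit false

namespace Cfsg.Agent.Lib.L0.BrauerLam

open Cfsg MonoidAlgebra Cfsg.Agent.Lib.H23 Cfsg.Agent.Lib.H24 Cfsg.Agent.Lib.L0.BrauerPairHom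
open scoped ComplexConjugate

section InvLemmas

variable {G : Type*} [Group G] [Fintype G]

theorem invUnder_sub {h : G} {z w : MonoidAlgebra ℂ G} (hz : InvUnder h z) (hw : InvUnder h w) :
    InvUnder h (z - w) := by
  intro k
  rw [MonoidAlgebra.coeff_sub, Finsupp.coe_sub, Pi.sub_apply, Pi.sub_apply, hz k, hw k]

theorem invUnder_add {h : G} {z w : MonoidAlgebra ℂ G} (hz : InvUnder h z) (hw : InvUnder h w) :
    InvUnder h (z + w) := by
  intro k
  rw [MonoidAlgebra.coeff_add, Finsupp.coe_add, Pi.add_apply, Pi.add_apply, hz k, hw k]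

theorem invUnder_smul {h : G} (c : ℂ) {z : MonoidAlgebra ℂ G} (hz : InvUnder h z) :
    InvUnder h (c • z) := by
  intro k
  rw [MonoidAlgebra.coeff_smul, Finsupp.coe_smul, Pi.smul_apply, Pi.smul_apply, hz k]

theorem invUnder_zero (h : G) : InvUnder h (0 : MonoidAlgebra ℂ G) := by
  intro k
  rfl

theorem invUnder_sum {h : G} {ι : Type*} (s : Finset ι) (f : ι → MonoidAlgebra ℂ G)
    (hf : ∀ i ∈ s, InvUnder h (f i)) : InvUnder h (∑ i ∈ s, f i) := by
  classical
  induction s using Finset.induction_on with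
  | empty => rw [Finset.sum_empty]; exact invUnder_zero h
  | insert a s ha ih =>
    rw [Finset.sum_insert ha]
    exact invUnder_add (hf a (Finset.mem_insert_self a s))
      (ih fun i hi => hf i (Finset.mem_insert_of_mem hi))

end InvLemmas

variable {G : Type*} [Group G] [Fintype G] {p : ℕ} {M : Ideal AlgInt} [hPr : M.IsPrime]
  (P : Subgroup G) [Fintype (Subgroup.centralizer (P : Set G))]

/-- `Λ_ξ(z) = ω_ξ(res_{C_G(P)} z)`. -/
noncomputable def lam (ξ : IrrCharacter (Subgroup.centralizer (P : Set G)))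
    (z : MonoidAlgebra ℂ G) : ℂ :=
  omega (ξ : Subgroup.centralizer (P : Set G) → ℂ) (resAlg (Subgroup.centralizer (P : Set G)) z)

/-- Elements with local-integer coefficients invariant under `P` and `C_G(P)`. -/
structure Good (M : Ideal AlgInt) [M.IsPrime] (P : Subgroup G) (z : MonoidAlgebra ℂ G) : Prop where
  int : z ∈ intCoeff (G := G) M
  invP : ∀ q ∈ P, InvUnder q z
  invC : ∀ q ∈ Subgroup.centralizer (P : Set G), InvUnder q z

omit [Fintype (Subgroup.centralizer (P : Set G))] in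
theorem Good.mul {z w : MonoidAlgebra ℂ G} (hz : Good M P z) (hw : Good M P w) :
    Good M P (z * w) :=
  ⟨Subring.mul_mem _ hz.int hw.int, fun q hq => (hz.invP q hq).mul (hw.invP q hq),
    fun q hq => (hz.invC q hq).mul (hw.invC q hq)⟩

omit [Fintype (Subgroup.centralizer (P : Set G))] in
theorem Good.sub {z w : MonoidAlgebra ℂ G} (hz : Good M P z) (hw : Good M P w) :
    Good M P (z - w) :=
  ⟨Subring.sub_mem _ hz.int hw.int, fun q hq => invUnder_sub (hz.invP q hq) (hw.invP q hq),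
    fun q hq => invUnder_sub (hz.invC q hq) (hw.invC q hq)⟩

omit [Fintype (Subgroup.centralizer (P : Set G))] in
theorem Good.one : Good M P (1 : MonoidAlgebra ℂ G) :=
  ⟨Subring.one_mem _, fun q _ => InvUnder.one q, fun q _ => InvUnder.one q⟩

omit [Fintype (Subgroup.centralizer (P : Set G))] in
theorem Good.smul {c : ℂ} (hc : MemLocalRing M c) {z : MonoidAlgebra ℂ G} (hz : Good M P z) :
    Good M P (c • z) :=
  ⟨smul_mem_intCoeff hc hz.int, fun q hq => invUnder_smul c (hz.invP q hq),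
    fun q hq => invUnder_smul c (hz.invC q hq)⟩

omit [Fintype (Subgroup.centralizer (P : Set G))] in
theorem Good.pow {z : MonoidAlgebra ℂ G} (hz : Good M P z) (N : ℕ) : Good M P (z ^ N) :=
  ⟨Subring.pow_mem _ hz.int N, fun q hq => (hz.invP q hq).pow N,
    fun q hq => (hz.invC q hq).pow N⟩

omit hPr in
theorem resAlg_mem_center_of_inv {z : MonoidAlgebra ℂ G}
    (hz : ∀ q ∈ Subgroup.centralizer (P : Set G), InvUnder q z) :
    resAlg (Subgroup.centralizer (P : Set G)) z ∈
      Subalgebra.center ℂ (MonoidAlgebra ℂ (Subgroup.centralizer (P : Set G))) := by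
  apply mem_center_of_classFunction
  intro g h
  rw [coeff_resAlg, coeff_resAlg]
  have : ((h * g * h⁻¹ : Subgroup.centralizer (P : Set G)) : G) = (h : G) * (g : G) * (h : G)⁻¹ := by
    simp
  rw [this]
  exact hz h h.2 g

theorem lam_memLocalRing (ξ : IrrCharacter (Subgroup.centralizer (P : Set G)))
    {z : MonoidAlgebra ℂ G} (hz : Good M P z) : MemLocalRing M (lam P ξ z) :=
  omega_memLocalRing ξ (resAlg_mem_center_of_inv P hz.invC) (resAlg_mem_intCoeff _ hz.int)

omit hPr in
theorem lam_sub (ξ : IrrCharacter (Subgroup.centralizer (P : Set G))) (z w : MonoidAlgebra ℂ G) :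
    lam P ξ (z - w) = lam P ξ z - lam P ξ w := by
  unfold lam
  have : resAlg (Subgroup.centralizer (P : Set G)) (z - w) =
      resAlg (Subgroup.centralizer (P : Set G)) z - resAlg (Subgroup.centralizer (P : Set G)) w := by
    apply MonoidAlgebra.ext
    ext h
    simp
  rw [this, omega_sub]

omit hPr in
theorem lam_add (ξ : IrrCharacter (Subgroup.centralizer (P : Set G))) (z w : MonoidAlgebra ℂ G) :
    lam P ξ (z + w) = lam P ξ z + lam P ξ w := by
  unfold lam
  rw [resAlg_add, omega_add]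

omit hPr in
theorem lam_smul (ξ : IrrCharacter (Subgroup.centralizer (P : Set G))) (c : ℂ)
    (z : MonoidAlgebra ℂ G) : lam P ξ (c • z) = c * lam P ξ z := by
  unfold lam
  rw [resAlg_smul, omega_smul]

omit hPr in
theorem lam_zero (ξ : IrrCharacter (Subgroup.centralizer (P : Set G))) :
    lam P ξ (0 : MonoidAlgebra ℂ G) = 0 := by
  unfold lam
  rw [resAlg_zero, omega, charEval_zero, zero_div]

omit hPr in
theorem lam_sum (ξ : IrrCharacter (Subgroup.centralizer (P : Set G))) {ι : Type*} (s : Finset ι)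
    (f : ι → MonoidAlgebra ℂ G) : lam P ξ (∑ i ∈ s, f i) = ∑ i ∈ s, lam P ξ (f i) := by
  unfold lam
  rw [resAlg_sum, omega_sum]

omit hPr in
theorem resAlg_one (H : Subgroup G) [Fintype H] :
    resAlg H (1 : MonoidAlgebra ℂ G) = 1 := by
  classical
  apply MonoidAlgebra.ext
  ext h
  rw [coeff_resAlg, MonoidAlgebra.one_def, MonoidAlgebra.one_def, MonoidAlgebra.coeff_single,
    MonoidAlgebra.coeff_single, Finsupp.single_apply, Finsupp.single_apply]
  congr 1
  rw [eq_iff_iff]
  constructor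
  · intro h1
    exact Subtype.ext h1
  · intro h1
    rw [← h1]; rfl

omit hPr in
theorem lam_one (ξ : IrrCharacter (Subgroup.centralizer (P : Set G))) :
    lam P ξ (1 : MonoidAlgebra ℂ G) = 1 := by
  unfold lam
  rw [resAlg_one, omega_one (irr_one_ne_zero ξ)]

/-- `Λ_ξ` is multiplicative modulo the local ideal on good elements. -/
theorem lam_mul (hM : IsPModular p M) (hP : IsPGroup p P)
    (ξ : IrrCharacter (Subgroup.centralizer (P : Set G))) {z w : MonoidAlgebra ℂ G}
    (hz : Good M P z) (hw : Good M P w) :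
    MemLocalIdeal M (lam P ξ (z * w) - lam P ξ z * lam P ξ w) := by
  have hp0 : (p : ℂ) ≠ 0 := Nat.cast_ne_zero.2 (prime_of_isPModular hM).ne_zero
  obtain ⟨t, ht, hte⟩ := brAlg_mul P (Subgroup.centralizer (P : Set G)) hM hP le_rfl z w
    hz.int hw.int hz.invP hw.invP
  rw [brAlg_eq_resAlg, brAlg_eq_resAlg, brAlg_eq_resAlg] at hte
  have hzc := resAlg_mem_center_of_inv P hz.invC
  have hwc := resAlg_mem_center_of_inv P hw.invC
  have hzwc := resAlg_mem_center_of_inv P (Good.mul P hz hw).invC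
  have htc : t ∈ Subalgebra.center ℂ (MonoidAlgebra ℂ (Subgroup.centralizer (P : Set G))) := by
    have h1 : t = (p : ℂ)⁻¹ • (resAlg (Subgroup.centralizer (P : Set G)) (z * w) -
        resAlg (Subgroup.centralizer (P : Set G)) z *
          resAlg (Subgroup.centralizer (P : Set G)) w) := by
      rw [hte, add_sub_cancel_left, smul_smul, inv_mul_cancel₀ hp0, one_smul]
    rw [h1]
    exact Subalgebra.smul_mem _ (Subalgebra.sub_mem _ hzwc (Subalgebra.mul_mem _ hzc hwc)) _
  unfold lam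
  rw [hte, omega_add, omega_mul ξ.2 hzc, omega_smul, add_sub_cancel_left]
  exact memLocalIdeal_mul_right (memLocalIdeal_p hM) (omega_memLocalRing ξ htc ht)

theorem lam_pow (hM : IsPModular p M) (hP : IsPGroup p P)
    (ξ : IrrCharacter (Subgroup.centralizer (P : Set G))) {z : MonoidAlgebra ℂ G}
    (hz : Good M P z) (N : ℕ) :
    MemLocalIdeal M (lam P ξ (z ^ N) - lam P ξ z ^ N) := by
  induction N with
  | zero =>
    rw [pow_zero, pow_zero, lam_one, sub_self]
    exact memLocalIdeal_zero hPr.ne_top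
  | succ N ih =>
    have h1 := lam_mul P hM hP ξ (Good.pow P hz N) hz
    have h2 := memLocalIdeal_mul_right ih (lam_memLocalRing P ξ hz)
    have h3 := memLocalIdeal_add h1 h2
    have e : lam P ξ (z ^ N * z) - lam P ξ (z ^ N) * lam P ξ z +
        (lam P ξ (z ^ N) - lam P ξ z ^ N) * lam P ξ z =
        lam P ξ (z ^ (N + 1)) - lam P ξ z ^ (N + 1) := by
      rw [pow_succ, pow_succ]; ring
    rwa [e] at h3

/-- A good element with a power divisible by `p` has `Λ_ξ` in the local ideal. -/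
theorem lam_nil (hM : IsPModular p M) (hP : IsPGroup p P)
    (ξ : IrrCharacter (Subgroup.centralizer (P : Set G))) {z : MonoidAlgebra ℂ G}
    (hz : Good M P z) (N : ℕ) (hN : ∀ g, MemLocalRing M ((z ^ N).coeff g / p)) :
    MemLocalIdeal M (lam P ξ z) := by
  have hp0 : (p : ℂ) ≠ 0 := Nat.cast_ne_zero.2 (prime_of_isPModular hM).ne_zero
  set v := (p : ℂ)⁻¹ • z ^ N with hv
  have hvz : z ^ N = (p : ℂ) • v := by
    rw [hv, smul_smul, mul_inv_cancel₀ hp0, one_smul]
  have hvi : v ∈ intCoeff (G := G) M := by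
    intro g
    rw [hv, MonoidAlgebra.coeff_smul, Finsupp.coe_smul, Pi.smul_apply, smul_eq_mul, mul_comm,
      ← div_eq_mul_inv]
    exact hN g
  have hvc : ∀ q ∈ Subgroup.centralizer (P : Set G), InvUnder q v :=
    fun q hq => invUnder_smul _ ((Good.pow P hz N).invC q hq)
  have h1 : MemLocalIdeal M (lam P ξ (z ^ N)) := by
    rw [hvz, lam_smul]
    exact memLocalIdeal_mul_right (memLocalIdeal_p hM)
      (omega_memLocalRing ξ (resAlg_mem_center_of_inv P hvc) (resAlg_mem_intCoeff _ hvi))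
  have h2 := lam_pow P hM hP ξ hz N
  have h3 := memLocalIdeal_sub h1 h2
  rw [sub_sub_cancel] at h3
  exact memLocalIdeal_of_pow (lam_memLocalRing P ξ hz) h3

theorem lam_idem (hM : IsPModular p M) (hP : IsPGroup p P)
    (ξ : IrrCharacter (Subgroup.centralizer (P : Set G))) {z : MonoidAlgebra ℂ G}
    (hz : Good M P z) (hzz : z * z = z) :
    MemLocalIdeal M (lam P ξ z) ∨ MemLocalIdeal M (lam P ξ z - 1) := by
  by_cases h : MemLocalIdeal M (lam P ξ z)
  · exact Or.inl h
  · right
    have h1 := lam_mul P hM hP ξ hz hz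
    rw [hzz] at h1
    have h2 : lam P ξ z * (lam P ξ z - 1) = -(lam P ξ z - lam P ξ z * lam P ξ z) := by ring
    have h3 : MemLocalIdeal M (lam P ξ z * (lam P ξ z - 1)) := by
      rw [h2]; exact memLocalIdeal_neg h1
    exact memLocalIdeal_of_mul (lam_memLocalRing P ξ hz) h h3

theorem lam_orth (hM : IsPModular p M) (hP : IsPGroup p P)
    (ξ : IrrCharacter (Subgroup.centralizer (P : Set G))) {z w : MonoidAlgebra ℂ G}
    (hz : Good M P z) (hw : Good M P w) (hzw : z * w = 0) :
    MemLocalIdeal M (lam P ξ z * lam P ξ w) := by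
  have h1 := lam_mul P hM hP ξ hz hw
  rw [hzw, lam_zero, zero_sub] at h1
  have := memLocalIdeal_neg h1
  rwa [neg_neg] at this

theorem lam_congr {ξ ξ' : IrrCharacter (Subgroup.centralizer (P : Set G))}
    (h : SameBlock M (ξ : Subgroup.centralizer (P : Set G) → ℂ)
      (ξ' : Subgroup.centralizer (P : Set G) → ℂ)) {z : MonoidAlgebra ℂ G} (hz : Good M P z) :
    MemLocalIdeal M (lam P ξ z - lam P ξ' z) :=
  omega_sub_memLocalIdeal h (resAlg_mem_center_of_inv P hz.invC) (resAlg_mem_intCoeff _ hz.int)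

section Relative

variable (C : Subgroup G) [Fintype C]

omit [Fintype (Subgroup.centralizer (P : Set G))] in
theorem good_incl (hDC : Subgroup.centralizer (P : Set G) ≤ C) {y : MonoidAlgebra ℂ C}
    (hyc : y ∈ Subalgebra.center ℂ (MonoidAlgebra ℂ C)) (hyi : y ∈ intCoeff (G := C) M)
    (hyP : ∀ q ∈ P, InvUnder q (incl C y)) : Good M P (incl C y) :=
  ⟨fun g => incl_memLocalRing C hyi g, hyP, fun q hq => invUnder_incl C hyc ⟨q, hDC hq⟩⟩

/-- A `P`-stable central integral element of `ℂC` all of whose central character values lie in the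
local ideal is killed by `Λ_ξ` modulo the local ideal. -/
theorem lam_incl_nil (hM : IsPModular p M) (hP : IsPGroup p P)
    (hDC : Subgroup.centralizer (P : Set G) ≤ C)
    (ξ : IrrCharacter (Subgroup.centralizer (P : Set G))) {y : MonoidAlgebra ℂ C}
    (hyc : y ∈ Subalgebra.center ℂ (MonoidAlgebra ℂ C)) (hyi : y ∈ intCoeff (G := C) M)
    (hyP : ∀ q ∈ P, InvUnder q (incl C y))
    (hω : ∀ ψ : IrrCharacter C, MemLocalIdeal M (omega (ψ : C → ℂ) y)) :
    MemLocalIdeal M (lam P ξ (incl C y)) := by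
  obtain ⟨N, _, hN⟩ := exists_pow_coeff_div hM hyc hω
  refine lam_nil P hM hP ξ (good_incl P C hDC hyc hyi hyP) N fun g => ?_
  rw [← map_pow]
  by_cases hg : g ∈ C
  · have := coeff_incl_mem C (y ^ N) ⟨g, hg⟩
    simp only at this
    rw [this]
    exact hN _
  · rw [coeff_incl_not_mem C (y ^ N) hg, zero_div]
    exact memLocalRing_zero hPr.ne_top

/-- If `f` is a `P`-stable block of `C ≥ C_G(P)` with `Λ_ξ(e_f) ≡ 1` and `ψ ∈ f`, then
`Λ_ξ(y) ≡ ω_ψ(y)` for every `P`-stable integral `y ∈ Z(ℂC)`. -/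
theorem lam_incl_sub_omega (hM : IsPModular p M) (hP : IsPGroup p P)
    (hDC : Subgroup.centralizer (P : Set G) ≤ C)
    (ξ : IrrCharacter (Subgroup.centralizer (P : Set G))) (ψ₀ : IrrCharacter C)
    (hfP : ∀ q ∈ P, InvUnder q (incl C (blockIdem (blockOf M (ψ₀ : C → ℂ)))))
    (hf1 : MemLocalIdeal M (lam P ξ (incl C (blockIdem (blockOf M (ψ₀ : C → ℂ)))) - 1))
    {y : MonoidAlgebra ℂ C}
    (hyc : y ∈ Subalgebra.center ℂ (MonoidAlgebra ℂ C)) (hyi : y ∈ intCoeff (G := C) M)
    (hyP : ∀ q ∈ P, InvUnder q (incl C y)) {ψ : IrrCharacter C}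
    (hψ : ψ ∈ blockOf M (ψ₀ : C → ℂ)) :
    MemLocalIdeal M (lam P ξ (incl C y) - omega (ψ : C → ℂ) y) := by
  classical
  set f := blockOf M (ψ₀ : C → ℂ) with hf
  set a := omega (ψ : C → ℂ) y with ha
  have haR : MemLocalRing M a := omega_memLocalRing ψ hyc hyi
  have hec : blockIdem f ∈ Subalgebra.center ℂ (MonoidAlgebra ℂ C) := blockIdem_mem_center f
  have hei : blockIdem f ∈ intCoeff (G := C) M := fun g => blockIdem_memLocalRing hM ψ₀ g
  have h1c : (1 : MonoidAlgebra ℂ C) ∈ Subalgebra.center ℂ (MonoidAlgebra ℂ C) :=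
    Subalgebra.one_mem _
  have hyac : y - a • (1 : MonoidAlgebra ℂ C) ∈ Subalgebra.center ℂ (MonoidAlgebra ℂ C) :=
    Subalgebra.sub_mem _ hyc (Subalgebra.smul_mem _ h1c a)
  have hyai : y - a • (1 : MonoidAlgebra ℂ C) ∈ intCoeff (G := C) M :=
    Subring.sub_mem _ hyi (smul_mem_intCoeff haR (Subring.one_mem _))
  set u := (y - a • (1 : MonoidAlgebra ℂ C)) * blockIdem f with hu
  have huc : u ∈ Subalgebra.center ℂ (MonoidAlgebra ℂ C) := Subalgebra.mul_mem _ hyac hec
  have hui : u ∈ intCoeff (G := C) M := Subring.mul_mem _ hyai hei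
  have hinclu : incl C u = (incl C y - a • (1 : MonoidAlgebra ℂ G)) * incl C (blockIdem f) := by
    rw [hu, map_mul, map_sub]
    congr 2
    have : a • (1 : MonoidAlgebra ℂ C) = MonoidAlgebra.single (1 : C) a := by
      rw [MonoidAlgebra.one_def, MonoidAlgebra.smul_single, smul_eq_mul, mul_one]
    rw [this]
    have h2 : a • (1 : MonoidAlgebra ℂ G) = MonoidAlgebra.single (1 : G) a := by
      rw [MonoidAlgebra.one_def, MonoidAlgebra.smul_single, smul_eq_mul, mul_one]
    rw [h2]
    show MonoidAlgebra.mapDomainRingHom ℂ C.subtype (MonoidAlgebra.single (1 : C) a) = _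
    simp [MonoidAlgebra.mapDomainRingHom_apply]
  have hgy : Good M P (incl C y) := good_incl P C hDC hyc hyi hyP
  have hge : Good M P (incl C (blockIdem f)) := good_incl P C hDC hec hei hfP
  have hg1 : Good M P (incl C y - a • (1 : MonoidAlgebra ℂ G)) :=
    Good.sub P hgy (Good.smul P haR (Good.one (M := M) P))
  have huP : ∀ q ∈ P, InvUnder q (incl C u) := by
    intro q hq
    rw [hinclu]
    exact (hg1.invP q hq).mul (hge.invP q hq)
  have hω : ∀ ψ' : IrrCharacter C, MemLocalIdeal M (omega (ψ' : C → ℂ) u) := by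
    intro ψ'
    rw [hu, omega_mul ψ'.2 hyac, omega_blockIdem]
    split_ifs with hψ'
    · rw [mul_one, omega_sub, omega_smul, omega_one (irr_one_ne_zero ψ'), mul_one]
      have hs : SameBlock M (ψ' : C → ℂ) (ψ : C → ℂ) :=
        sameBlock_trans (sameBlock_symm hψ') hψ
      exact omega_sub_memLocalIdeal hs hyc hyi
    · rw [mul_zero]
      exact memLocalIdeal_zero hPr.ne_top
  have h1 := lam_incl_nil P C hM hP hDC ξ huc hui huP hω
  rw [hinclu] at h1
  have h2 := lam_mul P hM hP ξ hg1 hge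
  have h3 := memLocalIdeal_sub h1 h2
  rw [sub_sub_cancel] at h3
  -- `lam (incl y - a) * lam (e_f) ∈ J`, and `lam e_f ≡ 1`
  have h4 : lam P ξ (incl C y - a • (1 : MonoidAlgebra ℂ G)) = lam P ξ (incl C y) - a := by
    rw [lam_sub, lam_smul, lam_one, mul_one]
  rw [h4] at h3
  have h5 := memLocalIdeal_mul_left (memLocalRing_sub (lam_memLocalRing P ξ hgy) haR) hf1
  have h6 := memLocalIdeal_sub h3 h5
  have e : (lam P ξ (incl C y) - a) * lam P ξ (incl C (blockIdem f)) -
      (lam P ξ (incl C y) - a) * (lam P ξ (incl C (blockIdem f)) - 1) =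
      lam P ξ (incl C y) - a := by ring
  rwa [e] at h6

end Relative

end Cfsg.Agent.Lib.L0.BrauerLam
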