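import Cfsg.Agent.Lib.L0.TildeGen
import Cfsg.Agent.Lib.L0.TildeChar

/-!
# A criterion for the principal block

`regSum p G` is the sum of the `p`-regular elements of `G` in the group algebra.
* `not_dvd_nReg`: the number of `p`-regular elements of a finite group is prime to `p`;
* `omega_regSum_not_mem`: for `χ` in the principal block, `ω_χ(regSum) ∉ 𝔭`;
* `mem_principalBlock_iff`: `χ ∈ B₀(G) ↔ ∑_{x p-regular} χ(x) ≠ 0`.
-/

set_option autoImplicit false
open Cfsg

namespace Cfsg.Agent.Lib.L0.PrincipalCrit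

open Cfsg.Agent.Lib.H23 Cfsg.Agent.Lib.H24 Cfsg.Agent.Lib.L0 Cfsg.Agent.Lib.L0.Tilde
open scoped ComplexConjugate

variable {G : Type*} [Group G] [Fintype G]

/-- The trivial character as an element of `IrrCharacter G`. -/
noncomputable def trivIrr (G : Type*) [Group G] : IrrCharacter G :=
  ⟨fun _ => 1, Cfsg.Agent.Lib.H24.isIrrCharacter_one⟩

theorem trivIrr_apply (g : G) : (trivIrr G : G → ℂ) g = 1 := rfl

/-- The sum of the `p`-regular elements. -/
noncomputable def regSum (p : ℕ) (G : Type*) [Group G] [Fintype G] : MonoidAlgebra ℂ G :=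
  regElt p (trivIrr G : G → ℂ)

theorem coeff_regSum (p : ℕ) (x : G) [Decidable (p ∣ orderOf x)] :
    (regSum p G).coeff x = if p ∣ orderOf x then 0 else 1 := by
  simp only [regSum, regElt, coeff_ofFun, trivIrr_apply, map_one]
  split_ifs <;> rfl

theorem regSum_mem_center (p : ℕ) :
    regSum p G ∈ Subalgebra.center ℂ (MonoidAlgebra ℂ G) :=
  regElt_mem_center p (irr_isClassFunction (trivIrr G))

theorem regSum_mem_intCoeff (p : ℕ) {M : Ideal AlgInt} [M.IsPrime] :
    regSum p G ∈ intCoeff (G := G) M :=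
  regElt_mem_intCoeff p (trivIrr G)

/-- The number of `p`-regular elements. -/
noncomputable def nReg (p : ℕ) (G : Type*) [Group G] [Fintype G] : ℕ := by
  classical
  exact (Finset.univ.filter fun x : G => ¬ p ∣ orderOf x).card

theorem charEval_regSum (p : ℕ) (χ : G → ℂ) [DecidablePred fun x : G => p ∣ orderOf x] :
    charEval χ (regSum p G) = ∑ x : G, if p ∣ orderOf x then 0 else χ x := by
  unfold charEval
  refine Finset.sum_congr rfl fun x _ => ?_
  rw [coeff_regSum]
  split_ifs <;> simp

theorem omega_triv_regSum (p : ℕ) :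
    omega (trivIrr G : G → ℂ) (regSum p G) = (nReg p G : ℂ) := by
  classical
  rw [omega, charEval_regSum, trivIrr_apply, div_one, nReg]
  simp only [trivIrr_apply]
  rw [Finset.card_filter, Nat.cast_sum]
  refine Finset.sum_congr rfl fun x _ => ?_
  split_ifs <;> simp

variable {p : ℕ} [Fact p.Prime] {M : Ideal AlgInt}

theorem mem_principalBlock_iff_sameBlock (χ : IrrCharacter G) :
    χ ∈ principalBlock M G ↔ SameBlock M (trivIrr G : G → ℂ) (χ : G → ℂ) := Iff.rfl

/-- `[χ̃, 1] · |G|_{p'} = ∑_{x p-regular} χ(x)`. -/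
theorem AA_triv_mul (χ : IrrCharacter G) :
    AA p (χ : G → ℂ) (trivIrr G : G → ℂ) *
      ((Nat.card G / p ^ (Nat.card G).factorization p : ℕ) : ℂ) =
      charEval (χ : G → ℂ) (regSum p G) := by
  have hp : p.Prime := Fact.out
  rw [AA_mul_ordCompl hp χ, omega, mul_div_cancel₀ _ (irr_one_ne_zero χ)]
  rfl

/-- The number of `p`-regular elements is prime to `p`. -/
theorem not_dvd_nReg (hM : IsPModular p M) : ¬ p ∣ nReg p G := by
  classical
  haveI := Fintype.ofFinite (IrrCharacter G)
  haveI hPr := isPrime_of_isPModular hM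
  have hp : p.Prime := Fact.out
  intro hdvd
  obtain ⟨P⟩ : Nonempty (Sylow p G) := inferInstance
  set m' := Nat.card G / p ^ (Nat.card G).factorization p with hm'
  have hm'p : ¬ p ∣ m' := Nat.not_dvd_ordCompl hp Nat.card_pos.ne'
  set t := trivIrr G with ht
  set z := regSum p G with hz
  have hzc := regSum_mem_center (G := G) p
  have hzi : z ∈ intCoeff (G := G) M := regSum_mem_intCoeff p
  have h0 : MemLocalIdeal M (omega (t : G → ℂ) z) := by
    rw [omega_triv_regSum]
    exact (natCast_memLocalIdeal_iff hM _).mpr hdvd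
  have hint : ∀ χ : IrrCharacter G, ∃ n : ℤ, AA p (χ : G → ℂ) (t : G → ℂ) = n :=
    fun χ => AA_int hp (isCharacter_of_irr χ.2) t
  choose n hn using hint
  have hdiv : ∀ χ : IrrCharacter G, (p : ℤ) ∣ n χ := by
    intro χ
    by_cases hχ : SameBlock M (χ : G → ℂ) (t : G → ℂ)
    · have h1 := omega_sub_memLocalIdeal hχ hzc hzi
      have h2 : MemLocalIdeal M (omega (χ : G → ℂ) z) := by
        have := memLocalIdeal_add h1 h0
        rwa [sub_add_cancel] at this
      have h3 : MemLocalIdeal M (((n χ * (m' : ℤ) : ℤ)) : ℂ) := by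
        have e : ((n χ * (m' : ℤ) : ℤ) : ℂ) =
            (χ : G → ℂ) 1 * omega (χ : G → ℂ) z := by
          push_cast
          rw [← hn χ]
          exact AA_mul_ordCompl hp χ _
        rw [e, apply_one_eq_charDegree _ χ.2]
        exact memLocalIdeal_mul_left (natCast_mem_localRing _) h2
      have h4 := (intCast_memLocalIdeal_iff hM _).mp h3
      rcases (Int.Prime.dvd_mul' hp h4) with h | h
      · exact h
      · exact absurd (Int.natCast_dvd_natCast.mp h) hm'p
    · have := AA_eq_zero_of_not_sameBlock hM χ t hχ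
      rw [hn χ] at this
      have : n χ = 0 := by exact_mod_cast this
      rw [this]; exact dvd_zero _
  have hsum := sum_sylowMult_mul_AA P t
  have h1 : ((∑ χ : IrrCharacter G, (sylowMult P χ : ℤ) * n χ : ℤ) : ℂ) = ((1 : ℤ) : ℂ) := by
    push_cast
    have ht1 : (t : G → ℂ) 1 = 1 := rfl
    rw [← ht1, ← hsum]
    refine Finset.sum_congr rfl fun χ _ => ?_
    rw [hn χ]
  have h2 : ∑ χ : IrrCharacter G, (sylowMult P χ : ℤ) * n χ = 1 := by exact_mod_cast h1
  have h3 : (p : ℤ) ∣ ∑ χ : IrrCharacter G, (sylowMult P χ : ℤ) * n χ :=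
    Finset.dvd_sum fun χ _ => Dvd.dvd.mul_left (hdiv χ) _
  rw [h2] at h3
  have := Int.natCast_dvd_natCast.mp (by simpa using h3 : ((p : ℕ) : ℤ) ∣ ((1 : ℕ) : ℤ))
  exact hp.one_lt.ne' (Nat.dvd_one.mp this)

/-- For `χ` in the principal block, `ω_χ` of the `p`-regular sum is a unit mod `𝔭`. -/
theorem omega_regSum_not_mem (hM : IsPModular p M) {χ : IrrCharacter G}
    (hχ : χ ∈ principalBlock M G) : ¬ MemLocalIdeal M (omega (χ : G → ℂ) (regSum p G)) := by
  haveI hPr := isPrime_of_isPModular hM
  intro h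
  have h1 := omega_sub_memLocalIdeal (M := M) (χ := trivIrr G) (ψ := χ) hχ
    (regSum_mem_center (G := G) p) (regSum_mem_intCoeff p)
  have h2 := memLocalIdeal_add h1 h
  rw [sub_add_cancel, omega_triv_regSum] at h2
  exact not_dvd_nReg (G := G) hM ((natCast_memLocalIdeal_iff hM _).mp h2)

/-- `χ ∈ B₀(G)` iff the sum of `χ` over the `p`-regular elements is non-zero. -/
theorem mem_principalBlock_iff (hM : IsPModular p M) (χ : IrrCharacter G) :
    χ ∈ principalBlock M G ↔ charEval (χ : G → ℂ) (regSum p G) ≠ 0 := by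
  haveI hPr := isPrime_of_isPModular hM
  constructor
  · intro hχ h0
    apply omega_regSum_not_mem hM hχ
    rw [omega, h0, zero_div]
    exact memLocalIdeal_zero hPr.ne_top
  · intro hne
    by_contra hχ
    apply hne
    have h1 : ¬ SameBlock M (χ : G → ℂ) (trivIrr G : G → ℂ) := fun h => hχ (sameBlock_symm h)
    have h2 := AA_eq_zero_of_not_sameBlock hM χ (trivIrr G) h1
    rw [← AA_triv_mul χ, h2, zero_mul]

end Cfsg.Agent.Lib.L0.PrincipalCrit
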