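import Mathlib
import Cfsg.Prelude.Def_BrauerPairs
import Cfsg.Agent.Lib.L0.PrincipalCrit
import Cfsg.Agent.Lib.L0.BlockAut
import Cfsg.Agent.Lib.H23.BlockMinMax
import Cfsg.Agent.Lib.H23.BlockInduce
import Cfsg.Agent.Lib.H23.BlockSecondMain

/-!
# Brauer pairs of the principal block (lead)

* `conjAut C x hx`: conjugation by `x ∈ N_G(C)` as an automorphism of `C`;
* `stabilizesBlock_principal`: every element of `N_G(C)` stabilizes the principal block of `C`;
* `isBrauerPairOf_principal`: for a `p`-subgroup `Q`, `(Q, B₀(C_G(Q)))` is a Brauer pair of `B₀(G)`.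
-/

set_option autoImplicit false

namespace Cfsg.Agent.Lib.L0.PrincipalBrauerPair

open Cfsg MonoidAlgebra Cfsg.Agent.Lib.H23 Cfsg.Agent.Lib.H24 Cfsg.Agent.Lib.L0
  Cfsg.Agent.Lib.L0.BlockAut Cfsg.Agent.Lib.L0.PrincipalCrit
open scoped ComplexConjugate

variable {G : Type*} [Group G]

/-- Conjugation by an element of the normalizer, as an automorphism of the subgroup. -/
noncomputable def conjAut (C : Subgroup G) (x : G) (hx : x ∈ Subgroup.normalizer (C : Set G)) :
    MulAut C where
  toFun c := ⟨x * c * x⁻¹, (Subgroup.mem_normalizer_iff.1 hx c).1 c.2⟩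
  invFun c := ⟨x⁻¹ * c * x, by
    have h := (Subgroup.mem_normalizer_iff.1 (Subgroup.inv_mem _ hx) c).1 c.2
    rwa [inv_inv] at h⟩
  left_inv c := by
    apply Subtype.ext
    simp only
    group
  right_inv c := by
    apply Subtype.ext
    simp only
    group
  map_mul' a b := by
    apply Subtype.ext
    simp only [Subgroup.coe_mul]
    group

theorem conjAut_apply (C : Subgroup G) (x : G) (hx : x ∈ Subgroup.normalizer (C : Set G))
    (c : C) : ((conjAut C x hx c : C) : G) = x * c * x⁻¹ := rfl

theorem principalBlock_eq (M : Ideal AlgInt) (H : Type*) [Group H] :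
    principalBlock M H = blockOf M (trivIrr H : H → ℂ) := rfl

theorem isPBlock_principalBlock (M : Ideal AlgInt) (H : Type*) [Group H] :
    IsPBlock M (principalBlock M H) := ⟨trivIrr H, rfl⟩

/-- Every element of `N_G(C)` stabilizes the principal block of `C`. -/
theorem stabilizesBlock_principal (M : Ideal AlgInt) (C : Subgroup G) (x : G)
    (hx : x ∈ Subgroup.normalizer (C : Set G)) :
    StabilizesBlock C (principalBlock M C) x := by
  refine ⟨hx, fun χ hχ => ?_⟩
  refine ⟨cj (conjAut C x hx) χ, ?_, ?_⟩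
  · have h1 : SameBlock M (cj (conjAut C x hx) (trivIrr C) : C → ℂ)
        (cj (conjAut C x hx) χ : C → ℂ) := sameBlock_cj _ hχ
    have h2 : cj (conjAut C x hx) (trivIrr C) = trivIrr C := by
      apply Subtype.ext
      funext c
      rfl
    rw [h2] at h1
    exact h1
  · intro k k' hk
    have h1 : k' = conjAut C x hx k := Subtype.ext hk
    rw [h1, cj_apply_apply]

variable [Fintype G] {p : ℕ} {M : Ideal AlgInt}

/-- `∑_{x ∈ C_G(Q)} β(x) ≡ ∑_{x ∈ G} β(x)` for a `p`-group `Q` and a class function `β` with local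
integer values. -/
theorem sum_centralizer_sub_sum_memLocalIdeal (hM : IsPModular p M) (Q : Subgroup G)
    (hQ : IsPGroup p Q) [Fintype (Subgroup.centralizer (Q : Set G))] (β : G → ℂ)
    (hβ : ∀ g, MemLocalRing M (β g)) (hinv : ∀ g h : G, β (h * g * h⁻¹) = β g) :
    MemLocalIdeal M (∑ g : G, β g - ∑ c : Subgroup.centralizer (Q : Set G), β (c : G)) := by
  classical
  haveI hPr := isPrime_of_isPModular hM
  set S := Finset.univ.filter (fun x : G => ¬ Q ≤ Subgroup.centralizer ({x} : Set G)) with hS
  have hmem : ∀ x : G, x ∈ Subgroup.centralizer (Q : Set G) ↔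
      Q ≤ Subgroup.centralizer ({x} : Set G) := by
    intro x
    constructor
    · intro h q hq
      rw [Subgroup.mem_centralizer_singleton_iff]
      exact Subgroup.mem_centralizer_iff.1 h q hq
    · intro h
      rw [Subgroup.mem_centralizer_iff]
      intro q hq
      exact Subgroup.mem_centralizer_singleton_iff.1 (h hq)
  have h1 : ∑ c : Subgroup.centralizer (Q : Set G), β (c : G) =
      ∑ g : G, if g ∈ Subgroup.centralizer (Q : Set G) then β g else 0 := by
    rw [sum_eq_sum_subgroup (Subgroup.centralizer (Q : Set G))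
      (fun g => if g ∈ Subgroup.centralizer (Q : Set G) then β g else 0)
      (fun g hg => if_neg hg)]
    refine Finset.sum_congr rfl fun c _ => ?_
    rw [if_pos c.2]
  have h2 : ∑ g : G, β g - ∑ c : Subgroup.centralizer (Q : Set G), β (c : G) =
      ∑ x ∈ S, β x := by
    rw [h1, ← Finset.sum_sub_distrib, hS, Finset.sum_filter]
    refine Finset.sum_congr rfl fun g _ => ?_
    by_cases hg : g ∈ Subgroup.centralizer (Q : Set G)
    · rw [if_pos hg, if_neg (not_not.2 ((hmem g).1 hg)), sub_self]
    · rw [if_neg hg, if_pos (fun h => hg ((hmem g).2 h)), sub_zero]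
  rw [h2]
  refine sum_memLocalIdeal_of_no_fixed hM Q hQ S ?_ β (fun x _ => hβ x)
    (fun u _ x _ => hinv x u) ?_
  · intro q hq x hx
    rw [hS, Finset.mem_filter] at hx ⊢
    refine ⟨Finset.mem_univ _, fun hle => hx.2 ?_⟩
    intro v hv
    have h1 := Subgroup.mem_centralizer_singleton_iff.1
      (hle (Q.mul_mem (Q.mul_mem hq hv) (Q.inv_mem hq)))
    rw [Subgroup.mem_centralizer_singleton_iff]
    calc v * x = q⁻¹ * ((q * v * q⁻¹) * (q * x * q⁻¹)) * q := by group
      _ = q⁻¹ * ((q * x * q⁻¹) * (q * v * q⁻¹)) * q := by rw [h1]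
      _ = x * v := by group
  · intro x hx
    rw [hS, Finset.mem_filter] at hx
    exact hx.2

/-- For a `p`-subgroup `Q`, `(Q, B₀(C_G(Q)))` is a Brauer pair of `B₀(G)`. -/
theorem isBrauerPairOf_principal (hM : IsPModular p M) (Q : Subgroup G) (hQ : IsPGroup p Q) :
    IsBrauerPairOf p M (principalBlock M G) Q
      (principalBlock M (Subgroup.centralizer (Q : Set G))) := by
  classical
  haveI hPr := isPrime_of_isPModular hM
  haveI : Fintype (Subgroup.centralizer (Q : Set G)) := Fintype.ofFinite _
  refine ⟨⟨hQ, isPBlock_principalBlock M _⟩, isPBlock_principalBlock M G, fun ξ hξ => ?_⟩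
  set B := principalBlock M G with hB
  have hec : blockIdem B ∈ Subalgebra.center ℂ (MonoidAlgebra ℂ G) := blockIdem_mem_center B
  have hei : blockIdem B ∈ intCoeff (G := G) M := by
    intro g
    rw [hB, principalBlock_eq]
    exact blockIdem_memLocalRing hM (trivIrr G) g
  have h2 : ∀ ξ' : IrrCharacter (Subgroup.centralizer (Q : Set G)),
      omega (ξ' : Subgroup.centralizer (Q : Set G) → ℂ)
      (resAlg (Subgroup.centralizer (Q : Set G)) (blockIdem B)) =
      brauerOmega Q (blockCoeff B) (ξ' : Subgroup.centralizer (Q : Set G) → ℂ) := by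
    intro ξ'
    unfold brauerOmega omega resAlg
    rw [charEval_ofFun, finsum_eq_sum_of_fintype, Finset.sum_div]
    refine Finset.sum_congr rfl fun x _ => ?_
    rfl
  have hξ' : SameBlock M (trivIrr (Subgroup.centralizer (Q : Set G)) :
      Subgroup.centralizer (Q : Set G) → ℂ) (ξ : Subgroup.centralizer (Q : Set G) → ℂ) := hξ
  have h3 := omega_sub_memLocalIdeal (sameBlock_symm hξ')
    (resAlg_mem_center (Subgroup.centralizer (Q : Set G)) hec)
    (resAlg_mem_intCoeff (Subgroup.centralizer (Q : Set G)) hei)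
  rw [h2 ξ] at h3
  have h4 : omega (trivIrr (Subgroup.centralizer (Q : Set G)) :
      Subgroup.centralizer (Q : Set G) → ℂ)
      (resAlg (Subgroup.centralizer (Q : Set G)) (blockIdem B)) =
      ∑ c : Subgroup.centralizer (Q : Set G), blockCoeff B (c : G) := by
    unfold omega resAlg
    rw [charEval_ofFun, trivIrr_apply, div_one]
    refine Finset.sum_congr rfl fun c _ => ?_
    rw [trivIrr_apply, mul_one]
    rfl
  have h5 : ∑ g : G, blockCoeff B g = 1 := by
    have h := omega_blockIdem B (trivIrr G)
    rw [if_pos (show trivIrr G ∈ B from sameBlock_refl _)] at h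
    rw [← h]
    unfold omega blockIdem
    rw [charEval_ofFun, trivIrr_apply, div_one]
    refine Finset.sum_congr rfl fun g _ => ?_
    rw [trivIrr_apply, mul_one]
  have h6 := sum_centralizer_sub_sum_memLocalIdeal hM Q hQ (blockCoeff B)
    (fun g => hei g) (fun g h => blockCoeff_conj B g h)
  rw [h5, ← h4] at h6
  have h7 := memLocalIdeal_sub h3 h6
  have e : brauerOmega Q (blockCoeff B) (ξ : Subgroup.centralizer (Q : Set G) → ℂ) -
      omega (trivIrr (Subgroup.centralizer (Q : Set G)) : Subgroup.centralizer (Q : Set G) → ℂ)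
        (resAlg (Subgroup.centralizer (Q : Set G)) (blockIdem B)) -
      (1 - omega (trivIrr (Subgroup.centralizer (Q : Set G)) :
        Subgroup.centralizer (Q : Set G) → ℂ)
        (resAlg (Subgroup.centralizer (Q : Set G)) (blockIdem B))) =
      brauerOmega Q (blockCoeff B) (ξ : Subgroup.centralizer (Q : Set G) → ℂ) - 1 := by ring
  rw [e] at h7
  exact h7

end Cfsg.Agent.Lib.L0.PrincipalBrauerPair
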