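import Mathlib
import Cfsg.Prelude.Def_BrauerPairs
import Cfsg.Agent.Lib.L0.BrauerLam
import Cfsg.Agent.Lib.L0.PrincipalBrauerPair
import Cfsg.Agent.Lib.L0.BlockParseval
import Cfsg.Agent.Lib.H23.BlockNecklace

/-!
# Normal inclusion of Brauer pairs (lead)

* truncation `incl C (resAlg C z)` of an element of `ℂG` to a subgroup `C`;
* automorphisms acting on blocks: `cj_image_blockOf`, `blockCoeff_cj_image`,
  `stabilizesBlock_iff`;
* `lam_eq_brauerOmega_sub`, `lam_eq_brauerOmega`;
* `exists_unique_stable_block`: for a `p`-group `P` normalizing `C ≥ C_G(P)` and `ξ ∈ Irr(C_G(P))`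
  there is exactly one `P`-stable block `f` of `C` with `Λ_ξ(e_f) ≡ 1`.
-/

set_option autoImplicit false

namespace Cfsg.Agent.Lib.L0.BrauerNormal

open Cfsg MonoidAlgebra Cfsg.Agent.Lib.H23 Cfsg.Agent.Lib.H24 Cfsg.Agent.Lib.L0
  Cfsg.Agent.Lib.L0.BrauerPairHom Cfsg.Agent.Lib.L0.BrauerLam Cfsg.Agent.Lib.L0.BlockAut
  Cfsg.Agent.Lib.L0.PrincipalBrauerPair Cfsg.Agent.Lib.L0.BlockParseval
open scoped ComplexConjugate

section Trunc

variable {G : Type*} [Group G] [Fintype G] (C : Subgroup G) [Fintype C]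

theorem coeff_trunc (z : MonoidAlgebra ℂ G) (g : G) [Decidable (g ∈ C)] :
    (incl C (resAlg C z)).coeff g = if g ∈ C then z.coeff g else 0 := by
  by_cases hg : g ∈ C
  · rw [if_pos hg]
    have := coeff_incl_mem C (resAlg C z) ⟨g, hg⟩
    simp only [coeff_resAlg] at this
    exact this
  · rw [if_neg hg, coeff_incl_not_mem C _ hg]

theorem resAlg_incl (y : MonoidAlgebra ℂ C) : resAlg C (incl C y) = y := by
  apply MonoidAlgebra.ext
  ext c
  rw [coeff_resAlg, coeff_incl_mem]

theorem conj_mem_iff_of_mem_normalizer {q : G} (hq : q ∈ Subgroup.normalizer (C : Set G)) (k : G) :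
    q * k * q⁻¹ ∈ C ↔ k ∈ C :=
  (Subgroup.mem_normalizer_iff.1 hq k).symm

theorem invUnder_trunc {q : G} (hq : q ∈ Subgroup.normalizer (C : Set G))
    {z : MonoidAlgebra ℂ G} (hz : InvUnder q z) : InvUnder q (incl C (resAlg C z)) := by
  classical
  intro k
  rw [coeff_trunc, coeff_trunc, hz k]
  by_cases hk : k ∈ C
  · rw [if_pos hk, if_pos ((conj_mem_iff_of_mem_normalizer C hq k).2 hk)]
  · rw [if_neg hk, if_neg (fun h => hk ((conj_mem_iff_of_mem_normalizer C hq k).1 h))]

theorem resAlg_trunc (D : Subgroup G) [Fintype D] (hDC : D ≤ C) (z : MonoidAlgebra ℂ G) :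
    resAlg D (incl C (resAlg C z)) = resAlg D z := by
  classical
  apply MonoidAlgebra.ext
  ext d
  rw [coeff_resAlg, coeff_resAlg, coeff_trunc, if_pos (hDC d.2)]

theorem resAlg_mem_center_of_invUnder {z : MonoidAlgebra ℂ G}
    (hz : ∀ c ∈ C, InvUnder c z) :
    resAlg C z ∈ Subalgebra.center ℂ (MonoidAlgebra ℂ C) := by
  apply mem_center_of_classFunction
  intro g h
  rw [coeff_resAlg, coeff_resAlg]
  have : ((h * g * h⁻¹ : C) : G) = (h : G) * (g : G) * (h : G)⁻¹ := by simp
  rw [this]
  exact hz h h.2 g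

theorem lam_trunc (P : Subgroup G) [Fintype (Subgroup.centralizer (P : Set G))]
    (hDC : Subgroup.centralizer (P : Set G) ≤ C)
    (ξ : IrrCharacter (Subgroup.centralizer (P : Set G))) (z : MonoidAlgebra ℂ G) :
    lam P ξ (incl C (resAlg C z)) = lam P ξ z := by
  unfold lam
  rw [resAlg_trunc C _ hDC]

end Trunc

section Aut

variable {H : Type*} [Group H] {M : Ideal AlgInt}

theorem cj_inv_cj (σ : MulAut H) (θ : IrrCharacter H) : cj σ⁻¹ (cj σ θ) = θ := by
  rw [← cj_mul, inv_mul_cancel, cj_one]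

theorem cj_cj_inv (σ : MulAut H) (θ : IrrCharacter H) : cj σ (cj σ⁻¹ θ) = θ := by
  rw [← cj_mul, mul_inv_cancel, cj_one]

theorem cj_injective (σ : MulAut H) : Function.Injective (cj σ) := by
  intro a b h
  have := congrArg (cj σ⁻¹) h
  rwa [cj_inv_cj, cj_inv_cj] at this

theorem cj_image_blockOf (σ : MulAut H) (χ₀ : IrrCharacter H) :
    cj σ '' blockOf M (χ₀ : H → ℂ) = blockOf M (cj σ χ₀ : H → ℂ) := by
  ext φ
  constructor
  · rintro ⟨ψ, hψ, rfl⟩
    exact sameBlock_cj σ hψ
  · intro hφ
    refine ⟨cj σ⁻¹ φ, ?_, cj_cj_inv σ φ⟩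
    have h1 : SameBlock M (cj σ⁻¹ (cj σ χ₀) : H → ℂ) (cj σ⁻¹ φ : H → ℂ) := sameBlock_cj σ⁻¹ hφ
    rwa [cj_inv_cj] at h1

theorem isPBlock_cj_image (σ : MulAut H) {A : Set (IrrCharacter H)} (hA : IsPBlock M A) :
    IsPBlock M (cj σ '' A) := by
  obtain ⟨χ₀, rfl⟩ := hA
  exact ⟨cj σ χ₀, cj_image_blockOf σ χ₀⟩

theorem cj_image_cj_inv_image (σ : MulAut H) (A : Set (IrrCharacter H)) :
    cj σ '' (cj σ⁻¹ '' A) = A := by
  rw [Set.image_image]
  simp only [cj_cj_inv, Set.image_id']

theorem cj_inv_image_cj_image (σ : MulAut H) (A : Set (IrrCharacter H)) :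
    cj σ⁻¹ '' (cj σ '' A) = A := by
  rw [Set.image_image]
  simp only [cj_inv_cj, Set.image_id']

theorem blockCoeff_cj_image (σ : MulAut H) (A : Set (IrrCharacter H)) (c : H) :
    blockCoeff (cj σ '' A) (σ c) = blockCoeff A c := by
  unfold blockCoeff
  congr 1
  rw [finsum_mem_image (fun a _ b _ h => cj_injective σ h)]
  refine finsum_congr fun χ => ?_
  refine finsum_congr fun _ => ?_
  rw [cj_apply_apply, cj_apply_one]

end Aut

section Blocks

variable {H : Type*} [Group H] [Fintype H] {M : Ideal AlgInt} [hPr : M.IsPrime]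

theorem block_eq_of_subset {A A' : Set (IrrCharacter H)} (hA : IsPBlock M A) (hA' : IsPBlock M A')
    (h : A ⊆ A') : A = A' := by
  obtain ⟨χ, rfl⟩ := hA
  obtain ⟨χ', rfl⟩ := hA'
  exact blockOf_eq_of_mem (h (mem_blockOf_self χ))

theorem block_eq_of_mem {A A' : Set (IrrCharacter H)} (hA : IsPBlock M A) (hA' : IsPBlock M A')
    {χ : IrrCharacter H} (h : χ ∈ A) (h' : χ ∈ A') : A = A' := by
  obtain ⟨χ₀, rfl⟩ := hA
  obtain ⟨χ', rfl⟩ := hA'
  rw [← blockOf_eq_of_mem h, ← blockOf_eq_of_mem h']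

theorem block_disjoint {A A' : Set (IrrCharacter H)} (hA : IsPBlock M A) (hA' : IsPBlock M A')
    (hne : A ≠ A') : Disjoint A A' := by
  rw [Set.disjoint_left]
  intro χ h h'
  exact hne (block_eq_of_mem hA hA' h h')

theorem block_nonempty {A : Set (IrrCharacter H)} (hA : IsPBlock M A) : A.Nonempty := by
  obtain ⟨χ, rfl⟩ := hA
  exact ⟨χ, mem_blockOf_self χ⟩

end Blocks

section Stab

variable {G : Type*} [Group G] [Fintype G] {M : Ideal AlgInt} [hPr : M.IsPrime]
  (C : Subgroup G) [Fintype C]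

theorem isConjCharOf_cj (x : G) (hx : x ∈ Subgroup.normalizer (C : Set G)) (χ : IrrCharacter C) :
    IsConjCharOf C x (χ : C → ℂ) (cj (conjAut C x hx) χ : C → ℂ) := by
  intro k k' hk
  have h1 : k' = conjAut C x hx k := Subtype.ext hk
  rw [h1, cj_apply_apply]

theorem eq_cj_of_isConjCharOf (x : G) (hx : x ∈ Subgroup.normalizer (C : Set G))
    {χ χ' : IrrCharacter C} (h : IsConjCharOf C x (χ : C → ℂ) (χ' : C → ℂ)) :
    χ' = cj (conjAut C x hx) χ := by
  apply Subtype.ext
  funext k'
  have h1 := h ((conjAut C x hx)⁻¹ k') k' (by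
    rw [← conjAut_apply C x hx]
    simp)
  rw [h1, cj_apply]

theorem stabilizesBlock_iff (x : G) (hx : x ∈ Subgroup.normalizer (C : Set G))
    {A : Set (IrrCharacter C)} (hA : IsPBlock M A) :
    StabilizesBlock C A x ↔ cj (conjAut C x hx) '' A = A := by
  constructor
  · rintro ⟨_, h⟩
    refine block_eq_of_subset (isPBlock_cj_image _ hA) hA ?_
    rintro _ ⟨χ, hχ, rfl⟩
    obtain ⟨χ', hχ', hc⟩ := h χ hχ
    rwa [← eq_cj_of_isConjCharOf C x hx hc]
  · intro h
    refine ⟨hx, fun χ hχ => ⟨cj (conjAut C x hx) χ, ?_, isConjCharOf_cj C x hx χ⟩⟩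
    rw [← h]
    exact ⟨χ, hχ, rfl⟩

theorem invUnder_incl_blockIdem (x : G) (hx : x ∈ Subgroup.normalizer (C : Set G))
    {A : Set (IrrCharacter C)} (h : cj (conjAut C x hx) '' A = A) :
    InvUnder x (incl C (blockIdem A)) := by
  intro k
  by_cases hk : k ∈ C
  · have h1 : x * k * x⁻¹ = ((conjAut C x hx ⟨k, hk⟩ : C) : G) := rfl
    rw [h1, coeff_incl_mem, coeff_blockIdem]
    have h2 := coeff_incl_mem C (blockIdem A) ⟨k, hk⟩
    simp only [coeff_blockIdem] at h2
    rw [h2]
    conv_lhs => rw [← h]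
    exact blockCoeff_cj_image _ A _
  · rw [coeff_incl_not_mem C _ hk, coeff_incl_not_mem C _
      (fun h => hk ((conj_mem_iff_of_mem_normalizer C hx k).1 h))]

theorem invUnder_incl_blockIdem_of_stab (x : G) {A : Set (IrrCharacter C)} (hA : IsPBlock M A)
    (h : StabilizesBlock C A x) : InvUnder x (incl C (blockIdem A)) :=
  invUnder_incl_blockIdem C x h.1 ((stabilizesBlock_iff C x h.1 hA).1 h)

end Stab

section LamOmega

variable {G : Type*} [Group G] [Fintype G] (P : Subgroup G)
  [Fintype (Subgroup.centralizer (P : Set G))]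

theorem lam_eq_brauerOmega (B : Set (IrrCharacter G))
    (ξ : IrrCharacter (Subgroup.centralizer (P : Set G))) :
    lam P ξ (blockIdem B) =
      brauerOmega P (blockCoeff B) (ξ : Subgroup.centralizer (P : Set G) → ℂ) := by
  unfold lam brauerOmega omega resAlg
  rw [charEval_ofFun, finsum_eq_sum_of_fintype, Finset.sum_div]
  refine Finset.sum_congr rfl fun x _ => ?_
  rfl

theorem lam_eq_brauerOmega_sub (C : Subgroup G) [Fintype C] (A : Set (IrrCharacter C))
    (ξ : IrrCharacter (Subgroup.centralizer (P : Set G))) :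
    lam P ξ (incl C (blockIdem A)) =
      brauerOmega P (subgroupBlockCoeff C A) (ξ : Subgroup.centralizer (P : Set G) → ℂ) := by
  classical
  unfold lam brauerOmega omega resAlg
  rw [charEval_ofFun, finsum_eq_sum_of_fintype, Finset.sum_div]
  refine Finset.sum_congr rfl fun x _ => ?_
  congr 2
  unfold subgroupBlockCoeff
  by_cases hx : (x : G) ∈ C
  · rw [dif_pos hx]
    exact coeff_incl_mem C (blockIdem A) ⟨x, hx⟩
  · rw [dif_neg hx]
    exact coeff_incl_not_mem C _ hx

end LamOmega

section Unique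

variable {G : Type*} [Group G] [Fintype G] {p : ℕ} {M : Ideal AlgInt} [hPr : M.IsPrime]
  (P : Subgroup G) [Fintype (Subgroup.centralizer (P : Set G))] (C : Subgroup G) [Fintype C]

/-- Conjugation by the elements of a subgroup `P ≤ N_G(C)` as a homomorphism `P → Aut(C)`. -/
noncomputable def conjHom (hPN : P ≤ Subgroup.normalizer (C : Set G)) : P →* MulAut C where
  toFun q := conjAut C q (hPN q.2)
  map_one' := by
    apply MulEquiv.ext
    intro c
    apply Subtype.ext
    rw [conjAut_apply]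
    simp
  map_mul' a b := by
    apply MulEquiv.ext
    intro c
    apply Subtype.ext
    rw [MulAut.mul_apply, conjAut_apply, conjAut_apply, conjAut_apply]
    simp [mul_assoc]

omit [Fintype G] [Fintype (Subgroup.centralizer (P : Set G))] [Fintype C] in
theorem conjHom_apply (hPN : P ≤ Subgroup.normalizer (C : Set G)) (q : P) :
    conjHom P C hPN q = conjAut C q (hPN q.2) := rfl

/-- The action of `P ≤ N_G(C)` on sets of irreducible characters of `C`. -/
@[reducible] noncomputable def blockAction (hPN : P ≤ Subgroup.normalizer (C : Set G)) :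
    MulAction P (Set (IrrCharacter C)) where
  smul q A := cj (conjHom P C hPN q) '' A
  one_smul A := by
    show cj (conjHom P C hPN 1) '' A = A
    rw [map_one]
    simp only [cj_one, Set.image_id']
  mul_smul a b A := by
    show cj (conjHom P C hPN (a * b)) '' A =
      cj (conjHom P C hPN a) '' (cj (conjHom P C hPN b) '' A)
    rw [map_mul, Set.image_image]
    simp only [cj_mul]

/-- `Λ_ξ(e_{q·A}) = Λ_ξ(e_A)` for `q ∈ P`. -/
theorem lam_cj_image (hPN : P ≤ Subgroup.normalizer (C : Set G))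
    (hDC : Subgroup.centralizer (P : Set G) ≤ C)
    (ξ : IrrCharacter (Subgroup.centralizer (P : Set G))) (q : P) (A : Set (IrrCharacter C)) :
    lam P ξ (incl C (blockIdem (cj (conjHom P C hPN q) '' A))) =
      lam P ξ (incl C (blockIdem A)) := by
  unfold lam
  congr 1
  apply MonoidAlgebra.ext
  ext d
  rw [coeff_resAlg, coeff_resAlg]
  have h1 := coeff_incl_mem C (blockIdem (cj (conjHom P C hPN q) '' A)) ⟨d, hDC d.2⟩
  have h2 := coeff_incl_mem C (blockIdem A) ⟨d, hDC d.2⟩
  simp only [coeff_blockIdem] at h1 h2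
  rw [h1, h2]
  have h3 : (⟨d, hDC d.2⟩ : C) = conjHom P C hPN q ⟨d, hDC d.2⟩ := by
    apply Subtype.ext
    rw [conjHom_apply, conjAut_apply]
    simp only
    have := Subgroup.mem_centralizer_iff.1 d.2 q q.2
    rw [this, mul_inv_cancel_right]
  conv_lhs => rw [h3]
  exact blockCoeff_cj_image _ A _

theorem lam_block_memLocalRing (hM : IsPModular p M)
    (hDC : Subgroup.centralizer (P : Set G) ≤ C)
    (ξ : IrrCharacter (Subgroup.centralizer (P : Set G))) {A : Set (IrrCharacter C)}
    (hA : IsPBlock M A) : MemLocalRing M (lam P ξ (incl C (blockIdem A))) := by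
  obtain ⟨χ₀, rfl⟩ := hA
  refine omega_memLocalRing ξ (resAlg_mem_center_of_inv P fun q hq =>
    invUnder_incl C (blockIdem_mem_center _) ⟨q, hDC hq⟩) (resAlg_mem_intCoeff _ ?_)
  exact fun g => incl_memLocalRing C (fun k => blockIdem_memLocalRing hM χ₀ k) g

theorem good_block (hM : IsPModular p M)
    (hDC : Subgroup.centralizer (P : Set G) ≤ C) {A : Set (IrrCharacter C)}
    (hA : IsPBlock M A) (hst : ∀ x ∈ P, StabilizesBlock C A x) :
    Good M P (incl C (blockIdem A)) := by
  obtain ⟨χ₀, rfl⟩ := hA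
  exact good_incl P C hDC (blockIdem_mem_center _) (fun k => blockIdem_memLocalRing hM χ₀ k)
    (fun q hq => invUnder_incl_blockIdem_of_stab C q ⟨χ₀, rfl⟩ (hst q hq))

theorem stab_iff_fixed (hPN : P ≤ Subgroup.normalizer (C : Set G)) {A : Set (IrrCharacter C)}
    (hA : IsPBlock M A) :
    (∀ x ∈ P, StabilizesBlock C A x) ↔
      ∀ q : P, cj (conjHom P C hPN q) '' A = A := by
  constructor
  · intro h q
    exact (stabilizesBlock_iff C q (hPN q.2) hA).1 (h q q.2)
  · intro h x hx
    exact (stabilizesBlock_iff C x (hPN hx) hA).2 (h ⟨x, hx⟩)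

/-- For a `p`-subgroup `P` normalizing `C ≥ C_G(P)` and `ξ ∈ Irr(C_G(P))`, there is exactly one
`P`-stable block `f` of `C` with `Λ_ξ(e_f) ≡ 1`. -/
theorem exists_unique_stable_block (hM : IsPModular p M) (hP : IsPGroup p P)
    (hPN : P ≤ Subgroup.normalizer (C : Set G))
    (hDC : Subgroup.centralizer (P : Set G) ≤ C)
    (ξ : IrrCharacter (Subgroup.centralizer (P : Set G))) :
    ∃! f : Set (IrrCharacter C), IsPBlock M f ∧ (∀ x ∈ P, StabilizesBlock C f x) ∧
      MemLocalIdeal M (lam P ξ (incl C (blockIdem f)) - 1) := by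
  classical
  haveI : Fact p.Prime := ⟨prime_of_isPModular hM⟩
  haveI : Fintype (IrrCharacter C) := Fintype.ofFinite _
  haveI : Fintype (Set (IrrCharacter C)) := Fintype.ofFinite _
  letI act : MulAction P (Set (IrrCharacter C)) := blockAction P C hPN
  have hsmul : ∀ (q : P) (A : Set (IrrCharacter C)), q • A = cj (conjHom P C hPN q) '' A :=
    fun _ _ => rfl
  -- uniqueness part
  have huniq : ∀ A A' : Set (IrrCharacter C), IsPBlock M A → IsPBlock M A' →
      (∀ x ∈ P, StabilizesBlock C A x) → (∀ x ∈ P, StabilizesBlock C A' x) →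
      MemLocalIdeal M (lam P ξ (incl C (blockIdem A)) - 1) →
      MemLocalIdeal M (lam P ξ (incl C (blockIdem A')) - 1) → A = A' := by
    intro A A' hA hA' hs hs' h1 h1'
    by_contra hne
    have hd := block_disjoint hA hA' hne
    have hz : incl C (blockIdem A) * incl C (blockIdem A') = 0 := by
      rw [← map_mul, blockIdem_mul_of_disjoint A A' hd, map_zero]
    have hg := good_block P C hM hDC hA hs
    have hg' := good_block P C hM hDC hA' hs'
    have h2 := lam_orth P hM hP ξ hg hg' hz
    have h3 := memLocalIdeal_mul_right h1 (lam_memLocalRing P ξ hg')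
    have h4 := memLocalIdeal_sub (memLocalIdeal_add h3 h1') h2
    have e : (lam P ξ (incl C (blockIdem A)) - 1) * lam P ξ (incl C (blockIdem A')) +
        (lam P ξ (incl C (blockIdem A')) - 1) -
        lam P ξ (incl C (blockIdem A)) * lam P ξ (incl C (blockIdem A')) = -1 := by ring
    rw [e] at h4
    have h5 := memLocalIdeal_neg h4
    rw [neg_neg] at h5
    exact not_memLocalIdeal_one h5
  -- the sum of all `t A` is `1`
  have hsum1 : ∑ A ∈ blocks M C, lam P ξ (incl C (blockIdem A)) = 1 := by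
    rw [← lam_sum, ← map_sum]
    have : ∑ A ∈ blocks M C, blockIdem A = (1 : MonoidAlgebra ℂ C) := sum_blockIdem_eq_one
    rw [this, map_one, lam_one]
  -- the non-fixed part
  set f : Set (IrrCharacter C) → ℂ := fun A =>
    if A ∈ blocks M C ∧ ¬ (∀ q : P, q • A = A) then lam P ξ (incl C (blockIdem A)) else 0 with hf
  have hfix_iff : ∀ (q : P) (A : Set (IrrCharacter C)),
      (∀ x : P, x • (q • A) = q • A) ↔ ∀ x : P, x • A = A := by
    intro q A
    constructor
    · intro h
      have h1 : q⁻¹ • (q • A) = q • A := h q⁻¹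
      rw [inv_smul_smul] at h1
      intro x
      have h2 := h x
      rwa [← h1] at h2
    · intro h x
      rw [h q, h x]
  have hblock_iff : ∀ (q : P) (A : Set (IrrCharacter C)),
      q • A ∈ blocks M C ↔ A ∈ blocks M C := by
    intro q A
    rw [mem_blocks, mem_blocks]
    constructor
    · intro h
      have h1 : IsPBlock M (q⁻¹ • (q • A)) := by
        rw [hsmul q⁻¹]
        exact isPBlock_cj_image _ h
      rwa [inv_smul_smul] at h1
    · intro h
      rw [hsmul]
      exact isPBlock_cj_image _ h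
  obtain ⟨s, hs, hsum2⟩ := exists_sum_eq_mul_of_orbit_card_dvd (Γ := P)
    (localRing M).toAddSubgroup f
    (by
      intro A
      show MemLocalRing M (f A)
      rw [hf]
      simp only
      split_ifs with h
      · exact lam_block_memLocalRing P C hM hDC ξ (mem_blocks.1 h.1)
      · exact memLocalRing_zero hPr.ne_top)
    (by
      intro q A
      rw [hf]
      simp only
      exact if_congr (and_congr (hblock_iff q A) (not_congr (hfix_iff q A)))
        (by rw [hsmul, lam_cj_image P C hPN hDC]) rfl)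
    p
    (by
      intro A hA
      have hnf : ¬ (∀ q : P, q • A = A) := by
        by_contra h
        apply hA
        rw [hf]
        simp only
        rw [if_neg (fun h' => h'.2 h)]
      obtain ⟨n, hn⟩ := hP.card_orbit A
      rw [hn]
      rcases Nat.eq_zero_or_pos n with h0 | h0
      · exfalso
        apply hnf
        rw [h0, pow_zero, Nat.card_eq_one_iff_unique] at hn
        intro q
        have := hn.1.elim (⟨q • A, MulAction.mem_orbit A q⟩ : MulAction.orbit P A)
          ⟨A, MulAction.mem_orbit_self A⟩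
        exact congrArg Subtype.val this
      · exact dvd_pow_self p (Nat.pos_iff_ne_zero.1 h0))
  have hJ : MemLocalIdeal M (∑ A, f A) := by
    rw [hsum2]
    exact memLocalIdeal_mul_right (memLocalIdeal_p hM) hs
  have hsplit : ∑ A ∈ blocks M C, lam P ξ (incl C (blockIdem A)) =
      ∑ A ∈ (blocks M C).filter (fun A => ∀ q : P, q • A = A),
        lam P ξ (incl C (blockIdem A)) + ∑ A, f A := by
    rw [← Finset.sum_filter_add_sum_filter_not (blocks M C) (fun A => ∀ q : P, q • A = A)]
    congr 1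
    rw [hf, Finset.sum_filter]
    symm
    rw [← Finset.sum_subset (Finset.subset_univ (blocks M C))]
    · refine Finset.sum_congr rfl fun A hA => ?_
      by_cases h : ∀ q : P, q • A = A
      · rw [if_neg (fun h' => h'.2 h), if_neg (not_not.2 h)]
      · rw [if_pos ⟨hA, h⟩, if_pos h]
    · intro A _ hA
      rw [if_neg (fun h' => hA h'.1)]
  -- existence
  have hex : ∃ A ∈ (blocks M C).filter (fun A => ∀ q : P, q • A = A),
      MemLocalIdeal M (lam P ξ (incl C (blockIdem A)) - 1) := by
    by_contra hno'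
    have hno : ∀ A ∈ (blocks M C).filter (fun A => ∀ q : P, q • A = A),
        ¬ MemLocalIdeal M (lam P ξ (incl C (blockIdem A)) - 1) := fun A hA h => hno' ⟨A, hA, h⟩
    have h1 : MemLocalIdeal M (∑ A ∈ (blocks M C).filter (fun A => ∀ q : P, q • A = A),
        lam P ξ (incl C (blockIdem A))) := by
      refine memLocalIdeal_sum _ _ fun A hA => ?_
      have hA' := Finset.mem_filter.1 hA
      have hbl := mem_blocks.1 hA'.1
      have hst := (stab_iff_fixed P C hPN hbl).2 hA'.2
      rcases lam_idem P hM hP ξ (good_block P C hM hDC hbl hst) (by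
        rw [← map_mul, blockIdem_mul_self]) with h | h
      · exact h
      · exact absurd h (hno A hA)
    have h2 := memLocalIdeal_add h1 hJ
    rw [← hsplit, hsum1] at h2
    exact not_memLocalIdeal_one h2
  obtain ⟨A, hA, hA1⟩ := hex
  have hA' := Finset.mem_filter.1 hA
  have hbl := mem_blocks.1 hA'.1
  have hst := (stab_iff_fixed P C hPN hbl).2 hA'.2
  refine ⟨A, ⟨hbl, hst, hA1⟩, ?_⟩
  rintro A' ⟨hbl', hst', hA1'⟩
  exact huniq A' A hbl' hbl hst' hst hA1' hA1

end Unique

end Cfsg.Agent.Lib.L0.BrauerNormal
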