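import Mathlib
import Cfsg.Prelude.Def_BrauerPairs
import Cfsg.Agent.Lib.L0.BrauerNormal

/-!
# Inclusion of Brauer pairs (lead)

* `isNormalSubpair_iff_lam`: normal inclusion through `Λ`;
* `exists_unique_normalSubpair`: for `Q ⊴ P` there is exactly one `f` with `(Q,f) ⊴ (P,e)`;
* `lam_sub_omega_of_normalSubpair`: the key congruence `Λ^P_ξ(z) ≡ ω_ψ(res_{C_G(Q)} z)`;
* `normalSubpair_trans`, `subpairLE_of_normal` (`(Q,f) ≤ (P,e)`, `(T,k) ⊴ (P,e)`, `Q ≤ T` gives
  `(Q,f) ≤ (T,k)`), `subpairLE_unique`, `exists_subpairLE`.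
-/

set_option autoImplicit false

namespace Cfsg.Agent.Lib.L0.BrauerSubpair

open Cfsg MonoidAlgebra Cfsg.Agent.Lib.H23 Cfsg.Agent.Lib.H24 Cfsg.Agent.Lib.L0
  Cfsg.Agent.Lib.L0.BrauerPairHom Cfsg.Agent.Lib.L0.BrauerLam Cfsg.Agent.Lib.L0.BlockAut
  Cfsg.Agent.Lib.L0.PrincipalBrauerPair Cfsg.Agent.Lib.L0.BlockParseval
  Cfsg.Agent.Lib.L0.BrauerNormal
open scoped ComplexConjugate

section Basic

variable {G : Type*} [Group G]

/-- The normalizer of `Q` normalizes the centralizer of `Q`. -/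
theorem normalizer_le_normalizer_centralizer (Q : Subgroup G) :
    Subgroup.normalizer (Q : Set G) ≤
      Subgroup.normalizer ((Subgroup.centralizer (Q : Set G) : Subgroup G) : Set G) := by
  intro x hx
  have key : ∀ y : G, y ∈ Subgroup.normalizer (Q : Set G) →
      ∀ c ∈ Subgroup.centralizer (Q : Set G), y * c * y⁻¹ ∈ Subgroup.centralizer (Q : Set G) := by
    intro y hy c hc
    rw [Subgroup.mem_centralizer_iff]
    intro q hq
    have h1 : y⁻¹ * q * y ∈ Q := by
      have := (Subgroup.mem_normalizer_iff.1 (Subgroup.inv_mem _ hy) q).1 hq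
      rwa [inv_inv] at this
    have h2 := Subgroup.mem_centralizer_iff.1 hc _ h1
    calc q * (y * c * y⁻¹) = y * ((y⁻¹ * q * y) * c) * y⁻¹ := by group
      _ = y * (c * (y⁻¹ * q * y)) * y⁻¹ := by rw [h2]
      _ = y * c * y⁻¹ * q := by group
  rw [Subgroup.mem_normalizer_iff]
  intro c
  constructor
  · exact key x hx c
  · intro h
    have := key x⁻¹ (Subgroup.inv_mem _ hx) _ h
    rw [inv_inv] at this
    have e : x⁻¹ * (x * c * x⁻¹) * x = c := by group
    rwa [e] at this

end Basic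

section Normal

variable {G : Type*} [Group G] [Fintype G] {p : ℕ} {M : Ideal AlgInt}

/-- Normal inclusion of Brauer pairs through `Λ`. -/
theorem isNormalSubpair_iff_lam (hM : IsPModular p M) (P Q : Subgroup G)
    [Fintype (Subgroup.centralizer (P : Set G))] [Fintype (Subgroup.centralizer (Q : Set G))]
    (ξ₀ : IrrCharacter (Subgroup.centralizer (P : Set G)))
    (f : Set (IrrCharacter (Subgroup.centralizer (Q : Set G)))) :
    IsNormalSubpair p M Q f P (blockOf M (ξ₀ : Subgroup.centralizer (P : Set G) → ℂ)) ↔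
      IsPGroup p Q ∧ IsPGroup p P ∧ Q ≤ P ∧ P ≤ Subgroup.normalizer (Q : Set G) ∧
      IsPBlock M f ∧ (∀ x ∈ P, StabilizesBlock (Subgroup.centralizer (Q : Set G)) f x) ∧
      MemLocalIdeal M (lam P ξ₀ (incl (Subgroup.centralizer (Q : Set G)) (blockIdem f)) - 1) := by
  haveI hPr := isPrime_of_isPModular hM
  constructor
  · rintro ⟨⟨hQ, hf⟩, ⟨hP, _⟩, hQP, hPN, hst, h1⟩
    refine ⟨hQ, hP, hQP, hPN, hf, hst, ?_⟩
    rw [lam_eq_brauerOmega_sub]
    exact h1 ξ₀ (mem_blockOf_self ξ₀)
  · rintro ⟨hQ, hP, hQP, hPN, hf, hst, h1⟩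
    refine ⟨⟨hQ, hf⟩, ⟨hP, ξ₀, rfl⟩, hQP, hPN, hst, fun ξ hξ => ?_⟩
    rw [← lam_eq_brauerOmega_sub]
    have hg := good_block P (Subgroup.centralizer (Q : Set G)) hM
      (Subgroup.centralizer_le hQP) hf hst
    have h2 := lam_congr P hξ hg
    have h3 := memLocalIdeal_sub h1 h2
    have e : lam P ξ₀ (incl (Subgroup.centralizer (Q : Set G)) (blockIdem f)) - 1 -
        (lam P ξ₀ (incl (Subgroup.centralizer (Q : Set G)) (blockIdem f)) -
          lam P ξ (incl (Subgroup.centralizer (Q : Set G)) (blockIdem f))) =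
        lam P ξ (incl (Subgroup.centralizer (Q : Set G)) (blockIdem f)) - 1 := by ring
    rwa [e] at h3

/-- For `Q ⊴ P` there is exactly one `f` with `(Q, f) ⊴ (P, e)`. -/
theorem exists_unique_normalSubpair (hM : IsPModular p M) (P Q : Subgroup G)
    (e : Set (IrrCharacter (Subgroup.centralizer (P : Set G))))
    (hPe : IsBrauerPair p M P e) (hQP : Q ≤ P) (hPN : P ≤ Subgroup.normalizer (Q : Set G)) :
    ∃! f : Set (IrrCharacter (Subgroup.centralizer (Q : Set G))),
      IsNormalSubpair p M Q f P e := by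
  classical
  haveI hPr := isPrime_of_isPModular hM
  haveI : Fintype (Subgroup.centralizer (P : Set G)) := Fintype.ofFinite _
  haveI : Fintype (Subgroup.centralizer (Q : Set G)) := Fintype.ofFinite _
  obtain ⟨hP, ξ₀, rfl⟩ := hPe
  have hQ : IsPGroup p Q := hP.to_le hQP
  obtain ⟨f, ⟨hf, hst, h1⟩, huniq⟩ := exists_unique_stable_block P
    (Subgroup.centralizer (Q : Set G)) hM hP
    (hPN.trans (normalizer_le_normalizer_centralizer Q)) (Subgroup.centralizer_le hQP) ξ₀
  refine ⟨f, (isNormalSubpair_iff_lam hM P Q ξ₀ f).2 ⟨hQ, hP, hQP, hPN, hf, hst, h1⟩, ?_⟩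
  intro f' hf'
  obtain ⟨_, _, _, _, hf'b, hst', h1'⟩ := (isNormalSubpair_iff_lam hM P Q ξ₀ f').1 hf'
  exact huniq f' ⟨hf'b, hst', h1'⟩

end Normal

section Key

variable {G : Type*} [Group G] [Fintype G] {p : ℕ} {M : Ideal AlgInt}

/-- The key congruence: if `f` is a `P`-stable block of `C_G(Q)`, `Q ⊴ P`, with `Λ_ξ(e_f) ≡ 1`, then
`Λ_ξ(z) ≡ ω_ψ(res_{C_G(Q)} z)` for `ψ ∈ f` and every integral `z ∈ ℂG` invariant under `C_G(Q)` and
`P`. -/
theorem lam_sub_omega_of_stable [hPr : M.IsPrime] (hM : IsPModular p M) (P Q : Subgroup G)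
    [Fintype (Subgroup.centralizer (P : Set G))] [Fintype (Subgroup.centralizer (Q : Set G))]
    (hP : IsPGroup p P) (hQP : Q ≤ P) (hPN : P ≤ Subgroup.normalizer (Q : Set G))
    (ξ₀ : IrrCharacter (Subgroup.centralizer (P : Set G)))
    {f : Set (IrrCharacter (Subgroup.centralizer (Q : Set G)))} (hf : IsPBlock M f)
    (hst : ∀ x ∈ P, StabilizesBlock (Subgroup.centralizer (Q : Set G)) f x)
    (h1 : MemLocalIdeal M (lam P ξ₀ (incl (Subgroup.centralizer (Q : Set G)) (blockIdem f)) - 1))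
    {z : MonoidAlgebra ℂ G} (hzi : z ∈ intCoeff (G := G) M)
    (hzC : ∀ c ∈ Subgroup.centralizer (Q : Set G), InvUnder c z) (hzP : ∀ q ∈ P, InvUnder q z)
    {ψ : IrrCharacter (Subgroup.centralizer (Q : Set G))} (hψ : ψ ∈ f) :
    MemLocalIdeal M (lam P ξ₀ z -
      omega (ψ : Subgroup.centralizer (Q : Set G) → ℂ)
        (resAlg (Subgroup.centralizer (Q : Set G)) z)) := by
  obtain ⟨ψ₀, rfl⟩ := hf
  have hDC : Subgroup.centralizer (P : Set G) ≤ Subgroup.centralizer (Q : Set G) :=
    Subgroup.centralizer_le hQP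
  have hN : P ≤ Subgroup.normalizer ((Subgroup.centralizer (Q : Set G) : Subgroup G) : Set G) :=
    hPN.trans (normalizer_le_normalizer_centralizer Q)
  have := lam_incl_sub_omega P (Subgroup.centralizer (Q : Set G)) hM hP hDC ξ₀ ψ₀
    (fun q hq => invUnder_incl_blockIdem_of_stab _ q ⟨ψ₀, rfl⟩ (hst q hq)) h1
    (resAlg_mem_center_of_invUnder _ hzC) (resAlg_mem_intCoeff _ hzi)
    (fun q hq => invUnder_trunc _ (hN hq) (hzP q hq)) hψ
  rwa [lam_trunc _ P hDC] at this

/-- If `(S, h) ⊴ (P, e)`, `(R, g) ⊴ (P, e)` and `S ≤ R` then `(S, h) ⊴ (R, g)`. -/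
theorem normalSubpair_of_le (hM : IsPModular p M) {P R S : Subgroup G}
    {e : Set (IrrCharacter (Subgroup.centralizer (P : Set G)))}
    {g : Set (IrrCharacter (Subgroup.centralizer (R : Set G)))}
    {h : Set (IrrCharacter (Subgroup.centralizer (S : Set G)))}
    (hS : IsNormalSubpair p M S h P e) (hR : IsNormalSubpair p M R g P e) (hSR : S ≤ R) :
    IsNormalSubpair p M S h R g := by
  classical
  haveI hPr := isPrime_of_isPModular hM
  haveI : Fintype (Subgroup.centralizer (P : Set G)) := Fintype.ofFinite _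
  haveI : Fintype (Subgroup.centralizer (R : Set G)) := Fintype.ofFinite _
  haveI : Fintype (Subgroup.centralizer (S : Set G)) := Fintype.ofFinite _
  obtain ⟨hSh, hPe, hSP, hPNS, hstS, h1S⟩ := hS
  obtain ⟨hRg, _, hRP, hPNR, hstR, h1R⟩ := hR
  obtain ⟨hP, ξ₀, rfl⟩ := hPe
  refine ⟨hSh, hRg, hSR, hRP.trans hPNS, fun x hx => hstS x (hRP hx), fun ζ hζ => ?_⟩
  rw [← lam_eq_brauerOmega_sub]
  have h1S' : MemLocalIdeal M
      (lam P ξ₀ (incl (Subgroup.centralizer (S : Set G)) (blockIdem h)) - 1) := by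
    rw [lam_eq_brauerOmega_sub]
    exact h1S ξ₀ (mem_blockOf_self ξ₀)
  have h1R' : MemLocalIdeal M
      (lam P ξ₀ (incl (Subgroup.centralizer (R : Set G)) (blockIdem g)) - 1) := by
    rw [lam_eq_brauerOmega_sub]
    exact h1R ξ₀ (mem_blockOf_self ξ₀)
  have hgood := good_block P (Subgroup.centralizer (S : Set G)) hM
    (Subgroup.centralizer_le hSP) hSh.2 hstS
  have key := lam_sub_omega_of_stable hM P R hP hRP hPNR ξ₀ hRg.2 hstR h1R' hgood.int
    (fun c hc => invUnder_incl (Subgroup.centralizer (S : Set G)) (blockIdem_mem_center h)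
      ⟨c, Subgroup.centralizer_le hSR hc⟩) hgood.invP hζ
  have h3 := memLocalIdeal_sub h1S' key
  have e : lam P ξ₀ (incl (Subgroup.centralizer (S : Set G)) (blockIdem h)) - 1 -
      (lam P ξ₀ (incl (Subgroup.centralizer (S : Set G)) (blockIdem h)) -
        omega (ζ : Subgroup.centralizer (R : Set G) → ℂ)
          (resAlg (Subgroup.centralizer (R : Set G))
            (incl (Subgroup.centralizer (S : Set G)) (blockIdem h)))) =
      lam R ζ (incl (Subgroup.centralizer (S : Set G)) (blockIdem h)) - 1 := by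
    unfold lam
    ring
  rwa [e] at h3

/-- A normal step between pairs on the same subgroup is trivial. -/
theorem eq_of_normalSubpair_self (hM : IsPModular p M) {P : Subgroup G}
    {k e : Set (IrrCharacter (Subgroup.centralizer (P : Set G)))}
    (h : IsNormalSubpair p M P k P e) : k = e := by
  classical
  haveI hPr := isPrime_of_isPModular hM
  haveI : Fintype (Subgroup.centralizer (P : Set G)) := Fintype.ofFinite _
  obtain ⟨hk, he, _, _, _, h1⟩ := h
  symm
  refine block_eq_of_subset he.2 hk.2 fun ξ hξ => ?_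
  by_contra hξk
  have h2 := h1 ξ hξ
  rw [← lam_eq_brauerOmega_sub] at h2
  unfold lam at h2
  rw [resAlg_incl, omega_blockIdem, if_neg hξk, zero_sub] at h2
  have h3 := memLocalIdeal_neg h2
  rw [neg_neg] at h3
  exact not_memLocalIdeal_one h3

theorem eq_of_normalSubpairRel_of_le (hM : IsPModular p M) {a b : BrauerPairIdx G}
    (h : NormalSubpairRel p M a b) (hle : b.1 ≤ a.1) : a = b := by
  obtain ⟨Q, f⟩ := a
  obtain ⟨P, e⟩ := b
  have hQP : Q ≤ P := h.2.2.1
  obtain rfl : Q = P := le_antisymm hQP hle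
  have h2 : f = e := eq_of_normalSubpair_self hM h
  rw [h2]

omit [Fintype G] in
theorem fst_le_of_reflTransGen {a b : BrauerPairIdx G}
    (h : Relation.ReflTransGen (NormalSubpairRel p M) a b) : a.1 ≤ b.1 := by
  induction h with
  | refl => exact le_rfl
  | tail _ hbc ih => exact ih.trans hbc.2.2.1

theorem eq_of_reflTransGen_of_le (hM : IsPModular p M) {a b : BrauerPairIdx G}
    (hab : Relation.ReflTransGen (NormalSubpairRel p M) a b) (hle : b.1 ≤ a.1) : a = b := by
  induction hab with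
  | refl => rfl
  | tail hac hcb ih =>
    have h1 := ih (hcb.2.2.1.trans hle)
    subst h1
    exact eq_of_normalSubpairRel_of_le hM hcb hle

/-- If `(Q, f) ≤ (P, e)`, `(T, k) ⊴ (P, e)` and `Q ≤ T` then `(Q, f) ≤ (T, k)`. -/
theorem subpairLE_of_normal (hM : IsPModular p M) {a b : BrauerPairIdx G}
    (hab : Relation.ReflTransGen (NormalSubpairRel p M) a b) :
    ∀ (T : Subgroup G) (k : Set (IrrCharacter (Subgroup.centralizer (T : Set G)))),
      a.1 ≤ T → IsNormalSubpair p M T k b.1 b.2 →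
      Relation.ReflTransGen (NormalSubpairRel p M) a ⟨T, k⟩ := by
  induction hab with
  | refl =>
    intro T k haT hT
    have h1 : (⟨T, k⟩ : BrauerPairIdx G) = a :=
      eq_of_normalSubpairRel_of_le hM (a := ⟨T, k⟩) (b := a) hT haT
    rw [h1]
  | @tail c b hac hcb ih =>
    intro T k haT hT
    have hSP : T ⊓ c.1 ≤ b.1 := inf_le_left.trans hT.2.2.1
    have hPNS : b.1 ≤ Subgroup.normalizer ((T ⊓ c.1 : Subgroup G) : Set G) :=
      (le_inf hT.2.2.2.1 hcb.2.2.2.1).trans Subgroup.inf_normalizer_le_normalizer_inf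
    obtain ⟨h, hh, _⟩ := exists_unique_normalSubpair hM b.1 (T ⊓ c.1) b.2 hT.2.1 hSP hPNS
    have h1 : IsNormalSubpair p M (T ⊓ c.1) h c.1 c.2 := normalSubpair_of_le hM hh hcb inf_le_right
    have h2 : IsNormalSubpair p M (T ⊓ c.1) h T k := normalSubpair_of_le hM hh hT inf_le_left
    have haS : a.1 ≤ T ⊓ c.1 := le_inf haT (fst_le_of_reflTransGen hac)
    exact (ih (T ⊓ c.1) h haS h1).tail h2

/-- Below a given pair there is at most one pair on each subgroup. -/
theorem subpairLE_unique (hM : IsPModular p M) {a b : BrauerPairIdx G}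
    (hab : Relation.ReflTransGen (NormalSubpairRel p M) a b) :
    ∀ f' : Set (IrrCharacter (Subgroup.centralizer (a.1 : Set G))),
      Relation.ReflTransGen (NormalSubpairRel p M) ⟨a.1, f'⟩ b → f' = a.2 := by
  induction hab with
  | refl =>
    intro f' h
    have h1 : (⟨a.1, f'⟩ : BrauerPairIdx G) = a := eq_of_reflTransGen_of_le hM h le_rfl
    obtain ⟨Q, f⟩ := a
    simp only [Sigma.mk.injEq, heq_eq_eq, true_and] at h1
    exact h1
  | @tail c b hac hcb ih =>
    intro f' h
    have hac' : a.1 ≤ c.1 := fst_le_of_reflTransGen hac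
    exact ih f' (subpairLE_of_normal hM h c.1 c.2 hac' hcb)

omit [Fintype G] in
/-- A proper subgroup of a finite `p`-group lies in a proper normal subgroup. -/
theorem exists_normal_between [Finite G] [Fact p.Prime] {P Q : Subgroup G} (hP : IsPGroup p P)
    (hQP : Q ≤ P) (hne : Q ≠ P) :
    ∃ T : Subgroup G, Q ≤ T ∧ T ≤ P ∧ T ≠ P ∧ P ≤ Subgroup.normalizer (T : Set G) := by
  haveI : Group.IsNilpotent P := hP.isNilpotent
  have h1 : Q.subgroupOf P ≠ ⊤ := by
    intro h
    exact hne (le_antisymm hQP (Subgroup.subgroupOf_eq_top.1 h))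
  obtain ⟨T', hT', hQT'⟩ := (eq_top_or_exists_le_coatom (Q.subgroupOf P)).resolve_left h1
  haveI hn : T'.Normal := Subgroup.NormalizerCondition.normal_of_coatom T'
    Group.normalizerCondition_of_isNilpotent hT'
  refine ⟨T'.map P.subtype, ?_, Subgroup.map_subtype_le T', ?_, ?_⟩
  · rw [← Subgroup.map_subgroupOf_eq_of_le hQP]
    exact Subgroup.map_mono hQT'
  · intro h
    apply hT'.1
    rw [eq_top_iff]
    intro x _
    have hx : (x : G) ∈ T'.map P.subtype := by rw [h]; exact x.2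
    obtain ⟨y, hy, hyx⟩ := hx
    have : y = x := Subtype.ext hyx
    rwa [← this]
  · have h2 := Subgroup.le_normalizer_map (H := T') P.subtype
    rw [Subgroup.normalizer_eq_top, ← MonoidHom.range_eq_map, Subgroup.range_subtype] at h2
    exact h2

/-- Below a Brauer pair `(P, e)` there is a pair on every subgroup of `P`. -/
theorem exists_subpairLE (hM : IsPModular p M) :
    ∀ (n : ℕ) (P : Subgroup G) (e : Set (IrrCharacter (Subgroup.centralizer (P : Set G)))),
      Nat.card P = n → IsBrauerPair p M P e → ∀ Q : Subgroup G, Q ≤ P →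
      ∃ f : Set (IrrCharacter (Subgroup.centralizer (Q : Set G))),
        IsPBlock M f ∧ SubpairLE p M Q f P e := by
  haveI : Fact p.Prime := ⟨prime_of_isPModular hM⟩
  intro n
  induction n using Nat.strong_induction_on with
  | _ n ih =>
    intro P e hn hPe Q hQP
    by_cases hQ : Q = P
    · subst hQ
      exact ⟨e, hPe.2, Relation.ReflTransGen.refl⟩
    · obtain ⟨T, hQT, hTP, hTne, hPNT⟩ := exists_normal_between hPe.1 hQP hQ
      obtain ⟨k, hk, _⟩ := exists_unique_normalSubpair hM P T e hPe hTP hPNT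
      have hcard : Nat.card T < n := by
        rw [← hn]
        refine lt_of_le_of_ne (Subgroup.card_le_of_le hTP) fun h => hTne ?_
        exact Subgroup.eq_of_le_of_card_ge hTP h.ge
      obtain ⟨f, hf, hle⟩ := ih _ hcard T k rfl hk.1 Q hQT
      exact ⟨f, hf, Relation.ReflTransGen.tail hle hk⟩

/-- Below a Brauer pair `(P, e)` there is exactly one pair on every subgroup of `P`. -/
theorem exists_unique_subpairLE (hM : IsPModular p M) (P Q : Subgroup G)
    (e : Set (IrrCharacter (Subgroup.centralizer (P : Set G)))) (hPe : IsBrauerPair p M P e)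
    (hQP : Q ≤ P) :
    ∃! f : Set (IrrCharacter (Subgroup.centralizer (Q : Set G))),
      IsPBlock M f ∧ SubpairLE p M Q f P e := by
  obtain ⟨f, hf, hle⟩ := exists_subpairLE hM _ P e rfl hPe Q hQP
  refine ⟨f, ⟨hf, hle⟩, ?_⟩
  rintro f' ⟨_, hle'⟩
  exact subpairLE_unique hM (a := ⟨Q, f⟩) (b := ⟨P, e⟩) hle f' hle'

end Key

section BlockOf

variable {G : Type*} [Group G] [Fintype G] {p : ℕ} {M : Ideal AlgInt}

/-- Every Brauer pair belongs to exactly one block. -/
theorem exists_unique_block_of_brauerPair (hM : IsPModular p M) (P : Subgroup G)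
    (e : Set (IrrCharacter (Subgroup.centralizer (P : Set G)))) (hPe : IsBrauerPair p M P e) :
    ∃! B : Set (IrrCharacter G), IsBrauerPairOf p M B P e := by
  classical
  haveI hPr := isPrime_of_isPModular hM
  haveI : Fintype (Subgroup.centralizer (P : Set G)) := Fintype.ofFinite _
  obtain ⟨hP, ξ₀, rfl⟩ := hPe
  obtain ⟨χ₀, hcorr⟩ := exists_corr P hM hP ξ₀
  refine ⟨blockOf M (χ₀ : G → ℂ), ?_, ?_⟩
  · exact (isBrauerPairOf_iff P hM hP ξ₀ χ₀ hcorr χ₀).2 (mem_blockOf_self χ₀)
  · intro B' hB'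
    obtain ⟨χ₁, rfl⟩ := hB'.2.1
    have := (isBrauerPairOf_iff P hM hP ξ₀ χ₀ hcorr χ₁).1 hB'
    exact (blockOf_eq_of_mem this).symm

theorem good_blockIdem [hPr : M.IsPrime] (hM : IsPModular p M) (P : Subgroup G)
    {B : Set (IrrCharacter G)} (hB : IsPBlock M B) : Good M P (blockIdem B) := by
  obtain ⟨χ₀, rfl⟩ := hB
  exact ⟨fun g => blockIdem_memLocalRing hM χ₀ g,
    fun q _ => invUnder_of_mem_center (blockIdem_mem_center _) q,
    fun q _ => invUnder_of_mem_center (blockIdem_mem_center _) q⟩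

/-- A normal step upwards stays in the same block. -/
theorem isBrauerPairOf_of_normalSubpair (hM : IsPModular p M) {P Q : Subgroup G}
    {e : Set (IrrCharacter (Subgroup.centralizer (P : Set G)))}
    {f : Set (IrrCharacter (Subgroup.centralizer (Q : Set G)))}
    (hN : IsNormalSubpair p M Q f P e) {B : Set (IrrCharacter G)}
    (hQB : IsBrauerPairOf p M B Q f) : IsBrauerPairOf p M B P e := by
  classical
  haveI hPr := isPrime_of_isPModular hM
  haveI : Fintype (Subgroup.centralizer (P : Set G)) := Fintype.ofFinite _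
  haveI : Fintype (Subgroup.centralizer (Q : Set G)) := Fintype.ofFinite _
  obtain ⟨hQf, hPe, hQP, hPN, hst, h1⟩ := hN
  obtain ⟨_, hB, hQ1⟩ := hQB
  refine ⟨hPe, hB, fun ξ hξ => ?_⟩
  obtain ⟨hP, ξ₀, rfl⟩ := hPe
  rw [← lam_eq_brauerOmega]
  have h1' : MemLocalIdeal M
      (lam P ξ₀ (incl (Subgroup.centralizer (Q : Set G)) (blockIdem f)) - 1) := by
    rw [lam_eq_brauerOmega_sub]
    exact h1 ξ₀ (mem_blockOf_self ξ₀)
  obtain ⟨ψ, hψ⟩ := block_nonempty hQf.2
  have hgood := good_blockIdem hM P hB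
  have key := lam_sub_omega_of_stable hM P Q hP hQP hPN ξ₀ hQf.2 hst h1' hgood.int
    (fun c _ => invUnder_of_mem_center (blockIdem_mem_center _) c) hgood.invP hψ
  have h2 := hQ1 ψ hψ
  rw [← lam_eq_brauerOmega] at h2
  unfold lam at h2
  have h3 := lam_congr P hξ hgood
  have h4 := memLocalIdeal_sub (memLocalIdeal_add key h2) h3
  have e : lam P ξ₀ (blockIdem B) -
      omega (ψ : Subgroup.centralizer (Q : Set G) → ℂ)
        (resAlg (Subgroup.centralizer (Q : Set G)) (blockIdem B)) +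
      (omega (ψ : Subgroup.centralizer (Q : Set G) → ℂ)
        (resAlg (Subgroup.centralizer (Q : Set G)) (blockIdem B)) - 1) -
      (lam P ξ₀ (blockIdem B) - lam P ξ (blockIdem B)) = lam P ξ (blockIdem B) - 1 := by ring
  rwa [e] at h4

theorem isBrauerPairOf_iff_of_normalSubpair (hM : IsPModular p M) {P Q : Subgroup G}
    {e : Set (IrrCharacter (Subgroup.centralizer (P : Set G)))}
    {f : Set (IrrCharacter (Subgroup.centralizer (Q : Set G)))}
    (hN : IsNormalSubpair p M Q f P e) (B : Set (IrrCharacter G)) :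
    IsBrauerPairOf p M B Q f ↔ IsBrauerPairOf p M B P e := by
  constructor
  · exact isBrauerPairOf_of_normalSubpair hM hN
  · intro hPB
    obtain ⟨B', hB', _⟩ := exists_unique_block_of_brauerPair hM Q f hN.1
    have h1 := isBrauerPairOf_of_normalSubpair hM hN hB'
    obtain ⟨B'', _, hu⟩ := exists_unique_block_of_brauerPair hM P e hN.2.1
    have e1 : B = B'' := hu B hPB
    have e2 : B' = B'' := hu B' h1
    rw [e1, ← e2]
    exact hB'

theorem isBrauerPairOf_iff_of_reflTransGen (hM : IsPModular p M) {a b : BrauerPairIdx G}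
    (hab : Relation.ReflTransGen (NormalSubpairRel p M) a b) (B : Set (IrrCharacter G)) :
    IsBrauerPairOf p M B a.1 a.2 ↔ IsBrauerPairOf p M B b.1 b.2 := by
  induction hab with
  | refl => exact Iff.rfl
  | tail _ hcb ih => exact ih.trans (isBrauerPairOf_iff_of_normalSubpair hM hcb B)

end BlockOf

end Cfsg.Agent.Lib.L0.BrauerSubpair
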