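import Mathlib
import Cfsg.Prelude.Def_BrauerPairs
import Cfsg.Agent.Lib.H23.BlockEquiv
import Cfsg.Agent.Lib.L0.BrauerSubpair

/-!
# Conjugation of Brauer pairs (lead)

* `centEquiv x Q : C_G(Q) ≃* C_G(xQx⁻¹)`;
* `mem_conjBlock_iff`, `isPBlock_conjBlock`, `blockCoeff_conjBlock`;
* `conjPair x a`, `pair_ext`, `conjPair_mul`, `conjPair_one`;
* `normalSubpairRel_conjPair`, `reflTransGen_conjPair`, `isBrauerPairOf_conjPair`,
  `isMaximalBrauerPair_conjPair`.
-/

set_option autoImplicit false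

namespace Cfsg.Agent.Lib.L0.BrauerConj

open Cfsg MonoidAlgebra Cfsg.Agent.Lib.H23 Cfsg.Agent.Lib.H24 Cfsg.Agent.Lib.L0
  Cfsg.Agent.Lib.L0.BrauerNormal Cfsg.Agent.Lib.L0.BrauerSubpair
open scoped ComplexConjugate

section Basic

variable {G : Type*} [Group G]

theorem mem_conjSub_iff {x : G} {Q : Subgroup G} {g : G} :
    g ∈ Q.map (MulAut.conj x).toMonoidHom ↔ x⁻¹ * g * x ∈ Q := by
  constructor
  · rintro ⟨q, hq, rfl⟩
    have : x⁻¹ * ((MulAut.conj x).toMonoidHom q) * x = q := by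
      simp [MulAut.conj_apply, mul_assoc]
    rw [this]
    exact hq
  · intro h
    refine ⟨x⁻¹ * g * x, h, ?_⟩
    simp [MulAut.conj_apply, mul_assoc]

theorem conj_mem_conjSub {x : G} {Q : Subgroup G} {q : G} (hq : q ∈ Q) :
    x * q * x⁻¹ ∈ Q.map (MulAut.conj x).toMonoidHom :=
  ⟨q, hq, by simp [MulAut.conj_apply]⟩

theorem conj_mem_centralizer_conjSub {x : G} {Q : Subgroup G} {c : G}
    (hc : c ∈ Subgroup.centralizer (Q : Set G)) :
    x * c * x⁻¹ ∈ Subgroup.centralizer ((Q.map (MulAut.conj x).toMonoidHom : Subgroup G) : Set G) := by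
  rw [Subgroup.mem_centralizer_iff]
  intro q' hq'
  have hq : x⁻¹ * q' * x ∈ Q := mem_conjSub_iff.1 hq'
  have h1 := Subgroup.mem_centralizer_iff.1 hc _ hq
  calc q' * (x * c * x⁻¹) = x * ((x⁻¹ * q' * x) * c) * x⁻¹ := by group
    _ = x * (c * (x⁻¹ * q' * x)) * x⁻¹ := by rw [h1]
    _ = x * c * x⁻¹ * q' := by group

theorem mem_centralizer_of_conj_mem {x : G} {Q : Subgroup G} {c : G}
    (hc : c ∈ Subgroup.centralizer ((Q.map (MulAut.conj x).toMonoidHom : Subgroup G) : Set G)) :
    x⁻¹ * c * x ∈ Subgroup.centralizer (Q : Set G) := by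
  rw [Subgroup.mem_centralizer_iff]
  intro q hq
  have h1 := Subgroup.mem_centralizer_iff.1 hc _ (conj_mem_conjSub (x := x) hq)
  calc q * (x⁻¹ * c * x) = x⁻¹ * ((x * q * x⁻¹) * c) * x := by group
    _ = x⁻¹ * (c * (x * q * x⁻¹)) * x := by rw [h1]
    _ = x⁻¹ * c * x * q := by group

/-- `c ↦ x c x⁻¹` as an isomorphism `C_G(Q) ≃* C_G(xQx⁻¹)`. -/
noncomputable def centEquiv (x : G) (Q : Subgroup G) :
    Subgroup.centralizer (Q : Set G) ≃*
      Subgroup.centralizer ((Q.map (MulAut.conj x).toMonoidHom : Subgroup G) : Set G) where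
  toFun c := ⟨x * c * x⁻¹, conj_mem_centralizer_conjSub c.2⟩
  invFun c := ⟨x⁻¹ * c * x, mem_centralizer_of_conj_mem c.2⟩
  left_inv c := by
    apply Subtype.ext
    simp only
    group
  right_inv c := by
    apply Subtype.ext
    simp only
    group
  map_mul' a b := by
    apply Subtype.ext
    simp only [Subgroup.coe_mul]
    group

theorem centEquiv_apply (x : G) (Q : Subgroup G) (c : Subgroup.centralizer (Q : Set G)) :
    ((centEquiv x Q c : _) : G) = x * c * x⁻¹ := rfl

theorem centEquiv_symm_apply (x : G) (Q : Subgroup G)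
    (c : Subgroup.centralizer ((Q.map (MulAut.conj x).toMonoidHom : Subgroup G) : Set G)) :
    (((centEquiv x Q).symm c : _) : G) = x⁻¹ * c * x := rfl

theorem mem_conjBlock_iff (x : G) (Q : Subgroup G)
    (f : Set (IrrCharacter (Subgroup.centralizer (Q : Set G))))
    (ξ' : IrrCharacter (Subgroup.centralizer
      ((Q.map (MulAut.conj x).toMonoidHom : Subgroup G) : Set G))) :
    ξ' ∈ conjBlock Q x f ↔ irrEquiv (centEquiv x Q) ξ' ∈ f := by
  constructor
  · rintro ⟨ξ, hξ, h⟩
    have : irrEquiv (centEquiv x Q) ξ' = ξ := by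
      apply Subtype.ext
      funext c
      rw [irrEquiv_apply]
      exact h c (centEquiv x Q c) rfl
    rw [this]
    exact hξ
  · intro h
    refine ⟨irrEquiv (centEquiv x Q) ξ', h, fun c c' hc => ?_⟩
    rw [irrEquiv_apply]
    have h1 : c' = centEquiv x Q c := Subtype.ext hc
    rw [h1]

theorem isPBlock_conjBlock {M : Ideal AlgInt} (x : G) (Q : Subgroup G)
    {f : Set (IrrCharacter (Subgroup.centralizer (Q : Set G)))} (hf : IsPBlock M f) :
    IsPBlock M (conjBlock Q x f) := by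
  obtain ⟨θ, rfl⟩ := hf
  refine ⟨(irrEquiv (centEquiv x Q)).symm θ, ?_⟩
  ext ξ'
  rw [mem_conjBlock_iff]
  have h1 := irrEquiv_mem_blockOf_iff (M := M) (centEquiv x Q)
    ((irrEquiv (centEquiv x Q)).symm θ) ξ'
  rw [Equiv.apply_symm_apply] at h1
  exact h1

theorem blockCoeff_conjBlock [Finite G] (x : G) (Q : Subgroup G)
    (f : Set (IrrCharacter (Subgroup.centralizer (Q : Set G))))
    (c : Subgroup.centralizer (Q : Set G)) :
    blockCoeff (conjBlock Q x f) (centEquiv x Q c) = blockCoeff f c := by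
  unfold blockCoeff
  rw [Nat.card_congr (centEquiv x Q).toEquiv]
  congr 1
  refine finsum_mem_eq_of_bijOn (fun ξ' => irrEquiv (centEquiv x Q) ξ') ?_ ?_
  · refine ⟨?_, ?_, ?_⟩
    · intro ξ' hξ'
      exact (mem_conjBlock_iff x Q f ξ').1 hξ'
    · intro a _ b _ h
      exact (irrEquiv (centEquiv x Q)).injective h
    · intro ξ hξ
      refine ⟨(irrEquiv (centEquiv x Q)).symm ξ, ?_, Equiv.apply_symm_apply _ _⟩
      show (irrEquiv (centEquiv x Q)).symm ξ ∈ conjBlock Q x f
      rw [mem_conjBlock_iff, Equiv.apply_symm_apply]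
      exact hξ
  · intro ξ' _
    rw [irrEquiv_apply, irrEquiv_apply, map_one]

theorem subgroupBlockCoeff_conjBlock [Finite G] (x : G) (Q : Subgroup G)
    (f : Set (IrrCharacter (Subgroup.centralizer (Q : Set G)))) (g : G) :
    subgroupBlockCoeff (Subgroup.centralizer
      ((Q.map (MulAut.conj x).toMonoidHom : Subgroup G) : Set G)) (conjBlock Q x f)
      (x * g * x⁻¹) = subgroupBlockCoeff (Subgroup.centralizer (Q : Set G)) f g := by
  classical
  unfold subgroupBlockCoeff
  by_cases hg : g ∈ Subgroup.centralizer (Q : Set G)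
  · rw [dif_pos hg, dif_pos (conj_mem_centralizer_conjSub hg)]
    exact blockCoeff_conjBlock x Q f ⟨g, hg⟩
  · rw [dif_neg hg, dif_neg]
    intro h
    apply hg
    have := mem_centralizer_of_conj_mem h
    have e : x⁻¹ * (x * g * x⁻¹) * x = g := by group
    rwa [e] at this

end Basic

section Omega

variable {G : Type*} [Group G]

/-- Transport of `brauerOmega` under conjugation. -/
theorem brauerOmega_conj (x : G) (P : Subgroup G) (β β' : G → ℂ)
    (hβ : ∀ g, β' (x * g * x⁻¹) = β g)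
    (ξ' : IrrCharacter (Subgroup.centralizer
      ((P.map (MulAut.conj x).toMonoidHom : Subgroup G) : Set G))) :
    brauerOmega (P.map (MulAut.conj x).toMonoidHom) β'
      (ξ' : Subgroup.centralizer ((P.map (MulAut.conj x).toMonoidHom : Subgroup G) : Set G) → ℂ) =
    brauerOmega P β (irrEquiv (centEquiv x P) ξ' : Subgroup.centralizer (P : Set G) → ℂ) := by
  unfold brauerOmega
  symm
  refine finsum_eq_of_bijective (centEquiv x P) (centEquiv x P).bijective fun c => ?_
  rw [irrEquiv_apply, irrEquiv_apply, map_one, centEquiv_apply, hβ]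

end Omega

section Pair

variable {G : Type*} [Group G]

/-- The conjugate of a pair. -/
def conjPair (x : G) (a : BrauerPairIdx G) : BrauerPairIdx G :=
  ⟨a.1.map (MulAut.conj x).toMonoidHom, conjBlock a.1 x a.2⟩

/-- Extension by zero of a function on `C_G(Q)`. -/
noncomputable def extZero (Q : Subgroup G) (ξ : Subgroup.centralizer (Q : Set G) → ℂ) : G → ℂ :=
  fun g => by
    classical exact if h : g ∈ Subgroup.centralizer (Q : Set G) then ξ ⟨g, h⟩ else 0

theorem extZero_apply_mem (Q : Subgroup G) (ξ : Subgroup.centralizer (Q : Set G) → ℂ)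
    (c : Subgroup.centralizer (Q : Set G)) : extZero Q ξ (c : G) = ξ c := by
  unfold extZero
  rw [dif_pos c.2]

theorem extZero_injective (Q : Subgroup G) : Function.Injective (extZero Q) := by
  intro ξ ξ' h
  funext c
  have := congrFun h (c : G)
  rwa [extZero_apply_mem, extZero_apply_mem] at this

/-- The members of the block of a pair, as functions on `G`. -/
def pairFuns (a : BrauerPairIdx G) : Set (G → ℂ) :=
  {φ | ∃ ξ ∈ a.2, φ = extZero a.1 (ξ : Subgroup.centralizer (a.1 : Set G) → ℂ)}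

theorem pair_ext [Finite G] {M : Ideal AlgInt} [M.IsPrime] {a b : BrauerPairIdx G}
    (h1 : a.1 = b.1) (ha : IsPBlock M a.2) (hb : IsPBlock M b.2)
    (h : ∃ φ ∈ pairFuns a, φ ∈ pairFuns b) : a = b := by
  obtain ⟨Q, f⟩ := a
  obtain ⟨P, e⟩ := b
  simp only at h1
  subst h1
  haveI : Fintype (Subgroup.centralizer (Q : Set G)) := Fintype.ofFinite _
  obtain ⟨φ, ⟨ξ, hξ, rfl⟩, ⟨ξ', hξ', h2⟩⟩ := h
  have h3 : ξ = ξ' := Subtype.ext (extZero_injective Q h2)
  rw [← h3] at hξ'
  have : f = e := block_eq_of_mem ha hb hξ hξ'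
  rw [this]

theorem extZero_conj (x : G) (Q : Subgroup G)
    (ξ' : IrrCharacter (Subgroup.centralizer
      ((Q.map (MulAut.conj x).toMonoidHom : Subgroup G) : Set G))) (g : G) :
    extZero (Q.map (MulAut.conj x).toMonoidHom)
      (ξ' : Subgroup.centralizer ((Q.map (MulAut.conj x).toMonoidHom : Subgroup G) : Set G) → ℂ) g =
    extZero Q (irrEquiv (centEquiv x Q) ξ' : Subgroup.centralizer (Q : Set G) → ℂ)
      (x⁻¹ * g * x) := by
  classical
  unfold extZero
  by_cases hg : g ∈ Subgroup.centralizer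
      ((Q.map (MulAut.conj x).toMonoidHom : Subgroup G) : Set G)
  · rw [dif_pos hg, dif_pos (mem_centralizer_of_conj_mem hg), irrEquiv_apply]
    have h1 : (⟨g, hg⟩ : Subgroup.centralizer
        ((Q.map (MulAut.conj x).toMonoidHom : Subgroup G) : Set G)) =
        centEquiv x Q ⟨x⁻¹ * g * x, mem_centralizer_of_conj_mem hg⟩ := by
      apply Subtype.ext
      rw [centEquiv_apply]
      simp only
      group
    rw [← h1]
  · rw [dif_neg hg, dif_neg]
    intro h
    apply hg
    have := conj_mem_centralizer_conjSub (x := x) h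
    have e : x * (x⁻¹ * g * x) * x⁻¹ = g := by group
    rwa [e] at this

theorem mem_pairFuns_conjPair (x : G) (a : BrauerPairIdx G) (φ' : G → ℂ) :
    φ' ∈ pairFuns (conjPair x a) ↔ ∃ φ ∈ pairFuns a, φ' = fun g => φ (x⁻¹ * g * x) := by
  constructor
  · rintro ⟨ξ', hξ', rfl⟩
    refine ⟨extZero a.1 (irrEquiv (centEquiv x a.1) ξ' : _ → ℂ),
      ⟨irrEquiv (centEquiv x a.1) ξ', (mem_conjBlock_iff x a.1 a.2 ξ').1 hξ', rfl⟩, ?_⟩
    funext g
    exact extZero_conj x a.1 ξ' g
  · rintro ⟨φ, ⟨ξ, hξ, rfl⟩, rfl⟩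
    refine ⟨(irrEquiv (centEquiv x a.1)).symm ξ, ?_, ?_⟩
    · show (irrEquiv (centEquiv x a.1)).symm ξ ∈ conjBlock a.1 x a.2
      rw [mem_conjBlock_iff, Equiv.apply_symm_apply]
      exact hξ
    · funext g
      have := extZero_conj x a.1 ((irrEquiv (centEquiv x a.1)).symm ξ) g
      rw [Equiv.apply_symm_apply] at this
      exact this.symm

theorem conjPair_fst (x : G) (a : BrauerPairIdx G) :
    (conjPair x a).1 = a.1.map (MulAut.conj x).toMonoidHom := rfl

theorem isPBlock_conjPair {M : Ideal AlgInt} (x : G) {a : BrauerPairIdx G}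
    (ha : IsPBlock M a.2) : IsPBlock M (conjPair x a).2 :=
  isPBlock_conjBlock x a.1 ha

theorem conjPair_mul [Finite G] {M : Ideal AlgInt} [M.IsPrime] (y x : G) {a : BrauerPairIdx G}
    (ha : IsPBlock M a.2) : conjPair y (conjPair x a) = conjPair (y * x) a := by
  haveI : Fintype (Subgroup.centralizer (a.1 : Set G)) := Fintype.ofFinite _
  refine pair_ext (M := M) (map_conj_map_conj a.1 y x) (isPBlock_conjPair y (isPBlock_conjPair x ha))
    (isPBlock_conjPair (y * x) ha) ?_
  obtain ⟨ξ, hξ⟩ := block_nonempty ha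
  set φ := extZero a.1 (ξ : Subgroup.centralizer (a.1 : Set G) → ℂ) with hφ
  have hφa : φ ∈ pairFuns a := ⟨ξ, hξ, rfl⟩
  refine ⟨fun g => φ ((y * x)⁻¹ * g * (y * x)), ?_, ?_⟩
  · rw [mem_pairFuns_conjPair]
    refine ⟨fun g => φ (x⁻¹ * g * x), (mem_pairFuns_conjPair x a _).2 ⟨φ, hφa, rfl⟩, ?_⟩
    funext g
    simp only
    congr 1
    group
  · exact (mem_pairFuns_conjPair (y * x) a _).2 ⟨φ, hφa, rfl⟩

theorem conjPair_one [Finite G] {M : Ideal AlgInt} [M.IsPrime] {a : BrauerPairIdx G}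
    (ha : IsPBlock M a.2) : conjPair 1 a = a := by
  haveI : Fintype (Subgroup.centralizer (a.1 : Set G)) := Fintype.ofFinite _
  have h1 : (conjPair 1 a).1 = a.1 := by
    rw [conjPair_fst]
    ext g
    rw [mem_conjSub_iff]
    simp
  refine pair_ext (M := M) h1 (isPBlock_conjPair 1 ha) ha ?_
  obtain ⟨ξ, hξ⟩ := block_nonempty ha
  set φ := extZero a.1 (ξ : Subgroup.centralizer (a.1 : Set G) → ℂ) with hφ
  have hφa : φ ∈ pairFuns a := ⟨ξ, hξ, rfl⟩
  refine ⟨φ, (mem_pairFuns_conjPair 1 a _).2 ⟨φ, hφa, ?_⟩, hφa⟩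
  funext g
  simp

end Pair

section Rel

variable {G : Type*} [Group G]

theorem mem_centralizer_conjSub_iff {x : G} {Q : Subgroup G} {g : G} :
    g ∈ Subgroup.centralizer ((Q.map (MulAut.conj x).toMonoidHom : Subgroup G) : Set G) ↔
      x⁻¹ * g * x ∈ Subgroup.centralizer (Q : Set G) := by
  constructor
  · exact mem_centralizer_of_conj_mem
  · intro h
    have := conj_mem_centralizer_conjSub (x := x) h
    have e : x * (x⁻¹ * g * x) * x⁻¹ = g := by group
    rwa [e] at this

theorem map_conj_inv_map_conj (Q : Subgroup G) (x : G) :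
    (Q.map (MulAut.conj x).toMonoidHom).map (MulAut.conj x⁻¹).toMonoidHom = Q := by
  rw [map_conj_map_conj, inv_mul_cancel]
  ext g
  rw [mem_conjSub_iff]
  simp

theorem map_conj_map_conj_inv (Q : Subgroup G) (x : G) :
    (Q.map (MulAut.conj x⁻¹).toMonoidHom).map (MulAut.conj x).toMonoidHom = Q := by
  rw [map_conj_map_conj, mul_inv_cancel]
  ext g
  rw [mem_conjSub_iff]
  simp

theorem stabilizesBlock_conj (x : G) (Q : Subgroup G)
    (f : Set (IrrCharacter (Subgroup.centralizer (Q : Set G)))) {y : G}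
    (h : StabilizesBlock (Subgroup.centralizer (Q : Set G)) f y) :
    StabilizesBlock (Subgroup.centralizer
      ((Q.map (MulAut.conj x).toMonoidHom : Subgroup G) : Set G)) (conjBlock Q x f)
      (x * y * x⁻¹) := by
  obtain ⟨hN, hc⟩ := h
  refine ⟨?_, ?_⟩
  · rw [Subgroup.mem_normalizer_iff]
    intro g
    rw [mem_centralizer_conjSub_iff, mem_centralizer_conjSub_iff,
      (Subgroup.mem_normalizer_iff.1 hN) (x⁻¹ * g * x)]
    have e : x⁻¹ * (x * y * x⁻¹ * g * (x * y * x⁻¹)⁻¹) * x = y * (x⁻¹ * g * x) * y⁻¹ := by group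
    rw [e]
  · intro χ' hχ'
    have hξ := (mem_conjBlock_iff x Q f χ').1 hχ'
    obtain ⟨ξ₂, hξ₂, hcc⟩ := hc _ hξ
    refine ⟨(irrEquiv (centEquiv x Q)).symm ξ₂, ?_, ?_⟩
    · rw [mem_conjBlock_iff, Equiv.apply_symm_apply]
      exact hξ₂
    · intro k k' hk
      rw [irrEquiv_symm_apply]
      have h1 := hcc ((centEquiv x Q).symm k) ((centEquiv x Q).symm k') (by
        rw [centEquiv_symm_apply, centEquiv_symm_apply, hk]
        group)
      rw [h1, irrEquiv_apply, MulEquiv.apply_symm_apply]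

variable [Fintype G] {p : ℕ} {M : Ideal AlgInt}

theorem isNormalSubpair_conj (x : G) {Q P : Subgroup G}
    {f : Set (IrrCharacter (Subgroup.centralizer (Q : Set G)))}
    {e : Set (IrrCharacter (Subgroup.centralizer (P : Set G)))}
    (h : IsNormalSubpair p M Q f P e) :
    IsNormalSubpair p M (Q.map (MulAut.conj x).toMonoidHom) (conjBlock Q x f)
      (P.map (MulAut.conj x).toMonoidHom) (conjBlock P x e) := by
  obtain ⟨⟨hQ, hf⟩, ⟨hP, he⟩, hQP, hPN, hst, h1⟩ := h
  refine ⟨⟨hQ.map _, isPBlock_conjBlock x Q hf⟩, ⟨hP.map _, isPBlock_conjBlock x P he⟩,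
    Subgroup.map_mono hQP, (Subgroup.map_mono hPN).trans (Subgroup.le_normalizer_map _), ?_, ?_⟩
  · rintro _ ⟨y, hy, rfl⟩
    have := stabilizesBlock_conj x Q f (hst y hy)
    simpa [MulAut.conj_apply] using this
  · intro ξ' hξ'
    rw [brauerOmega_conj x P (subgroupBlockCoeff (Subgroup.centralizer (Q : Set G)) f)
      _ (fun g => subgroupBlockCoeff_conjBlock x Q f g) ξ']
    exact h1 _ ((mem_conjBlock_iff x P e ξ').1 hξ')

theorem normalSubpairRel_conjPair (x : G) {a b : BrauerPairIdx G}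
    (h : NormalSubpairRel p M a b) : NormalSubpairRel p M (conjPair x a) (conjPair x b) :=
  isNormalSubpair_conj x h

theorem reflTransGen_conjPair (x : G) {a b : BrauerPairIdx G}
    (h : Relation.ReflTransGen (NormalSubpairRel p M) a b) :
    Relation.ReflTransGen (NormalSubpairRel p M) (conjPair x a) (conjPair x b) :=
  Relation.ReflTransGen.lift (conjPair x) (fun _ _ hab => normalSubpairRel_conjPair x hab) _ _ h

theorem isBrauerPairOf_conj (x : G) {B : Set (IrrCharacter G)} {Q : Subgroup G}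
    {f : Set (IrrCharacter (Subgroup.centralizer (Q : Set G)))}
    (h : IsBrauerPairOf p M B Q f) :
    IsBrauerPairOf p M B (Q.map (MulAut.conj x).toMonoidHom) (conjBlock Q x f) := by
  obtain ⟨⟨hQ, hf⟩, hB, h1⟩ := h
  refine ⟨⟨hQ.map _, isPBlock_conjBlock x Q hf⟩, hB, fun ξ' hξ' => ?_⟩
  rw [brauerOmega_conj x Q (blockCoeff B) (blockCoeff B) (fun g => blockCoeff_conj B g x) ξ']
  exact h1 _ ((mem_conjBlock_iff x Q f ξ').1 hξ')

theorem conjPair_inv_conjPair [M.IsPrime] (x : G) {a : BrauerPairIdx G} (ha : IsPBlock M a.2) :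
    conjPair x⁻¹ (conjPair x a) = a := by
  rw [conjPair_mul (M := M) x⁻¹ x ha, inv_mul_cancel, conjPair_one (M := M) ha]

theorem conjPair_conjPair_inv [M.IsPrime] (x : G) {a : BrauerPairIdx G} (ha : IsPBlock M a.2) :
    conjPair x (conjPair x⁻¹ a) = a := by
  rw [conjPair_mul (M := M) x x⁻¹ ha, mul_inv_cancel, conjPair_one (M := M) ha]

theorem isMaximalBrauerPair_conj (hM : IsPModular p M) (x : G) {B : Set (IrrCharacter G)}
    {P : Subgroup G} {e : Set (IrrCharacter (Subgroup.centralizer (P : Set G)))}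
    (h : IsMaximalBrauerPair p M B P e) :
    IsMaximalBrauerPair p M B (P.map (MulAut.conj x).toMonoidHom) (conjBlock P x e) := by
  haveI hPr := isPrime_of_isPModular hM
  refine ⟨isBrauerPairOf_conj x h.1, fun R g hRg hle => ?_⟩
  have h1 := reflTransGen_conjPair x⁻¹ hle
  have h2 : conjPair x⁻¹ (⟨P.map (MulAut.conj x).toMonoidHom, conjBlock P x e⟩ : BrauerPairIdx G) =
      ⟨P, e⟩ := conjPair_inv_conjPair (M := M) x (a := ⟨P, e⟩) h.1.1.2
  rw [h2] at h1
  have h3 := h.2 _ _ (isBrauerPairOf_conj x⁻¹ hRg) h1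
  rw [← h3, map_conj_map_conj_inv]

end Rel

end Cfsg.Agent.Lib.L0.BrauerConj
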