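import Mathlib
import Cfsg.Prelude.Def_BrauerPairs
import Cfsg.Agent.Lib.L0.BrauerConj
import Cfsg.Agent.Lib.H23.BlockFirstMain
import Cfsg.Agent.Lib.H23.BlockExtFirstMain
import Cfsg.Agent.Lib.H23.BlockVanishP
import Cfsg.Agent.Lib.H23.BlockDefectConj

/-!
# Maximal Brauer pairs and defect groups (lead)

* `exists_lam_of_coeff`: a good idempotent `z` with a coefficient outside the local ideal at some
  element of `C_G(P)` has `Λ^P_ζ(z) ≡ 1` for some `ζ ∈ Irr(C_G(P))`;
* `isInducedBlock_of_pair`: a Brauer pair `(Q, f)` of `B` has `f^G = B` (as a congruence of central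
  characters);
* `isDefectGroup_of_maximal`: if `(P, e)` is a maximal Brauer pair of `B` then `P` is a defect group.
-/

set_option autoImplicit false

namespace Cfsg.Agent.Lib.L0.BrauerDefect

open Cfsg MonoidAlgebra Cfsg.Agent.Lib.H23 Cfsg.Agent.Lib.H24 Cfsg.Agent.Lib.L0
  Cfsg.Agent.Lib.L0.BrauerPairHom Cfsg.Agent.Lib.L0.BrauerLam
  Cfsg.Agent.Lib.L0.BrauerNormal Cfsg.Agent.Lib.L0.BrauerSubpair Cfsg.Agent.Lib.L0.BrauerConj
open scoped ComplexConjugate

section Coeff

variable {G : Type*} [Group G] [Fintype G] {p : ℕ} {M : Ideal AlgInt} [hPr : M.IsPrime]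
  (P : Subgroup G) [Fintype (Subgroup.centralizer (P : Set G))]

/-- A good idempotent `z` with a coefficient outside the local ideal at some element of `C_G(P)`
has `Λ^P_ζ(z) ≡ 1` for some `ζ ∈ Irr(C_G(P))`. -/
theorem exists_lam_of_coeff (hM : IsPModular p M) (hP : IsPGroup p P) {z : MonoidAlgebra ℂ G}
    (hz : Good M P z) (hzz : z * z = z) {x : G} (hx : x ∈ Subgroup.centralizer (P : Set G))
    (hxz : ¬ MemLocalIdeal M (z.coeff x)) :
    ∃ ζ : IrrCharacter (Subgroup.centralizer (P : Set G)), MemLocalIdeal M (lam P ζ z - 1) := by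
  classical
  by_contra hno
  have hall : ∀ ζ : IrrCharacter (Subgroup.centralizer (P : Set G)),
      MemLocalIdeal M (lam P ζ z) := by
    intro ζ
    rcases lam_idem P hM hP ζ hz hzz with h | h
    · exact h
    · exact absurd ⟨ζ, h⟩ hno
  set y := resAlg (Subgroup.centralizer (P : Set G)) z with hy
  have hyc : y ∈ Subalgebra.center ℂ (MonoidAlgebra ℂ (Subgroup.centralizer (P : Set G))) :=
    resAlg_mem_center_of_inv P hz.invC
  have hyi : y ∈ intCoeff (G := Subgroup.centralizer (P : Set G)) M :=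
    resAlg_mem_intCoeff _ hz.int
  obtain ⟨N, _, hN⟩ := exists_pow_coeff_div hM hyc hall
  obtain ⟨t, ht, hte⟩ := brAlg_mul P (Subgroup.centralizer (P : Set G)) hM hP le_rfl z z
    hz.int hz.int hz.invP hz.invP
  rw [brAlg_eq_resAlg, brAlg_eq_resAlg, hzz] at hte
  -- `y * y ^ n = y + p • t_n`
  have hind : ∀ n : ℕ, ∃ s : MonoidAlgebra ℂ (Subgroup.centralizer (P : Set G)),
      s ∈ intCoeff (G := Subgroup.centralizer (P : Set G)) M ∧ y * y ^ n = y + (p : ℂ) • s := by
    intro n
    induction n with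
    | zero => exact ⟨0, Subring.zero_mem _, by rw [pow_zero, mul_one, smul_zero, add_zero]⟩
    | succ n ih =>
      obtain ⟨s, hs, hse⟩ := ih
      refine ⟨s * y - t, Subring.sub_mem _ (Subring.mul_mem _ hs hyi) ht, ?_⟩
      rw [pow_succ, ← mul_assoc, hse, add_mul, smul_mul_assoc, smul_sub]
      have : y * y = y - (p : ℂ) • t := by
        rw [hy, eq_sub_iff_add_eq]
        exact hte.symm
      rw [this]
      abel
  obtain ⟨s, hs, hse⟩ := hind N
  have h1 : MemLocalIdeal M ((y * y ^ N).coeff ⟨x, hx⟩) := by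
    rw [coeff_mul_eq_sum]
    refine memLocalIdeal_sum _ _ fun h _ => ?_
    have h2 : (y ^ N).coeff (h⁻¹ * ⟨x, hx⟩) = (p : ℂ) * ((y ^ N).coeff (h⁻¹ * ⟨x, hx⟩) / p) := by
      have hp0 : (p : ℂ) ≠ 0 := Nat.cast_ne_zero.2 (prime_of_isPModular hM).ne_zero
      field_simp
    rw [h2]
    exact memLocalIdeal_mul_left (hyi h)
      (memLocalIdeal_mul_right (memLocalIdeal_p hM) (hN _))
  rw [hse, MonoidAlgebra.coeff_add, Finsupp.coe_add, Pi.add_apply, MonoidAlgebra.coeff_smul,
    Finsupp.coe_smul, Pi.smul_apply, smul_eq_mul] at h1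
  have h3 : MemLocalIdeal M ((p : ℂ) * s.coeff ⟨x, hx⟩) :=
    memLocalIdeal_mul_right (memLocalIdeal_p hM) (hs _)
  have h4 := memLocalIdeal_sub h1 h3
  rw [add_sub_cancel_right, hy, coeff_resAlg] at h4
  exact hxz h4

end Coeff

section Induced

variable {G : Type*} [Group G] [Fintype G] {p : ℕ} {M : Ideal AlgInt}

/-- A Brauer pair `(Q, f)` of `B` has `f^G = B` (as a congruence of central characters). -/
theorem isInducedBlock_of_pair (hM : IsPModular p M) {B : Set (IrrCharacter G)} {Q : Subgroup G}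
    [Fintype (Subgroup.centralizer (Q : Set G))]
    {f : Set (IrrCharacter (Subgroup.centralizer (Q : Set G)))}
    (h : IsBrauerPairOf p M B Q f) :
    IsInducedBlock M (Subgroup.centralizer (Q : Set G)) f B := by
  haveI hPr := isPrime_of_isPModular hM
  refine ⟨h.1.2, h.2.1, fun ξ hξ χ hχ g => ?_⟩
  have := omega_resAlg_sub_of_isBrauerPairOf Q hM h hξ hχ (classSum_mem_center g)
    (classSum_mem_intCoeff (M := M) g)
  rwa [omega_classSum (irr_isClassFunction χ), ← inducedCentralChar_eq_omega] at this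

/-- If `ω_ψ(res_N e_B) ≠ 0` then some member of `B` lies over `ψ`. -/
theorem exists_constituent_of_omega_ne_zero {H : Type*} [Group H] [Fintype H] (N : Subgroup H)
    [Fintype N] (B : Set (IrrCharacter H)) (ψ : IrrCharacter N)
    (h : omega (ψ : N → ℂ) (resAlg N (blockIdem B)) ≠ 0) :
    ∃ χ ∈ B, classInner (fun n : N => (χ : H → ℂ) n) (ψ : N → ℂ) ≠ 0 := by
  classical
  haveI : Fintype (IrrCharacter H) := Fintype.ofFinite _
  by_contra hno
  apply h
  have hz : ∀ χ ∈ B, ∑ n : N, (χ : H → ℂ) n * conj ((ψ : N → ℂ) n) = 0 := by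
    intro χ hχ
    have h1 : classInner (fun n : N => (χ : H → ℂ) n) (ψ : N → ℂ) = 0 := by
      by_contra h2
      exact hno ⟨χ, hχ, h2⟩
    unfold classInner at h1
    have hc : ((Nat.card N : ℂ))⁻¹ ≠ 0 := by
      apply inv_ne_zero
      rw [Nat.cast_ne_zero]
      exact Nat.card_pos.ne'
    exact (mul_eq_zero.1 h1).resolve_left hc
  unfold omega resAlg
  rw [charEval_ofFun]
  have h2 : ∑ n : N, (blockIdem B).coeff (n : H) * (ψ : N → ℂ) n = 0 := by
    simp only [coeff_blockIdem, blockCoeff_eq_sum, Finset.mul_sum, Finset.sum_mul]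
    rw [Finset.sum_comm]
    refine Finset.sum_eq_zero fun χ _ => ?_
    by_cases hχ : χ ∈ B
    · simp only [if_pos hχ]
      have h3 : ∑ n : N, (Nat.card H : ℂ)⁻¹ * ((χ : H → ℂ) 1 * conj ((χ : H → ℂ) n)) *
          (ψ : N → ℂ) n = (Nat.card H : ℂ)⁻¹ * (χ : H → ℂ) 1 *
          conj (∑ n : N, (χ : H → ℂ) n * conj ((ψ : N → ℂ) n)) := by
        rw [map_sum, Finset.mul_sum]
        refine Finset.sum_congr rfl fun n _ => ?_
        rw [map_mul, Complex.conj_conj]
        ring
      rw [h3, hz χ hχ, map_zero, mul_zero]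
    · simp only [if_neg hχ, mul_zero, zero_mul, Finset.sum_const_zero]
  rw [h2, zero_div]

end Induced

section Maximal

variable {G : Type*} [Group G] [Fintype G] {p : ℕ} {M : Ideal AlgInt}

theorem map_conj_eq_of_mem_normalizer {Q : Subgroup G} {g : G}
    (hg : g ∈ Subgroup.normalizer (Q : Set G)) : Q.map (MulAut.conj g).toMonoidHom = Q := by
  ext h
  rw [mem_conjSub_iff]
  have := (Subgroup.mem_normalizer_iff.1 (Subgroup.inv_mem _ hg) h)
  rw [inv_inv] at this
  exact this.symm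

/-- A pair `(Q, f)` of `B` such that some block of `N_G(Q)` covering `f` has a defect group strictly
larger than `Q` is not maximal: there is a pair of `B` properly above it. -/
theorem exists_larger_pair (hM : IsPModular p M) {B : Set (IrrCharacter G)} {Q : Subgroup G}
    (NN : Subgroup G) (hNN : NN = Subgroup.normalizer (Q : Set G))
    [Fintype (Subgroup.centralizer (Q : Set G))] [Fintype NN]
    [Fintype ↥((Subgroup.centralizer (Q : Set G)).subgroupOf NN)]
    [hn : ((Subgroup.centralizer (Q : Set G)).subgroupOf NN).Normal]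
    (hCN : Subgroup.centralizer (Q : Set G) ≤ NN)
    (θ : IrrCharacter (Subgroup.centralizer (Q : Set G)))
    (hQB : IsBrauerPairOf p M B Q (blockOf M (θ : Subgroup.centralizer (Q : Set G) → ℂ)))
    (ζ : IrrCharacter NN)
    (hζ : classInner (fun n : ↥((Subgroup.centralizer (Q : Set G)).subgroupOf NN) =>
        (ζ : NN → ℂ) n)
      (irrEquiv (Subgroup.subgroupOfEquivOfLe hCN) θ :
        ↥((Subgroup.centralizer (Q : Set G)).subgroupOf NN) → ℂ) ≠ 0)
    (D' : Subgroup NN)
    (hD' : IsDefectGroup p M (blockOf M (ζ : NN → ℂ)) D')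
    (hQD' : Q.subgroupOf NN ≤ D')
    (hne : D' ≠ Q.subgroupOf NN) :
    ∃ (R : Subgroup G) (g : Set (IrrCharacter (Subgroup.centralizer (R : Set G)))),
      IsBrauerPairOf p M B R g ∧
      SubpairLE p M Q (blockOf M (θ : Subgroup.centralizer (Q : Set G) → ℂ)) R g ∧ R ≠ Q := by
  classical
  haveI hPr := isPrime_of_isPModular hM
  haveI : Fact p.Prime := ⟨prime_of_isPModular hM⟩
  have hQ : IsPGroup p Q := hQB.1.1
  have hQN : Q ≤ NN := hNN ▸ Subgroup.le_normalizer
  have hNNle : NN ≤ Subgroup.normalizer (Q : Set G) := le_of_eq hNN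
  set e := Subgroup.subgroupOfEquivOfLe hCN with he
  set D := D'.map NN.subtype with hD
  have hDN : D ≤ NN := Subgroup.map_subtype_le D'
  have hQD : Q ≤ D := by
    rw [← Subgroup.map_subgroupOf_eq_of_le hQN]
    exact Subgroup.map_mono hQD'
  have hDne : D ≠ Q := by
    intro h
    apply hne
    have h1 : (D'.map NN.subtype).comap NN.subtype = D' :=
      Subgroup.comap_map_eq_self_of_injective (Subgroup.subtype_injective _) D'
    rw [← h1, ← hD, h]
    rfl
  have hDp : IsPGroup p D := (isPGroup_of_isDefectGroup hD').map _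
  haveI : Fintype (Subgroup.centralizer (D : Set G)) := Fintype.ofFinite _
  have hCDC : Subgroup.centralizer (D : Set G) ≤ Subgroup.centralizer (Q : Set G) :=
    Subgroup.centralizer_le hQD
  -- the defect class
  obtain ⟨x, hx, S, hS⟩ := hD'
  have hxD : (x : G) ∈ Subgroup.centralizer (D : Set G) := by
    rw [Subgroup.mem_centralizer_iff]
    rintro _ ⟨d, hd, rfl⟩
    rw [hS] at hd
    obtain ⟨s, _, rfl⟩ := hd
    have h1 := Subgroup.mem_centralizer_iff.1 s.2 x (Set.mem_singleton x)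
    have h2 := congrArg (Subtype.val : NN → G) h1
    simp only [Subgroup.coe_mul] at h2
    exact h2.symm
  -- the idempotent of the block of `N_G(Q)`
  set z₁ := incl NN (blockIdem (blockOf M (ζ : NN → ℂ))) with hz₁
  have hzc : blockIdem (blockOf M (ζ : NN → ℂ)) ∈ Subalgebra.center ℂ (MonoidAlgebra ℂ NN) :=
    blockIdem_mem_center _
  have hzi : blockIdem (blockOf M (ζ : NN → ℂ)) ∈ intCoeff (G := NN) M :=
    fun k => blockIdem_memLocalRing hM ζ k
  have hg : Good M D z₁ :=
    ⟨fun g => incl_memLocalRing NN hzi g, fun q hq => invUnder_incl NN hzc ⟨q, hDN hq⟩,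
      fun q hq => invUnder_incl NN hzc ⟨q, hCN (hCDC hq)⟩⟩
  have hzz : z₁ * z₁ = z₁ := by rw [hz₁, ← map_mul, blockIdem_mul_self]
  have hcoef : ¬ MemLocalIdeal M (z₁.coeff (x : G)) := by
    rw [hz₁, coeff_incl_mem]
    exact hx.2.1
  obtain ⟨ζ', hζ'⟩ := exists_lam_of_coeff D hM hDp hg hzz hxD hcoef
  -- the `D`-stable block of `C_G(Q)`
  obtain ⟨f', ⟨hf'b, hf'st, hf'1⟩, _⟩ := exists_unique_stable_block D
    (Subgroup.centralizer (Q : Set G)) hM hDp
    ((hDN.trans hNNle).trans (normalizer_le_normalizer_centralizer Q)) hCDC ζ'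
  have hnorm : IsNormalSubpair p M Q f' D
      (blockOf M (ζ' : Subgroup.centralizer (D : Set G) → ℂ)) :=
    (isNormalSubpair_iff_lam hM D Q ζ' f').2 ⟨hQ, hDp, hQD, hDN.trans hNNle, hf'b, hf'st, hf'1⟩
  obtain ⟨ψ, hψ⟩ := block_nonempty hf'b
  have key := lam_sub_omega_of_stable hM D Q hDp hQD (hDN.trans hNNle) ζ' hf'b hf'st hf'1 hg.int
    (fun c hc => invUnder_incl NN hzc ⟨c, hCN hc⟩) hg.invP hψ
  have hω1 : MemLocalIdeal M (omega (ψ : Subgroup.centralizer (Q : Set G) → ℂ) (resAlg (Subgroup.centralizer (Q : Set G)) z₁) - 1) := by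
    have := memLocalIdeal_sub hζ' key
    rwa [sub_sub_sub_cancel_left] at this
  have hω0 : omega (ψ : Subgroup.centralizer (Q : Set G) → ℂ) (resAlg (Subgroup.centralizer (Q : Set G)) z₁) ≠ 0 := by
    intro h0
    rw [h0, zero_sub] at hω1
    have := memLocalIdeal_neg hω1
    rw [neg_neg] at this
    exact not_memLocalIdeal_one this
  -- a member of the block of `ζ` lies over `ψ`
  have hω0' : omega (irrEquiv e ψ : ↥((Subgroup.centralizer (Q : Set G)).subgroupOf NN) → ℂ)
      (resAlg ((Subgroup.centralizer (Q : Set G)).subgroupOf NN) (blockIdem (blockOf M (ζ : NN → ℂ)))) ≠ 0 := by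
    rw [omega_irrEquiv e ψ (resAlg (Subgroup.centralizer (Q : Set G)) z₁)]
    · exact hω0
    · intro a
      rw [coeff_resAlg, coeff_resAlg, hz₁]
      exact (coeff_incl_mem NN _ (a : NN)).symm
  obtain ⟨ζ₁, hζ₁, hcon₁⟩ := exists_constituent_of_omega_ne_zero ((Subgroup.centralizer (Q : Set G)).subgroupOf NN)
    (blockOf M (ζ : NN → ℂ)) (irrEquiv e ψ) hω0'
  obtain ⟨g, θ'', hθ'', hrel⟩ := covers_conj ((Subgroup.centralizer (Q : Set G)).subgroupOf NN) hM (blockOf M (ζ : NN → ℂ))
    ⟨ζ, rfl⟩ (blockOf M (irrEquiv e θ : ↥((Subgroup.centralizer (Q : Set G)).subgroupOf NN) → ℂ)) ⟨_, rfl⟩ ζ (mem_blockOf_self ζ)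
    (irrEquiv e θ) (mem_blockOf_self _) hζ ζ₁ hζ₁ (irrEquiv e ψ) hcon₁
  -- `θ''` comes from a member of `f`
  set θc := (irrEquiv e).symm θ'' with hθc
  have hθc' : irrEquiv e θc = θ'' := Equiv.apply_symm_apply _ _
  have hθcf : θc ∈ blockOf M (θ : Subgroup.centralizer (Q : Set G) → ℂ) := by
    rw [← hθc'] at hθ''
    exact (irrEquiv_mem_blockOf_iff e θ θc).1 hθ''
  have hgN : (g : G) ∈ Subgroup.normalizer (Q : Set G) := hNNle g.2
  have hgC : ∀ h : G, h ∈ Subgroup.centralizer (Q : Set G) →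
      (g : G) * h * (g : G)⁻¹ ∈ Subgroup.centralizer (Q : Set G) := by
    intro h hh
    exact ((Subgroup.mem_normalizer_iff.1 (normalizer_le_normalizer_centralizer Q hgN)) h).1 hh
  have hrel' : ∀ (h : G) (hh : h ∈ Subgroup.centralizer (Q : Set G)), (ψ : Subgroup.centralizer (Q : Set G) → ℂ) ⟨h, hh⟩ =
      (θc : Subgroup.centralizer (Q : Set G) → ℂ) ⟨(g : G) * h * (g : G)⁻¹, hgC h hh⟩ := by
    intro h hh
    have h1 := hrel (e.symm ⟨h, hh⟩)
    rw [irrEquiv_apply, MulEquiv.apply_symm_apply, ← hθc', irrEquiv_apply] at h1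
    rw [h1]
    congr 1
  -- the pair `(Q, f')` is the conjugate of `(Q, f)` by `g⁻¹`
  have hpair : conjPair (g : G)⁻¹ (⟨Q, blockOf M (θ : Subgroup.centralizer (Q : Set G) → ℂ)⟩ : BrauerPairIdx G) = ⟨Q, f'⟩ := by
    refine pair_ext (M := M) ?_ (isPBlock_conjPair _ ⟨θ, rfl⟩) hf'b ?_
    · exact map_conj_eq_of_mem_normalizer (Subgroup.inv_mem _ hgN)
    · refine ⟨extZero Q (ψ : Subgroup.centralizer (Q : Set G) → ℂ), ?_, ⟨ψ, hψ, rfl⟩⟩
      rw [mem_pairFuns_conjPair]
      refine ⟨extZero Q (θc : Subgroup.centralizer (Q : Set G) → ℂ), ⟨θc, hθcf, rfl⟩, ?_⟩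
      funext h
      rw [inv_inv]
      unfold extZero
      by_cases hh : h ∈ Subgroup.centralizer (Q : Set G)
      · rw [dif_pos hh, dif_pos (hgC h hh)]
        exact hrel' h hh
      · rw [dif_neg hh, dif_neg]
        intro h2
        apply hh
        have h3 := ((Subgroup.mem_normalizer_iff.1
          (normalizer_le_normalizer_centralizer Q hgN)) h).2 h2
        exact h3
  -- conjugate back
  have hrel2 : Relation.ReflTransGen (NormalSubpairRel p M)
      (conjPair (g : G) (⟨Q, f'⟩ : BrauerPairIdx G))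
      (conjPair (g : G) (⟨D, blockOf M (ζ' : Subgroup.centralizer (D : Set G) → ℂ)⟩ :
        BrauerPairIdx G)) :=
    reflTransGen_conjPair (g : G) (Relation.ReflTransGen.single hnorm)
  rw [← hpair, conjPair_conjPair_inv (M := M) (g : G)
    (a := (⟨Q, blockOf M (θ : Subgroup.centralizer (Q : Set G) → ℂ)⟩ : BrauerPairIdx G)) ⟨θ, rfl⟩] at hrel2
  refine ⟨D.map (MulAut.conj (g : G)).toMonoidHom, conjBlock D (g : G)
    (blockOf M (ζ' : Subgroup.centralizer (D : Set G) → ℂ)), ?_, hrel2, ?_⟩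
  · exact (isBrauerPairOf_iff_of_reflTransGen hM hrel2 B).1 hQB
  · intro h
    apply hDne
    have h2 : Nat.card (D.map (MulAut.conj (g : G)).toMonoidHom) = Nat.card D :=
      Subgroup.card_map_of_injective (MulAut.conj (g : G)).injective
    rw [h] at h2
    exact (Subgroup.eq_of_le_of_card_ge hQD h2.ge).symm

/-- **Maximal Brauer pairs have defect groups as first components.** -/
theorem isDefectGroup_of_maximal (hM : IsPModular p M) {B : Set (IrrCharacter G)}
    {Q : Subgroup G} {f : Set (IrrCharacter (Subgroup.centralizer (Q : Set G)))}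
    (hmax : IsMaximalBrauerPair p M B Q f) : IsDefectGroup p M B Q := by
  classical
  haveI hPr := isPrime_of_isPModular hM
  haveI : Fact p.Prime := ⟨prime_of_isPModular hM⟩
  obtain ⟨hQfB, hmx⟩ := hmax
  have hQ : IsPGroup p Q := hQfB.1.1
  haveI : Fintype (Subgroup.centralizer (Q : Set G)) := Fintype.ofFinite _
  haveI : Fintype (Subgroup.normalizer (Q : Set G)) := Fintype.ofFinite _
  haveI : Fintype ↥((Subgroup.centralizer (Q : Set G)).subgroupOf
    (Subgroup.normalizer (Q : Set G))) := Fintype.ofFinite _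
  have hCN : Subgroup.centralizer (Q : Set G) ≤ Subgroup.normalizer (Q : Set G) :=
    Subgroup.centralizer_le_normalizer (Q : Set G)
  haveI hn : ((Subgroup.centralizer (Q : Set G)).subgroupOf
      (Subgroup.normalizer (Q : Set G))).Normal :=
    Subgroup.normal_subgroupOf_of_le_normalizer (normalizer_le_normalizer_centralizer Q)
  obtain ⟨θ, hfθ⟩ := hQfB.1.2
  subst hfθ
  obtain ⟨ζ, hζ⟩ := exists_irr_over_restrict ((Subgroup.centralizer (Q : Set G)).subgroupOf
    (Subgroup.normalizer (Q : Set G))) (irrEquiv (Subgroup.subgroupOfEquivOfLe hCN) θ)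
  have h1 := isInducedBlock_sub_of_covers Q (Subgroup.centralizer (Q : Set G))
    (Subgroup.normalizer (Q : Set G)) hM hQ rfl le_rfl
    (irrEquiv (Subgroup.subgroupOfEquivOfLe hCN) θ) ζ hζ
  obtain ⟨χ₁, hχ₁⟩ := exists_isInducedBlock Q (Subgroup.normalizer (Q : Set G)) hM hQ
    Subgroup.le_normalizer hCN le_rfl ζ
  have h2 := isInducedBlock_trans (Subgroup.centralizer (Q : Set G))
    (Subgroup.normalizer (Q : Set G)) hCN θ ζ χ₁ h1 hχ₁
  have h3 := isInducedBlock_of_pair hM hQfB
  have hBeq : B = blockOf M (χ₁ : G → ℂ) :=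
    isInducedBlock_unique (Subgroup.centralizer (Q : Set G)) h3 h2
  obtain ⟨D', hD'⟩ := exists_isDefectGroup (p := p) hM ζ
  haveI hnQ : (Q.subgroupOf (Subgroup.normalizer (Q : Set G))).Normal :=
    Subgroup.normal_subgroupOf_of_le_normalizer le_rfl
  have hQD' : Q.subgroupOf (Subgroup.normalizer (Q : Set G)) ≤ D' :=
    normal_le_defectGroup hM ζ (Q.subgroupOf (Subgroup.normalizer (Q : Set G)))
      hQ.comap_subtype D' hD'
  by_cases hcase : D' = Q.subgroupOf (Subgroup.normalizer (Q : Set G))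
  · rw [hcase] at hD'
    obtain ⟨χ₂, hχ₂, hind₂⟩ := exists_block_up Q (Subgroup.normalizer (Q : Set G)) rfl hM hQ ζ hD'
    have h4 : blockOf M (χ₂ : G → ℂ) = blockOf M (χ₁ : G → ℂ) :=
      isInducedBlock_unique (Subgroup.normalizer (Q : Set G)) hind₂ hχ₁
    rw [hBeq, ← h4]
    exact hχ₂
  · exfalso
    obtain ⟨R, g, hRg, hle, hRne⟩ := exists_larger_pair hM (Subgroup.normalizer (Q : Set G)) rfl
      hCN θ hQfB ζ hζ D' hD' hQD' hcase
    exact hRne (hmx R g hRg hle)

end Maximal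

end Cfsg.Agent.Lib.L0.BrauerDefect
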