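import Mathlib
import Cfsg.Prelude.Def_BrauerPairs
import Cfsg.Agent.Lib.L0.BrauerDefect

/-!
# Sylow theory for Brauer pairs (lead)

* `exists_maximal_above`: every Brauer pair of `B` lies below a maximal one;
* `conjPair_eq_of_rel`;
* `exists_conj_le_of_maximal`: every Brauer pair of `B` is conjugate to a pair below a given maximal
  Brauer pair of `B` (Alperin–Broué).
-/

set_option autoImplicit false

namespace Cfsg.Agent.Lib.L0.BrauerSylow

open Cfsg MonoidAlgebra Cfsg.Agent.Lib.H23 Cfsg.Agent.Lib.H24 Cfsg.Agent.Lib.L0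
  Cfsg.Agent.Lib.L0.BrauerPairHom Cfsg.Agent.Lib.L0.BrauerLam
  Cfsg.Agent.Lib.L0.BrauerNormal Cfsg.Agent.Lib.L0.BrauerSubpair Cfsg.Agent.Lib.L0.BrauerConj
  Cfsg.Agent.Lib.L0.BrauerDefect
open scoped ComplexConjugate

variable {G : Type*} [Group G] [Fintype G] {p : ℕ} {M : Ideal AlgInt}

/-- Every Brauer pair of `B` lies below a maximal Brauer pair of `B`. -/
theorem exists_maximal_above (hM : IsPModular p M) {B : Set (IrrCharacter G)} :
    ∀ (n : ℕ) (Q : Subgroup G) (f : Set (IrrCharacter (Subgroup.centralizer (Q : Set G)))),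
      Nat.card G - Nat.card Q = n → IsBrauerPairOf p M B Q f →
      ∃ (P : Subgroup G) (e : Set (IrrCharacter (Subgroup.centralizer (P : Set G)))),
        IsMaximalBrauerPair p M B P e ∧ SubpairLE p M Q f P e := by
  classical
  intro n
  induction n using Nat.strong_induction_on with
  | _ n ih =>
    intro Q f hn hQf
    by_cases hmax : ∀ (R : Subgroup G) (g : Set (IrrCharacter (Subgroup.centralizer (R : Set G)))),
        IsBrauerPairOf p M B R g → SubpairLE p M Q f R g → R = Q
    · exact ⟨Q, f, ⟨hQf, hmax⟩, Relation.ReflTransGen.refl⟩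
    · have hmax' : ∃ (R : Subgroup G) (g : Set (IrrCharacter (Subgroup.centralizer (R : Set G)))),
          IsBrauerPairOf p M B R g ∧ SubpairLE p M Q f R g ∧ R ≠ Q := by
        by_contra hno
        apply hmax
        intro R g hRg hle
        by_contra hne
        exact hno ⟨R, g, hRg, hle, hne⟩
      obtain ⟨R, g, hRg, hle, hne⟩ := hmax'
      have hQR : Q ≤ R := fst_le_of_reflTransGen (a := ⟨Q, f⟩) (b := ⟨R, g⟩) hle
      have hcard : Nat.card Q < Nat.card R := by
        refine lt_of_le_of_ne (Subgroup.card_le_of_le hQR) fun h => hne ?_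
        exact (Subgroup.eq_of_le_of_card_ge hQR h.ge).symm
      have hRG : Nat.card R ≤ Nat.card G := Subgroup.card_le_card_group R
      obtain ⟨P, e, hPe, hle'⟩ := ih (Nat.card G - Nat.card R) (by omega) R g rfl hRg
      exact ⟨P, e, hPe, Relation.ReflTransGen.trans hle hle'⟩

theorem conjPair_eq_of_rel [hPr : M.IsPrime] {P : Subgroup G}
    {e e'' : Set (IrrCharacter (Subgroup.centralizer (P : Set G)))}
    (he : IsPBlock M e) (he'' : IsPBlock M e'') {n : G}
    (hn : n ∈ Subgroup.normalizer (P : Set G))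
    {θ θ' : IrrCharacter (Subgroup.centralizer (P : Set G))} (hθ : θ ∈ e) (hθ' : θ' ∈ e'')
    (hrel : ∀ x : Subgroup.centralizer (P : Set G),
      ∀ hx : n * (x : G) * n⁻¹ ∈ Subgroup.centralizer (P : Set G),
        (θ' : Subgroup.centralizer (P : Set G) → ℂ) x =
          (θ : Subgroup.centralizer (P : Set G) → ℂ) ⟨n * (x : G) * n⁻¹, hx⟩) :
    conjPair n (⟨P, e''⟩ : BrauerPairIdx G) = ⟨P, e⟩ := by
  classical
  refine pair_ext (M := M) (map_conj_eq_of_mem_normalizer hn) (isPBlock_conjPair n he'') he ?_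
  refine ⟨extZero P (θ : Subgroup.centralizer (P : Set G) → ℂ), ?_, ⟨θ, hθ, rfl⟩⟩
  rw [mem_pairFuns_conjPair]
  refine ⟨extZero P (θ' : Subgroup.centralizer (P : Set G) → ℂ), ⟨θ', hθ', rfl⟩, ?_⟩
  funext g
  have hnC := normalizer_le_normalizer_centralizer P (Subgroup.inv_mem _ hn)
  have hiff : n⁻¹ * g * n ∈ Subgroup.centralizer (P : Set G) ↔
      g ∈ Subgroup.centralizer (P : Set G) := by
    have := (Subgroup.mem_normalizer_iff.1 hnC) g
    rw [inv_inv] at this
    exact this.symm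
  unfold extZero
  by_cases hg : g ∈ Subgroup.centralizer (P : Set G)
  · rw [dif_pos hg, dif_pos (hiff.2 hg)]
    have h1 : n * (n⁻¹ * g * n) * n⁻¹ ∈ Subgroup.centralizer (P : Set G) := by
      have e1 : n * (n⁻¹ * g * n) * n⁻¹ = g := by group
      rw [e1]; exact hg
    have h2 := hrel ⟨n⁻¹ * g * n, hiff.2 hg⟩ h1
    rw [h2]
    have h3 : (⟨g, hg⟩ : Subgroup.centralizer (P : Set G)) =
        ⟨n * ((⟨n⁻¹ * g * n, hiff.2 hg⟩ : Subgroup.centralizer (P : Set G)) : G) * n⁻¹, h1⟩ := by
      apply Subtype.ext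
      simp only
      group
    rw [← h3]
  · rw [dif_neg hg, dif_neg (fun h => hg (hiff.1 h))]

/-- **Sylow theorem for Brauer pairs**: every Brauer pair of `B` is conjugate to a pair below a
given maximal Brauer pair of `B`. -/
theorem exists_conj_le_of_maximal (hM : IsPModular p M) {B : Set (IrrCharacter G)}
    {P Q : Subgroup G} {e : Set (IrrCharacter (Subgroup.centralizer (P : Set G)))}
    {f : Set (IrrCharacter (Subgroup.centralizer (Q : Set G)))}
    (hmax : IsMaximalBrauerPair p M B P e) (hQf : IsBrauerPairOf p M B Q f) :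
    ∃ x : G, SubpairLE p M (Q.map (MulAut.conj x).toMonoidHom) (conjBlock Q x f) P e := by
  classical
  haveI hPr := isPrime_of_isPModular hM
  haveI : Fact p.Prime := ⟨prime_of_isPModular hM⟩
  obtain ⟨P', e', hmax', hle⟩ := exists_maximal_above hM _ Q f rfl hQf
  have hDP := isDefectGroup_of_maximal hM hmax
  have hDP' := isDefectGroup_of_maximal hM hmax'
  obtain ⟨χ₀, hB⟩ := hQf.2.1
  subst hB
  obtain ⟨y, hy⟩ := isDefectGroup_conj hM χ₀ hDP' hDP
  subst hy
  have hmax'' := isMaximalBrauerPair_conj hM y hmax'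
  haveI : Fintype (Subgroup.centralizer
    ((P'.map (MulAut.conj y).toMonoidHom : Subgroup G) : Set G)) := Fintype.ofFinite _
  haveI : Fintype (Subgroup.normalizer
    ((P'.map (MulAut.conj y).toMonoidHom : Subgroup G) : Set G)) := Fintype.ofFinite _
  haveI : Fintype ↥((Subgroup.centralizer
    ((P'.map (MulAut.conj y).toMonoidHom : Subgroup G) : Set G)).subgroupOf
    (Subgroup.normalizer ((P'.map (MulAut.conj y).toMonoidHom : Subgroup G) : Set G))) :=
    Fintype.ofFinite _
  haveI hn : ((Subgroup.centralizer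
      ((P'.map (MulAut.conj y).toMonoidHom : Subgroup G) : Set G)).subgroupOf
      (Subgroup.normalizer ((P'.map (MulAut.conj y).toMonoidHom : Subgroup G) : Set G))).Normal :=
    Subgroup.normal_subgroupOf_of_le_normalizer (normalizer_le_normalizer_centralizer _)
  obtain ⟨θ₁, he⟩ := hmax.1.1.2
  subst he
  obtain ⟨θ₂, he''⟩ := hmax''.1.1.2
  have hind₁ := isInducedBlock_of_pair hM hmax.1
  have hind₂ := isInducedBlock_of_pair hM hmax''.1
  rw [he''] at hind₂
  obtain ⟨n, hn, hrel⟩ := roots_conj (P'.map (MulAut.conj y).toMonoidHom)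
    (Subgroup.centralizer ((P'.map (MulAut.conj y).toMonoidHom : Subgroup G) : Set G))
    (Subgroup.normalizer ((P'.map (MulAut.conj y).toMonoidHom : Subgroup G) : Set G))
    hM rfl le_rfl (Subgroup.centralizer_le_normalizer _) χ₀ hDP θ₁ θ₂ hind₁ hind₂
  obtain ⟨θ', hθ', hr⟩ := hrel θ₁ (mem_blockOf_self θ₁)
  have hpair := conjPair_eq_of_rel (M := M) (P := P'.map (MulAut.conj y).toMonoidHom)
    ⟨θ₁, rfl⟩ ⟨θ₂, rfl⟩ hn (mem_blockOf_self θ₁) hθ' hr
  refine ⟨n * y, ?_⟩
  have h1 := reflTransGen_conjPair (p := p) (M := M) (n * y) hle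
  have h2 : conjPair (n * y) (⟨P', e'⟩ : BrauerPairIdx G) =
      ⟨P'.map (MulAut.conj y).toMonoidHom, blockOf M (θ₁ : _ → ℂ)⟩ := by
    rw [← conjPair_mul (M := M) n y (a := (⟨P', e'⟩ : BrauerPairIdx G)) hmax'.1.1.2, ← hpair]
    congr 1
    show (⟨P'.map (MulAut.conj y).toMonoidHom, conjBlock P' y e'⟩ : BrauerPairIdx G) = _
    rw [he'']
  rw [h2] at h1
  exact h1

end Cfsg.Agent.Lib.L0.BrauerSylow
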