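import Mathlib
import Cfsg.Prelude.Def_BrauerPairs
import Cfsg.Agent.Lib.L0.BrauerSylow
import Cfsg.Agent.Lib.H23.BlockDefectGroups

/-!
# Centralizers of subpairs and defect groups (lead)

* `isBrauerPair_of_reflTransGen`, `subpairLE_intermediate`, `normalSubpair_of_subpairLE`;
* `exists_coeff_of_lam`;
* `exists_defectGroup_ge_of_normalSubpair`: if `(Q, f) ⊴ (R, g)` then every subgroup of
  `C_R(Q)` lies in a defect group of `f`;
* `stabilizesBlock_of_mem_sup`; `exists_normalSubpair_of_defectGroup`;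
* `exists_conj_defect` (= S4661, second part).
-/

set_option autoImplicit false

namespace Cfsg.Agent.Lib.L0.BrauerCentric

open Cfsg MonoidAlgebra Cfsg.Agent.Lib.H23 Cfsg.Agent.Lib.H24 Cfsg.Agent.Lib.L0
  Cfsg.Agent.Lib.L0.BrauerPairHom Cfsg.Agent.Lib.L0.BrauerLam
  Cfsg.Agent.Lib.L0.BrauerNormal Cfsg.Agent.Lib.L0.BrauerSubpair Cfsg.Agent.Lib.L0.BrauerConj
  Cfsg.Agent.Lib.L0.BrauerDefect Cfsg.Agent.Lib.L0.BrauerSylow
open scoped ComplexConjugate

variable {G : Type*} [Group G] [Fintype G] {p : ℕ} {M : Ideal AlgInt}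

omit [Fintype G] in
theorem isBrauerPair_of_reflTransGen {a b : BrauerPairIdx G}
    (hab : Relation.ReflTransGen (NormalSubpairRel p M) a b) (hb : IsBrauerPair p M b.1 b.2) :
    IsBrauerPair p M a.1 a.2 := by
  induction hab with
  | refl => exact hb
  | tail _ hcb ih => exact ih hcb.1

/-- If `(Q, f) ≤ (P, e)`, `(R, g) ≤ (P, e)` and `Q ≤ R` then `(Q, f) ≤ (R, g)`. -/
theorem subpairLE_intermediate (hM : IsPModular p M) {a b c : BrauerPairIdx G}
    (hab : Relation.ReflTransGen (NormalSubpairRel p M) a b)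
    (hcb : Relation.ReflTransGen (NormalSubpairRel p M) c b)
    (hb : IsBrauerPair p M b.1 b.2) (hac : a.1 ≤ c.1) :
    Relation.ReflTransGen (NormalSubpairRel p M) a c := by
  have hc := isBrauerPair_of_reflTransGen hcb hb
  obtain ⟨f'', _, hle⟩ := exists_subpairLE hM _ c.1 c.2 rfl hc a.1 hac
  have h1 : Relation.ReflTransGen (NormalSubpairRel p M) ⟨a.1, f''⟩ b :=
    Relation.ReflTransGen.trans hle hcb
  have h2 := subpairLE_unique hM hab f'' h1
  rw [h2] at hle
  exact hle

/-- If `(Q, f) ≤ (R, g)` and `R` normalizes `Q` then `(Q, f) ⊴ (R, g)`. -/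
theorem normalSubpair_of_subpairLE (hM : IsPModular p M) {a c : BrauerPairIdx G}
    (hac : Relation.ReflTransGen (NormalSubpairRel p M) a c)
    (hc : IsBrauerPair p M c.1 c.2) (hN : c.1 ≤ Subgroup.normalizer (a.1 : Set G)) :
    IsNormalSubpair p M a.1 a.2 c.1 c.2 := by
  obtain ⟨f₃, hf₃, _⟩ := exists_unique_normalSubpair hM c.1 a.1 c.2 hc
    (fst_le_of_reflTransGen hac) hN
  have h1 : Relation.ReflTransGen (NormalSubpairRel p M) ⟨a.1, f₃⟩ c :=
    Relation.ReflTransGen.single hf₃
  have h2 := subpairLE_unique hM hac f₃ h1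
  rw [h2] at hf₃
  exact hf₃

theorem omega_memLocalIdeal_of_coeff {H : Type*} [Group H] [Fintype H] [hPr : M.IsPrime]
    (χ : IrrCharacter H) {z : MonoidAlgebra ℂ H}
    (hz : z ∈ Subalgebra.center ℂ (MonoidAlgebra ℂ H))
    (hz' : ∀ h, MemLocalIdeal M (z.coeff h)) : MemLocalIdeal M (omega (χ : H → ℂ) z) := by
  classical
  haveI := Fintype.ofFinite (ConjClasses H)
  rw [omega_eq_sum_centralChar (irr_isClassFunction χ) hz]
  refine memLocalIdeal_sum _ _ fun c _ => memLocalIdeal_mul_right (hz' _) ?_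
  exact coe_mem_localRing (omegaInt χ _)

/-- If `Λ^P_ζ(z) ≡ 1` then `z` has a coefficient outside the local ideal at some element of
`C_G(P)`. -/
theorem exists_coeff_of_lam [hPr : M.IsPrime] (P : Subgroup G)
    [Fintype (Subgroup.centralizer (P : Set G))]
    (ζ : IrrCharacter (Subgroup.centralizer (P : Set G))) {z : MonoidAlgebra ℂ G}
    (hz : Good M P z) (h1 : MemLocalIdeal M (lam P ζ z - 1)) :
    ∃ x ∈ Subgroup.centralizer (P : Set G), ¬ MemLocalIdeal M (z.coeff x) := by
  by_contra hno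
  have hall : ∀ x ∈ Subgroup.centralizer (P : Set G), MemLocalIdeal M (z.coeff x) := by
    intro x hx
    by_contra h
    exact hno ⟨x, hx, h⟩
  have h2 : MemLocalIdeal M (lam P ζ z) :=
    omega_memLocalIdeal_of_coeff ζ (resAlg_mem_center_of_inv P hz.invC) fun h => by
      rw [coeff_resAlg]
      exact hall h h.2
  have h3 := memLocalIdeal_sub h2 h1
  rw [sub_sub_cancel] at h3
  exact not_memLocalIdeal_one h3

/-- If `(Q, f) ⊴ (R, g)` then every subgroup of `C_R(Q)` lies in a defect group of `f`. -/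
theorem exists_defectGroup_ge_of_normalSubpair (hM : IsPModular p M) {Q R : Subgroup G}
    {f : Set (IrrCharacter (Subgroup.centralizer (Q : Set G)))}
    {g : Set (IrrCharacter (Subgroup.centralizer (R : Set G)))}
    (h : IsNormalSubpair p M Q f R g) (S : Subgroup G) (hSR : S ≤ R)
    (hSC : S ≤ Subgroup.centralizer (Q : Set G)) :
    ∃ D : Subgroup (Subgroup.centralizer (Q : Set G)), IsDefectGroup p M f D ∧
      S.subgroupOf (Subgroup.centralizer (Q : Set G)) ≤ D := by
  classical
  haveI hPr := isPrime_of_isPModular hM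
  haveI : Fact p.Prime := ⟨prime_of_isPModular hM⟩
  haveI : Fintype (Subgroup.centralizer (Q : Set G)) := Fintype.ofFinite _
  haveI : Fintype (Subgroup.centralizer (R : Set G)) := Fintype.ofFinite _
  obtain ⟨⟨hQ, hf⟩, ⟨hR, hg⟩, hQR, hRN, hst, h1⟩ := h
  obtain ⟨ζ, hζ⟩ := block_nonempty hg
  have h1' : MemLocalIdeal M
      (lam R ζ (incl (Subgroup.centralizer (Q : Set G)) (blockIdem f)) - 1) := by
    rw [lam_eq_brauerOmega_sub]
    exact h1 ζ hζ
  have hgood := good_block R (Subgroup.centralizer (Q : Set G)) hM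
    (Subgroup.centralizer_le hQR) hf hst
  obtain ⟨x, hx, hxc⟩ := exists_coeff_of_lam R ζ hgood h1'
  have hxC : x ∈ Subgroup.centralizer (Q : Set G) := Subgroup.centralizer_le hQR hx
  have hco := coeff_incl_mem (Subgroup.centralizer (Q : Set G)) (blockIdem f) ⟨x, hxC⟩
  simp only [coeff_blockIdem] at hco
  rw [hco] at hxc
  obtain ⟨θ, rfl⟩ := hf
  refine exists_isDefectGroup_ge_of_blockCoeff hM θ ⟨x, hxC⟩ hxc
    (S.subgroupOf (Subgroup.centralizer (Q : Set G))) ((hR.to_le hSR).comap_subtype) ?_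
  intro s hs
  rw [Subgroup.mem_centralizer_iff]
  intro y hy
  rw [Set.mem_singleton_iff] at hy
  subst hy
  apply Subtype.ext
  have h2 := Subgroup.mem_centralizer_iff.1 hx (s : G) (hSR (Subgroup.mem_subgroupOf.1 hs))
  simp only [Subgroup.coe_mul]
  exact h2.symm

omit [Fintype G] in
/-- Elements of `Q C_G(Q)` stabilize every set of irreducible characters of `C_G(Q)`. -/
theorem stabilizesBlock_of_mem_sup (Q : Subgroup G)
    (f : Set (IrrCharacter (Subgroup.centralizer (Q : Set G)))) {r : G}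
    (hr : r ∈ Q ⊔ Subgroup.centralizer (Q : Set G)) :
    StabilizesBlock (Subgroup.centralizer (Q : Set G)) f r := by
  have hCN : Subgroup.centralizer (Q : Set G) ≤ Subgroup.normalizer (Q : Set G) :=
    Subgroup.centralizer_le_normalizer (Q : Set G)
  have hmem : r ∈ ((Q ⊔ Subgroup.centralizer (Q : Set G) : Subgroup G) : Set G) := hr
  rw [Subgroup.coe_mul_of_right_le_normalizer_left Q _ hCN] at hmem
  obtain ⟨q, hq, d, hd, rfl⟩ := hmem
  have hqN : q ∈ Subgroup.normalizer (Q : Set G) := Subgroup.le_normalizer hq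
  refine ⟨normalizer_le_normalizer_centralizer Q
    (Subgroup.mul_mem _ hqN (hCN hd)), fun χ hχ => ⟨χ, hχ, ?_⟩⟩
  intro k k' hk
  have h1 : (k' : G) = d * (k : G) * d⁻¹ := by
    rw [hk]
    have hdk : d * (k : G) * d⁻¹ ∈ Subgroup.centralizer (Q : Set G) :=
      Subgroup.mul_mem _ (Subgroup.mul_mem _ hd k.2) (Subgroup.inv_mem _ hd)
    have h2 := Subgroup.mem_centralizer_iff.1 hdk q hq
    calc q * d * (k : G) * (q * d)⁻¹ = q * (d * (k : G) * d⁻¹) * q⁻¹ := by group
      _ = (d * (k : G) * d⁻¹) * q * q⁻¹ := by rw [h2]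
      _ = d * (k : G) * d⁻¹ := by group
  have h3 : k' = (⟨d, hd⟩ : Subgroup.centralizer (Q : Set G)) * k *
      (⟨d, hd⟩ : Subgroup.centralizer (Q : Set G))⁻¹ := Subtype.ext h1
  rw [h3, irr_conj]

/-- From a defect group `D` of the block `f` of `C_G(Q)`: a Brauer pair `(Q D, h) ⊵ (Q, f)`. -/
theorem exists_normalSubpair_of_defectGroup (hM : IsPModular p M) {Q : Subgroup G}
    (hQ : IsPGroup p Q) {f : Set (IrrCharacter (Subgroup.centralizer (Q : Set G)))}
    (hf : IsPBlock M f) (D : Subgroup (Subgroup.centralizer (Q : Set G)))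
    (hD : IsDefectGroup p M f D) :
    ∃ h : Set (IrrCharacter (Subgroup.centralizer
        ((Q ⊔ D.map (Subgroup.centralizer (Q : Set G)).subtype : Subgroup G) : Set G))),
      IsNormalSubpair p M Q f (Q ⊔ D.map (Subgroup.centralizer (Q : Set G)).subtype) h := by
  classical
  haveI hPr := isPrime_of_isPModular hM
  haveI : Fintype (Subgroup.centralizer (Q : Set G)) := Fintype.ofFinite _
  haveI : Fintype (Subgroup.centralizer
    ((Q ⊔ D.map (Subgroup.centralizer (Q : Set G)).subtype : Subgroup G) : Set G)) :=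
    Fintype.ofFinite _
  have hDC : D.map (Subgroup.centralizer (Q : Set G)).subtype ≤ Subgroup.centralizer (Q : Set G) :=
    Subgroup.map_subtype_le D
  have hCN : Subgroup.centralizer (Q : Set G) ≤ Subgroup.normalizer (Q : Set G) :=
    Subgroup.centralizer_le_normalizer (Q : Set G)
  have hDp : IsPGroup p (D.map (Subgroup.centralizer (Q : Set G)).subtype) :=
    (isPGroup_of_isDefectGroup hD).map _
  have hRp : IsPGroup p (Q ⊔ D.map (Subgroup.centralizer (Q : Set G)).subtype : Subgroup G) :=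
    hQ.to_sup_of_normal_left' hDp (hDC.trans hCN)
  have hRN : Q ⊔ D.map (Subgroup.centralizer (Q : Set G)).subtype ≤
      Subgroup.normalizer (Q : Set G) := sup_le Subgroup.le_normalizer (hDC.trans hCN)
  have hst : ∀ x ∈ Q ⊔ D.map (Subgroup.centralizer (Q : Set G)).subtype,
      StabilizesBlock (Subgroup.centralizer (Q : Set G)) f x := fun x hx =>
    stabilizesBlock_of_mem_sup Q f (sup_le_sup_left hDC Q hx)
  have hgood := good_block (Q ⊔ D.map (Subgroup.centralizer (Q : Set G)).subtype)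
    (Subgroup.centralizer (Q : Set G)) hM
    (Subgroup.centralizer_le (le_sup_left : Q ≤ Q ⊔ D.map (Subgroup.centralizer (Q : Set G)).subtype))
    hf hst
  obtain ⟨x, hx, S, hS⟩ := hD
  have hxR : (x : G) ∈ Subgroup.centralizer
      ((Q ⊔ D.map (Subgroup.centralizer (Q : Set G)).subtype : Subgroup G) : Set G) := by
    have h1 : (Q ⊔ D.map (Subgroup.centralizer (Q : Set G)).subtype : Subgroup G) ≤
        Subgroup.centralizer ({(x : G)} : Set G) := by
      refine sup_le ?_ ?_
      · intro q hq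
        rw [Subgroup.mem_centralizer_singleton_iff]
        exact Subgroup.mem_centralizer_iff.1 x.2 q hq
      · rintro _ ⟨d, hd, rfl⟩
        rw [hS] at hd
        obtain ⟨s, _, rfl⟩ := hd
        rw [Subgroup.mem_centralizer_singleton_iff]
        have h2 := Subgroup.mem_centralizer_iff.1 s.2 x (Set.mem_singleton x)
        have h3 := congrArg (Subtype.val : Subgroup.centralizer (Q : Set G) → G) h2
        simp only [Subgroup.coe_mul] at h3
        exact h3.symm
    rw [Subgroup.mem_centralizer_iff]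
    intro r hr
    exact Subgroup.mem_centralizer_singleton_iff.1 (h1 hr)
  have hcoef : ¬ MemLocalIdeal M
      ((incl (Subgroup.centralizer (Q : Set G)) (blockIdem f)).coeff (x : G)) := by
    rw [coeff_incl_mem]
    exact hx.2.1
  obtain ⟨ζ, hζ⟩ := exists_lam_of_coeff _ hM hRp hgood
    (by rw [← map_mul, blockIdem_mul_self]) hxR hcoef
  exact ⟨blockOf M (ζ : _ → ℂ), (isNormalSubpair_iff_lam hM _ Q ζ f).2
    ⟨hQ, hRp, le_sup_left, hRN, hf, hst, hζ⟩⟩

/-- If `(Q, f) ≤ (P, e)` then `C_P(Q)` lies in a defect group of `f`. -/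
theorem exists_defectGroup_ge_centralizer (hM : IsPModular p M) {P Q : Subgroup G}
    {e : Set (IrrCharacter (Subgroup.centralizer (P : Set G)))}
    {f : Set (IrrCharacter (Subgroup.centralizer (Q : Set G)))}
    (hPe : IsBrauerPair p M P e) (hle : SubpairLE p M Q f P e) :
    ∃ D : Subgroup (Subgroup.centralizer (Q : Set G)), IsDefectGroup p M f D ∧
      (P ⊓ Subgroup.centralizer (Q : Set G)).subgroupOf (Subgroup.centralizer (Q : Set G)) ≤ D := by
  have hQP : Q ≤ P := fst_le_of_reflTransGen (a := ⟨Q, f⟩) (b := ⟨P, e⟩) hle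
  obtain ⟨g, _, hRg⟩ := exists_subpairLE hM _ P e rfl hPe (P ⊓ Subgroup.normalizer (Q : Set G))
    inf_le_left
  have hQR : Q ≤ P ⊓ Subgroup.normalizer (Q : Set G) := le_inf hQP Subgroup.le_normalizer
  have hac := subpairLE_intermediate hM (a := ⟨Q, f⟩) (b := ⟨P, e⟩)
    (c := ⟨P ⊓ Subgroup.normalizer (Q : Set G), g⟩) hle hRg hPe hQR
  have hc := isBrauerPair_of_reflTransGen (a := ⟨P ⊓ Subgroup.normalizer (Q : Set G), g⟩)
    (b := ⟨P, e⟩) hRg hPe
  have hnorm := normalSubpair_of_subpairLE hM (a := ⟨Q, f⟩)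
    (c := ⟨P ⊓ Subgroup.normalizer (Q : Set G), g⟩) hac hc inf_le_right
  exact exists_defectGroup_ge_of_normalSubpair hM hnorm (P ⊓ Subgroup.centralizer (Q : Set G))
    (le_inf inf_le_left (inf_le_right.trans (Subgroup.centralizer_le_normalizer (Q : Set G))))
    inf_le_right

/-- **Fully centralized conjugates**: for a maximal Brauer pair `(P, e)` of `B` and
`(Q, f) ≤ (P, e)` some conjugate `(Q, f)^x ≤ (P, e)` has `C_P(Q^x)` as a defect group. -/
theorem exists_conj_defect (hM : IsPModular p M) {B : Set (IrrCharacter G)} {P Q : Subgroup G}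
    {e : Set (IrrCharacter (Subgroup.centralizer (P : Set G)))}
    {f : Set (IrrCharacter (Subgroup.centralizer (Q : Set G)))}
    (hmax : IsMaximalBrauerPair p M B P e) (hf : IsPBlock M f)
    (hle : SubpairLE p M Q f P e) :
    ∃ x : G, SubpairLE p M (Q.map (MulAut.conj x).toMonoidHom) (conjBlock Q x f) P e ∧
      IsDefectGroup p M (conjBlock Q x f)
        ((P ⊓ Subgroup.centralizer ((Q.map (MulAut.conj x).toMonoidHom : Subgroup G) : Set G)).subgroupOf
          (Subgroup.centralizer ((Q.map (MulAut.conj x).toMonoidHom : Subgroup G) : Set G))) := by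
  classical
  haveI hPr := isPrime_of_isPModular hM
  have hPe : IsBrauerPair p M P e := hmax.1.1
  have hQ : IsPGroup p Q :=
    (isBrauerPair_of_reflTransGen (a := ⟨Q, f⟩) (b := ⟨P, e⟩) hle hPe).1
  set X : Finset G := Finset.univ.filter (fun x : G =>
    SubpairLE p M (Q.map (MulAut.conj x).toMonoidHom) (conjBlock Q x f) P e) with hX
  have hXne : X.Nonempty := by
    refine ⟨1, ?_⟩
    rw [hX, Finset.mem_filter]
    refine ⟨Finset.mem_univ _, ?_⟩
    show Relation.ReflTransGen (NormalSubpairRel p M) (conjPair 1 (⟨Q, f⟩ : BrauerPairIdx G))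
      ⟨P, e⟩
    rw [conjPair_one (M := M) (a := (⟨Q, f⟩ : BrauerPairIdx G)) hf]
    exact hle
  obtain ⟨x, hxX, hxmax⟩ := Finset.exists_max_image X (fun x : G => Nat.card
    ↥(P ⊓ Subgroup.centralizer ((Q.map (MulAut.conj x).toMonoidHom : Subgroup G) : Set G))) hXne
  rw [hX, Finset.mem_filter] at hxX
  have hle₂ := hxX.2
  refine ⟨x, hle₂, ?_⟩
  obtain ⟨D₂, hD₂, hPD₂⟩ := exists_defectGroup_ge_centralizer hM hPe hle₂
  have hf₂ : IsPBlock M (conjBlock Q x f) := isPBlock_conjBlock x Q hf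
  have hQ₂ : IsPGroup p (Q.map (MulAut.conj x).toMonoidHom) := hQ.map _
  by_contra hnot
  have hne : (P ⊓ Subgroup.centralizer
      ((Q.map (MulAut.conj x).toMonoidHom : Subgroup G) : Set G)).subgroupOf
      (Subgroup.centralizer ((Q.map (MulAut.conj x).toMonoidHom : Subgroup G) : Set G)) ≠ D₂ := by
    intro h
    apply hnot
    rw [h]
    exact hD₂
  have hlt : Nat.card ↥(P ⊓ Subgroup.centralizer
      ((Q.map (MulAut.conj x).toMonoidHom : Subgroup G) : Set G)) < Nat.card D₂ := by
    rw [← Nat.card_congr (Subgroup.subgroupOfEquivOfLe (inf_le_right :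
      P ⊓ Subgroup.centralizer ((Q.map (MulAut.conj x).toMonoidHom : Subgroup G) : Set G) ≤
        Subgroup.centralizer ((Q.map (MulAut.conj x).toMonoidHom : Subgroup G) : Set G))).toEquiv]
    refine lt_of_le_of_ne (Subgroup.card_le_of_le hPD₂) fun h => hne ?_
    exact Subgroup.eq_of_le_of_card_ge hPD₂ h.ge
  obtain ⟨h₂, hnorm₂⟩ := exists_normalSubpair_of_defectGroup hM hQ₂ hf₂ D₂ hD₂
  have hQ₂B : IsBrauerPairOf p M B (Q.map (MulAut.conj x).toMonoidHom) (conjBlock Q x f) :=
    (isBrauerPairOf_iff_of_reflTransGen hM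
      (a := ⟨Q.map (MulAut.conj x).toMonoidHom, conjBlock Q x f⟩) (b := ⟨P, e⟩) hle₂ B).2 hmax.1
  have hR₂B := (isBrauerPairOf_iff_of_normalSubpair hM hnorm₂ B).1 hQ₂B
  obtain ⟨y, hy⟩ := exists_conj_le_of_maximal hM hmax hR₂B
  -- the conjugate by `y * x` lies below `(P, e)`
  have hsingle : Relation.ReflTransGen (NormalSubpairRel p M)
      (⟨Q.map (MulAut.conj x).toMonoidHom, conjBlock Q x f⟩ : BrauerPairIdx G)
      ⟨Q.map (MulAut.conj x).toMonoidHom ⊔ D₂.map (Subgroup.centralizer
        ((Q.map (MulAut.conj x).toMonoidHom : Subgroup G) : Set G)).subtype, h₂⟩ :=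
    Relation.ReflTransGen.single hnorm₂
  have hchain : Relation.ReflTransGen (NormalSubpairRel p M)
      (conjPair y (⟨Q.map (MulAut.conj x).toMonoidHom, conjBlock Q x f⟩ : BrauerPairIdx G))
      ⟨P, e⟩ :=
    Relation.ReflTransGen.trans (reflTransGen_conjPair y hsingle) hy
  have hmul : conjPair y (⟨Q.map (MulAut.conj x).toMonoidHom, conjBlock Q x f⟩ :
      BrauerPairIdx G) = conjPair (y * x) ⟨Q, f⟩ :=
    conjPair_mul (M := M) y x (a := (⟨Q, f⟩ : BrauerPairIdx G)) hf
  rw [hmul] at hchain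
  have hyxX : y * x ∈ X := by
    rw [hX, Finset.mem_filter]
    exact ⟨Finset.mem_univ _, hchain⟩
  have h1 := hxmax (y * x) hyxX
  -- `D₂^y ≤ P ∩ C_G(Q^{yx})`
  have hDle : ((D₂.map (Subgroup.centralizer
      ((Q.map (MulAut.conj x).toMonoidHom : Subgroup G) : Set G)).subtype).map
      (MulAut.conj y).toMonoidHom : Subgroup G) ≤
      P ⊓ Subgroup.centralizer ((Q.map (MulAut.conj (y * x)).toMonoidHom : Subgroup G) : Set G) := by
    refine le_inf ?_ ?_
    · have h2 : ((Q.map (MulAut.conj x).toMonoidHom ⊔ D₂.map (Subgroup.centralizer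
          ((Q.map (MulAut.conj x).toMonoidHom : Subgroup G) : Set G)).subtype : Subgroup G)).map
          (MulAut.conj y).toMonoidHom ≤ P :=
        fst_le_of_reflTransGen (a := ⟨_, conjBlock _ y h₂⟩) (b := ⟨P, e⟩) hy
      exact (Subgroup.map_mono le_sup_right).trans h2
    · rw [← map_conj_map_conj]
      rintro _ ⟨d, hd, rfl⟩
      have hdC : d ∈ Subgroup.centralizer
          ((Q.map (MulAut.conj x).toMonoidHom : Subgroup G) : Set G) :=
        Subgroup.map_subtype_le D₂ hd
      have := conj_mem_centralizer_conjSub (x := y) hdC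
      simpa [MulAut.conj_apply] using this
  have h2 : Nat.card D₂ ≤ Nat.card ↥(P ⊓ Subgroup.centralizer
      ((Q.map (MulAut.conj (y * x)).toMonoidHom : Subgroup G) : Set G)) := by
    have h3 := Subgroup.card_le_of_le hDle
    rw [Subgroup.card_map_of_injective (MulAut.conj y).injective,
      Subgroup.card_map_of_injective (Subgroup.subtype_injective _)] at h3
    exact h3
  omega

end Cfsg.Agent.Lib.L0.BrauerCentric
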