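import Mathlib
import Cfsg.Prelude.Def_BrauerPairs
import Cfsg.Agent.Lib.L0.BrauerCentric
import Cfsg.Agent.Lib.L0.BlockOrbitCover

/-!
# The stabilizer of a Brauer pair (lead)

* `exists_block_of_stabilizer`: the idempotent of `f` is a block idempotent of any `T` with
  `Q C_G(Q) ≤ T ≤ N_G(Q)` stabilizing `f`;
* `exists_coeff_of_normalSubpair`, `exists_normalSubpair_of_coeff`;
* `exists_conj_of_larger`: the maximal choice argument;
* `exists_defectGroup_ge_normalizer`, `exists_conj_defect_normalizer` (= S4662).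
-/

set_option autoImplicit false

namespace Cfsg.Agent.Lib.L0.BrauerNormalizer

open Cfsg MonoidAlgebra Cfsg.Agent.Lib.H23 Cfsg.Agent.Lib.H24 Cfsg.Agent.Lib.L0
  Cfsg.Agent.Lib.L0.BrauerPairHom Cfsg.Agent.Lib.L0.BrauerLam
  Cfsg.Agent.Lib.L0.BrauerNormal Cfsg.Agent.Lib.L0.BrauerSubpair Cfsg.Agent.Lib.L0.BrauerConj
  Cfsg.Agent.Lib.L0.BrauerDefect Cfsg.Agent.Lib.L0.BrauerSylow Cfsg.Agent.Lib.L0.BrauerCentric
  Cfsg.Agent.Lib.L0.BlockOrbitCover
open scoped ComplexConjugate

variable {G : Type*} [Group G] [Fintype G] {p : ℕ} {M : Ideal AlgInt}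

theorem irrEquiv_image_blockOf {A B : Type*} [Group A] [Group B] (e : A ≃* B)
    (θ : IrrCharacter B) :
    irrEquiv e '' blockOf M (θ : B → ℂ) = blockOf M (irrEquiv e θ : A → ℂ) := by
  ext φ
  constructor
  · rintro ⟨ψ, hψ, rfl⟩
    exact (irrEquiv_mem_blockOf_iff e θ ψ).2 hψ
  · intro hφ
    refine ⟨(irrEquiv e).symm φ, ?_, Equiv.apply_symm_apply _ _⟩
    have : irrEquiv e ((irrEquiv e).symm φ) ∈ blockOf M (irrEquiv e θ : A → ℂ) := by
      rw [Equiv.apply_symm_apply]; exact hφ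
    exact (irrEquiv_mem_blockOf_iff e θ _).1 this

/-- The idempotent of a block `f` of `C_G(Q)` is a block idempotent of any subgroup `T` with
`Q C_G(Q) ≤ T ≤ N_G(Q)` stabilizing `f`. -/
theorem exists_block_of_stabilizer (hM : IsPModular p M) {Q : Subgroup G} (hQ : IsPGroup p Q)
    {f : Set (IrrCharacter (Subgroup.centralizer (Q : Set G)))} (hf : IsPBlock M f)
    (T : Subgroup G) (hQT : Q ≤ T) (hCT : Subgroup.centralizer (Q : Set G) ≤ T)
    (hTN : T ≤ Subgroup.normalizer (Q : Set G))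
    (hst : ∀ t ∈ T, StabilizesBlock (Subgroup.centralizer (Q : Set G)) f t) :
    ∃ F : Set (IrrCharacter T), IsPBlock M F ∧
      ∀ t : T, blockCoeff F t = subgroupBlockCoeff (Subgroup.centralizer (Q : Set G)) f (t : G) := by
  classical
  haveI hPr := isPrime_of_isPModular hM
  haveI : Fact p.Prime := ⟨prime_of_isPModular hM⟩
  haveI : Fintype T := Fintype.ofFinite _
  haveI : Fintype ↥((Subgroup.centralizer (Q : Set G)).subgroupOf T) := Fintype.ofFinite _
  haveI hnC : ((Subgroup.centralizer (Q : Set G)).subgroupOf T).Normal :=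
    Subgroup.normal_subgroupOf_of_le_normalizer
      (hTN.trans (normalizer_le_normalizer_centralizer Q))
  haveI hnQ : (Q.subgroupOf T).Normal := Subgroup.normal_subgroupOf_of_le_normalizer hTN
  have hQ' : IsPGroup p (Q.subgroupOf T) := hQ.comap_subtype
  have hC' : Subgroup.centralizer ((Q.subgroupOf T : Subgroup T) : Set T) ≤
      (Subgroup.centralizer (Q : Set G)).subgroupOf T := by
    intro t ht
    rw [Subgroup.mem_subgroupOf, Subgroup.mem_centralizer_iff]
    intro q hq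
    have h1 := Subgroup.mem_centralizer_iff.1 ht ⟨q, hQT hq⟩ (Subgroup.mem_subgroupOf.2 hq)
    exact congrArg Subtype.val h1
  set e := Subgroup.subgroupOfEquivOfLe hCT with he
  obtain ⟨θ, rfl⟩ := hf
  have hinv : ∀ g : T, ∀ θ' ∈ blockOf M (irrEquiv e θ :
      ↥((Subgroup.centralizer (Q : Set G)).subgroupOf T) → ℂ),
      conjIrr ((Subgroup.centralizer (Q : Set G)).subgroupOf T) θ' g ∈
        blockOf M (irrEquiv e θ : ↥((Subgroup.centralizer (Q : Set G)).subgroupOf T) → ℂ) := by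
    intro g θ' hθ'
    set θc := (irrEquiv e).symm θ' with hθc
    have hθc' : irrEquiv e θc = θ' := Equiv.apply_symm_apply _ _
    have hθcf : θc ∈ blockOf M (θ : Subgroup.centralizer (Q : Set G) → ℂ) := by
      rw [← hθc'] at hθ'
      exact (irrEquiv_mem_blockOf_iff e θ θc).1 hθ'
    obtain ⟨χ', hχ', hconj⟩ := (hst _ (T.inv_mem g.2)).2 θc hθcf
    have h1 : conjIrr ((Subgroup.centralizer (Q : Set G)).subgroupOf T) θ' g = irrEquiv e χ' := by
      apply Subtype.ext
      funext n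
      rw [conjIrr_apply, irrEquiv_apply, ← hθc', irrEquiv_apply]
      symm
      apply hconj
      show ((e n : Subgroup.centralizer (Q : Set G)) : G) = (g : G)⁻¹ * _ * (g : G)⁻¹⁻¹
      have h2 : ((e ⟨g * (n : T) * g⁻¹, hnC.conj_mem n n.2 g⟩ :
          Subgroup.centralizer (Q : Set G)) : G) = (g : G) * ((n : T) : G) * (g : G)⁻¹ := rfl
      rw [h2]
      have h3 : ((e n : Subgroup.centralizer (Q : Set G)) : G) = ((n : T) : G) := rfl
      rw [h3]
      group
    rw [h1]
    exact (irrEquiv_mem_blockOf_iff e θ χ').2 hχ'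
  obtain ⟨χ₀, hχ₀⟩ := exists_block_of_invariant
    ((Subgroup.centralizer (Q : Set G)).subgroupOf T) hM (Q.subgroupOf T) hQ' hC'
    (irrEquiv e θ) hinv
  refine ⟨blockOf M (χ₀ : T → ℂ), ⟨χ₀, rfl⟩, fun t => ?_⟩
  rw [hχ₀ t]
  unfold subgroupBlockCoeff
  by_cases ht : (t : G) ∈ Subgroup.centralizer (Q : Set G)
  · rw [dif_pos ht, dif_pos (Subgroup.mem_subgroupOf.2 ht), ← irrEquiv_image_blockOf,
      blockCoeff_irrEquiv_image]
    rfl
  · rw [dif_neg ht, dif_neg (fun h => ht (Subgroup.mem_subgroupOf.1 h))]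

theorem coeff_incl_blockIdem (C : Subgroup G) [Fintype C] (f : Set (IrrCharacter C)) (g : G) :
    (incl C (blockIdem f)).coeff g = subgroupBlockCoeff C f g := by
  classical
  unfold subgroupBlockCoeff
  by_cases hg : g ∈ C
  · rw [dif_pos hg]
    exact coeff_incl_mem C (blockIdem f) ⟨g, hg⟩
  · rw [dif_neg hg, coeff_incl_not_mem C _ hg]

/-- If `(Q, f) ⊴ (R, g)` then the idempotent of `f` has a coefficient outside the local ideal at
some element of `C_G(R)`. -/
theorem exists_coeff_of_normalSubpair (hM : IsPModular p M) {Q R : Subgroup G}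
    {f : Set (IrrCharacter (Subgroup.centralizer (Q : Set G)))}
    {g : Set (IrrCharacter (Subgroup.centralizer (R : Set G)))}
    (h : IsNormalSubpair p M Q f R g) :
    ∃ x ∈ Subgroup.centralizer (R : Set G),
      ¬ MemLocalIdeal M (subgroupBlockCoeff (Subgroup.centralizer (Q : Set G)) f x) := by
  classical
  haveI hPr := isPrime_of_isPModular hM
  haveI : Fintype (Subgroup.centralizer (Q : Set G)) := Fintype.ofFinite _
  haveI : Fintype (Subgroup.centralizer (R : Set G)) := Fintype.ofFinite _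
  obtain ⟨⟨hQ, hf⟩, ⟨hR, hg⟩, hQR, hRN, hst, h1⟩ := h
  obtain ⟨ζ, hζ⟩ := block_nonempty hg
  have h1' : MemLocalIdeal M
      (lam R ζ (incl (Subgroup.centralizer (Q : Set G)) (blockIdem f)) - 1) := by
    rw [lam_eq_brauerOmega_sub]
    exact h1 ζ hζ
  have hgood := good_block R (Subgroup.centralizer (Q : Set G)) hM
    (Subgroup.centralizer_le hQR) hf hst
  obtain ⟨x, hx, hxc⟩ := exists_coeff_of_lam R ζ hgood h1'
  rw [coeff_incl_blockIdem] at hxc
  exact ⟨x, hx, hxc⟩

/-- A `p`-subgroup `R` with `Q ≤ R ≤ N_G(Q)` stabilizing `f`, such that the idempotent of `f` has a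
coefficient outside the local ideal at some element of `C_G(R)`, carries a pair above `(Q, f)`. -/
theorem exists_normalSubpair_of_coeff (hM : IsPModular p M) {Q R : Subgroup G}
    (hQ : IsPGroup p Q) {f : Set (IrrCharacter (Subgroup.centralizer (Q : Set G)))}
    (hf : IsPBlock M f) (hR : IsPGroup p R) (hQR : Q ≤ R)
    (hRN : R ≤ Subgroup.normalizer (Q : Set G))
    (hst : ∀ r ∈ R, StabilizesBlock (Subgroup.centralizer (Q : Set G)) f r)
    {x : G} (hx : x ∈ Subgroup.centralizer (R : Set G))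
    (hxc : ¬ MemLocalIdeal M (subgroupBlockCoeff (Subgroup.centralizer (Q : Set G)) f x)) :
    ∃ h : Set (IrrCharacter (Subgroup.centralizer (R : Set G))), IsNormalSubpair p M Q f R h := by
  classical
  haveI hPr := isPrime_of_isPModular hM
  haveI : Fintype (Subgroup.centralizer (Q : Set G)) := Fintype.ofFinite _
  haveI : Fintype (Subgroup.centralizer (R : Set G)) := Fintype.ofFinite _
  have hgood := good_block R (Subgroup.centralizer (Q : Set G)) hM
    (Subgroup.centralizer_le hQR) hf hst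
  rw [← coeff_incl_blockIdem] at hxc
  obtain ⟨ζ, hζ⟩ := exists_lam_of_coeff R hM hR hgood
    (by rw [← map_mul, blockIdem_mul_self]) hx hxc
  exact ⟨blockOf M (ζ : _ → ℂ), (isNormalSubpair_iff_lam hM R Q ζ f).2
    ⟨hQ, hR, hQR, hRN, hf, hst, hζ⟩⟩

/-- **The maximal choice argument.** For an equivariant assignment `Φ` of subgroups, some conjugate
`(Q, f)^x ≤ (P, e)` is such that every subgroup `E ≤ R ∩ Φ(Q^x)`, `(R, h) ⊵ (Q, f)^x`, has order at
most `|P ∩ Φ(Q^x)|`. -/
theorem exists_conj_of_larger (hM : IsPModular p M) {B : Set (IrrCharacter G)} {P Q : Subgroup G}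
    {e : Set (IrrCharacter (Subgroup.centralizer (P : Set G)))}
    {f : Set (IrrCharacter (Subgroup.centralizer (Q : Set G)))}
    (hmax : IsMaximalBrauerPair p M B P e) (hf : IsPBlock M f)
    (hle : SubpairLE p M Q f P e) (Φ : Subgroup G → Subgroup G)
    (hΦ : ∀ (Q' : Subgroup G) (y : G),
      (Φ Q').map (MulAut.conj y).toMonoidHom ≤ Φ (Q'.map (MulAut.conj y).toMonoidHom)) :
    ∃ x : G, SubpairLE p M (Q.map (MulAut.conj x).toMonoidHom) (conjBlock Q x f) P e ∧
      ∀ (R : Subgroup G) (h : Set (IrrCharacter (Subgroup.centralizer (R : Set G)))),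
        IsNormalSubpair p M (Q.map (MulAut.conj x).toMonoidHom) (conjBlock Q x f) R h →
        ∀ E : Subgroup G, E ≤ R → E ≤ Φ (Q.map (MulAut.conj x).toMonoidHom) →
          Nat.card E ≤ Nat.card ↥(P ⊓ Φ (Q.map (MulAut.conj x).toMonoidHom)) := by
  classical
  haveI hPr := isPrime_of_isPModular hM
  set X : Finset G := Finset.univ.filter (fun x : G =>
    SubpairLE p M (Q.map (MulAut.conj x).toMonoidHom) (conjBlock Q x f) P e) with hX
  have hXne : X.Nonempty := by
    refine ⟨1, ?_⟩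
    rw [hX, Finset.mem_filter]
    refine ⟨Finset.mem_univ _, ?_⟩
    show Relation.ReflTransGen (NormalSubpairRel p M) (conjPair 1 (⟨Q, f⟩ : BrauerPairIdx G))
      ⟨P, e⟩
    rw [conjPair_one (M := M) (a := (⟨Q, f⟩ : BrauerPairIdx G)) hf]
    exact hle
  obtain ⟨x, hxX, hxmax⟩ := Finset.exists_max_image X (fun x : G => Nat.card
    ↥(P ⊓ Φ (Q.map (MulAut.conj x).toMonoidHom))) hXne
  rw [hX, Finset.mem_filter] at hxX
  have hle₂ := hxX.2
  refine ⟨x, hle₂, fun R h hnorm E hER hEΦ => ?_⟩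
  have hQ₂B : IsBrauerPairOf p M B (Q.map (MulAut.conj x).toMonoidHom) (conjBlock Q x f) :=
    (isBrauerPairOf_iff_of_reflTransGen hM
      (a := ⟨Q.map (MulAut.conj x).toMonoidHom, conjBlock Q x f⟩) (b := ⟨P, e⟩) hle₂ B).2 hmax.1
  have hRB := (isBrauerPairOf_iff_of_normalSubpair hM hnorm B).1 hQ₂B
  obtain ⟨y, hy⟩ := exists_conj_le_of_maximal hM hmax hRB
  have hsingle : Relation.ReflTransGen (NormalSubpairRel p M)
      (⟨Q.map (MulAut.conj x).toMonoidHom, conjBlock Q x f⟩ : BrauerPairIdx G) ⟨R, h⟩ :=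
    Relation.ReflTransGen.single hnorm
  have hchain : Relation.ReflTransGen (NormalSubpairRel p M)
      (conjPair y (⟨Q.map (MulAut.conj x).toMonoidHom, conjBlock Q x f⟩ : BrauerPairIdx G))
      ⟨P, e⟩ :=
    Relation.ReflTransGen.trans (reflTransGen_conjPair y hsingle) hy
  have hmul : conjPair y (⟨Q.map (MulAut.conj x).toMonoidHom, conjBlock Q x f⟩ :
      BrauerPairIdx G) = conjPair (y * x) ⟨Q, f⟩ :=
    conjPair_mul (M := M) y x (a := (⟨Q, f⟩ : BrauerPairIdx G)) hf
  rw [hmul] at hchain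
  have hyxX : y * x ∈ X := by
    rw [hX, Finset.mem_filter]
    exact ⟨Finset.mem_univ _, hchain⟩
  have h1 := hxmax (y * x) hyxX
  have hEle : (E.map (MulAut.conj y).toMonoidHom : Subgroup G) ≤
      P ⊓ Φ (Q.map (MulAut.conj (y * x)).toMonoidHom) := by
    refine le_inf ?_ ?_
    · have h2 : R.map (MulAut.conj y).toMonoidHom ≤ P :=
        fst_le_of_reflTransGen (a := ⟨_, conjBlock R y h⟩) (b := ⟨P, e⟩) hy
      exact (Subgroup.map_mono hER).trans h2
    · rw [← map_conj_map_conj]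
      exact (Subgroup.map_mono hEΦ).trans (hΦ _ y)
  have h3 := Subgroup.card_le_of_le hEle
  rw [Subgroup.card_map_of_injective (MulAut.conj y).injective] at h3
  exact h3.trans h1

/-- If `(Q, f) ≤ (P, e)` then `(Q, f) ⊴ (N_P(Q), g)` for the pair `(N_P(Q), g) ≤ (P, e)`. -/
theorem exists_normalSubpair_normalizer (hM : IsPModular p M) {P Q : Subgroup G}
    {e : Set (IrrCharacter (Subgroup.centralizer (P : Set G)))}
    {f : Set (IrrCharacter (Subgroup.centralizer (Q : Set G)))}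
    (hPe : IsBrauerPair p M P e) (hle : SubpairLE p M Q f P e) :
    ∃ g : Set (IrrCharacter (Subgroup.centralizer
        ((P ⊓ Subgroup.normalizer (Q : Set G) : Subgroup G) : Set G))),
      IsNormalSubpair p M Q f (P ⊓ Subgroup.normalizer (Q : Set G)) g ∧
      SubpairLE p M (P ⊓ Subgroup.normalizer (Q : Set G)) g P e := by
  have hQP : Q ≤ P := fst_le_of_reflTransGen (a := ⟨Q, f⟩) (b := ⟨P, e⟩) hle
  obtain ⟨g, _, hRg⟩ := exists_subpairLE hM _ P e rfl hPe (P ⊓ Subgroup.normalizer (Q : Set G))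
    inf_le_left
  have hQR : Q ≤ P ⊓ Subgroup.normalizer (Q : Set G) := le_inf hQP Subgroup.le_normalizer
  have hac := subpairLE_intermediate hM (a := ⟨Q, f⟩) (b := ⟨P, e⟩)
    (c := ⟨P ⊓ Subgroup.normalizer (Q : Set G), g⟩) hle hRg hPe hQR
  have hc := isBrauerPair_of_reflTransGen (a := ⟨P ⊓ Subgroup.normalizer (Q : Set G), g⟩)
    (b := ⟨P, e⟩) hRg hPe
  exact ⟨g, normalSubpair_of_subpairLE hM (a := ⟨Q, f⟩)
    (c := ⟨P ⊓ Subgroup.normalizer (Q : Set G), g⟩) hac hc inf_le_right, hRg⟩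

/-- If `(Q, f) ≤ (P, e)` then `N_P(Q)` lies in a defect group of the block of the stabilizer `T` of
`f` with the idempotent of `f`. -/
theorem exists_defectGroup_ge_normalizer (hM : IsPModular p M) {P Q : Subgroup G}
    {e : Set (IrrCharacter (Subgroup.centralizer (P : Set G)))}
    {f : Set (IrrCharacter (Subgroup.centralizer (Q : Set G)))}
    (hPe : IsBrauerPair p M P e) (hle : SubpairLE p M Q f P e) (T : Subgroup G)
    (hCT : Subgroup.centralizer (Q : Set G) ≤ T) (F : Set (IrrCharacter T)) (hF : IsPBlock M F)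
    (hFc : ∀ t : T, blockCoeff F t =
      subgroupBlockCoeff (Subgroup.centralizer (Q : Set G)) f (t : G)) :
    ∃ D : Subgroup T, IsDefectGroup p M F D ∧
      (P ⊓ Subgroup.normalizer (Q : Set G)).subgroupOf T ≤ D := by
  classical
  haveI hPr := isPrime_of_isPModular hM
  haveI : Fact p.Prime := ⟨prime_of_isPModular hM⟩
  haveI : Fintype T := Fintype.ofFinite _
  obtain ⟨g, hnorm, _⟩ := exists_normalSubpair_normalizer hM hPe hle
  obtain ⟨x, hx, hxc⟩ := exists_coeff_of_normalSubpair hM hnorm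
  have hxC : x ∈ Subgroup.centralizer (Q : Set G) := by
    by_contra hnot
    apply hxc
    unfold subgroupBlockCoeff
    rw [dif_neg hnot]
    exact memLocalIdeal_zero hPr.ne_top
  have hβ : ¬ MemLocalIdeal M (blockCoeff F ⟨x, hCT hxC⟩) := by
    rw [hFc]
    exact hxc
  obtain ⟨χ₀, rfl⟩ := hF
  refine exists_isDefectGroup_ge_of_blockCoeff hM χ₀ ⟨x, hCT hxC⟩ hβ
    ((P ⊓ Subgroup.normalizer (Q : Set G)).subgroupOf T)
    ((hPe.1.to_le inf_le_left).comap_subtype) ?_
  intro s hs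
  rw [Subgroup.mem_centralizer_iff]
  intro y hy
  rw [Set.mem_singleton_iff] at hy
  subst hy
  apply Subtype.ext
  have h2 := Subgroup.mem_centralizer_iff.1 hx (s : G) (Subgroup.mem_subgroupOf.1 hs)
  simp only [Subgroup.coe_mul]
  exact h2.symm

/-- **Fully normalized conjugates** (= S4662, second part). -/
theorem exists_conj_defect_normalizer (hM : IsPModular p M) {B : Set (IrrCharacter G)}
    {P Q : Subgroup G} {e : Set (IrrCharacter (Subgroup.centralizer (P : Set G)))}
    {f : Set (IrrCharacter (Subgroup.centralizer (Q : Set G)))}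
    (hmax : IsMaximalBrauerPair p M B P e) (hf : IsPBlock M f)
    (hle : SubpairLE p M Q f P e) :
    ∃ x : G, SubpairLE p M (Q.map (MulAut.conj x).toMonoidHom) (conjBlock Q x f) P e ∧
      ∀ (T' : Subgroup G), (∀ y : G, y ∈ T' ↔
          y ∈ Subgroup.normalizer ((Q.map (MulAut.conj x).toMonoidHom) : Set G) ∧
          StabilizesBlock (Subgroup.centralizer ((Q.map (MulAut.conj x).toMonoidHom) : Set G))
            (conjBlock Q x f) y) →
        ∃ F' : Set (IrrCharacter T'), IsPBlock M F' ∧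
          (∀ t : T', blockCoeff F' t = subgroupBlockCoeff
            (Subgroup.centralizer ((Q.map (MulAut.conj x).toMonoidHom) : Set G))
            (conjBlock Q x f) (t : G)) ∧
          IsDefectGroup p M F' ((P ⊓ Subgroup.normalizer
            ((Q.map (MulAut.conj x).toMonoidHom) : Set G)).subgroupOf T') := by
  classical
  haveI hPr := isPrime_of_isPModular hM
  haveI : Fact p.Prime := ⟨prime_of_isPModular hM⟩
  have hPe : IsBrauerPair p M P e := hmax.1.1
  have hQ : IsPGroup p Q :=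
    (isBrauerPair_of_reflTransGen (a := ⟨Q, f⟩) (b := ⟨P, e⟩) hle hPe).1
  obtain ⟨x, hle₂, hxmax⟩ := exists_conj_of_larger hM hmax hf hle
    (fun Q' => Subgroup.normalizer (Q' : Set G)) (fun Q' y => Subgroup.le_normalizer_map _)
  refine ⟨x, hle₂, fun T' hT' => ?_⟩
  have hf₂ : IsPBlock M (conjBlock Q x f) := isPBlock_conjBlock x Q hf
  have hQ₂ : IsPGroup p (Q.map (MulAut.conj x).toMonoidHom) := hQ.map _
  haveI : Fintype T' := Fintype.ofFinite _
  have hCN₂ := Subgroup.centralizer_le_normalizer ((Q.map (MulAut.conj x).toMonoidHom : Subgroup G) : Set G)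
  have hQ₂T : Q.map (MulAut.conj x).toMonoidHom ≤ T' := fun q hq =>
    (hT' q).2 ⟨Subgroup.le_normalizer hq,
      stabilizesBlock_of_mem_sup _ _ (Subgroup.mem_sup_left hq)⟩
  have hC₂T : Subgroup.centralizer ((Q.map (MulAut.conj x).toMonoidHom : Subgroup G) : Set G) ≤ T' :=
    fun c hc => (hT' c).2 ⟨hCN₂ hc, stabilizesBlock_of_mem_sup _ _ (Subgroup.mem_sup_right hc)⟩
  have hT'N : T' ≤ Subgroup.normalizer ((Q.map (MulAut.conj x).toMonoidHom : Subgroup G) : Set G) :=
    fun y hy => ((hT' y).1 hy).1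
  have hst : ∀ t ∈ T', StabilizesBlock
      (Subgroup.centralizer ((Q.map (MulAut.conj x).toMonoidHom : Subgroup G) : Set G))
      (conjBlock Q x f) t := fun y hy => ((hT' y).1 hy).2
  obtain ⟨F', hF', hF'c⟩ := exists_block_of_stabilizer hM hQ₂ hf₂ T' hQ₂T hC₂T hT'N hst
  refine ⟨F', hF', hF'c, ?_⟩
  obtain ⟨D₂, hD₂, hle_D⟩ := exists_defectGroup_ge_normalizer hM hPe hle₂ T' hC₂T F' hF' hF'c
  -- `N_P(Q₂) ≤ T'`
  obtain ⟨g₂, hnorm₂, _⟩ := exists_normalSubpair_normalizer hM hPe hle₂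
  have hRT : P ⊓ Subgroup.normalizer ((Q.map (MulAut.conj x).toMonoidHom : Subgroup G) : Set G) ≤ T' :=
    fun r hr => (hT' r).2 ⟨(Subgroup.mem_inf.1 hr).2, hnorm₂.2.2.2.2.1 r hr⟩
  -- the larger pair on `D₂`
  have hD₂p : IsPGroup p (D₂.map T'.subtype) := (isPGroup_of_isDefectGroup hD₂).map _
  have hD₂T : D₂.map T'.subtype ≤ T' := Subgroup.map_subtype_le D₂
  obtain ⟨χ₀, hχ₀⟩ := hF'
  subst hχ₀
  haveI hnQ : ((Q.map (MulAut.conj x).toMonoidHom).subgroupOf T').Normal :=
    Subgroup.normal_subgroupOf_of_le_normalizer hT'N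
  have hQD' : (Q.map (MulAut.conj x).toMonoidHom).subgroupOf T' ≤ D₂ :=
    normal_le_defectGroup hM χ₀ ((Q.map (MulAut.conj x).toMonoidHom).subgroupOf T')
      hQ₂.comap_subtype D₂ hD₂
  have hQD : Q.map (MulAut.conj x).toMonoidHom ≤ D₂.map T'.subtype := by
    rw [← Subgroup.map_subgroupOf_eq_of_le hQ₂T]
    exact Subgroup.map_mono hQD'
  have hD₂' := hD₂
  obtain ⟨t₂, ht₂, S, hS⟩ := hD₂'
  have hxD : (t₂ : G) ∈ Subgroup.centralizer ((D₂.map T'.subtype : Subgroup G) : Set G) := by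
    rw [Subgroup.mem_centralizer_iff]
    rintro _ ⟨d, hd, rfl⟩
    rw [hS] at hd
    obtain ⟨s, _, rfl⟩ := hd
    have h1 := Subgroup.mem_centralizer_iff.1 s.2 t₂ (Set.mem_singleton t₂)
    have h2 := congrArg (Subtype.val : T' → G) h1
    simp only [Subgroup.coe_mul] at h2
    exact h2.symm
  have hxc : ¬ MemLocalIdeal M (subgroupBlockCoeff
      (Subgroup.centralizer ((Q.map (MulAut.conj x).toMonoidHom : Subgroup G) : Set G))
      (conjBlock Q x f) (t₂ : G)) := by
    rw [← hF'c]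
    exact ht₂.2.1
  obtain ⟨h₂, hnormD⟩ := exists_normalSubpair_of_coeff hM hQ₂ hf₂ hD₂p hQD (hD₂T.trans hT'N)
    (fun r hr => hst r (hD₂T hr)) hxD hxc
  have h1 := hxmax _ h₂ hnormD (D₂.map T'.subtype) le_rfl (hD₂T.trans hT'N)
  rw [Subgroup.card_map_of_injective (Subgroup.subtype_injective _)] at h1
  have h2 : Nat.card ↥((P ⊓ Subgroup.normalizer
      ((Q.map (MulAut.conj x).toMonoidHom : Subgroup G) : Set G)).subgroupOf T') =
      Nat.card ↥(P ⊓ Subgroup.normalizer
        ((Q.map (MulAut.conj x).toMonoidHom : Subgroup G) : Set G)) :=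
    Nat.card_congr (Subgroup.subgroupOfEquivOfLe hRT).toEquiv
  have h3 : (P ⊓ Subgroup.normalizer
      ((Q.map (MulAut.conj x).toMonoidHom : Subgroup G) : Set G)).subgroupOf T' = D₂ :=
    Subgroup.eq_of_le_of_card_ge hle_D (by rw [h2]; exact h1)
  rw [h3]
  exact hD₂

end Cfsg.Agent.Lib.L0.BrauerNormalizer
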