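import Mathlib
import Cfsg.Prelude.Def_BrauerPairs
import Cfsg.Prelude.Def_BlockFusion
import Cfsg.Agent.Lib.L0.BrauerNormalizer
import Cfsg.Agent.Lib.H23.BlockDefect

/-!
# Fully centralized / fully normalized / centric subgroups in the fusion system of a block (lead)

* `LocalMax`, `localMax_of_fully`: the maximal choice argument for `(Q, f)` itself;
* `isDefectGroup_centralizer_of_localMax`, `isDefectGroup_normalizer_of_localMax`;
* `blockDefect_irrEquiv_image`, `blockDefect_conjBlock`;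
* `isConj_iff`: conjugacy in the fusion system of a block.
-/

set_option autoImplicit false

namespace Cfsg.Agent.Lib.L0.BrauerFully

open Cfsg MonoidAlgebra Cfsg.Agent.Lib.H23 Cfsg.Agent.Lib.H24 Cfsg.Agent.Lib.L0
  Cfsg.Agent.Lib.L0.BrauerPairHom Cfsg.Agent.Lib.L0.BrauerLam
  Cfsg.Agent.Lib.L0.BrauerNormal Cfsg.Agent.Lib.L0.BrauerSubpair Cfsg.Agent.Lib.L0.BrauerConj
  Cfsg.Agent.Lib.L0.BrauerDefect Cfsg.Agent.Lib.L0.BrauerSylow Cfsg.Agent.Lib.L0.BrauerCentric
  Cfsg.Agent.Lib.L0.BlockOrbitCover Cfsg.Agent.Lib.L0.BrauerNormalizer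
open scoped ComplexConjugate

variable {G : Type*} [Group G] [Fintype G] {p : ℕ} {M : Ideal AlgInt}

/-- The local maximality property of `(Q, f)` with respect to `Φ`. -/
def LocalMax (p : ℕ) (M : Ideal AlgInt) (P Q : Subgroup G)
    (f : Set (IrrCharacter (Subgroup.centralizer (Q : Set G)))) (Φ : Subgroup G → Subgroup G) :
    Prop :=
  ∀ (R : Subgroup G) (h : Set (IrrCharacter (Subgroup.centralizer (R : Set G)))),
    IsNormalSubpair p M Q f R h → ∀ E : Subgroup G, E ≤ R → E ≤ Φ Q →
      Nat.card E ≤ Nat.card ↥(P ⊓ Φ Q)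

theorem localMax_of_fully (hM : IsPModular p M) {B : Set (IrrCharacter G)} {P Q : Subgroup G}
    {e : Set (IrrCharacter (Subgroup.centralizer (P : Set G)))}
    {f : Set (IrrCharacter (Subgroup.centralizer (Q : Set G)))}
    (hmax : IsMaximalBrauerPair p M B P e)
    (hle : SubpairLE p M Q f P e) (Φ : Subgroup G → Subgroup G)
    (hΦ : ∀ (Q' : Subgroup G) (y : G),
      (Φ Q').map (MulAut.conj y).toMonoidHom ≤ Φ (Q'.map (MulAut.conj y).toMonoidHom))
    (hfull : ∀ x : G, SubpairLE p M (Q.map (MulAut.conj x).toMonoidHom) (conjBlock Q x f) P e →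
      Nat.card ↥(P ⊓ Φ (Q.map (MulAut.conj x).toMonoidHom)) ≤ Nat.card ↥(P ⊓ Φ Q)) :
    LocalMax p M P Q f Φ := by
  classical
  haveI hPr := isPrime_of_isPModular hM
  intro R h hnorm E hER hEΦ
  have hQB : IsBrauerPairOf p M B Q f :=
    (isBrauerPairOf_iff_of_reflTransGen hM (a := ⟨Q, f⟩) (b := ⟨P, e⟩) hle B).2 hmax.1
  have hRB := (isBrauerPairOf_iff_of_normalSubpair hM hnorm B).1 hQB
  obtain ⟨y, hy⟩ := exists_conj_le_of_maximal hM hmax hRB
  have hsingle : Relation.ReflTransGen (NormalSubpairRel p M)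
      (⟨Q, f⟩ : BrauerPairIdx G) ⟨R, h⟩ :=
    Relation.ReflTransGen.single hnorm
  have hchain : Relation.ReflTransGen (NormalSubpairRel p M)
      (conjPair y (⟨Q, f⟩ : BrauerPairIdx G)) ⟨P, e⟩ :=
    Relation.ReflTransGen.trans (reflTransGen_conjPair y hsingle) hy
  have h1 := hfull y hchain
  have hEle : (E.map (MulAut.conj y).toMonoidHom : Subgroup G) ≤
      P ⊓ Φ (Q.map (MulAut.conj y).toMonoidHom) := by
    refine le_inf ?_ ?_
    · have h2 : R.map (MulAut.conj y).toMonoidHom ≤ P :=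
        fst_le_of_reflTransGen (a := ⟨_, conjBlock R y h⟩) (b := ⟨P, e⟩) hy
      exact (Subgroup.map_mono hER).trans h2
    · exact (Subgroup.map_mono hEΦ).trans (hΦ _ y)
  have h3 := Subgroup.card_le_of_le hEle
  rw [Subgroup.card_map_of_injective (MulAut.conj y).injective] at h3
  exact h3.trans h1

theorem map_conj_centralizer_le (Q' : Subgroup G) (y : G) :
    (Subgroup.centralizer (Q' : Set G)).map (MulAut.conj y).toMonoidHom ≤
      Subgroup.centralizer ((Q'.map (MulAut.conj y).toMonoidHom : Subgroup G) : Set G) := by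
  rintro _ ⟨d, hd, rfl⟩
  have := conj_mem_centralizer_conjSub (x := y) hd
  simpa [MulAut.conj_apply] using this

/-- If `(Q, f)` is locally maximal for centralizers, then `C_P(Q)` is a defect group of `f`. -/
theorem isDefectGroup_centralizer_of_localMax (hM : IsPModular p M) {P Q : Subgroup G}
    {e : Set (IrrCharacter (Subgroup.centralizer (P : Set G)))}
    {f : Set (IrrCharacter (Subgroup.centralizer (Q : Set G)))}
    (hPe : IsBrauerPair p M P e) (hf : IsPBlock M f)
    (hle : SubpairLE p M Q f P e)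
    (hloc : LocalMax p M P Q f (fun Q' => Subgroup.centralizer (Q' : Set G))) :
    IsDefectGroup p M f
      ((P ⊓ Subgroup.centralizer (Q : Set G)).subgroupOf (Subgroup.centralizer (Q : Set G))) := by
  classical
  haveI hPr := isPrime_of_isPModular hM
  have hQ : IsPGroup p Q :=
    (isBrauerPair_of_reflTransGen (a := ⟨Q, f⟩) (b := ⟨P, e⟩) hle hPe).1
  obtain ⟨D, hD, hPD⟩ := exists_defectGroup_ge_centralizer hM hPe hle
  obtain ⟨h₂, hnorm₂⟩ := exists_normalSubpair_of_defectGroup hM hQ hf D hD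
  have h1 := hloc _ h₂ hnorm₂ (D.map (Subgroup.centralizer (Q : Set G)).subtype) le_sup_right
    (Subgroup.map_subtype_le D)
  rw [Subgroup.card_map_of_injective (Subgroup.subtype_injective _)] at h1
  have h2 : Nat.card ↥((P ⊓ Subgroup.centralizer (Q : Set G)).subgroupOf
      (Subgroup.centralizer (Q : Set G))) = Nat.card ↥(P ⊓ Subgroup.centralizer (Q : Set G)) :=
    Nat.card_congr (Subgroup.subgroupOfEquivOfLe (inf_le_right :
      P ⊓ Subgroup.centralizer (Q : Set G) ≤ Subgroup.centralizer (Q : Set G))).toEquiv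
  have h3 : (P ⊓ Subgroup.centralizer (Q : Set G)).subgroupOf
      (Subgroup.centralizer (Q : Set G)) = D :=
    Subgroup.eq_of_le_of_card_ge hPD (by rw [h2]; exact h1)
  rw [h3]
  exact hD

/-- If `(Q, f)` is locally maximal for normalizers, then `N_P(Q)` is a defect group of the block
of the stabilizer with the idempotent of `f`. -/
theorem isDefectGroup_normalizer_of_localMax (hM : IsPModular p M) {P Q : Subgroup G}
    {e : Set (IrrCharacter (Subgroup.centralizer (P : Set G)))}
    {f : Set (IrrCharacter (Subgroup.centralizer (Q : Set G)))}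
    (hPe : IsBrauerPair p M P e) (hf : IsPBlock M f)
    (hle : SubpairLE p M Q f P e)
    (hloc : LocalMax p M P Q f (fun Q' => Subgroup.normalizer (Q' : Set G)))
    (T : Subgroup G) (hT : ∀ y : G, y ∈ T ↔ y ∈ Subgroup.normalizer (Q : Set G) ∧
      StabilizesBlock (Subgroup.centralizer (Q : Set G)) f y)
    (F' : Set (IrrCharacter T)) (hF' : IsPBlock M F')
    (hF'c : ∀ t : T, blockCoeff F' t =
      subgroupBlockCoeff (Subgroup.centralizer (Q : Set G)) f (t : G)) :
    IsDefectGroup p M F' ((P ⊓ Subgroup.normalizer (Q : Set G)).subgroupOf T) := by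
  classical
  haveI hPr := isPrime_of_isPModular hM
  haveI : Fact p.Prime := ⟨prime_of_isPModular hM⟩
  have hQ : IsPGroup p Q :=
    (isBrauerPair_of_reflTransGen (a := ⟨Q, f⟩) (b := ⟨P, e⟩) hle hPe).1
  haveI : Fintype T := Fintype.ofFinite _
  have hCN := Subgroup.centralizer_le_normalizer ((Q : Subgroup G) : Set G)
  have hQT : Q ≤ T := fun q hq =>
    (hT q).2 ⟨Subgroup.le_normalizer hq,
      stabilizesBlock_of_mem_sup _ _ (Subgroup.mem_sup_left hq)⟩
  have hCT : Subgroup.centralizer ((Q : Subgroup G) : Set G) ≤ T :=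
    fun c hc => (hT c).2 ⟨hCN hc, stabilizesBlock_of_mem_sup _ _ (Subgroup.mem_sup_right hc)⟩
  have hTN : T ≤ Subgroup.normalizer ((Q : Subgroup G) : Set G) :=
    fun y hy => ((hT y).1 hy).1
  have hst : ∀ t ∈ T, StabilizesBlock
      (Subgroup.centralizer ((Q : Subgroup G) : Set G)) f t := fun y hy => ((hT y).1 hy).2
  obtain ⟨D₂, hD₂, hle_D⟩ := exists_defectGroup_ge_normalizer hM hPe hle T hCT F' hF' hF'c
  obtain ⟨g₂, hnorm₂, _⟩ := exists_normalSubpair_normalizer hM hPe hle
  have hRT : P ⊓ Subgroup.normalizer ((Q : Subgroup G) : Set G) ≤ T :=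
    fun r hr => (hT r).2 ⟨(Subgroup.mem_inf.1 hr).2, hnorm₂.2.2.2.2.1 r hr⟩
  have hD₂p : IsPGroup p (D₂.map T.subtype) := (isPGroup_of_isDefectGroup hD₂).map _
  have hD₂T : D₂.map T.subtype ≤ T := Subgroup.map_subtype_le D₂
  obtain ⟨χ₀, hχ₀⟩ := hF'
  subst hχ₀
  haveI hnQ : (Q.subgroupOf T).Normal :=
    Subgroup.normal_subgroupOf_of_le_normalizer hTN
  have hQD' : Q.subgroupOf T ≤ D₂ :=
    normal_le_defectGroup hM χ₀ (Q.subgroupOf T) hQ.comap_subtype D₂ hD₂
  have hQD : Q ≤ D₂.map T.subtype := by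
    rw [← Subgroup.map_subgroupOf_eq_of_le hQT]
    exact Subgroup.map_mono hQD'
  have hD₂' := hD₂
  obtain ⟨t₂, ht₂, S, hS⟩ := hD₂'
  have hxD : (t₂ : G) ∈ Subgroup.centralizer ((D₂.map T.subtype : Subgroup G) : Set G) := by
    rw [Subgroup.mem_centralizer_iff]
    rintro _ ⟨d, hd, rfl⟩
    rw [hS] at hd
    obtain ⟨s, _, rfl⟩ := hd
    have h1 := Subgroup.mem_centralizer_iff.1 s.2 t₂ (Set.mem_singleton t₂)
    have h2 := congrArg (Subtype.val : T → G) h1
    simp only [Subgroup.coe_mul] at h2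
    exact h2.symm
  have hxc : ¬ MemLocalIdeal M (subgroupBlockCoeff
      (Subgroup.centralizer ((Q : Subgroup G) : Set G)) f (t₂ : G)) := by
    rw [← hF'c]
    exact ht₂.2.1
  obtain ⟨h₂, hnormD⟩ := exists_normalSubpair_of_coeff hM hQ hf hD₂p hQD (hD₂T.trans hTN)
    (fun r hr => hst r (hD₂T hr)) hxD hxc
  have h1 := hloc _ h₂ hnormD (D₂.map T.subtype) le_rfl (hD₂T.trans hTN)
  rw [Subgroup.card_map_of_injective (Subgroup.subtype_injective _)] at h1
  have h2 : Nat.card ↥((P ⊓ Subgroup.normalizer ((Q : Subgroup G) : Set G)).subgroupOf T) =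
      Nat.card ↥(P ⊓ Subgroup.normalizer ((Q : Subgroup G) : Set G)) :=
    Nat.card_congr (Subgroup.subgroupOfEquivOfLe hRT).toEquiv
  have h3 : (P ⊓ Subgroup.normalizer ((Q : Subgroup G) : Set G)).subgroupOf T = D₂ :=
    Subgroup.eq_of_le_of_card_ge hle_D (by rw [h2]; exact h1)
  rw [h3]
  exact hD₂

section Transport

variable {A B' : Type*} [Group A] [Group B'] (ε : A ≃* B')

theorem blockDefect_irrEquiv_image (q : ℕ) (f : Set (IrrCharacter B')) :
    blockDefect q (irrEquiv ε '' f) = blockDefect q f := by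
  unfold blockDefect
  rw [Nat.card_congr ε.toEquiv]
  congr 2
  rw [Set.image_image]
  refine Set.image_congr fun θ _ => ?_
  unfold charDegree
  rw [irrEquiv_apply, map_one]

end Transport

theorem conjBlock_eq_image (x : G) (Q : Subgroup G)
    (f : Set (IrrCharacter (Subgroup.centralizer (Q : Set G)))) :
    conjBlock Q x f = irrEquiv (centEquiv x Q).symm '' f := by
  ext ξ'
  rw [mem_conjBlock_iff]
  constructor
  · intro h
    refine ⟨irrEquiv (centEquiv x Q) ξ', h, ?_⟩
    apply Subtype.ext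
    funext c
    rw [irrEquiv_apply, irrEquiv_apply, MulEquiv.apply_symm_apply]
  · rintro ⟨ξ, hξ, rfl⟩
    have : irrEquiv (centEquiv x Q) (irrEquiv (centEquiv x Q).symm ξ) = ξ := by
      apply Subtype.ext
      funext c
      rw [irrEquiv_apply, irrEquiv_apply, MulEquiv.symm_apply_apply]
    rw [this]
    exact hξ

theorem blockDefect_conjBlock (q : ℕ) (x : G) (Q : Subgroup G)
    (f : Set (IrrCharacter (Subgroup.centralizer (Q : Set G)))) :
    blockDefect q (conjBlock Q x f) = blockDefect q f := by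
  rw [conjBlock_eq_image, blockDefect_irrEquiv_image]

/-- Defect groups of a block have order `p ^ d`. -/
theorem card_of_isDefectGroup {H : Type*} [Group H] [Fintype H] (hM : IsPModular p M)
    {F : Set (IrrCharacter H)} (hF : IsPBlock M F) {D : Subgroup H}
    (hD : IsDefectGroup p M F D) : Nat.card D = p ^ blockDefect p F := by
  haveI : Fact p.Prime := ⟨prime_of_isPModular hM⟩
  obtain ⟨χ₀, rfl⟩ := hF
  exact card_defectGroup hM χ₀ D hD


/-- Conjugacy in the fusion system of a block, for a subgroup `Q` with `(Q, f) ≤ (P, e)`. -/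
theorem isConj_iff (hM : IsPModular p M) {B : Set (IrrCharacter G)} {P : Subgroup G}
    {e : Set (IrrCharacter (Subgroup.centralizer (P : Set G)))} {F : FusionSystem P}
    (hF : IsBlockFusionSystemOn p M B P e F) {Q : Subgroup G}
    {f : Set (IrrCharacter (Subgroup.centralizer (Q : Set G)))}
    (hle : SubpairLE p M Q f P e) (Q' : Subgroup G) :
    F.IsConj Q Q' ↔ ∃ x : G, Q' = Q.map (MulAut.conj x).toMonoidHom ∧
      SubpairLE p M (Q.map (MulAut.conj x).toMonoidHom) (conjBlock Q x f) P e := by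
  have hQP : Q ≤ P := fst_le_of_reflTransGen (a := ⟨Q, f⟩) (b := ⟨P, e⟩) hle
  constructor
  · rintro ⟨φ, hφ, hrange⟩
    obtain ⟨_, g, hg, hgP, f', hle', hle''⟩ := (hF.2 Q φ).1 hφ
    have hff : f' = f := subpairLE_unique hM (a := ⟨Q, f⟩) (b := ⟨P, e⟩) hle f' hle'
    subst hff
    refine ⟨g, ?_, hle''⟩
    rw [← hrange]
    ext y
    constructor
    · rintro ⟨u, rfl⟩
      exact ⟨u, u.2, (hg u).symm⟩
    · rintro ⟨u, hu, rfl⟩
      exact ⟨⟨u, hu⟩, hg ⟨u, hu⟩⟩
  · rintro ⟨x, rfl, hle'⟩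
    refine ⟨conjHom Q x, (hF.2 Q (conjHom Q x)).2 ⟨hQP, x, fun u => rfl, ?_, f, hle, hle'⟩, ?_⟩
    · exact fst_le_of_reflTransGen (a := ⟨_, conjBlock Q x f⟩) (b := ⟨P, e⟩) hle'
    · ext y
      constructor
      · rintro ⟨u, rfl⟩
        exact ⟨u, u.2, rfl⟩
      · rintro ⟨u, hu, rfl⟩
        exact ⟨⟨u, hu⟩, rfl⟩


theorem card_inf_subgroupOf (P C : Subgroup G) :
    Nat.card ↥((P ⊓ C).subgroupOf C) = Nat.card ↥(P ⊓ C) :=
  Nat.card_congr (Subgroup.subgroupOfEquivOfLe (inf_le_right : P ⊓ C ≤ C)).toEquiv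

/-- **S4678.** -/
theorem fullyCentralized_iff (hM : IsPModular p M) {B : Set (IrrCharacter G)} {P : Subgroup G}
    {e : Set (IrrCharacter (Subgroup.centralizer (P : Set G)))} {F : FusionSystem P}
    (hmax : IsMaximalBrauerPair p M B P e)
    (hF : IsBlockFusionSystemOn p M B P e F) {Q : Subgroup G}
    {f : Set (IrrCharacter (Subgroup.centralizer (Q : Set G)))} (hf : IsPBlock M f)
    (hle : SubpairLE p M Q f P e) :
    F.IsFullyCentralized Q ↔ IsDefectGroup p M f
      ((P ⊓ Subgroup.centralizer (Q : Set G)).subgroupOf (Subgroup.centralizer (Q : Set G))) := by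
  classical
  have hPe : IsBrauerPair p M P e := hmax.1.1
  have hQP : Q ≤ P := fst_le_of_reflTransGen (a := ⟨Q, f⟩) (b := ⟨P, e⟩) hle
  constructor
  · rintro ⟨_, hall⟩
    refine isDefectGroup_centralizer_of_localMax hM hPe hf hle ?_
    refine localMax_of_fully hM hmax hle _ map_conj_centralizer_le fun x hx => ?_
    exact hall _ ((isConj_iff hM hF hle _).2 ⟨x, rfl, hx⟩)
  · intro hD
    refine ⟨hQP, fun Q' hconj => ?_⟩
    obtain ⟨x, rfl, hx⟩ := (isConj_iff hM hF hle _).1 hconj
    obtain ⟨D', hD', hle_D'⟩ := exists_defectGroup_ge_centralizer hM hPe hx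
    have h1 := card_of_isDefectGroup hM (isPBlock_conjBlock x Q hf) hD'
    have h2 := card_of_isDefectGroup hM hf hD
    rw [blockDefect_conjBlock] at h1
    rw [card_inf_subgroupOf] at h2
    have h3 := Subgroup.card_le_of_le hle_D'
    rw [card_inf_subgroupOf] at h3
    show Nat.card ↥(P ⊓ Subgroup.centralizer
      ((Q.map (MulAut.conj x).toMonoidHom : Subgroup G) : Set G)) ≤
      Nat.card ↥(P ⊓ Subgroup.centralizer (Q : Set G))
    rw [h2, ← h1]
    exact h3


theorem conjSub_inf_centralizer_le (Q : Subgroup G) (x : G) :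
    Q.map (MulAut.conj x).toMonoidHom ⊓
      Subgroup.centralizer ((Q.map (MulAut.conj x).toMonoidHom : Subgroup G) : Set G) ≤
      (Q ⊓ Subgroup.centralizer (Q : Set G)).map (MulAut.conj x).toMonoidHom := by
  intro y hy
  obtain ⟨hy1, hy2⟩ := Subgroup.mem_inf.1 hy
  rw [mem_conjSub_iff]
  exact Subgroup.mem_inf.2 ⟨mem_conjSub_iff.1 hy1, mem_centralizer_of_conj_mem hy2⟩

theorem map_conj_inf_centralizer_le (Q : Subgroup G) (x : G) :
    (Q ⊓ Subgroup.centralizer (Q : Set G)).map (MulAut.conj x).toMonoidHom ≤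
    Q.map (MulAut.conj x).toMonoidHom ⊓
      Subgroup.centralizer ((Q.map (MulAut.conj x).toMonoidHom : Subgroup G) : Set G) := by
  rintro _ ⟨u, hu, rfl⟩
  obtain ⟨hu1, hu2⟩ := Subgroup.mem_inf.1 hu
  refine Subgroup.mem_inf.2 ⟨⟨u, hu1, rfl⟩, ?_⟩
  have := conj_mem_centralizer_conjSub (x := x) hu2
  simpa [MulAut.conj_apply] using this

theorem card_conjSub_inf_centralizer (Q : Subgroup G) (x : G) :
    Nat.card ↥(Q.map (MulAut.conj x).toMonoidHom ⊓
      Subgroup.centralizer ((Q.map (MulAut.conj x).toMonoidHom : Subgroup G) : Set G)) =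
    Nat.card ↥(Q ⊓ Subgroup.centralizer (Q : Set G)) := by
  rw [le_antisymm (conjSub_inf_centralizer_le Q x) (map_conj_inf_centralizer_le Q x),
    Subgroup.card_map_of_injective (MulAut.conj x).injective]

/-- **S4680.** -/
theorem centric_iff (hM : IsPModular p M) {B : Set (IrrCharacter G)} {P : Subgroup G}
    {e : Set (IrrCharacter (Subgroup.centralizer (P : Set G)))} {F : FusionSystem P}
    (hmax : IsMaximalBrauerPair p M B P e)
    (hF : IsBlockFusionSystemOn p M B P e F) {Q : Subgroup G}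
    {f : Set (IrrCharacter (Subgroup.centralizer (Q : Set G)))} (hf : IsPBlock M f)
    (hle : SubpairLE p M Q f P e) :
    F.IsCentric Q ↔ IsDefectGroup p M f
      ((Q ⊓ Subgroup.centralizer (Q : Set G)).subgroupOf (Subgroup.centralizer (Q : Set G))) := by
  classical
  have hPe : IsBrauerPair p M P e := hmax.1.1
  have hQP : Q ≤ P := fst_le_of_reflTransGen (a := ⟨Q, f⟩) (b := ⟨P, e⟩) hle
  have hZle : (Q ⊓ Subgroup.centralizer (Q : Set G)).subgroupOf (Subgroup.centralizer (Q : Set G))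
      ≤ (P ⊓ Subgroup.centralizer (Q : Set G)).subgroupOf (Subgroup.centralizer (Q : Set G)) :=
    fun c hc => Subgroup.mem_subgroupOf.2 (inf_le_inf_right _ hQP (Subgroup.mem_subgroupOf.1 hc))
  constructor
  · rintro ⟨_, hall⟩
    obtain ⟨x, hx, hDx⟩ := exists_conj_defect hM hmax hf hle
    have hxQP : Q.map (MulAut.conj x).toMonoidHom ≤ P :=
      fst_le_of_reflTransGen (a := ⟨_, conjBlock Q x f⟩) (b := ⟨P, e⟩) hx
    have h1 := card_of_isDefectGroup hM (isPBlock_conjBlock x Q hf) hDx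
    rw [blockDefect_conjBlock, card_inf_subgroupOf] at h1
    have h2 : P ⊓ Subgroup.centralizer ((Q.map (MulAut.conj x).toMonoidHom : Subgroup G) : Set G)
        ≤ Q.map (MulAut.conj x).toMonoidHom ⊓
          Subgroup.centralizer ((Q.map (MulAut.conj x).toMonoidHom : Subgroup G) : Set G) :=
      le_inf (hall _ ((isConj_iff hM hF hle _).2 ⟨x, rfl, hx⟩)) inf_le_right
    have h3 := Subgroup.card_le_of_le h2
    rw [card_conjSub_inf_centralizer, h1] at h3
    obtain ⟨D, hD, hPD⟩ := exists_defectGroup_ge_centralizer hM hPe hle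
    have h4 := card_of_isDefectGroup hM hf hD
    have h5 : (Q ⊓ Subgroup.centralizer (Q : Set G)).subgroupOf
        (Subgroup.centralizer (Q : Set G)) = D :=
      Subgroup.eq_of_le_of_card_ge (hZle.trans hPD) (by rw [card_inf_subgroupOf, h4]; exact h3)
    rw [h5]
    exact hD
  · intro hD
    refine ⟨hQP, fun Q' hconj => ?_⟩
    obtain ⟨x, rfl, hx⟩ := (isConj_iff hM hF hle _).1 hconj
    have hxQP : Q.map (MulAut.conj x).toMonoidHom ≤ P :=
      fst_le_of_reflTransGen (a := ⟨_, conjBlock Q x f⟩) (b := ⟨P, e⟩) hx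
    obtain ⟨D', hD', hle_D'⟩ := exists_defectGroup_ge_centralizer hM hPe hx
    have h1 := card_of_isDefectGroup hM (isPBlock_conjBlock x Q hf) hD'
    have h2 := card_of_isDefectGroup hM hf hD
    rw [blockDefect_conjBlock] at h1
    rw [card_inf_subgroupOf] at h2
    have h3 := Subgroup.card_le_of_le hle_D'
    rw [card_inf_subgroupOf, h1, ← h2, ← card_conjSub_inf_centralizer Q x] at h3
    have h4 : Q.map (MulAut.conj x).toMonoidHom ⊓
          Subgroup.centralizer ((Q.map (MulAut.conj x).toMonoidHom : Subgroup G) : Set G) ≤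
        P ⊓ Subgroup.centralizer ((Q.map (MulAut.conj x).toMonoidHom : Subgroup G) : Set G) :=
      inf_le_inf_right _ hxQP
    have h5 := Subgroup.eq_of_le_of_card_ge h4 h3
    show P ⊓ Subgroup.centralizer ((Q.map (MulAut.conj x).toMonoidHom : Subgroup G) : Set G) ≤
      Q.map (MulAut.conj x).toMonoidHom
    rw [← h5]
    exact inf_le_left


theorem stabilizesBlock_of_eq {a b : BrauerPairIdx G} (hab : a = b) (z : G)
    (h : StabilizesBlock (Subgroup.centralizer (a.1 : Set G)) a.2 z) :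
    StabilizesBlock (Subgroup.centralizer (b.1 : Set G)) b.2 z := by
  subst hab
  exact h

theorem stabilizesBlock_of_conj (hM : IsPModular p M) (x : G) (Q : Subgroup G)
    {f : Set (IrrCharacter (Subgroup.centralizer (Q : Set G)))} (hf : IsPBlock M f) {y : G}
    (h : StabilizesBlock (Subgroup.centralizer
      ((Q.map (MulAut.conj x).toMonoidHom : Subgroup G) : Set G)) (conjBlock Q x f)
      (x * y * x⁻¹)) :
    StabilizesBlock (Subgroup.centralizer (Q : Set G)) f y := by
  haveI hPr := isPrime_of_isPModular hM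
  have h' := stabilizesBlock_conj x⁻¹ _ _ h
  have e1 : x⁻¹ * (x * y * x⁻¹) * x⁻¹⁻¹ = y := by group
  rw [e1] at h'
  exact stabilizesBlock_of_eq (a := conjPair x⁻¹ (conjPair x ⟨Q, f⟩)) (b := ⟨Q, f⟩)
    (conjPair_inv_conjPair (M := M) x (a := (⟨Q, f⟩ : BrauerPairIdx G)) hf) y h'

/-- **S4679.** -/
theorem fullyNormalized_iff (hM : IsPModular p M) {B : Set (IrrCharacter G)} {P : Subgroup G}
    {e : Set (IrrCharacter (Subgroup.centralizer (P : Set G)))} {F : FusionSystem P}
    (hmax : IsMaximalBrauerPair p M B P e)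
    (hF : IsBlockFusionSystemOn p M B P e F) {Q : Subgroup G}
    {f : Set (IrrCharacter (Subgroup.centralizer (Q : Set G)))} (hf : IsPBlock M f)
    (hle : SubpairLE p M Q f P e)
    (T : Subgroup G) (hT : ∀ y : G, y ∈ T ↔ y ∈ Subgroup.normalizer (Q : Set G) ∧
      StabilizesBlock (Subgroup.centralizer (Q : Set G)) f y) :
    F.IsFullyNormalized Q ↔ ∃ F' : Set (IrrCharacter T), IsPBlock M F' ∧
      (∀ t : T, blockCoeff F' t =
        subgroupBlockCoeff (Subgroup.centralizer (Q : Set G)) f (t : G)) ∧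
      IsDefectGroup p M F' ((P ⊓ Subgroup.normalizer (Q : Set G)).subgroupOf T) := by
  classical
  haveI hPr := isPrime_of_isPModular hM
  have hPe : IsBrauerPair p M P e := hmax.1.1
  have hQP : Q ≤ P := fst_le_of_reflTransGen (a := ⟨Q, f⟩) (b := ⟨P, e⟩) hle
  have hQ : IsPGroup p Q :=
    (isBrauerPair_of_reflTransGen (a := ⟨Q, f⟩) (b := ⟨P, e⟩) hle hPe).1
  haveI : Fintype T := Fintype.ofFinite _
  have hCN := Subgroup.centralizer_le_normalizer ((Q : Subgroup G) : Set G)
  have hQT : Q ≤ T := fun q hq =>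
    (hT q).2 ⟨Subgroup.le_normalizer hq,
      stabilizesBlock_of_mem_sup _ _ (Subgroup.mem_sup_left hq)⟩
  have hCT : Subgroup.centralizer ((Q : Subgroup G) : Set G) ≤ T :=
    fun c hc => (hT c).2 ⟨hCN hc, stabilizesBlock_of_mem_sup _ _ (Subgroup.mem_sup_right hc)⟩
  have hTN : T ≤ Subgroup.normalizer ((Q : Subgroup G) : Set G) :=
    fun y hy => ((hT y).1 hy).1
  have hst : ∀ t ∈ T, StabilizesBlock
      (Subgroup.centralizer ((Q : Subgroup G) : Set G)) f t := fun y hy => ((hT y).1 hy).2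
  obtain ⟨g₂, hnorm₂, _⟩ := exists_normalSubpair_normalizer hM hPe hle
  have hRT : P ⊓ Subgroup.normalizer ((Q : Subgroup G) : Set G) ≤ T :=
    fun r hr => (hT r).2 ⟨(Subgroup.mem_inf.1 hr).2, hnorm₂.2.2.2.2.1 r hr⟩
  constructor
  · rintro ⟨_, hall⟩
    obtain ⟨F', hF', hF'c⟩ := exists_block_of_stabilizer hM hQ hf T hQT hCT hTN hst
    refine ⟨F', hF', hF'c, ?_⟩
    refine isDefectGroup_normalizer_of_localMax hM hPe hf hle ?_ T hT F' hF' hF'c
    refine localMax_of_fully hM hmax hle _ (fun Q' y => Subgroup.le_normalizer_map _)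
      fun x hx => ?_
    exact hall _ ((isConj_iff hM hF hle _).2 ⟨x, rfl, hx⟩)
  · rintro ⟨F', hF', hF'c, hD⟩
    refine ⟨hQP, fun Q' hconj => ?_⟩
    obtain ⟨x, rfl, hx⟩ := (isConj_iff hM hF hle _).1 hconj
    -- the conjugate stabilizer
    set T' : Subgroup G := T.map (MulAut.conj x).toMonoidHom with hT'
    haveI : Fintype T' := Fintype.ofFinite _
    let ε : T ≃* T' := T.equivMapOfInjective (MulAut.conj x).toMonoidHom (MulAut.conj x).injective
    have hε : ∀ t' : T', ((ε.symm t' : T) : G) = x⁻¹ * (t' : G) * x := by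
      intro t'
      obtain ⟨t, rfl⟩ := ε.surjective t'
      rw [MulEquiv.symm_apply_apply]
      have : ((ε t : T') : G) = x * (t : G) * x⁻¹ :=
        (Subgroup.coe_equivMapOfInjective_apply T (MulAut.conj x).toMonoidHom
          (MulAut.conj x).injective t).trans (by simp [MulAut.conj_apply])
      rw [this]
      group
    have hF'' : IsPBlock M (irrEquiv ε.symm '' F') := isPBlock_irrEquiv_image ε.symm hF'
    have hF''c : ∀ t' : T', blockCoeff (irrEquiv ε.symm '' F') t' =
        subgroupBlockCoeff (Subgroup.centralizer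
          ((Q.map (MulAut.conj x).toMonoidHom : Subgroup G) : Set G)) (conjBlock Q x f)
          (t' : G) := by
      intro t'
      rw [blockCoeff_irrEquiv_image, hF'c, hε, ← subgroupBlockCoeff_conjBlock x Q f]
      congr 1
      group
    have hCT' : Subgroup.centralizer
        ((Q.map (MulAut.conj x).toMonoidHom : Subgroup G) : Set G) ≤ T' := by
      intro c hc
      rw [hT', mem_conjSub_iff]
      exact hCT (mem_centralizer_of_conj_mem hc)
    obtain ⟨D'', hD'', hle_D''⟩ := exists_defectGroup_ge_normalizer hM hPe hx T' hCT' _ hF'' hF''c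
    obtain ⟨g₃, hnorm₃, _⟩ := exists_normalSubpair_normalizer hM hPe hx
    have hRT' : P ⊓ Subgroup.normalizer
        ((Q.map (MulAut.conj x).toMonoidHom : Subgroup G) : Set G) ≤ T' := by
      intro r hr
      rw [hT', mem_conjSub_iff]
      refine (hT _).2 ⟨?_, ?_⟩
      · have h1 : r ∈ Subgroup.normalizer
            ((Q.map (MulAut.conj x).toMonoidHom : Subgroup G) : Set G) := (Subgroup.mem_inf.1 hr).2
        have h2 : x⁻¹ * r * x ∈ (Subgroup.normalizer
            ((Q.map (MulAut.conj x).toMonoidHom : Subgroup G) : Set G)).map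
            (MulAut.conj x⁻¹).toMonoidHom := ⟨r, h1, by simp [MulAut.conj_apply]⟩
        have h3 := Subgroup.le_normalizer_map (MulAut.conj x⁻¹).toMonoidHom h2
        have h4 : (Q.map (MulAut.conj x).toMonoidHom).map (MulAut.conj x⁻¹).toMonoidHom = Q := by
          rw [map_conj_map_conj, inv_mul_cancel]
          ext g
          rw [mem_conjSub_iff]
          simp
        rw [h4] at h3
        exact h3
      · refine stabilizesBlock_of_conj hM x Q hf ?_
        have e1 : x * (x⁻¹ * r * x) * x⁻¹ = r := by group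
        rw [e1]
        exact hnorm₃.2.2.2.2.1 r hr
    have h1 := card_of_isDefectGroup hM hF'' hD''
    rw [blockDefect_irrEquiv_image] at h1
    have h2 := card_of_isDefectGroup hM hF' hD
    rw [Nat.card_congr (Subgroup.subgroupOfEquivOfLe hRT).toEquiv] at h2
    have h3 := Subgroup.card_le_of_le hle_D''
    rw [Nat.card_congr (Subgroup.subgroupOfEquivOfLe hRT').toEquiv, h1, ← h2] at h3
    exact h3


end Cfsg.Agent.Lib.L0.BrauerFully
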