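import Mathlib
import Cfsg.Prelude.Def_BrauerPairs
import Cfsg.Agent.Lib.L0.BrauerFully
import Cfsg.Agent.Lib.H23.BlockFong

/-!
# Fully normalized Brauer pairs: the automizer and the centralizer (lead)

* `isDefectGroup_irrEquiv_image`: transport of defect groups along a group isomorphism;
* `fong_of_localMax`: if `(Q, f) ≤ (P, e)` is locally maximal for normalizers (fully normalized)
  and `T = N_G(Q, f)`, then `C_P(Q)` is a defect group of `f` and `p ∤ |T : N_P(Q) C_G(Q)|`;
* `eq_mul_of_pRegular_le`: if moreover the `p`-regular elements of `T` centralize `Q` then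
  `T = N_P(Q) C_G(Q)`.
-/

set_option autoImplicit false

namespace Cfsg.Agent.Lib.L0.BrauerAutomizer

open Cfsg MonoidAlgebra Cfsg.Agent.Lib.H23 Cfsg.Agent.Lib.H24 Cfsg.Agent.Lib.L0
  Cfsg.Agent.Lib.L0.BrauerPairHom Cfsg.Agent.Lib.L0.BrauerLam
  Cfsg.Agent.Lib.L0.BrauerNormal Cfsg.Agent.Lib.L0.BrauerSubpair Cfsg.Agent.Lib.L0.BrauerConj
  Cfsg.Agent.Lib.L0.BrauerDefect Cfsg.Agent.Lib.L0.BrauerSylow Cfsg.Agent.Lib.L0.BrauerCentric
  Cfsg.Agent.Lib.L0.BlockOrbitCover Cfsg.Agent.Lib.L0.BrauerNormalizer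
  Cfsg.Agent.Lib.L0.BrauerFully
open scoped ComplexConjugate

section Transport

variable {A B' : Type*} [Group A] [Group B'] (ε : A ≃* B') {p : ℕ} {M : Ideal AlgInt}

theorem isDefectClass_irrEquiv_image (f : Set (IrrCharacter B')) (a : A) :
    IsDefectClass M (irrEquiv ε '' f) a ↔ IsDefectClass M f (ε a) := by
  unfold IsDefectClass
  rw [blockCoeff_irrEquiv_image]
  refine and_congr Iff.rfl (and_congr Iff.rfl ?_)
  constructor
  · intro h χ hχ
    have := h (irrEquiv ε χ) ⟨χ, hχ, rfl⟩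
    rwa [centralChar_irrEquiv] at this
  · rintro h _ ⟨χ, hχ, rfl⟩
    rw [centralChar_irrEquiv]
    exact h χ hχ

theorem isDefectGroup_irrEquiv_image [Finite A] [Fact p.Prime] (f : Set (IrrCharacter B'))
    (D : Subgroup B') (hD : IsDefectGroup p M f D) :
    IsDefectGroup p M (irrEquiv ε '' f) (D.comap ε.toMonoidHom) := by
  classical
  haveI : Finite B' := Finite.of_equiv A ε.toEquiv
  obtain ⟨g, hg, P, rfl⟩ := hD
  refine ⟨ε.symm g, (isDefectClass_irrEquiv_image ε f _).2 (by rwa [MulEquiv.apply_symm_apply]), ?_⟩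
  set D := (P : Subgroup (Subgroup.centralizer ({g} : Set B'))).map
    (Subgroup.centralizer ({g} : Set B')).subtype with hDdef
  set D' := D.comap ε.toMonoidHom with hD'
  have hD'le : D' ≤ Subgroup.centralizer ({ε.symm g} : Set A) := by
    intro d hd
    rw [hD', Subgroup.mem_comap] at hd
    obtain ⟨q, _, hq⟩ := hd
    have h1 : (q : B') ∈ Subgroup.centralizer ({g} : Set B') := q.2
    rw [Subgroup.mem_centralizer_singleton_iff] at h1 ⊢
    apply ε.injective
    rw [map_mul, map_mul, MulEquiv.apply_symm_apply]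
    have h2 : ε d = (q : B') := hq.symm
    show ε.toMonoidHom d * g = g * ε.toMonoidHom d
    rw [show ε.toMonoidHom d = (q : B') from hq.symm]
    exact h1
  have hcardD : Nat.card D = p ^ (Nat.card (Subgroup.centralizer ({g} : Set B'))).factorization p := by
    rw [hDdef, Subgroup.card_map_of_injective (Subgroup.subtype_injective _),
      Sylow.card_eq_multiplicity]
  have hcardD' : Nat.card D' = Nat.card D := by
    rw [hD', Subgroup.comap_equiv_eq_map_symm',
      Subgroup.card_map_of_injective ε.symm.injective]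
  have hcardC : Nat.card (Subgroup.centralizer ({ε.symm g} : Set A)) =
      Nat.card (Subgroup.centralizer ({g} : Set B')) := by
    have h1 : Subgroup.centralizer ({g} : Set B') =
        (Subgroup.centralizer ({ε.symm g} : Set A)).map ε.toMonoidHom := by
      ext x
      simp only [Subgroup.mem_centralizer_iff, Set.mem_singleton_iff, forall_eq, Subgroup.mem_map,
        MulEquiv.coe_toMonoidHom]
      constructor
      · intro hx
        refine ⟨ε.symm x, ?_, by simp⟩
        rw [← map_mul, ← map_mul, hx]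
      · rintro ⟨y, hy, rfl⟩
        have := congrArg ε hy
        simpa using this
    rw [h1, Subgroup.card_map_of_injective ε.injective]
  have hcard : Nat.card (D'.subgroupOf (Subgroup.centralizer ({ε.symm g} : Set A))) =
      p ^ (Nat.card (Subgroup.centralizer ({ε.symm g} : Set A))).factorization p := by
    rw [Nat.card_congr (Subgroup.subgroupOfEquivOfLe hD'le).toEquiv, hcardD', hcardD, hcardC]
  refine ⟨Sylow.ofCard _ hcard, ?_⟩
  rw [Sylow.coe_ofCard, Subgroup.map_subgroupOf_eq_of_le hD'le]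

end Transport

variable {G : Type*} [Group G] [Fintype G] {p : ℕ} {M : Ideal AlgInt}

/-- **Fully normalized implies fully centralized and fully automized.** If `(Q, f) ≤ (P, e)` is
locally maximal for normalizers and `T = N_G(Q, f)`, then `C_P(Q)` is a defect group of `f` and
`p ∤ |T : N_P(Q) C_G(Q)|`. -/
theorem fong_of_localMax (hM : IsPModular p M) {P Q : Subgroup G}
    {e : Set (IrrCharacter (Subgroup.centralizer (P : Set G)))}
    {f : Set (IrrCharacter (Subgroup.centralizer (Q : Set G)))}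
    (hPe : IsBrauerPair p M P e) (hf : IsPBlock M f)
    (hle : SubpairLE p M Q f P e)
    (hloc : LocalMax p M P Q f (fun Q' => Subgroup.normalizer (Q' : Set G)))
    (T : Subgroup G) (hT : ∀ y : G, y ∈ T ↔ y ∈ Subgroup.normalizer (Q : Set G) ∧
      StabilizesBlock (Subgroup.centralizer (Q : Set G)) f y) :
    IsDefectGroup p M f
      ((P ⊓ Subgroup.centralizer (Q : Set G)).subgroupOf (Subgroup.centralizer (Q : Set G))) ∧
    ¬ p ∣ ((P ⊓ Subgroup.normalizer (Q : Set G)).subgroupOf T ⊔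
      (Subgroup.centralizer (Q : Set G)).subgroupOf T).index := by
  classical
  haveI hPr := isPrime_of_isPModular hM
  haveI : Fact p.Prime := ⟨prime_of_isPModular hM⟩
  have hQ : IsPGroup p Q :=
    (isBrauerPair_of_reflTransGen (a := ⟨Q, f⟩) (b := ⟨P, e⟩) hle hPe).1
  haveI : Fintype T := Fintype.ofFinite _
  have hCN := Subgroup.centralizer_le_normalizer ((Q : Subgroup G) : Set G)
  have hQT : Q ≤ T := fun q hq =>
    (hT q).2 ⟨Subgroup.le_normalizer hq,
      stabilizesBlock_of_mem_sup _ _ (Subgroup.mem_sup_left hq)⟩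
  have hCT : Subgroup.centralizer ((Q : Subgroup G) : Set G) ≤ T :=
    fun c hc => (hT c).2 ⟨hCN hc, stabilizesBlock_of_mem_sup _ _ (Subgroup.mem_sup_right hc)⟩
  have hTN : T ≤ Subgroup.normalizer ((Q : Subgroup G) : Set G) :=
    fun y hy => ((hT y).1 hy).1
  have hst : ∀ t ∈ T, StabilizesBlock
      (Subgroup.centralizer ((Q : Subgroup G) : Set G)) f t := fun y hy => ((hT y).1 hy).2
  haveI : Fintype ↥((Subgroup.centralizer (Q : Set G)).subgroupOf T) := Fintype.ofFinite _
  haveI hnC : ((Subgroup.centralizer (Q : Set G)).subgroupOf T).Normal :=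
    Subgroup.normal_subgroupOf_of_le_normalizer
      (hTN.trans (normalizer_le_normalizer_centralizer Q))
  haveI hnQ : (Q.subgroupOf T).Normal := Subgroup.normal_subgroupOf_of_le_normalizer hTN
  have hQ' : IsPGroup p (Q.subgroupOf T) := hQ.comap_subtype
  have hC' : Subgroup.centralizer ((Q.subgroupOf T : Subgroup T) : Set T) ≤
      (Subgroup.centralizer (Q : Set G)).subgroupOf T := by
    intro t ht
    rw [Subgroup.mem_subgroupOf, Subgroup.mem_centralizer_iff]
    intro q hq
    have h1 := Subgroup.mem_centralizer_iff.1 ht ⟨q, hQT hq⟩ (Subgroup.mem_subgroupOf.2 hq)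
    exact congrArg Subtype.val h1
  set ε := Subgroup.subgroupOfEquivOfLe hCT with hε
  obtain ⟨θ, hθ⟩ := hf
  have hinv : ∀ g : T, ∀ θ' ∈ blockOf M (irrEquiv ε θ :
      ↥((Subgroup.centralizer (Q : Set G)).subgroupOf T) → ℂ),
      conjIrr ((Subgroup.centralizer (Q : Set G)).subgroupOf T) θ' g ∈
        blockOf M (irrEquiv ε θ : ↥((Subgroup.centralizer (Q : Set G)).subgroupOf T) → ℂ) := by
    intro g θ' hθ'
    set θc := (irrEquiv ε).symm θ' with hθc
    have hθc' : irrEquiv ε θc = θ' := Equiv.apply_symm_apply _ _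
    have hθcf : θc ∈ blockOf M (θ : Subgroup.centralizer (Q : Set G) → ℂ) := by
      rw [← hθc'] at hθ'
      exact (irrEquiv_mem_blockOf_iff ε θ θc).1 hθ'
    obtain ⟨χ', hχ', hconj⟩ := (hst _ (T.inv_mem g.2)).2 θc (hθ ▸ hθcf)
    rw [hθ] at hχ'
    have h1 : conjIrr ((Subgroup.centralizer (Q : Set G)).subgroupOf T) θ' g = irrEquiv ε χ' := by
      apply Subtype.ext
      funext n
      rw [conjIrr_apply, irrEquiv_apply, ← hθc', irrEquiv_apply]
      symm
      apply hconj
      show ((ε n : Subgroup.centralizer (Q : Set G)) : G) = (g : G)⁻¹ * _ * (g : G)⁻¹⁻¹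
      have h2 : ((ε ⟨g * (n : T) * g⁻¹, hnC.conj_mem n n.2 g⟩ :
          Subgroup.centralizer (Q : Set G)) : G) = (g : G) * ((n : T) : G) * (g : G)⁻¹ := rfl
      rw [h2]
      have h3 : ((ε n : Subgroup.centralizer (Q : Set G)) : G) = ((n : T) : G) := rfl
      rw [h3]
      group
    rw [h1]
    exact (irrEquiv_mem_blockOf_iff ε θ χ').2 hχ'
  obtain ⟨χ₀, hχ₀⟩ := exists_irr_over_restrict
    ((Subgroup.centralizer (Q : Set G)).subgroupOf T) (irrEquiv ε θ)
  have hover := overSet_orbitSet_eq_blockOf ((Subgroup.centralizer (Q : Set G)).subgroupOf T) hM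
    (Q.subgroupOf T) hQ' hC' (irrEquiv ε θ) χ₀ hχ₀
  rw [orbitSet_eq_of_invariant _ _ hinv] at hover
  have hχ₀mem : χ₀ ∈ overSet ((Subgroup.centralizer (Q : Set G)).subgroupOf T)
      (blockOf M (irrEquiv ε θ : ↥((Subgroup.centralizer (Q : Set G)).subgroupOf T) → ℂ)) :=
    ⟨irrEquiv ε θ, mem_blockOf_self _, hχ₀⟩
  have hmax : ∀ χ' : IrrCharacter T,
      χ' ∈ overSet ((Subgroup.centralizer (Q : Set G)).subgroupOf T)
        (blockOf M (irrEquiv ε θ : ↥((Subgroup.centralizer (Q : Set G)).subgroupOf T) → ℂ)) →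
      blockDefect p (blockOf M (χ' : T → ℂ)) ≤ blockDefect p (blockOf M (χ₀ : T → ℂ)) := by
    intro χ' hχ'
    rw [hover] at hχ'
    rw [blockOf_eq_of_mem hχ']
  -- the coefficients of the covering block
  have hcoef : ∀ t : T, blockCoeff (blockOf M (χ₀ : T → ℂ)) t =
      subgroupBlockCoeff (Subgroup.centralizer (Q : Set G)) f (t : G) := by
    intro t
    have h1 := blockIdem_eq_orbitIdem ((Subgroup.centralizer (Q : Set G)).subgroupOf T) hM
      (Q.subgroupOf T) hQ' hC' (irrEquiv ε θ) χ₀ hχ₀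
    have h2 := congrArg (fun z : MonoidAlgebra ℂ T => z.coeff t) h1
    simp only [coeff_blockIdem] at h2
    rw [h2, orbitIdem, orbitSet_eq_of_invariant _ _ hinv]
    unfold subgroupBlockCoeff
    by_cases ht : (t : G) ∈ Subgroup.centralizer (Q : Set G)
    · rw [coeff_extAlg_of_mem _ _ (Subgroup.mem_subgroupOf.2 ht), coeff_blockIdem, dif_pos ht,
        ← irrEquiv_image_blockOf, blockCoeff_irrEquiv_image, hθ]
      rfl
    · rw [coeff_extAlg_of_not_mem _ _ (fun h => ht (Subgroup.mem_subgroupOf.1 h)), dif_neg ht]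
  have hD := isDefectGroup_normalizer_of_localMax hM hPe ⟨θ, hθ⟩ hle hloc T hT
    (blockOf M (χ₀ : T → ℂ)) ⟨χ₀, rfl⟩ hcoef
  obtain ⟨h1, h2, _⟩ := fong ((Subgroup.centralizer (Q : Set G)).subgroupOf T) hM (irrEquiv ε θ)
    hinv χ₀ hχ₀mem hmax _ hD
  refine ⟨?_, h1⟩
  have h3 := isDefectGroup_irrEquiv_image (p := p) (M := M) ε.symm _ _ h2
  rw [irrEquiv_image_blockOf] at h3
  have h4 : irrEquiv ε.symm (irrEquiv ε θ) = θ := by
    apply Subtype.ext
    funext c
    rw [irrEquiv_apply, irrEquiv_apply, MulEquiv.apply_symm_apply]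
  rw [h4, ← hθ] at h3
  convert h3 using 1
  ext c
  rw [Subgroup.mem_subgroupOf, Subgroup.mem_comap, Subgroup.mem_subgroupOf, Subgroup.mem_inf,
    Subgroup.mem_inf, Subgroup.mem_subgroupOf, Subgroup.mem_subgroupOf, Subgroup.mem_inf]
  have h5 : (((ε.symm c : ↥((Subgroup.centralizer (Q : Set G)).subgroupOf T)) : T) : G) = (c : G) :=
    rfl
  show _ ↔ ((((ε.symm c : ↥((Subgroup.centralizer (Q : Set G)).subgroupOf T)) : T) : G) ∈ P ∧ _) ∧ _
  rw [h5]
  constructor
  · rintro ⟨hcP, hcC⟩
    exact ⟨⟨hcP, hCN hcC⟩, hcC⟩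
  · rintro ⟨⟨hcP, _⟩, hcC⟩
    exact ⟨hcP, hcC⟩


/-- If every `p`-regular element of the finite group `L` lies in the normal subgroup `N`, then
`L ⧸ N` is a `p`-group. -/
theorem isPGroup_quotient_of_pRegular_mem {L : Type*} [Group L] [Finite L] (q : ℕ)
    [hq : Fact q.Prime] (N : Subgroup L) [N.Normal]
    (h : ∀ x : L, ¬ q ∣ orderOf x → x ∈ N) : IsPGroup q (L ⧸ N) := by
  intro g
  induction g using QuotientGroup.induction_on with
  | H x =>
    refine ⟨(orderOf x).factorization q, ?_⟩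
    rw [← QuotientGroup.mk_pow, QuotientGroup.eq_one_iff]
    apply h
    have hn : orderOf x ≠ 0 := (orderOf_pos x).ne'
    rw [orderOf_pow' x (pow_ne_zero _ hq.out.ne_zero),
      Nat.gcd_eq_right (Nat.ordProj_dvd (orderOf x) q)]
    exact Nat.not_dvd_ordCompl hq.out hn

/-- In the situation of `fong_of_localMax`, if the `p`-regular elements of `T` centralize `Q`, then
`T = N_P(Q) C_G(Q)`. -/
theorem eq_mul_of_pRegular (hM : IsPModular p M) {P Q : Subgroup G}
    {e : Set (IrrCharacter (Subgroup.centralizer (P : Set G)))}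
    {f : Set (IrrCharacter (Subgroup.centralizer (Q : Set G)))}
    (hPe : IsBrauerPair p M P e) (hf : IsPBlock M f)
    (hle : SubpairLE p M Q f P e)
    (hloc : LocalMax p M P Q f (fun Q' => Subgroup.normalizer (Q' : Set G)))
    (T : Subgroup G) (hT : ∀ y : G, y ∈ T ↔ y ∈ Subgroup.normalizer (Q : Set G) ∧
      StabilizesBlock (Subgroup.centralizer (Q : Set G)) f y)
    (hreg : ∀ x ∈ T, IsPRegular p x → x ∈ Subgroup.centralizer (Q : Set G)) :
    ∀ t ∈ T, ∃ u ∈ P ⊓ Subgroup.normalizer (Q : Set G),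
      ∃ c ∈ Subgroup.centralizer (Q : Set G), t = u * c := by
  classical
  haveI : Fact p.Prime := ⟨prime_of_isPModular hM⟩
  have hp : p.Prime := Fact.out
  obtain ⟨_, hidx⟩ := fong_of_localMax hM hPe hf hle hloc T hT
  have hTN : T ≤ Subgroup.normalizer ((Q : Subgroup G) : Set G) :=
    fun y hy => ((hT y).1 hy).1
  haveI hnC : ((Subgroup.centralizer (Q : Set G)).subgroupOf T).Normal :=
    Subgroup.normal_subgroupOf_of_le_normalizer
      (hTN.trans (normalizer_le_normalizer_centralizer Q))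
  have hpg : IsPGroup p (T ⧸ (Subgroup.centralizer (Q : Set G)).subgroupOf T) := by
    refine isPGroup_quotient_of_pRegular_mem p _ fun x hx => ?_
    rw [Subgroup.mem_subgroupOf]
    refine hreg _ x.2 ?_
    unfold IsPRegular
    rwa [Subgroup.orderOf_coe]
  obtain ⟨k, hk⟩ := IsPGroup.exists_card_eq hpg
  have hk' : ((Subgroup.centralizer (Q : Set G)).subgroupOf T).index = p ^ k := by
    rw [Subgroup.index_eq_card]; exact hk
  have hdvd : ((P ⊓ Subgroup.normalizer (Q : Set G)).subgroupOf T ⊔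
      (Subgroup.centralizer (Q : Set G)).subgroupOf T).index ∣ p ^ k := by
    rw [← hk']
    exact Subgroup.index_dvd_of_le le_sup_right
  obtain ⟨j, _, hj⟩ := (Nat.dvd_prime_pow hp).1 hdvd
  have hj0 : j = 0 := by
    by_contra h0
    apply hidx
    rw [hj]
    exact dvd_pow_self p h0
  rw [hj0, pow_zero, Subgroup.index_eq_one] at hj
  intro t ht
  have h1 : (⟨t, ht⟩ : T) ∈ ((P ⊓ Subgroup.normalizer (Q : Set G)).subgroupOf T ⊔
      (Subgroup.centralizer (Q : Set G)).subgroupOf T : Subgroup T) := by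
    rw [hj]; exact Subgroup.mem_top _
  rw [← SetLike.mem_coe, Subgroup.mul_normal] at h1
  obtain ⟨u, hu, c, hc, huc⟩ := Set.mem_mul.1 h1
  refine ⟨(u : G), Subgroup.mem_subgroupOf.1 hu, (c : G), Subgroup.mem_subgroupOf.1 hc, ?_⟩
  have := congrArg (Subtype.val : T → G) huc
  simpa using this.symm


end Cfsg.Agent.Lib.L0.BrauerAutomizer
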