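import Mathlib
import Cfsg.Prelude.Def_Blocks
import Cfsg.Agent.Lib.H23.BlockCovering
import Cfsg.Agent.Lib.H23.BlockSecondMain
import Cfsg.Agent.Lib.H23.BlockMinMax

/-!
# A graded nilpotency argument for the `N`-invariants of the group algebra (lead)

`N` normal in `G`, `R` the local ring at `M`.  `𝒜 = C_{RG}(N)` is graded by `G ⧸ N`.
`InJ x` : `x ∈ 𝒜` and `ω_θ(res_N(x y)) ∈ 𝔪` for all `y ∈ 𝒜` and all `θ ∈ Irr(N)`.
Main result: `eq_zero_of_idem_inJ` — an idempotent `ε` with `InJ ε` is zero.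
-/

set_option autoImplicit false

namespace Cfsg.Agent.Lib.L0.GradedNil

open Cfsg MonoidAlgebra Cfsg.Agent.Lib.H23

section Basic

variable {G : Type*} [Group G] [Fintype G]

theorem ext_coeff {z w : MonoidAlgebra ℂ G} (h : ∀ g, z.coeff g = w.coeff g) : z = w := by
  apply MonoidAlgebra.ext
  ext g
  exact h g

theorem coeff_sum' {ι : Type*} (s : Finset ι) (f : ι → MonoidAlgebra ℂ G) (g : G) :
    (∑ i ∈ s, f i).coeff g = ∑ i ∈ s, (f i).coeff g := by
  classical
  induction s using Finset.induction_on with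
  | empty => simp
  | insert a s ha ih =>
    rw [Finset.sum_insert ha, Finset.sum_insert ha, MonoidAlgebra.coeff_add, Finsupp.coe_add,
      Pi.add_apply, ih]

theorem coeff_add' (z w : MonoidAlgebra ℂ G) (g : G) :
    (z + w).coeff g = z.coeff g + w.coeff g := by
  rw [MonoidAlgebra.coeff_add, Finsupp.coe_add, Pi.add_apply]

theorem coeff_neg' (z : MonoidAlgebra ℂ G) (g : G) :
    (-z).coeff g = - z.coeff g := by
  rw [MonoidAlgebra.coeff_neg, Finsupp.coe_neg, Pi.neg_apply]

theorem coeff_smul' (c : ℂ) (z : MonoidAlgebra ℂ G) (g : G) :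
    (c • z).coeff g = c * z.coeff g := by
  rw [MonoidAlgebra.coeff_smul, Finsupp.coe_smul, Pi.smul_apply, smul_eq_mul]

theorem coeff_single' [DecidableEq G] (a g : G) (c : ℂ) :
    (MonoidAlgebra.single a c).coeff g = if a = g then c else 0 := by
  rw [MonoidAlgebra.coeff_single, Finsupp.single_apply]

theorem coeff_single_mul (a : G) (c : ℂ) (z : MonoidAlgebra ℂ G) (g : G) :
    (MonoidAlgebra.single a c * z).coeff g = c * z.coeff (a⁻¹ * g) := by
  classical
  rw [coeff_mul_eq_sum, Finset.sum_eq_single a]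
  · rw [coeff_single', if_pos rfl]
  · intro b _ hb
    rw [coeff_single', if_neg (Ne.symm hb), zero_mul]
  · intro h
    exact absurd (Finset.mem_univ a) h

theorem coeff_mul_single (a : G) (c : ℂ) (z : MonoidAlgebra ℂ G) (g : G) :
    (z * MonoidAlgebra.single a c).coeff g = z.coeff (g * a⁻¹) * c := by
  classical
  rw [coeff_mul_eq_sum', Finset.sum_eq_single a]
  · rw [coeff_single', if_pos rfl]
  · intro b _ hb
    rw [coeff_single', if_neg (Ne.symm hb), mul_zero]
  · intro h
    exact absurd (Finset.mem_univ a) h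

end Basic

section Graded

variable {G : Type*} [Group G] [Fintype G] (N : Subgroup G)

/-- Invariance under conjugation by every element of `N`. -/
def NInv (y : MonoidAlgebra ℂ G) : Prop := ∀ n ∈ N, InvUnder n y

theorem NInv.mul {y z : MonoidAlgebra ℂ G} (hy : NInv N y) (hz : NInv N z) : NInv N (y * z) :=
  fun n hn => (hy n hn).mul (hz n hn)

theorem NInv.one : NInv N (1 : MonoidAlgebra ℂ G) := fun n _ => InvUnder.one n

theorem NInv.zero : NInv N (0 : MonoidAlgebra ℂ G) := fun _ _ _ => rfl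

theorem NInv.add {y z : MonoidAlgebra ℂ G} (hy : NInv N y) (hz : NInv N z) : NInv N (y + z) := by
  intro n hn k
  rw [coeff_add', coeff_add', hy n hn k, hz n hn k]

theorem NInv.neg {y : MonoidAlgebra ℂ G} (hy : NInv N y) : NInv N (-y) := by
  intro n hn k
  rw [coeff_neg', coeff_neg', hy n hn k]

theorem NInv.smul (c : ℂ) {y : MonoidAlgebra ℂ G} (hy : NInv N y) : NInv N (c • y) := by
  intro n hn k
  rw [coeff_smul', coeff_smul', hy n hn k]

theorem NInv.sum {ι : Type*} (s : Finset ι) (f : ι → MonoidAlgebra ℂ G)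
    (hf : ∀ i ∈ s, NInv N (f i)) : NInv N (∑ i ∈ s, f i) := by
  intro n hn k
  rw [coeff_sum', coeff_sum']
  exact Finset.sum_congr rfl (fun i hi => hf i hi n hn k)

theorem NInv.pow {y : MonoidAlgebra ℂ G} (hy : NInv N y) (j : ℕ) : NInv N (y ^ j) := by
  induction j with
  | zero => rw [pow_zero]; exact NInv.one N
  | succ j ih => rw [pow_succ]; exact ih.mul N hy

theorem nInv_of_mem_center {z : MonoidAlgebra ℂ G}
    (hz : z ∈ Subalgebra.center ℂ (MonoidAlgebra ℂ G)) : NInv N z :=
  fun n _ => invUnder_of_mem_center hz n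

variable [hN : N.Normal]

/-- Homogeneity of degree `d ∈ G ⧸ N`: support in the coset `d`. -/
def Homog (d : G ⧸ N) (x : MonoidAlgebra ℂ G) : Prop :=
  ∀ g, x.coeff g ≠ 0 → (QuotientGroup.mk g : G ⧸ N) = d

theorem Homog.mul {d d' : G ⧸ N} {x y : MonoidAlgebra ℂ G} (hx : Homog N d x)
    (hy : Homog N d' y) : Homog N (d * d') (x * y) := by
  intro g hg
  rw [coeff_mul_eq_sum] at hg
  obtain ⟨h, _, hh⟩ := Finset.exists_ne_zero_of_sum_ne_zero hg
  have h1 := hx h (left_ne_zero_of_mul hh)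
  have h2 := hy _ (right_ne_zero_of_mul hh)
  rw [← h1, ← h2, ← QuotientGroup.mk_mul, mul_inv_cancel_left]

theorem homog_one : Homog N 1 (1 : MonoidAlgebra ℂ G) := by
  classical
  intro g hg
  rw [MonoidAlgebra.one_def, coeff_single'] at hg
  by_cases h : (1 : G) = g
  · rw [← h]; rfl
  · rw [if_neg h] at hg
    exact absurd rfl hg

theorem homog_one_iff {x : MonoidAlgebra ℂ G} :
    Homog N 1 x ↔ ∀ g, g ∉ N → x.coeff g = 0 := by
  constructor
  · intro h g hg
    by_contra h0
    exact hg ((QuotientGroup.eq_one_iff g).1 (h g h0))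
  · intro h g hg
    rw [QuotientGroup.eq_one_iff]
    by_contra h0
    exact hg (h g h0)

open scoped Classical in
/-- The homogeneous component of degree `d`. -/
noncomputable def comp (d : G ⧸ N) (x : MonoidAlgebra ℂ G) : MonoidAlgebra ℂ G :=
  ofFun (fun g => if (QuotientGroup.mk g : G ⧸ N) = d then x.coeff g else 0)

open scoped Classical in
theorem coeff_comp (d : G ⧸ N) (x : MonoidAlgebra ℂ G) (g : G) :
    (comp N d x).coeff g = if (QuotientGroup.mk g : G ⧸ N) = d then x.coeff g else 0 := rfl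

theorem homog_comp (d : G ⧸ N) (x : MonoidAlgebra ℂ G) : Homog N d (comp N d x) := by
  classical
  intro g hg
  rw [coeff_comp] at hg
  by_contra h
  rw [if_neg h] at hg
  exact hg rfl

theorem sum_comp [Fintype (G ⧸ N)] (x : MonoidAlgebra ℂ G) : ∑ d : G ⧸ N, comp N d x = x := by
  classical
  apply ext_coeff
  intro g
  rw [coeff_sum']
  simp only [coeff_comp]
  rw [Finset.sum_ite_eq]
  simp

theorem comp_mem_intCoeff {M : Ideal AlgInt} [hP : M.IsPrime] (d : G ⧸ N)
    {x : MonoidAlgebra ℂ G} (hx : x ∈ intCoeff (G := G) M) :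
    comp N d x ∈ intCoeff (G := G) M := by
  classical
  intro g
  rw [coeff_comp]
  split_ifs
  · exact hx g
  · exact memLocalRing_zero hP.ne_top

theorem mk_conj_of_mem {n : G} (hn : n ∈ N) (g : G) :
    (QuotientGroup.mk (n * g * n⁻¹) : G ⧸ N) = QuotientGroup.mk g := by
  rw [QuotientGroup.mk_mul, QuotientGroup.mk_mul, QuotientGroup.mk_inv,
    (QuotientGroup.eq_one_iff n).2 hn]
  simp

theorem nInv_comp (d : G ⧸ N) {x : MonoidAlgebra ℂ G} (hx : NInv N x) :
    NInv N (comp N d x) := by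
  classical
  intro n hn k
  rw [coeff_comp, coeff_comp, mk_conj_of_mem N hn, hx n hn k]

variable [Fintype N]

/-- The key graded identity. -/
theorem resAlg_comp_mul (d : G ⧸ N) (x y : MonoidAlgebra ℂ G) :
    resAlg N (comp N d x * y) = resAlg N (x * comp N d⁻¹ y) := by
  classical
  apply ext_coeff
  intro n
  rw [coeff_resAlg, coeff_resAlg, coeff_mul_eq_sum, coeff_mul_eq_sum]
  refine Finset.sum_congr rfl (fun h _ => ?_)
  rw [coeff_comp, coeff_comp]
  have h1 : (QuotientGroup.mk (h⁻¹ * (n : G)) : G ⧸ N) = (QuotientGroup.mk h)⁻¹ := by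
    rw [QuotientGroup.mk_mul, QuotientGroup.mk_inv, (QuotientGroup.eq_one_iff (n : G)).2 n.2,
      mul_one]
  rw [h1]
  by_cases hd : (QuotientGroup.mk h : G ⧸ N) = d
  · rw [if_pos hd, if_pos (by rw [hd])]
  · rw [if_neg hd, if_neg (by intro h2; exact hd (inv_injective h2)), zero_mul, mul_zero]

end Graded

section Conj

variable {G : Type*} [Group G] [Fintype G]

/-- Conjugation `z ↦ g z g⁻¹` on the group algebra. -/
noncomputable def cjAlg (g : G) (z : MonoidAlgebra ℂ G) : MonoidAlgebra ℂ G :=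
  ofFun (fun x => z.coeff (g⁻¹ * x * g))

theorem coeff_cjAlg (g : G) (z : MonoidAlgebra ℂ G) (x : G) :
    (cjAlg g z).coeff x = z.coeff (g⁻¹ * x * g) := rfl

theorem single_mul_eq (g : G) (c : ℂ) (z : MonoidAlgebra ℂ G) :
    MonoidAlgebra.single g c * z = cjAlg g z * MonoidAlgebra.single g c := by
  apply ext_coeff
  intro x
  rw [coeff_single_mul, coeff_mul_single, coeff_cjAlg, mul_comm]
  congr 2
  group

theorem cjAlg_one (z : MonoidAlgebra ℂ G) : cjAlg 1 z = z := by
  apply ext_coeff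
  intro x
  rw [coeff_cjAlg]
  congr 1
  group

theorem cjAlg_cjAlg (g h : G) (z : MonoidAlgebra ℂ G) : cjAlg g (cjAlg h z) = cjAlg (g * h) z := by
  apply ext_coeff
  intro x
  rw [coeff_cjAlg, coeff_cjAlg, coeff_cjAlg]
  congr 1
  group

theorem single_mem_intCoeff {M : Ideal AlgInt} [hP : M.IsPrime] (g : G) {c : ℂ}
    (hc : MemLocalRing M c) : MonoidAlgebra.single g c ∈ intCoeff (G := G) M := by
  classical
  intro x
  rw [coeff_single']
  split_ifs
  · exact hc
  · exact memLocalRing_zero hP.ne_top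

theorem cjAlg_mem_intCoeff {M : Ideal AlgInt} [hP : M.IsPrime] (g : G)
    {z : MonoidAlgebra ℂ G} (hz : z ∈ intCoeff (G := G) M) :
    cjAlg g z ∈ intCoeff (G := G) M := fun x => hz _

end Conj

section Radical

variable {G : Type*} [Group G] [Fintype G] (N : Subgroup G) [hN : N.Normal] [Fintype N]
  (M : Ideal AlgInt) [hP : M.IsPrime]

/-- Membership in the invariant algebra `𝒜 = C_{RG}(N)`. -/
def InA (y : MonoidAlgebra ℂ G) : Prop := y ∈ intCoeff (G := G) M ∧ NInv N y

theorem InA.mul {y z : MonoidAlgebra ℂ G} (hy : InA N M y) (hz : InA N M z) : InA N M (y * z) :=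
  ⟨Subring.mul_mem _ hy.1 hz.1, hy.2.mul N hz.2⟩

theorem InA.one : InA N M (1 : MonoidAlgebra ℂ G) := ⟨Subring.one_mem _, NInv.one N⟩

theorem InA.comp (d : G ⧸ N) {y : MonoidAlgebra ℂ G} (hy : InA N M y) : InA N M (comp N d y) :=
  ⟨comp_mem_intCoeff N d hy.1, nInv_comp N d hy.2⟩

/-- The "radical" of the invariant algebra with respect to the trace-like forms
`(x, y) ↦ ω_θ(res_N (x y))`. -/
def InJ (x : MonoidAlgebra ℂ G) : Prop :=
  InA N M x ∧ ∀ y, InA N M y → ∀ θ : IrrCharacter N,
    MemLocalIdeal M (omega (θ : N → ℂ) (resAlg N (x * y)))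

theorem InJ.comp (d : G ⧸ N) {x : MonoidAlgebra ℂ G} (hx : InJ N M x) : InJ N M (comp N d x) := by
  refine ⟨hx.1.comp N M d, fun y hy θ => ?_⟩
  rw [resAlg_comp_mul]
  exact hx.2 _ (hy.comp N M d⁻¹) θ

theorem InJ.mul_right {x y : MonoidAlgebra ℂ G} (hx : InJ N M x) (hy : InA N M y) :
    InJ N M (x * y) := by
  refine ⟨hx.1.mul N M hy, fun y' hy' θ => ?_⟩
  rw [mul_assoc]
  exact hx.2 _ (hy.mul N M hy') θ

/-- Elements of `Z(RN)` (viewed in `ℂG`) all of whose central character values lie in the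
local ideal. -/
def Rad (z : MonoidAlgebra ℂ G) : Prop :=
  InA N M z ∧ Homog N 1 z ∧ ∀ θ : IrrCharacter N,
    MemLocalIdeal M (omega (θ : N → ℂ) (resAlg N z))

theorem InJ.rad {x : MonoidAlgebra ℂ G} (hx : InJ N M x) (h1 : Homog N 1 x) : Rad N M x := by
  refine ⟨hx.1, h1, fun θ => ?_⟩
  have := hx.2 1 (InA.one N M) θ
  rwa [mul_one] at this

omit [Fintype N] hP in
theorem nInv_cjAlg (g : G) {z : MonoidAlgebra ℂ G} (hz : NInv N z) : NInv N (cjAlg g z) := by
  intro n hn k
  rw [coeff_cjAlg, coeff_cjAlg]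
  have h1 : g⁻¹ * n * g ∈ N := by
    have := hN.conj_mem n hn g⁻¹
    simpa using this
  have h2 := hz _ h1 (g⁻¹ * k * g)
  rw [← h2]
  congr 1
  group

omit [Fintype N] hP in
theorem homog_one_cjAlg (g : G) {z : MonoidAlgebra ℂ G} (hz : Homog N 1 z) :
    Homog N 1 (cjAlg g z) := by
  rw [homog_one_iff] at hz ⊢
  intro x hx
  rw [coeff_cjAlg]
  apply hz
  intro h
  apply hx
  have := hN.conj_mem _ h g
  convert this using 1
  group

theorem omega_resAlg_cjAlg (g : G) (z : MonoidAlgebra ℂ G) (θ : IrrCharacter N) :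
    omega (θ : N → ℂ) (resAlg N (cjAlg g z)) =
      omega (conjIrr N θ g : N → ℂ) (resAlg N z) := by
  unfold omega charEval
  rw [conjIrr_apply_one]
  congr 1
  refine (Fintype.sum_equiv (MulAut.conjNormal g : N ≃* N).toEquiv _ _ (fun m => ?_)).symm
  rw [coeff_resAlg, coeff_resAlg, coeff_cjAlg, conjIrr_apply]
  have h1 : (((MulAut.conjNormal g : N ≃* N).toEquiv m : N) : G) = g * m * g⁻¹ := by
    simp [MulAut.conjNormal_apply]
  have h2 : g⁻¹ * (g * (m : G) * g⁻¹) * g = m := by group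
  congr 1
  congr 1
  rw [h1, h2]

theorem Rad.cj (g : G) {z : MonoidAlgebra ℂ G} (hz : Rad N M z) : Rad N M (cjAlg g z) := by
  refine ⟨⟨cjAlg_mem_intCoeff g hz.1.1, nInv_cjAlg N g hz.1.2⟩, homog_one_cjAlg N g hz.2.1,
    fun θ => ?_⟩
  rw [omega_resAlg_cjAlg]
  exact hz.2.2 _

/-- The two-sided ideal of `RG` generated by `Rad`. -/
noncomputable def radIdeal : AddSubgroup (MonoidAlgebra ℂ G) :=
  AddSubgroup.closure {u | ∃ z a, Rad N M z ∧ a ∈ intCoeff (G := G) M ∧ u = z * a}

theorem radIdeal_mul_right {u a : MonoidAlgebra ℂ G} (hu : u ∈ radIdeal N M)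
    (ha : a ∈ intCoeff (G := G) M) : u * a ∈ radIdeal N M := by
  unfold radIdeal at hu ⊢
  induction hu using AddSubgroup.closure_induction with
  | mem x hx =>
    obtain ⟨z, a₀, hz, ha₀, rfl⟩ := hx
    apply AddSubgroup.subset_closure
    exact ⟨z, a₀ * a, hz, Subring.mul_mem _ ha₀ ha, mul_assoc _ _ _⟩
  | zero => rw [zero_mul]; exact AddSubgroup.zero_mem _
  | add x y _ _ hx hy => rw [add_mul]; exact AddSubgroup.add_mem _ hx hy
  | neg x _ hx => rw [neg_mul]; exact AddSubgroup.neg_mem _ hx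

theorem radIdeal_single_mul {u : MonoidAlgebra ℂ G} (hu : u ∈ radIdeal N M) (g : G) {c : ℂ}
    (hc : MemLocalRing M c) : MonoidAlgebra.single g c * u ∈ radIdeal N M := by
  unfold radIdeal at hu ⊢
  induction hu using AddSubgroup.closure_induction with
  | mem x hx =>
    obtain ⟨z, a₀, hz, ha₀, rfl⟩ := hx
    apply AddSubgroup.subset_closure
    refine ⟨cjAlg g z, MonoidAlgebra.single g c * a₀, hz.cj N M g,
      Subring.mul_mem _ (single_mem_intCoeff g hc) ha₀, ?_⟩
    rw [← mul_assoc, single_mul_eq, mul_assoc]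
  | zero => rw [mul_zero]; exact AddSubgroup.zero_mem _
  | add x y _ _ hx hy => rw [mul_add]; exact AddSubgroup.add_mem _ hx hy
  | neg x _ hx => rw [mul_neg]; exact AddSubgroup.neg_mem _ hx

theorem radIdeal_mul_left {u a : MonoidAlgebra ℂ G} (ha : a ∈ intCoeff (G := G) M)
    (hu : u ∈ radIdeal N M) : a * u ∈ radIdeal N M := by
  rw [eq_sum_single a, Finset.sum_mul]
  exact AddSubgroup.sum_mem _ (fun g _ => radIdeal_single_mul N M hu g (ha g))

theorem rad_mem_radIdeal {z : MonoidAlgebra ℂ G} (hz : Rad N M z) : z ∈ radIdeal N M := by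
  apply AddSubgroup.subset_closure
  exact ⟨z, 1, hz, Subring.one_mem _, (mul_one z).symm⟩

end Radical

section StageOne

variable {G : Type*} [Group G] [Fintype G] (N : Subgroup G) [hN : N.Normal] [Fintype N]
  (M : Ideal AlgInt) [hP : M.IsPrime]

/-- Products of `j` homogeneous elements of `J`. -/
inductive IsJProd : ℕ → MonoidAlgebra ℂ G → Prop
  | one : IsJProd 0 1
  | mul_right {j : ℕ} {w x : MonoidAlgebra ℂ G} {d : G ⧸ N} :
      IsJProd j w → InJ N M x → Homog N d x → IsJProd (j + 1) (w * x)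

theorem IsJProd.inA {j : ℕ} {w : MonoidAlgebra ℂ G} (h : IsJProd N M j w) : InA N M w := by
  induction h with
  | one => exact InA.one N M
  | mul_right _ hx _ ih => exact ih.mul N M hx.1

/-- The set of degrees `t` such that `w 𝒜_t ⊆ radIdeal`. -/
def Kset (w : MonoidAlgebra ℂ G) : Set (G ⧸ N) :=
  {t | ∀ y, InA N M y → Homog N t y → w * y ∈ radIdeal N M}

theorem mem_radIdeal_of_one_mem_Kset {w : MonoidAlgebra ℂ G} (h : (1 : G ⧸ N) ∈ Kset N M w) :
    w ∈ radIdeal N M := by
  have := h 1 (InA.one N M) (homog_one N)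
  rwa [mul_one] at this

theorem isJProd_Kset {j : ℕ} {w : MonoidAlgebra ℂ G} (h : IsJProd N M j w) :
    (1 : G ⧸ N) ∈ Kset N M w ∨ j ≤ (Kset N M w).ncard := by
  classical
  induction h with
  | one => exact Or.inr (Nat.zero_le _)
  | @mul_right j w x d hw hx hd ih =>
    rcases ih with h1 | hj
    · left
      intro y hy _
      rw [mul_assoc]
      exact radIdeal_mul_right N M (mem_radIdeal_of_one_mem_Kset N M h1)
        (Subring.mul_mem _ hx.1.1 hy.1)
    · by_cases h1 : (1 : G ⧸ N) ∈ Kset N M w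
      · left
        intro y hy _
        rw [mul_assoc]
        exact radIdeal_mul_right N M (mem_radIdeal_of_one_mem_Kset N M h1)
          (Subring.mul_mem _ hx.1.1 hy.1)
      · right
        have hsub : (fun t => d⁻¹ * t) '' (insert 1 (Kset N M w)) ⊆ Kset N M (w * x) := by
          rintro _ ⟨t, ht, rfl⟩
          intro y hy hyd0
          have hyd : Homog N (d⁻¹ * t) y := hyd0
          rw [mul_assoc]
          rcases ht with rfl | ht
          · -- `x * y ∈ J ∩ 𝒜_1 ⊆ Rad`
            have h2 : Homog N 1 (x * y) := by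
              have := hd.mul N hyd
              rwa [mul_one, mul_inv_cancel] at this
            have h3 : Rad N M (x * y) := (hx.mul_right N M hy).rad N M h2
            exact radIdeal_mul_left N M hw.inA.1 (rad_mem_radIdeal N M h3)
          · have h2 : Homog N t (x * y) := by
              have := hd.mul N hyd
              rwa [mul_inv_cancel_left] at this
            exact ht _ (hx.1.mul N M hy) h2
        have hfin : (Kset N M (w * x)).Finite := Set.toFinite _
        have h2 := Set.ncard_le_ncard hsub hfin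
        rw [Set.ncard_image_of_injective _ (mul_right_injective d⁻¹),
          Set.ncard_insert_of_notMem h1 (Set.toFinite _)] at h2
        omega

theorem isJProd_mem_radIdeal {w : MonoidAlgebra ℂ G} (h : IsJProd N M (Nat.card (G ⧸ N)) w) :
    w ∈ radIdeal N M := by
  apply mem_radIdeal_of_one_mem_Kset
  rcases isJProd_Kset N M h with h1 | h1
  · exact h1
  · have h2 : Kset N M w = Set.univ := by
      apply Set.eq_of_subset_of_ncard_le (Set.subset_univ _) _ (Set.toFinite _)
      rw [Set.ncard_univ]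
      exact h1
    rw [h2]
    exact Set.mem_univ _

theorem closure_isJProd_mul {x : MonoidAlgebra ℂ G} {d : G ⧸ N} (hx : InJ N M x)
    (hd : Homog N d x) {j : ℕ} {u : MonoidAlgebra ℂ G}
    (hu : u ∈ AddSubgroup.closure {w | IsJProd N M j w}) :
    u * x ∈ AddSubgroup.closure {w | IsJProd N M (j + 1) w} := by
  induction hu using AddSubgroup.closure_induction with
  | mem w hw => exact AddSubgroup.subset_closure (IsJProd.mul_right hw hx hd)
  | zero => rw [zero_mul]; exact AddSubgroup.zero_mem _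
  | add x y _ _ hx hy => rw [add_mul]; exact AddSubgroup.add_mem _ hx hy
  | neg x _ hx => rw [neg_mul]; exact AddSubgroup.neg_mem _ hx

/-- `ε ^ j` lies in the additive closure of the products of `j` homogeneous elements of `J`. -/
theorem pow_mem_closure_isJProd {ε : MonoidAlgebra ℂ G} (hε : InJ N M ε) (j : ℕ) :
    ε ^ j ∈ AddSubgroup.closure {w | IsJProd N M j w} := by
  classical
  letI : Fintype (G ⧸ N) := Fintype.ofFinite _
  induction j with
  | zero =>
    rw [pow_zero]
    exact AddSubgroup.subset_closure IsJProd.one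
  | succ j ih =>
    have h0 : ε ^ (j + 1) = ∑ d : G ⧸ N, ε ^ j * comp N d ε := by
      rw [← Finset.mul_sum, sum_comp, pow_succ]
    rw [h0]
    exact AddSubgroup.sum_mem _ (fun d _ =>
      closure_isJProd_mul N M (hε.comp N M d) (homog_comp N d ε) ih)

theorem mem_radIdeal_of_idem {ε : MonoidAlgebra ℂ G} (hε : InJ N M ε) (hidem : ε * ε = ε) :
    ε ∈ radIdeal N M := by
  have h1 : ∀ j : ℕ, ε ^ (j + 1) = ε := by
    intro j
    induction j with
    | zero => rw [zero_add, pow_one]
    | succ j ih => rw [pow_succ, ih, hidem]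
  have hpos : 0 < Nat.card (G ⧸ N) := Nat.card_pos
  have h2 := pow_mem_closure_isJProd N M hε (Nat.card (G ⧸ N))
  obtain ⟨k, hk⟩ : ∃ k, Nat.card (G ⧸ N) = k + 1 := ⟨Nat.card (G ⧸ N) - 1, by omega⟩
  have h3 : ε ^ Nat.card (G ⧸ N) = ε := by rw [hk, h1]
  rw [h3] at h2
  have h4 : AddSubgroup.closure {w | IsJProd N M (Nat.card (G ⧸ N)) w} ≤ radIdeal N M := by
    rw [AddSubgroup.closure_le]
    intro w hw
    exact isJProd_mem_radIdeal N M hw
  exact h4 h2

end StageOne

section ListLemmas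

theorem list_prod_eq_pow_mul {A : Type*} [Monoid A] [DecidableEq A] (s : A) (l : List A)
    (hl : ∀ x ∈ l, s * x = x * s) :
    l.prod = s ^ (l.count s) * (l.filter (fun x => decide (x ≠ s))).prod := by
  induction l with
  | nil => simp
  | cons a l ih =>
    have ih' := ih (fun x hx => hl x (List.mem_cons_of_mem _ hx))
    by_cases h : a = s
    · subst h
      rw [List.prod_cons, List.count_cons_self, pow_succ', mul_assoc,
        List.filter_cons_of_neg (by simp), ← ih']
    · rw [List.prod_cons, List.count_cons_of_ne h, List.filter_cons_of_pos (by simpa using h),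
        List.prod_cons, ih']
      have hc : s ^ (l.count s) * a = a * s ^ (l.count s) :=
        (Commute.pow_left (hl a List.mem_cons_self) _)
      rw [← mul_assoc, ← hc, mul_assoc]

theorem exists_count_gt {A : Type*} [DecidableEq A] (S : Finset A) (l : List A)
    (hl : ∀ x ∈ l, x ∈ S) (k : ℕ) (hlen : S.card * k < l.length) :
    ∃ z ∈ S, k < l.count z := by
  by_contra hcon
  push_neg at hcon
  have h1 : ∑ a ∈ S, (l : Multiset A).count a = Multiset.card (l : Multiset A) :=
    Multiset.sum_count_eq_card (fun a ha => hl a (Multiset.mem_coe.1 ha))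
  rw [Multiset.coe_card] at h1
  have h2 : ∑ a ∈ S, (l : Multiset A).count a ≤ ∑ _a ∈ S, k := by
    refine Finset.sum_le_sum (fun a ha => ?_)
    rw [Multiset.coe_count]
    exact hcon a ha
  rw [Finset.sum_const, smul_eq_mul] at h2
  omega

end ListLemmas

section StageTwo

variable {G : Type*} [Group G] [Fintype G] (N : Subgroup G) [hN : N.Normal] [Fintype N]
  {p : ℕ} (M : Ideal AlgInt) [hP : M.IsPrime]

omit hN hP in
theorem resAlg_mem_center_of_nInv {z : MonoidAlgebra ℂ G} (hz : NInv N z) :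
    resAlg N z ∈ Subalgebra.center ℂ (MonoidAlgebra ℂ N) := by
  apply mem_center_of_classFunction
  intro g h
  rw [coeff_resAlg, coeff_resAlg]
  have : ((h * g * h⁻¹ : N) : G) = (h : G) * g * (h : G)⁻¹ := by simp
  rw [this]
  exact hz h h.2 g

omit hP in
theorem incl_resAlg {z : MonoidAlgebra ℂ G} (hz : Homog N 1 z) : incl N (resAlg N z) = z := by
  rw [homog_one_iff] at hz
  apply ext_coeff
  intro g
  by_cases hg : g ∈ N
  · have := coeff_incl_mem N (resAlg N z) ⟨g, hg⟩
    simp only [coeff_resAlg] at this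
    exact this
  · rw [coeff_incl_not_mem N _ hg, hz g hg]

theorem Rad.commute {z z' : MonoidAlgebra ℂ G} (hz : Rad N M z) (hz' : Rad N M z') :
    z * z' = z' * z := by
  rw [← incl_resAlg N hz.2.1, ← incl_resAlg N hz'.2.1, ← map_mul, ← map_mul]
  congr 1
  exact (Subalgebra.mem_center_iff.1 (resAlg_mem_center_of_nInv N hz'.1.2)) _

theorem Rad.exists_pow (hM : IsPModular p M) {z : MonoidAlgebra ℂ G} (hz : Rad N M z) :
    ∃ K : ℕ, 0 < K ∧ ∃ t ∈ intCoeff (G := G) M, z ^ K = (p : ℂ) • t := by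
  have hp0 : (p : ℂ) ≠ 0 := Nat.cast_ne_zero.2 (prime_of_isPModular hM).ne_zero
  obtain ⟨K, hK, hdiv⟩ := exists_pow_coeff_div hM (resAlg_mem_center_of_nInv N hz.1.2) hz.2.2
  refine ⟨K, hK, (p : ℂ)⁻¹ • z ^ K, ?_, ?_⟩
  · intro g
    rw [coeff_smul']
    have h1 : z ^ K = incl N (resAlg N z ^ K) := by rw [map_pow, incl_resAlg N hz.2.1]
    rw [h1]
    by_cases hg : g ∈ N
    · have h2 := coeff_incl_mem N (resAlg N z ^ K) ⟨g, hg⟩
      simp only at h2
      rw [h2]
      have h3 := hdiv ⟨g, hg⟩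
      rwa [div_eq_inv_mul] at h3
    · rw [coeff_incl_not_mem N _ hg, mul_zero]
      exact memLocalRing_zero hP.ne_top
  · rw [smul_smul, mul_inv_cancel₀ hp0, one_smul]

theorem exists_uniform_pow (hM : IsPModular p M) (S : Finset (MonoidAlgebra ℂ G))
    (hS : ∀ z ∈ S, Rad N M z) :
    ∃ k : ℕ, 0 < k ∧ ∀ z ∈ S, ∃ t ∈ intCoeff (G := G) M, z ^ k = (p : ℂ) • t := by
  classical
  induction S using Finset.induction_on with
  | empty => exact ⟨1, one_pos, by simp⟩
  | insert a S ha ih =>
    obtain ⟨k, hk, hkS⟩ := ih (fun z hz => hS z (Finset.mem_insert_of_mem hz))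
    obtain ⟨K, hK, t, ht, hte⟩ := (hS a (Finset.mem_insert_self _ _)).exists_pow N M hM
    refine ⟨k + K, by omega, ?_⟩
    intro z hz
    have hzi : z ∈ intCoeff (G := G) M := (hS z hz).1.1
    rcases Finset.mem_insert.1 hz with rfl | hz'
    · refine ⟨z ^ k * t, Subring.mul_mem _ (Subring.pow_mem _ hzi k) ht, ?_⟩
      rw [pow_add, hte, mul_smul_comm]
    · obtain ⟨t', ht', hte'⟩ := hkS z hz'
      refine ⟨t' * z ^ K, Subring.mul_mem _ ht' (Subring.pow_mem _ hzi K), ?_⟩
      rw [pow_add, hte', smul_mul_assoc]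

/-- The generators of the `j`-th power of the ideal generated by `S`. -/
def powGen (S : Finset (MonoidAlgebra ℂ G)) (j : ℕ) : Set (MonoidAlgebra ℂ G) :=
  {u | ∃ l : List (MonoidAlgebra ℂ G), (∀ z ∈ l, z ∈ S) ∧ l.length = j ∧
    ∃ a ∈ intCoeff (G := G) M, u = l.prod * a}

theorem closure_powGen_mul_gen (S : Finset (MonoidAlgebra ℂ G))
    (hcj : ∀ z ∈ S, ∀ g : G, cjAlg g z ∈ S) {j : ℕ} {u z a' : MonoidAlgebra ℂ G}
    (hu : u ∈ AddSubgroup.closure (powGen M S j)) (hz : z ∈ S)
    (ha' : a' ∈ intCoeff (G := G) M) :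
    u * (z * a') ∈ AddSubgroup.closure (powGen M S (j + 1)) := by
  induction hu using AddSubgroup.closure_induction with
  | mem x hx =>
    obtain ⟨l, hl, hlen, a, ha, rfl⟩ := hx
    have h1 : l.prod * a * (z * a') =
        ∑ g : G, (l ++ [cjAlg g z]).prod * (MonoidAlgebra.single g (a.coeff g) * a') := by
      have h2 : a * z = ∑ g : G, cjAlg g z * MonoidAlgebra.single g (a.coeff g) := by
        conv_lhs => rw [eq_sum_single a, Finset.sum_mul]
        exact Finset.sum_congr rfl (fun g _ => single_mul_eq g _ z)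
      calc l.prod * a * (z * a') = l.prod * (a * z) * a' := by simp only [mul_assoc]
        _ = _ := by
          rw [h2, Finset.mul_sum, Finset.sum_mul]
          refine Finset.sum_congr rfl (fun g _ => ?_)
          rw [List.prod_append, List.prod_singleton]
          simp only [mul_assoc]
    rw [h1]
    refine AddSubgroup.sum_mem _ (fun g _ => AddSubgroup.subset_closure ?_)
    refine ⟨l ++ [cjAlg g z], ?_, by rw [List.length_append, hlen, List.length_singleton],
      MonoidAlgebra.single g (a.coeff g) * a',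
      Subring.mul_mem _ (single_mem_intCoeff g (ha g)) ha', rfl⟩
    intro y hy
    rcases List.mem_append.1 hy with hy | hy
    · exact hl y hy
    · rw [List.mem_singleton] at hy
      rw [hy]
      exact hcj z hz g
  | zero => rw [zero_mul]; exact AddSubgroup.zero_mem _
  | add x y _ _ hx hy => rw [add_mul]; exact AddSubgroup.add_mem _ hx hy
  | neg x _ hx => rw [neg_mul]; exact AddSubgroup.neg_mem _ hx

theorem closure_powGen_mul (S : Finset (MonoidAlgebra ℂ G))
    (hcj : ∀ z ∈ S, ∀ g : G, cjAlg g z ∈ S) {j : ℕ} {u v : MonoidAlgebra ℂ G}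
    (hu : u ∈ AddSubgroup.closure (powGen M S j))
    (hv : v ∈ AddSubgroup.closure (powGen M S 1)) :
    u * v ∈ AddSubgroup.closure (powGen M S (j + 1)) := by
  induction hv using AddSubgroup.closure_induction with
  | mem x hx =>
    obtain ⟨l, hl, hlen, a, ha, rfl⟩ := hx
    obtain ⟨z, rfl⟩ := List.length_eq_one_iff.1 hlen
    rw [List.prod_singleton]
    exact closure_powGen_mul_gen M S hcj hu (hl z List.mem_cons_self) ha
  | zero => rw [mul_zero]; exact AddSubgroup.zero_mem _
  | add x y _ _ hx hy => rw [mul_add]; exact AddSubgroup.add_mem _ hx hy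
  | neg x _ hx => rw [mul_neg]; exact AddSubgroup.neg_mem _ hx

theorem pow_mem_closure_powGen (S : Finset (MonoidAlgebra ℂ G))
    (hcj : ∀ z ∈ S, ∀ g : G, cjAlg g z ∈ S) {ε : MonoidAlgebra ℂ G}
    (hε : ε ∈ AddSubgroup.closure (powGen M S 1)) (j : ℕ) :
    ε ^ (j + 1) ∈ AddSubgroup.closure (powGen M S (j + 1)) := by
  induction j with
  | zero => rw [zero_add, pow_one]; exact hε
  | succ j ih =>
    rw [pow_succ]
    exact closure_powGen_mul M S hcj ih hε

/-- Long products of elements of `S` are divisible by `p`. -/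
theorem powGen_dvd (S : Finset (MonoidAlgebra ℂ G))
    (hS : ∀ z ∈ S, Rad N M z) {k : ℕ}
    (hk : ∀ z ∈ S, ∃ t ∈ intCoeff (G := G) M, z ^ k = (p : ℂ) • t)
    {u : MonoidAlgebra ℂ G} (hu : u ∈ AddSubgroup.closure (powGen M S (S.card * k + 1))) :
    ∃ t ∈ intCoeff (G := G) M, u = (p : ℂ) • t := by
  classical
  induction hu using AddSubgroup.closure_induction with
  | mem x hx =>
    obtain ⟨l, hl, hlen, a, ha, rfl⟩ := hx
    obtain ⟨z, hzS, hzc⟩ := exists_count_gt S l hl k (by omega)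
    have h1 := list_prod_eq_pow_mul z l (fun x hx => (hS z hzS).commute N M (hS x (hl x hx)))
    obtain ⟨t, ht, hte⟩ := hk z hzS
    have h2 : z ^ (l.count z) = z ^ k * z ^ (l.count z - k) := by
      rw [← pow_add]
      congr 1
      omega
    have hzi : z ∈ intCoeff (G := G) M := (hS z hzS).1.1
    have h3 : (l.filter (fun x => decide (x ≠ z))).prod ∈ intCoeff (G := G) M := by
      apply Subring.list_prod_mem
      intro x hx
      exact (hS x (hl x (List.mem_of_mem_filter hx))).1.1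
    refine ⟨t * z ^ (l.count z - k) * (l.filter (fun x => decide (x ≠ z))).prod * a,
      Subring.mul_mem _ (Subring.mul_mem _ (Subring.mul_mem _ ht (Subring.pow_mem _ hzi _)) h3) ha,
      ?_⟩
    rw [h1, h2, hte]
    simp only [smul_mul_assoc]
  | zero => exact ⟨0, Subring.zero_mem _, by rw [smul_zero]⟩
  | add x y _ _ hx hy =>
    obtain ⟨t, ht, rfl⟩ := hx
    obtain ⟨t', ht', rfl⟩ := hy
    exact ⟨t + t', Subring.add_mem _ ht ht', by rw [smul_add]⟩
  | neg x _ hx =>
    obtain ⟨t, ht, rfl⟩ := hx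
    exact ⟨-t, Subring.neg_mem _ ht, by rw [smul_neg]⟩

omit [Fintype N] hN in
theorem powGen_mono {S S' : Finset (MonoidAlgebra ℂ G)} (h : S ⊆ S') (j : ℕ) :
    powGen M S j ⊆ powGen M S' j := by
  rintro u ⟨l, hl, hlen, a, ha, rfl⟩
  exact ⟨l, fun z hz => h (hl z hz), hlen, a, ha, rfl⟩

theorem exists_finset_of_mem_radIdeal {u : MonoidAlgebra ℂ G} (hu : u ∈ radIdeal N M) :
    ∃ S : Finset (MonoidAlgebra ℂ G), (∀ z ∈ S, Rad N M z) ∧
      u ∈ AddSubgroup.closure (powGen M S 1) := by
  classical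
  unfold radIdeal at hu
  induction hu using AddSubgroup.closure_induction with
  | mem x hx =>
    obtain ⟨z, a, hz, ha, rfl⟩ := hx
    refine ⟨{z}, fun y hy => by rw [Finset.mem_singleton.1 hy]; exact hz,
      AddSubgroup.subset_closure ?_⟩
    exact ⟨[z], fun y hy => by rw [List.mem_singleton.1 hy]; exact Finset.mem_singleton_self z,
      rfl, a, ha, by rw [List.prod_singleton]⟩
  | zero => exact ⟨∅, fun z hz => absurd hz (Finset.notMem_empty z), AddSubgroup.zero_mem _⟩
  | add x y _ _ hx hy =>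
    obtain ⟨S, hS, hxS⟩ := hx
    obtain ⟨S', hS', hyS'⟩ := hy
    refine ⟨S ∪ S', fun z hz => ?_, AddSubgroup.add_mem _ ?_ ?_⟩
    · rcases Finset.mem_union.1 hz with h | h
      · exact hS z h
      · exact hS' z h
    · exact AddSubgroup.closure_mono (powGen_mono M Finset.subset_union_left 1) hxS
    · exact AddSubgroup.closure_mono (powGen_mono M Finset.subset_union_right 1) hyS'
  | neg x _ hx =>
    obtain ⟨S, hS, hxS⟩ := hx
    exact ⟨S, hS, AddSubgroup.neg_mem _ hxS⟩

/-- **Stage two**: an idempotent in the ideal generated by `Rad` is zero. -/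
theorem eq_zero_of_idem_mem_radIdeal (hM : IsPModular p M) {ε : MonoidAlgebra ℂ G}
    (hε : ε ∈ radIdeal N M) (hi : ε ∈ intCoeff (G := G) M) (hidem : ε * ε = ε) : ε = 0 := by
  classical
  have hp0 : (p : ℂ) ≠ 0 := Nat.cast_ne_zero.2 (prime_of_isPModular hM).ne_zero
  obtain ⟨S₀, hS₀, hε₀⟩ := exists_finset_of_mem_radIdeal N M hε
  set S : Finset (MonoidAlgebra ℂ G) :=
    S₀.biUnion (fun z => Finset.univ.image (fun g : G => cjAlg g z)) with hSdef
  have hSub : S₀ ⊆ S := by
    intro z hz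
    rw [hSdef, Finset.mem_biUnion]
    exact ⟨z, hz, Finset.mem_image.2 ⟨1, Finset.mem_univ _, cjAlg_one z⟩⟩
  have hS : ∀ z ∈ S, Rad N M z := by
    intro z hz
    rw [hSdef, Finset.mem_biUnion] at hz
    obtain ⟨z₀, hz₀, hz⟩ := hz
    obtain ⟨g, _, rfl⟩ := Finset.mem_image.1 hz
    exact (hS₀ z₀ hz₀).cj N M g
  have hcj : ∀ z ∈ S, ∀ g : G, cjAlg g z ∈ S := by
    intro z hz g
    rw [hSdef, Finset.mem_biUnion] at hz ⊢
    obtain ⟨z₀, hz₀, hz⟩ := hz
    obtain ⟨h, _, rfl⟩ := Finset.mem_image.1 hz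
    exact ⟨z₀, hz₀, Finset.mem_image.2 ⟨g * h, Finset.mem_univ _, (cjAlg_cjAlg g h z₀).symm⟩⟩
  have hε₁ : ε ∈ AddSubgroup.closure (powGen M S 1) :=
    AddSubgroup.closure_mono (powGen_mono M hSub 1) hε₀
  obtain ⟨k, _, hk⟩ := exists_uniform_pow N M hM S hS
  have hpow : ∀ j : ℕ, ε ^ (j + 1) = ε := by
    intro j
    induction j with
    | zero => rw [zero_add, pow_one]
    | succ j ih => rw [pow_succ, ih, hidem]
  have h1 := pow_mem_closure_powGen M S hcj hε₁ (S.card * k)
  rw [hpow] at h1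
  obtain ⟨t, ht, hte⟩ := powGen_dvd N M S hS hk h1
  have h2 : ∀ i : ℕ, ∃ s ∈ intCoeff (G := G) M, ε = ((p : ℂ) ^ i) • s := by
    intro i
    induction i with
    | zero => exact ⟨ε, hi, by rw [pow_zero, one_smul]⟩
    | succ i ih =>
      obtain ⟨s, hs, hse⟩ := ih
      refine ⟨s * t, Subring.mul_mem _ hs ht, ?_⟩
      have h3 : ε = ((p : ℂ) ^ i • s) * ((p : ℂ) • t) := by
        calc ε = ε * ε := hidem.symm
          _ = _ := by rw [← hse, ← hte]
      conv_lhs => rw [h3]
      rw [smul_mul_smul_comm, ← pow_succ]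
  apply ext_coeff
  intro g
  rw [MonoidAlgebra.coeff_zero, Finsupp.coe_zero, Pi.zero_apply]
  apply eq_zero_of_forall_div_pow hM (hi g)
  intro i
  obtain ⟨s, hs, hse⟩ := h2 i
  have h4 : ε.coeff g = (p : ℂ) ^ i * s.coeff g := by
    conv_lhs => rw [hse]
    rw [coeff_smul']
  rw [h4, mul_div_cancel_left₀ _ (pow_ne_zero i hp0)]
  exact hs g

/-- **Main theorem**: an idempotent of `J` is zero. -/
theorem eq_zero_of_idem_inJ (hM : IsPModular p M) {ε : MonoidAlgebra ℂ G}
    (hε : InJ N M ε) (hidem : ε * ε = ε) : ε = 0 :=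
  eq_zero_of_idem_mem_radIdeal N M hM (mem_radIdeal_of_idem N M hε hidem) hε.1.1 hidem

end StageTwo

end Cfsg.Agent.Lib.L0.GradedNil
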