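import Mathlib
import Cfsg.Prelude.Def_Blocks
import Cfsg.Agent.Lib.L0.GradedNil

/-!
# The key lemma on covering blocks (lead)

`N ⊴ G`, `B` a block of `G` covering the block `b` of `N`, `θ₀ ∈ b`.  Then there is an
`N`-invariant `y ∈ RG` with `ω_{θ₀}(res_N(e_B e_b y)) ∉ 𝔪` (`exists_inA_omega_not_mem`).
Consequence (`exists_over_of_covers`): every `θ ∈ b` lies under some `χ ∈ B`.
-/

set_option autoImplicit false

namespace Cfsg.Agent.Lib.L0.CoverKey

open Cfsg MonoidAlgebra Cfsg.Agent.Lib.H23 Cfsg.Agent.Lib.H24 Cfsg.Agent.Lib.L0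
  Cfsg.Agent.Lib.L0.GradedNil
open scoped ComplexConjugate

section Res

variable {G : Type*} [Group G] [Fintype G] (N : Subgroup G) [Fintype N]

theorem resAlg_incl_mul (w : MonoidAlgebra ℂ N) (x : MonoidAlgebra ℂ G) :
    resAlg N (incl N w * x) = w * resAlg N x := by
  apply ext_coeff
  intro n
  rw [coeff_resAlg, coeff_mul_eq_sum, coeff_mul_eq_sum, sum_eq_sum_subgroup N]
  · refine Finset.sum_congr rfl (fun m _ => ?_)
    rw [coeff_incl_mem, coeff_resAlg]
    congr 2
  · intro g hg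
    rw [coeff_incl_not_mem N _ hg, zero_mul]

theorem resAlg_mul_incl (x : MonoidAlgebra ℂ G) (w : MonoidAlgebra ℂ N) :
    resAlg N (x * incl N w) = resAlg N x * w := by
  apply ext_coeff
  intro n
  rw [coeff_resAlg, coeff_mul_eq_sum', coeff_mul_eq_sum', sum_eq_sum_subgroup N]
  · refine Finset.sum_congr rfl (fun m _ => ?_)
    rw [coeff_incl_mem, coeff_resAlg]
    congr 2
  · intro g hg
    rw [coeff_incl_not_mem N _ hg, mul_zero]

theorem incl_eq_extAlg (w : MonoidAlgebra ℂ N) : incl N w = extAlg N w := by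
  apply ext_coeff
  intro g
  by_cases hg : g ∈ N
  · rw [coeff_extAlg_of_mem N w hg]
    exact coeff_incl_mem N w ⟨g, hg⟩
  · rw [coeff_extAlg_of_not_mem N w hg, coeff_incl_not_mem N w hg]

theorem charEval_incl (χ : G → ℂ) (w : MonoidAlgebra ℂ N) :
    charEval χ (incl N w) = charEval (fun n : N => χ n) w := by
  unfold charEval
  rw [sum_eq_sum_subgroup N]
  · refine Finset.sum_congr rfl (fun m _ => ?_)
    rw [coeff_incl_mem]
  · intro g hg
    rw [coeff_incl_not_mem N _ hg, zero_mul]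

end Res

section NonZero

variable {G : Type*} [Group G] [Fintype G] (N : Subgroup G) [Fintype N]

theorem charEval_blockIdem_singleton (f : N → ℂ) (θ : IrrCharacter N) :
    charEval f (blockIdem ({θ} : Set (IrrCharacter N))) =
      (θ : N → ℂ) 1 * classInner f (θ : N → ℂ) := by
  unfold charEval classInner
  simp only [coeff_blockIdem]
  unfold blockCoeff
  rw [Finset.mul_sum, Finset.mul_sum]
  refine Finset.sum_congr rfl (fun n _ => ?_)
  rw [finsum_mem_singleton]
  ring

theorem blockIdem_mul_singleton {b : Set (IrrCharacter N)} {θ : IrrCharacter N} (hθ : θ ∈ b) :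
    blockIdem b * blockIdem ({θ} : Set (IrrCharacter N)) =
      blockIdem ({θ} : Set (IrrCharacter N)) := by
  classical
  refine eq_of_forall_omega_eq
    (Subalgebra.mul_mem _ (blockIdem_mem_center b) (blockIdem_mem_center _))
    (blockIdem_mem_center _) (fun ψ => ?_)
  rw [omega_mul ψ.2 (blockIdem_mem_center b), omega_blockIdem, omega_blockIdem]
  by_cases h : ψ ∈ ({θ} : Set (IrrCharacter N))
  · rw [if_pos h, if_pos (by rw [Set.mem_singleton_iff.1 h]; exact hθ), one_mul]
  · rw [if_neg h, mul_zero]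

/-- `e_B e_b ≠ 0` when some `χ ∈ B` lies over some `θ ∈ b`. -/
theorem smIdem_ne_zero {B : Set (IrrCharacter G)} {b : Set (IrrCharacter N)}
    {χ : IrrCharacter G} (hχ : χ ∈ B) {θ : IrrCharacter N} (hθ : θ ∈ b)
    (hcon : classInner (fun n : N => (χ : G → ℂ) n) (θ : N → ℂ) ≠ 0) :
    blockIdem B * incl N (blockIdem b) ≠ 0 := by
  classical
  intro h0
  have h2 : blockIdem B * incl N (blockIdem ({θ} : Set (IrrCharacter N))) = 0 := by
    rw [← blockIdem_mul_singleton N hθ, map_mul, ← mul_assoc, h0, zero_mul]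
  have h3 := charEval_blockIdem_mul B χ (incl N (blockIdem ({θ} : Set (IrrCharacter N))))
  rw [h2, if_pos hχ, charEval_zero, charEval_incl, charEval_blockIdem_singleton] at h3
  exact mul_ne_zero (irr_one_ne_zero θ) hcon h3.symm

end NonZero

section Key

variable {G : Type*} [Group G] [Fintype G] (N : Subgroup G) [hN : N.Normal] [Fintype N]
  {p : ℕ} {M : Ideal AlgInt}

/-- **Key lemma.** -/
theorem exists_inA_omega_not_mem [hP : M.IsPrime] (hM : IsPModular p M)
    {B : Set (IrrCharacter G)} (hB : IsPBlock M B)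
    {b : Set (IrrCharacter N)} (hb : IsPBlock M b)
    (hcov : ∃ χ ∈ B, ∃ θ ∈ b, classInner (fun n : N => (χ : G → ℂ) n) (θ : N → ℂ) ≠ 0)
    {θ₀ : IrrCharacter N} (hθ₀ : θ₀ ∈ b) :
    ∃ y, InA N M y ∧ ¬ MemLocalIdeal M (omega (θ₀ : N → ℂ)
      (resAlg N (blockIdem B * incl N (blockIdem b) * y))) := by
  classical
  by_contra hcon
  push_neg at hcon
  obtain ⟨χ, hχ, θ, hθ, hne⟩ := hcov
  apply smIdem_ne_zero N hχ hθ hne
  obtain ⟨χ₁, rfl⟩ := hB
  obtain ⟨θ₁, rfl⟩ := hb
  set B := blockOf M (χ₁ : G → ℂ)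
  set b := blockOf M (θ₁ : N → ℂ)
  have hεA : InA N M (blockIdem B * incl N (blockIdem b)) := by
    refine ⟨fun g => smIdem_memLocalRing N hM χ₁ θ₁ g, fun n hn => ?_⟩
    exact smIdem_invUnder N B b ⟨n, hn⟩
  apply eq_zero_of_idem_inJ N M hM _ (smIdem_mul_self N B b)
  refine ⟨hεA, fun y hy ψ => ?_⟩
  show MemLocalIdeal M (omega (ψ : N → ℂ) (resAlg N (blockIdem B * incl N (blockIdem b) * y)))
  have hc : resAlg N (blockIdem B * incl N (blockIdem b) * y) ∈
      Subalgebra.center ℂ (MonoidAlgebra ℂ N) :=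
    resAlg_mem_center_of_nInv N (hεA.mul N M hy).2
  have hi : resAlg N (blockIdem B * incl N (blockIdem b) * y) ∈ intCoeff (G := N) M :=
    resAlg_mem_intCoeff N (hεA.mul N M hy).1
  by_cases hψ : ψ ∈ b
  · have hs : SameBlock M (ψ : N → ℂ) (θ₀ : N → ℂ) :=
      sameBlock_trans (sameBlock_symm hψ) hθ₀
    have h1 := omega_sub_memLocalIdeal hs hc hi
    have h2 := memLocalIdeal_add h1 (hcon y hy)
    rwa [sub_add_cancel] at h2
  · have h1 : blockIdem B * incl N (blockIdem b) * y =
        incl N (blockIdem b) * (blockIdem B * y) := by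
      rw [← (Subalgebra.mem_center_iff.1 (blockIdem_mem_center B)) (incl N (blockIdem b)),
        mul_assoc]
    rw [h1, resAlg_incl_mul, omega_mul ψ.2 (blockIdem_mem_center b), omega_blockIdem,
      if_neg hψ, zero_mul]
    exact memLocalIdeal_zero hP.ne_top

/-- If `ω_θ(res_N(e_B y')) ≠ 0` for an `N`-invariant `y'`, then `θ` lies under a member of `B`. -/
theorem exists_over_of_omega_ne_zero (B : Set (IrrCharacter G)) (θ : IrrCharacter N)
    {y' : MonoidAlgebra ℂ G} (hy' : NInv N y')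
    (hne : omega (θ : N → ℂ) (resAlg N (blockIdem B * y')) ≠ 0) :
    ∃ χ ∈ B, classInner (fun n : N => (χ : G → ℂ) n) (θ : N → ℂ) ≠ 0 := by
  classical
  by_contra hcon
  push_neg at hcon
  apply hne
  set f := orbitIdem N ({θ} : Set (IrrCharacter N)) with hf
  have hfc : f ∈ Subalgebra.center ℂ (MonoidAlgebra ℂ G) := orbitIdem_mem_center N _
  have h1 : blockIdem B * f = 0 := by
    refine eq_of_forall_omega_eq
      (Subalgebra.mul_mem _ (blockIdem_mem_center B) hfc) (Subalgebra.zero_mem _) (fun χ => ?_)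
    have h0 : omega (χ : G → ℂ) (0 : MonoidAlgebra ℂ G) = 0 := by simp [omega, charEval_zero]
    rw [omega_mul χ.2 (blockIdem_mem_center B), omega_blockIdem, h0]
    by_cases hχ : χ ∈ B
    · rw [if_pos hχ, one_mul]
      obtain ⟨ψ, hψ⟩ := exists_constituent_restrict N χ
      rw [hf, omega_orbitIdem N _ χ ψ hψ, if_neg]
      rintro ⟨g, hg⟩
      apply hψ
      have h5 := BlockCover.classInner_conjChar N (irr_isClassFunction χ) (ψ : N → ℂ) g
      have h6 : conjChar N (ψ : N → ℂ) g = (conjIrr N ψ g : N → ℂ) := rfl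
      rw [h6, Set.mem_singleton_iff.1 hg] at h5
      rw [← h5]
      exact hcon χ hχ
    · rw [if_neg hχ, zero_mul]
  have h2 : blockIdem B * y' * f = 0 := by
    rw [mul_assoc, (Subalgebra.mem_center_iff.1 hfc) y', ← mul_assoc, h1, zero_mul]
  have h3 : f = incl N (blockIdem (orbitSet N ({θ} : Set (IrrCharacter N)))) := by
    rw [hf, orbitIdem, incl_eq_extAlg]
  have h4 : resAlg N (blockIdem B * y') * blockIdem (orbitSet N ({θ} : Set (IrrCharacter N)))
      = 0 := by
    rw [← resAlg_mul_incl, ← h3, h2, resAlg_zero]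
  have hc := blockIdem_mem_center (orbitSet N ({θ} : Set (IrrCharacter N)))
  have h5 := congrArg (omega (θ : N → ℂ)) h4
  rw [(Subalgebra.mem_center_iff.1 hc) _, omega_mul θ.2 hc, omega_blockIdem,
    if_pos (subset_orbitSet N _ (Set.mem_singleton θ)), one_mul] at h5
  rw [h5]
  simp [omega, charEval_zero]

/-- **S4432**: every member of a covered block lies under a member of the covering block. -/
theorem exists_over_of_covers (hM : IsPModular p M)
    {B : Set (IrrCharacter G)} (hB : IsPBlock M B)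
    {b : Set (IrrCharacter N)} (hb : IsPBlock M b)
    (hcov : ∃ χ ∈ B, ∃ θ ∈ b, classInner (fun n : N => (χ : G → ℂ) n) (θ : N → ℂ) ≠ 0)
    {θ : IrrCharacter N} (hθ : θ ∈ b) :
    ∃ χ ∈ B, classInner (fun n : N => (χ : G → ℂ) n) (θ : N → ℂ) ≠ 0 := by
  have hP := isPrime_of_isPModular hM
  obtain ⟨y, hy, hne⟩ := exists_inA_omega_not_mem N hM hB hb hcov hθ
  have h1 : NInv N (incl N (blockIdem b) * y) :=
    NInv.mul N (fun n hn => invUnder_incl N (blockIdem_mem_center b) ⟨n, hn⟩) hy.2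
  apply exists_over_of_omega_ne_zero N B θ h1
  rw [← mul_assoc]
  intro h0
  apply hne
  rw [h0]
  exact memLocalIdeal_zero hP.ne_top

end Key

end Cfsg.Agent.Lib.L0.CoverKey
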