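import Mathlib
import Cfsg.Prelude.Def_Blocks
import Cfsg.Prelude.Def_BlockLocal
import Cfsg.Agent.Lib.L0.CoverKey
import Cfsg.Agent.Lib.L0.BrauerNormal
import Cfsg.Agent.Lib.H23.BlockDefectGroups
import Cfsg.Agent.Lib.H23.BlockDefectConj
import Cfsg.Agent.Lib.L0.BrauerFully

/-!
# Knörr's theorem on defect groups of covering blocks (lead)

`N ⊴ G`, `B` a block of `G` covering the block `b` of `N`.
* `exists_defectGroup_ge`: a defect group of `b` lies in a defect group of `B`;
* `exists_stable_block_ge`: for a defect group `P` of `B` there is a `P`-stable block `c` of `N`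
  covered by `B` with `P ∩ N` contained in a defect group of `c`.
-/

set_option autoImplicit false

namespace Cfsg.Agent.Lib.L0.Knorr

open Cfsg MonoidAlgebra Cfsg.Agent.Lib.H23 Cfsg.Agent.Lib.H24 Cfsg.Agent.Lib.L0
  Cfsg.Agent.Lib.L0.GradedNil Cfsg.Agent.Lib.L0.CoverKey Cfsg.Agent.Lib.L0.BlockAut
  Cfsg.Agent.Lib.L0.BrauerNormal Cfsg.Agent.Lib.L0.PrincipalBrauerPair
  Cfsg.Agent.Lib.L0.BlockParseval
open scoped ComplexConjugate

section FixedSum

variable {G : Type*} [Group G] [Fintype G] {p : ℕ} {M : Ideal AlgInt}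

/-- If a `Q`-invariant sum of local integers over `G` is outside the local ideal, some summand at a
point centralized by `Q` is outside the local ideal. -/
theorem exists_fixed_not_mem (hM : IsPModular p M) (Q : Subgroup G) (hQ : IsPGroup p Q)
    (F : G → ℂ) (hF : ∀ h, MemLocalRing M (F h))
    (hinv : ∀ u ∈ Q, ∀ h, F (u * h * u⁻¹) = F h)
    (hsum : ¬ MemLocalIdeal M (∑ h, F h)) :
    ∃ h, Q ≤ Subgroup.centralizer ({h} : Set G) ∧ ¬ MemLocalIdeal M (F h) := by
  classical
  haveI hP := isPrime_of_isPModular hM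
  by_contra hcon
  push_neg at hcon
  apply hsum
  rw [← Finset.sum_filter_add_sum_filter_not Finset.univ
    (fun h : G => Q ≤ Subgroup.centralizer ({h} : Set G))]
  refine memLocalIdeal_add (memLocalIdeal_sum _ _ (fun h hh => hcon h (Finset.mem_filter.1 hh).2))
    ?_
  refine sum_memLocalIdeal_of_no_fixed hM Q hQ _ ?_ F (fun h _ => hF h)
    (fun u hu h _ => hinv u hu h) (fun h hh => (Finset.mem_filter.1 hh).2)
  intro u hu h hh
  rw [Finset.mem_filter] at hh ⊢
  refine ⟨Finset.mem_univ _, fun hle => hh.2 ?_⟩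
  intro q hq
  rw [Subgroup.mem_centralizer_singleton_iff]
  have h1 : u * q * u⁻¹ ∈ Q := Q.mul_mem (Q.mul_mem hu hq) (Q.inv_mem hu)
  have h2 := Subgroup.mem_centralizer_singleton_iff.1 (hle h1)
  -- `(u q u⁻¹)(u h u⁻¹) = (u h u⁻¹)(u q u⁻¹)`
  have h3 : u * (q * h) * u⁻¹ = u * (h * q) * u⁻¹ := by
    calc u * (q * h) * u⁻¹ = (u * q * u⁻¹) * (u * h * u⁻¹) := by group
      _ = (u * h * u⁻¹) * (u * q * u⁻¹) := h2
      _ = u * (h * q) * u⁻¹ := by group
  exact mul_left_cancel (mul_right_cancel h3)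

end FixedSum

section TheoremK

variable {G : Type*} [Group G] [Fintype G] (N : Subgroup G) [hN : N.Normal] [Fintype N]
  {p : ℕ} {M : Ideal AlgInt}

/-- **Knörr, hard direction.** A defect group of a covered block lies in a defect group of the
covering block. -/
theorem exists_defectGroup_ge [Fact p.Prime] (hM : IsPModular p M)
    {B : Set (IrrCharacter G)} (hB : IsPBlock M B)
    {b : Set (IrrCharacter N)} (hb : IsPBlock M b)
    (hcov : ∃ χ ∈ B, ∃ θ ∈ b, classInner (fun n : N => (χ : G → ℂ) n) (θ : N → ℂ) ≠ 0)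
    (Q : Subgroup G) (hQN : Q ≤ N) (hQ : IsDefectGroup p M b (Q.subgroupOf N)) :
    ∃ P : Subgroup G, IsDefectGroup p M B P ∧ Q ≤ P := by
  classical
  haveI hP := isPrime_of_isPModular hM
  haveI := Fintype.ofFinite (ConjClasses N)
  obtain ⟨χ₁, rfl⟩ := hB
  obtain ⟨θ₁, rfl⟩ := hb
  set B := blockOf M (χ₁ : G → ℂ) with hBdef
  set b := blockOf M (θ₁ : N → ℂ) with hbdef
  have hθ₁ : θ₁ ∈ b := mem_blockOf_self θ₁
  obtain ⟨y, hy, hne⟩ := exists_inA_omega_not_mem N hM ⟨χ₁, rfl⟩ ⟨θ₁, rfl⟩ hcov hθ₁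
  set y' := incl N (blockIdem b) * y with hy'
  have hy'A : InA N M y' := by
    refine ⟨Subring.mul_mem _ (fun g => incl_memLocalRing N
      (fun k => blockIdem_memLocalRing hM θ₁ k) g) hy.1, ?_⟩
    exact NInv.mul N (fun n hn => invUnder_incl N (blockIdem_mem_center b) ⟨n, hn⟩) hy.2
  have heBA : InA N M (blockIdem B) :=
    ⟨fun g => blockIdem_memLocalRing hM χ₁ g, nInv_of_mem_center N (blockIdem_mem_center B)⟩
  set v := resAlg N (blockIdem B * y') with hv
  have hvne : ¬ MemLocalIdeal M (omega (θ₁ : N → ℂ) v) := by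
    rw [hv, hy', ← mul_assoc]
    exact hne
  have hvc : v ∈ Subalgebra.center ℂ (MonoidAlgebra ℂ N) :=
    resAlg_mem_center_of_nInv N (heBA.mul N M hy'A).2
  have hvi : v ∈ intCoeff (G := N) M := resAlg_mem_intCoeff N (heBA.mul N M hy'A).1
  -- a class of `N` where both the coefficient and the central character are units
  obtain ⟨m, hm1, hm2⟩ : ∃ m : N, ¬ MemLocalIdeal M (v.coeff m) ∧
      ¬ MemLocalIdeal M (centralChar (θ₁ : N → ℂ) m) := by
    by_contra hcon
    push_neg at hcon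
    apply hvne
    rw [omega_eq_sum_centralChar (irr_isClassFunction θ₁) hvc]
    refine memLocalIdeal_sum _ _ (fun c _ => ?_)
    by_cases h1 : MemLocalIdeal M (v.coeff (classRep c))
    · exact memLocalIdeal_mul_right h1 (coe_mem_localRing (omegaInt θ₁ _))
    · exact memLocalIdeal_mul_left (hvi _) (hcon _ h1)
  -- move `m` into the centralizer of the defect group
  obtain ⟨k, hk, S, hS⟩ := hQ
  have hQp : IsPGroup p (Q.subgroupOf N) := by rw [hS]; exact S.2.map _
  have hQk : Q.subgroupOf N ≤ Subgroup.centralizer ({k} : Set N) := by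
    rw [hS]
    rintro _ ⟨w, _, rfl⟩
    exact w.2
  obtain ⟨x, hx, hQx⟩ := exists_conj_centralized hM θ₁ k m hk.2.1 θ₁ hθ₁ hm2
    (Q.subgroupOf N) hQp hQk
  have hvx : ¬ MemLocalIdeal M (v.coeff x) := by
    rw [← coeff_eq_of_isConj hvc hx]
    exact hm1
  -- `Q` is a `p`-group centralizing `x`
  have hQp' : IsPGroup p Q := by
    have e := (Subgroup.subgroupOfEquivOfLe hQN)
    exact hQp.of_equiv e
  have hQx' : ∀ u ∈ Q, u * (x : G) = (x : G) * u := by
    intro u hu
    have h1 : (⟨u, hQN hu⟩ : N) ∈ Q.subgroupOf N := Subgroup.mem_subgroupOf.2 hu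
    have h2 := Subgroup.mem_centralizer_singleton_iff.1 (hQx h1)
    exact congrArg Subtype.val h2
  -- the fixed point argument
  have hsum : v.coeff x = ∑ h : G, blockCoeff B h * y'.coeff (h⁻¹ * (x : G)) := by
    rw [hv, coeff_resAlg, coeff_mul_eq_sum]
    rfl
  rw [hsum] at hvx
  obtain ⟨h, hQh, hFh⟩ := exists_fixed_not_mem hM Q hQp'
    (fun h => blockCoeff B h * y'.coeff (h⁻¹ * (x : G)))
    (fun h => memLocalRing_mul (blockIdem_memLocalRing hM χ₁ h) (hy'A.1 _))
    (by
      intro u hu h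
      show blockCoeff B (u * h * u⁻¹) * y'.coeff ((u * h * u⁻¹)⁻¹ * (x : G)) =
        blockCoeff B h * y'.coeff (h⁻¹ * (x : G))
      rw [blockCoeff_conj]
      congr 1
      have h1 : (u * h * u⁻¹)⁻¹ * (x : G) = u * (h⁻¹ * (x : G)) * u⁻¹ := by
        have h2 := hQx' u hu
        have h3 : u⁻¹ * (x : G) = (x : G) * u⁻¹ := by
          calc u⁻¹ * (x : G) = u⁻¹ * ((x : G) * u) * u⁻¹ := by group
            _ = u⁻¹ * (u * (x : G)) * u⁻¹ := by rw [h2]
            _ = (x : G) * u⁻¹ := by group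
        calc (u * h * u⁻¹)⁻¹ * (x : G) = u * h⁻¹ * (u⁻¹ * (x : G)) := by group
          _ = u * h⁻¹ * ((x : G) * u⁻¹) := by rw [h3]
          _ = u * (h⁻¹ * (x : G)) * u⁻¹ := by group
      rw [h1]
      exact hy'A.2 u (hQN hu) _)
    hvx
  have hβ : ¬ MemLocalIdeal M (blockCoeff B h) := by
    intro h1
    exact hFh (memLocalIdeal_mul_right h1 (hy'A.1 _))
  obtain ⟨E, hE, hQE⟩ := exists_isDefectGroup_ge_of_blockCoeff hM χ₁ h hβ Q hQp' hQh
  exact ⟨E, hE, hQE⟩

end TheoremK

section StableBlock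

variable {G : Type*} [Group G] [Fintype G] {p : ℕ} {M : Ideal AlgInt}

/-- A `P`-invariant function on the blocks of `C` with local integer values whose sum over all
blocks is outside the local ideal takes a value outside the local ideal at a `P`-stable block. -/
theorem exists_stable_block_not_mem (hM : IsPModular p M) (P : Subgroup G) (hP : IsPGroup p P)
    (C : Subgroup G) [Fintype C] [Fintype (IrrCharacter C)]
    (hPN : P ≤ Subgroup.normalizer (C : Set G)) (T : Set (IrrCharacter C) → ℂ)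
    (hT : ∀ A, IsPBlock M A → MemLocalRing M (T A))
    (hinv : ∀ (q : P) (A : Set (IrrCharacter C)), T (cj (BrauerNormal.conjHom P C hPN q) '' A) = T A)
    (hsum : ¬ MemLocalIdeal M (∑ A ∈ blocks M C, T A)) :
    ∃ A, IsPBlock M A ∧ (∀ x ∈ P, StabilizesBlock C A x) ∧ ¬ MemLocalIdeal M (T A) := by
  classical
  haveI hPr := isPrime_of_isPModular hM
  haveI : Fact p.Prime := ⟨prime_of_isPModular hM⟩
  haveI : Fintype (Set (IrrCharacter C)) := Fintype.ofFinite _
  haveI : Fintype (Subgroup.centralizer (P : Set G)) := Fintype.ofFinite _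
  letI act : MulAction P (Set (IrrCharacter C)) := blockAction P C hPN
  have hsmul : ∀ (q : P) (A : Set (IrrCharacter C)), q • A = cj (BrauerNormal.conjHom P C hPN q) '' A :=
    fun _ _ => rfl
  set f : Set (IrrCharacter C) → ℂ := fun A =>
    if A ∈ blocks M C ∧ ¬ (∀ q : P, q • A = A) then T A else 0 with hf
  have hfix_iff : ∀ (q : P) (A : Set (IrrCharacter C)),
      (∀ x : P, x • (q • A) = q • A) ↔ ∀ x : P, x • A = A := by
    intro q A
    constructor
    · intro h
      have h1 : q⁻¹ • (q • A) = q • A := h q⁻¹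
      rw [inv_smul_smul] at h1
      intro x
      have h2 := h x
      rwa [← h1] at h2
    · intro h x
      rw [h q, h x]
  have hblock_iff : ∀ (q : P) (A : Set (IrrCharacter C)),
      q • A ∈ blocks M C ↔ A ∈ blocks M C := by
    intro q A
    rw [mem_blocks, mem_blocks]
    constructor
    · intro h
      have h1 : IsPBlock M (q⁻¹ • (q • A)) := by
        rw [hsmul q⁻¹]
        exact isPBlock_cj_image _ h
      rwa [inv_smul_smul] at h1
    · intro h
      rw [hsmul]
      exact isPBlock_cj_image _ h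
  obtain ⟨s, hs, hsum2⟩ := exists_sum_eq_mul_of_orbit_card_dvd (Γ := P)
    (localRing M).toAddSubgroup f
    (by
      intro A
      show MemLocalRing M (f A)
      rw [hf]
      simp only
      split_ifs with h
      · exact hT A (mem_blocks.1 h.1)
      · exact memLocalRing_zero hPr.ne_top)
    (by
      intro q A
      rw [hf]
      simp only
      exact if_congr (and_congr (hblock_iff q A) (not_congr (hfix_iff q A)))
        (by rw [hsmul, hinv]) rfl)
    p
    (by
      intro A hA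
      have hnf : ¬ (∀ q : P, q • A = A) := by
        by_contra h
        apply hA
        rw [hf]
        simp only
        rw [if_neg (fun h' => h'.2 h)]
      obtain ⟨n, hn⟩ := hP.card_orbit A
      rw [hn]
      rcases Nat.eq_zero_or_pos n with h0 | h0
      · exfalso
        apply hnf
        rw [h0, pow_zero, Nat.card_eq_one_iff_unique] at hn
        intro q
        have := hn.1.elim (⟨q • A, MulAction.mem_orbit A q⟩ : MulAction.orbit P A)
          ⟨A, MulAction.mem_orbit_self A⟩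
        exact congrArg Subtype.val this
      · exact dvd_pow_self p (Nat.pos_iff_ne_zero.1 h0))
  have hJ : MemLocalIdeal M (∑ A, f A) := by
    rw [hsum2]
    exact memLocalIdeal_mul_right (memLocalIdeal_p hM) hs
  have hsplit : ∑ A ∈ blocks M C, T A =
      ∑ A ∈ (blocks M C).filter (fun A => ∀ q : P, q • A = A), T A + ∑ A, f A := by
    rw [← Finset.sum_filter_add_sum_filter_not (blocks M C) (fun A => ∀ q : P, q • A = A)]
    congr 1
    rw [hf, Finset.sum_filter]
    symm
    rw [← Finset.sum_subset (Finset.subset_univ (blocks M C))]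
    · refine Finset.sum_congr rfl fun A hA => ?_
      by_cases h : ∀ q : P, q • A = A
      · rw [if_neg (fun h' => h'.2 h), if_neg (not_not.2 h)]
      · rw [if_pos ⟨hA, h⟩, if_pos h]
    · intro A _ hA
      rw [if_neg (fun h' => hA h'.1)]
  by_contra hcon
  apply hsum
  rw [hsplit]
  refine memLocalIdeal_add (memLocalIdeal_sum _ _ fun A hA => ?_) hJ
  have hA' := Finset.mem_filter.1 hA
  have hbl := mem_blocks.1 hA'.1
  have hst := (stab_iff_fixed P C hPN hbl).2 hA'.2
  by_contra h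
  exact hcon ⟨A, hbl, hst, h⟩

end StableBlock

section TheoremE

variable {G : Type*} [Group G] [Fintype G] (N : Subgroup G) [hN : N.Normal] [Fintype N]
  {p : ℕ} {M : Ideal AlgInt}

omit hN in
theorem coeff_incl_blockIdem_cj (x : G) (hx : x ∈ Subgroup.normalizer (N : Set G))
    (A : Set (IrrCharacter N)) (k : G) :
    (incl N (blockIdem (cj (conjAut N x hx) '' A))).coeff (x * k * x⁻¹) =
      (incl N (blockIdem A)).coeff k := by
  by_cases hk : k ∈ N
  · have h1 : x * k * x⁻¹ = ((conjAut N x hx ⟨k, hk⟩ : N) : G) := rfl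
    rw [h1, coeff_incl_mem, coeff_blockIdem]
    have h2 := coeff_incl_mem N (blockIdem A) ⟨k, hk⟩
    simp only [coeff_blockIdem] at h2
    rw [h2]
    exact blockCoeff_cj_image _ A _
  · rw [coeff_incl_not_mem N _ hk, coeff_incl_not_mem N _
      (fun h => hk ((conj_mem_iff_of_mem_normalizer N hx k).1 h))]

/-- Conjugating `h` by an element `u` centralizing `x` conjugates `h⁻¹ x`. -/
theorem conj_inv_mul_eq {u x : G} (hux : u * x = x * u) (h : G) :
    (u * h * u⁻¹)⁻¹ * x = u * (h⁻¹ * x) * u⁻¹ := by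
  have h3 : u⁻¹ * x = x * u⁻¹ := by
    calc u⁻¹ * x = u⁻¹ * (x * u) * u⁻¹ := by group
      _ = u⁻¹ * (u * x) * u⁻¹ := by rw [hux]
      _ = x * u⁻¹ := by group
  calc (u * h * u⁻¹)⁻¹ * x = u * h⁻¹ * (u⁻¹ * x) := by group
    _ = u * h⁻¹ * (x * u⁻¹) := by rw [h3]
    _ = u * (h⁻¹ * x) * u⁻¹ := by group

/-- **Knörr, easy direction (refined).** For a defect group `P` of `B` there is a `P`-stable block
`c` of `N` with `e_B e_c ≠ 0` and `P ∩ N` contained in a defect group of `c`. -/
theorem exists_stable_block_ge [Fact p.Prime] (hM : IsPModular p M)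
    {B : Set (IrrCharacter G)} (hB : IsPBlock M B) (P : Subgroup G)
    (hP : IsDefectGroup p M B P) :
    ∃ c : Set (IrrCharacter N), IsPBlock M c ∧ (∀ x ∈ P, StabilizesBlock N c x) ∧
      blockIdem B * incl N (blockIdem c) ≠ 0 ∧
      ∃ E : Subgroup N, IsDefectGroup p M c E ∧ (P ⊓ N).subgroupOf N ≤ E := by
  classical
  haveI hPr := isPrime_of_isPModular hM
  haveI : Fintype (IrrCharacter N) := Fintype.ofFinite _
  have hPp : IsPGroup p P := isPGroup_of_isDefectGroup hP
  obtain ⟨χ₁, rfl⟩ := hB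
  obtain ⟨x, hx, S, hS⟩ := hP
  set B := blockOf M (χ₁ : G → ℂ) with hBdef
  have hPx : ∀ u ∈ P, u * x = x * u := by
    intro u hu
    rw [hS] at hu
    obtain ⟨w, _, rfl⟩ := hu
    exact Subgroup.mem_centralizer_singleton_iff.1 w.2
  have hPN : P ≤ Subgroup.normalizer (N : Set G) := by
    rw [Subgroup.normalizer_eq_top]
    exact le_top
  have heBi : blockIdem B ∈ intCoeff (G := G) M := fun g => blockIdem_memLocalRing hM χ₁ g
  set T : Set (IrrCharacter N) → ℂ := fun A => (incl N (blockIdem A) * blockIdem B).coeff x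
    with hTdef
  have hTsum : ∑ A ∈ blocks M N, T A = blockCoeff B x := by
    have h1 : ∑ A ∈ blocks M N, T A =
        ((∑ A ∈ blocks M N, incl N (blockIdem A)) * blockIdem B).coeff x := by
      rw [Finset.sum_mul, coeff_sum']
    rw [h1, ← map_sum]
    have h2 : ∑ A ∈ blocks M N, blockIdem A = (1 : MonoidAlgebra ℂ N) := sum_blockIdem_eq_one
    rw [h2, map_one, one_mul, coeff_blockIdem]
  have hTR : ∀ A, IsPBlock M A → MemLocalRing M (T A) := by
    rintro A ⟨θ, rfl⟩
    have h1 : incl N (blockIdem (blockOf M (θ : N → ℂ))) ∈ intCoeff (G := G) M :=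
      fun g => incl_memLocalRing N (fun k => blockIdem_memLocalRing hM θ k) g
    exact (Subring.mul_mem _ h1 heBi) x
  have hTinv : ∀ (q : P) (A : Set (IrrCharacter N)),
      T (cj (BrauerNormal.conjHom P N hPN q) '' A) = T A := by
    intro q A
    rw [hTdef]
    simp only
    rw [coeff_mul_eq_sum, coeff_mul_eq_sum]
    refine (Fintype.sum_equiv (MulAut.conj (q : G)).toEquiv _ _ (fun h => ?_)).symm
    simp only [MulEquiv.toEquiv_eq_coe, EquivLike.coe_coe, MulAut.conj_apply]
    rw [BrauerNormal.conjHom_apply, coeff_incl_blockIdem_cj, conj_inv_mul_eq (hPx q q.2), coeff_blockIdem,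
      coeff_blockIdem, blockCoeff_conj]
  have hTne : ¬ MemLocalIdeal M (∑ A ∈ blocks M N, T A) := by
    rw [hTsum]
    exact hx.2.1
  obtain ⟨c, hc, hst, hTc⟩ := exists_stable_block_not_mem hM P hPp N hPN T hTR hTinv hTne
  have hTc' : T c = ∑ h : G, (incl N (blockIdem c)).coeff h * blockCoeff B (h⁻¹ * x) := by
    rw [hTdef]
    simp only
    rw [coeff_mul_eq_sum]
    rfl
  obtain ⟨θc, hθc⟩ := hc
  have hci : incl N (blockIdem c) ∈ intCoeff (G := G) M := by
    rw [hθc]
    exact fun g => incl_memLocalRing N (fun k => blockIdem_memLocalRing hM θc k) g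
  rw [hTc'] at hTc
  obtain ⟨h, hPh, hFh⟩ := exists_fixed_not_mem hM P hPp
    (fun h => (incl N (blockIdem c)).coeff h * blockCoeff B (h⁻¹ * x))
    (fun h => memLocalRing_mul (hci h) (blockIdem_memLocalRing hM χ₁ _))
    (by
      intro u hu h
      show (incl N (blockIdem c)).coeff (u * h * u⁻¹) * blockCoeff B ((u * h * u⁻¹)⁻¹ * x) =
        (incl N (blockIdem c)).coeff h * blockCoeff B (h⁻¹ * x)
      rw [invUnder_incl_blockIdem_of_stab N u ⟨θc, hθc⟩ (hst u hu) h,
        conj_inv_mul_eq (hPx u hu), blockCoeff_conj])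
    hTc
  have hhN : h ∈ N := by
    by_contra hh
    apply hFh
    rw [coeff_incl_not_mem N _ hh, zero_mul]
    exact memLocalIdeal_zero hPr.ne_top
  have hβc : ¬ MemLocalIdeal M (blockCoeff c ⟨h, hhN⟩) := by
    intro h1
    apply hFh
    have h2 := coeff_incl_mem N (blockIdem c) ⟨h, hhN⟩
    simp only [coeff_blockIdem] at h2
    rw [h2]
    exact memLocalIdeal_mul_right h1 (blockIdem_memLocalRing hM χ₁ _)
  refine ⟨c, ⟨θc, hθc⟩, hst, ?_, ?_⟩
  · intro h0
    apply hFh
    have h1 : incl N (blockIdem c) * blockIdem B = 0 := by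
      rw [(Subalgebra.mem_center_iff.1 (blockIdem_mem_center B)) _, h0]
    exfalso
    apply hTc
    rw [← hTc', hTdef]
    simp only
    rw [h1]
    exact memLocalIdeal_zero hPr.ne_top
  · have hQp : IsPGroup p ((P ⊓ N).subgroupOf N) := (hPp.to_le inf_le_left).comap_subtype
    have hQh : (P ⊓ N).subgroupOf N ≤ Subgroup.centralizer ({(⟨h, hhN⟩ : N)} : Set N) := by
      intro w hw
      rw [Subgroup.mem_centralizer_singleton_iff]
      apply Subtype.ext
      have h1 : (w : G) ∈ P := (Subgroup.mem_subgroupOf.1 hw).1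
      exact Subgroup.mem_centralizer_singleton_iff.1 (hPh h1)
    rw [hθc] at hβc ⊢
    exact exists_isDefectGroup_ge_of_blockCoeff hM θc ⟨h, hhN⟩ hβc _ hQp hQh

end TheoremE

section Covers

variable {G : Type*} [Group G] [Fintype G] (N : Subgroup G) [hN : N.Normal] [Fintype N]
  {p : ℕ} {M : Ideal AlgInt}

omit [Fintype G] hN in
theorem blockIdem_mul_of_subset {A A' : Set (IrrCharacter N)} (h : A ⊆ A') :
    blockIdem A' * blockIdem A = blockIdem A := by
  classical
  refine eq_of_forall_omega_eq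
    (Subalgebra.mul_mem _ (blockIdem_mem_center A') (blockIdem_mem_center A))
    (blockIdem_mem_center A) (fun ψ => ?_)
  rw [omega_mul ψ.2 (blockIdem_mem_center A'), omega_blockIdem, omega_blockIdem]
  by_cases hψ : ψ ∈ A
  · rw [if_pos hψ, if_pos (h hψ), one_mul]
  · rw [if_neg hψ, mul_zero]

theorem blockIdem_mul_orbitIdem_eq_zero (B : Set (IrrCharacter G)) (A : Set (IrrCharacter N))
    (h : ∀ χ ∈ B, ∀ θ ∈ A, classInner (fun n : N => (χ : G → ℂ) n) (θ : N → ℂ) = 0) :
    blockIdem B * orbitIdem N A = 0 := by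
  classical
  refine eq_of_forall_omega_eq
    (Subalgebra.mul_mem _ (blockIdem_mem_center B) (orbitIdem_mem_center N A))
    (Subalgebra.zero_mem _) (fun χ => ?_)
  have h0 : omega (χ : G → ℂ) (0 : MonoidAlgebra ℂ G) = 0 := by simp [omega, charEval_zero]
  rw [omega_mul χ.2 (blockIdem_mem_center B), omega_blockIdem, h0]
  by_cases hχ : χ ∈ B
  · rw [if_pos hχ, one_mul]
    obtain ⟨ψ, hψ⟩ := exists_constituent_restrict N χ
    rw [omega_orbitIdem N _ χ ψ hψ, if_neg]
    rintro ⟨g, hg⟩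
    apply hψ
    have h5 := BlockCover.classInner_conjChar N (irr_isClassFunction χ) (ψ : N → ℂ) g
    have h6 : conjChar N (ψ : N → ℂ) g = (conjIrr N ψ g : N → ℂ) := rfl
    rw [h6] at h5
    rw [← h5]
    exact h χ hχ _ hg
  · rw [if_neg hχ, zero_mul]

/-- `e_B e_c ≠ 0` implies that `B` covers `c`. -/
theorem covers_of_mul_ne_zero (B : Set (IrrCharacter G)) (c : Set (IrrCharacter N))
    (hne : blockIdem B * incl N (blockIdem c) ≠ 0) :
    ∃ χ ∈ B, ∃ θ ∈ c, classInner (fun n : N => (χ : G → ℂ) n) (θ : N → ℂ) ≠ 0 := by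
  by_contra hcon
  push_neg at hcon
  apply hne
  have h1 := blockIdem_mul_orbitIdem_eq_zero N B c hcon
  have h2 : incl N (blockIdem c) = orbitIdem N c * incl N (blockIdem c) := by
    rw [orbitIdem, ← incl_eq_extAlg, ← map_mul, blockIdem_mul_of_subset N (subset_orbitSet N c)]
  rw [h2, ← mul_assoc, h1, zero_mul]

omit [Fintype G] hN in
theorem blockDefect_cj_image (σ : MulAut N) (A : Set (IrrCharacter N)) :
    blockDefect p (cj σ '' A) = blockDefect p A := by
  unfold blockDefect
  congr 2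
  rw [Set.image_image]
  congr 1
  funext χ
  rw [charDegree_cj]

/-- Two blocks of `N` covered by the same block of `G` have the same defect. -/
theorem blockDefect_eq_of_covers (hM : IsPModular p M)
    {B : Set (IrrCharacter G)} (hB : IsPBlock M B)
    {b c : Set (IrrCharacter N)} (hb : IsPBlock M b) (hc : IsPBlock M c)
    (hcovb : ∃ χ ∈ B, ∃ θ ∈ b, classInner (fun n : N => (χ : G → ℂ) n) (θ : N → ℂ) ≠ 0)
    (hcovc : ∃ χ ∈ B, ∃ θ ∈ c, classInner (fun n : N => (χ : G → ℂ) n) (θ : N → ℂ) ≠ 0) :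
    blockDefect p c = blockDefect p b := by
  haveI hPr := isPrime_of_isPModular hM
  obtain ⟨χ, hχ, θ, hθ, hcon⟩ := hcovb
  obtain ⟨χ', hχ', ψ, hψ, hcon'⟩ := hcovc
  obtain ⟨χ₁, rfl⟩ := hB
  have hs : SameBlock M (χ : G → ℂ) (χ' : G → ℂ) := sameBlock_trans (sameBlock_symm hχ) hχ'
  obtain ⟨g, hg⟩ := exists_conj_mem_of_sameBlock N hM χ χ' hs θ ψ hcon hcon'
  -- `conjIrr N ψ g ∈ blockOf θ = b`
  obtain ⟨θ₁, rfl⟩ := hb
  obtain ⟨ψ₁, rfl⟩ := hc
  have h1 : blockOf M (θ : N → ℂ) = blockOf M (θ₁ : N → ℂ) := blockOf_eq_of_mem hθ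
  have h2 : blockOf M (ψ : N → ℂ) = blockOf M (ψ₁ : N → ℂ) := blockOf_eq_of_mem hψ
  have h3 : blockOf M (conjIrr N ψ g : N → ℂ) = blockOf M (θ : N → ℂ) := blockOf_eq_of_mem hg
  rw [← h1, ← h2, ← h3, conjIrr_eq_cj, ← cj_image_blockOf, blockDefect_cj_image]

end Covers

section Main

variable {G : Type*} [Group G] [Fintype G] (N : Subgroup G) [hN : N.Normal] [Fintype N]
  {p : ℕ} {M : Ideal AlgInt}

/-- **S4671.** For a defect group `P` of `B` there is a `P`-stable block `c` of `N` covered by `B`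
with defect group `P ∩ N`. -/
theorem exists_stable_block_defect [Fact p.Prime] (hM : IsPModular p M)
    {B : Set (IrrCharacter G)} (hB : IsPBlock M B) (P : Subgroup G)
    (hP : IsDefectGroup p M B P) :
    ∃ c : Set (IrrCharacter N), IsPBlock M c ∧ (∀ x ∈ P, StabilizesBlock N c x) ∧
      (∃ χ ∈ B, ∃ θ ∈ c, classInner (fun n : N => (χ : G → ℂ) n) (θ : N → ℂ) ≠ 0) ∧
      IsDefectGroup p M c ((P ⊓ N).subgroupOf N) := by
  obtain ⟨c, hc, hst, hne, E, hE, hle⟩ := exists_stable_block_ge N hM hB P hP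
  have hcov := covers_of_mul_ne_zero N B c hne
  refine ⟨c, hc, hst, hcov, ?_⟩
  have hQE' : (E.map N.subtype).subgroupOf N = E :=
    Subgroup.comap_map_eq_self_of_injective N.subtype_injective E
  have hQEN : E.map N.subtype ≤ N := Subgroup.map_subtype_le E
  obtain ⟨P', hP', hQEP'⟩ := exists_defectGroup_ge N hM hB hc hcov (E.map N.subtype) hQEN
    (by rw [hQE']; exact hE)
  obtain ⟨χ₁, rfl⟩ := hB
  obtain ⟨g, hg⟩ := isDefectGroup_conj hM χ₁ hP hP'
  -- `E` conjugated by `g⁻¹` lies in `P ∩ N`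
  have h1 : (E.map N.subtype).map (MulAut.conj g⁻¹).toMonoidHom ≤ P ⊓ N := by
    rintro _ ⟨e, he, rfl⟩
    refine ⟨?_, ?_⟩
    · have h2 := hQEP' he
      rw [hg] at h2
      obtain ⟨u, hu, rfl⟩ := h2
      simp only [MulEquiv.coe_toMonoidHom, MulAut.conj_apply, inv_inv]
      have : g⁻¹ * (g * u * g⁻¹) * g = u := by group
      rw [this]
      exact hu
    · simp only [MulEquiv.coe_toMonoidHom, MulAut.conj_apply, inv_inv]
      have := hN.conj_mem e (hQEN he) g⁻¹
      simpa using this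
  have h2 : Nat.card E ≤ Nat.card ((P ⊓ N).subgroupOf N) := by
    calc Nat.card E = Nat.card (E.map N.subtype) := (Subgroup.card_subtype N E).symm
      _ = Nat.card ((E.map N.subtype).map (MulAut.conj g⁻¹).toMonoidHom) :=
        (Subgroup.card_map_of_injective (MulAut.conj g⁻¹).injective).symm
      _ ≤ Nat.card (P ⊓ N : Subgroup G) := Subgroup.card_le_of_le h1
      _ = Nat.card ((P ⊓ N).subgroupOf N) :=
        (Nat.card_congr (Subgroup.subgroupOfEquivOfLe (inf_le_right : P ⊓ N ≤ N)).toEquiv).symm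
  have h3 : (P ⊓ N).subgroupOf N = E := Subgroup.eq_of_le_of_card_ge hle h2
  rw [h3]
  exact hE

/-- **S4438 (Knörr).** A block covering `b` has a defect group `P` with `P ∩ N` a given defect
group of `b`. -/
theorem exists_defectGroup_inf_eq [Fact p.Prime] (hM : IsPModular p M)
    {B : Set (IrrCharacter G)} (hB : IsPBlock M B)
    {b : Set (IrrCharacter N)} (hb : IsPBlock M b)
    (hcov : ∃ χ ∈ B, ∃ θ ∈ b, classInner (fun n : N => (χ : G → ℂ) n) (θ : N → ℂ) ≠ 0)
    (Q : Subgroup G) (hQN : Q ≤ N) (hQ : IsDefectGroup p M b (Q.subgroupOf N)) :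
    ∃ P : Subgroup G, IsDefectGroup p M B P ∧ P ⊓ N = Q := by
  obtain ⟨P, hP, hQP⟩ := exists_defectGroup_ge N hM hB hb hcov Q hQN hQ
  obtain ⟨c, hc, _, hcovc, hDc⟩ := exists_stable_block_defect N hM hB P hP
  refine ⟨P, hP, ?_⟩
  have h1 : Nat.card ((P ⊓ N).subgroupOf N) = Nat.card (Q.subgroupOf N) := by
    rw [BrauerFully.card_of_isDefectGroup hM hc hDc, BrauerFully.card_of_isDefectGroup hM hb hQ,
      blockDefect_eq_of_covers N hM hB hb hc hcov hcovc]
  have h2 : Q.subgroupOf N ≤ (P ⊓ N).subgroupOf N := by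
    intro w hw
    exact Subgroup.mem_subgroupOf.2 ⟨hQP (Subgroup.mem_subgroupOf.1 hw), w.2⟩
  have h3 : Q.subgroupOf N = (P ⊓ N).subgroupOf N :=
    Subgroup.eq_of_le_of_card_ge h2 (le_of_eq h1)
  have h4 := congrArg (Subgroup.map N.subtype) h3
  rw [Subgroup.subgroupOf_map_subtype, Subgroup.subgroupOf_map_subtype, inf_assoc, inf_idem,
    inf_eq_left.2 hQN] at h4
  exact h4.symm

end Main

end Cfsg.Agent.Lib.L0.Knorr
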