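import Mathlib
import Cfsg.Prelude.Def_Blocks
import Cfsg.Agent.Lib.L0.Knorr
import Cfsg.Agent.Lib.H23.BlockQuotient
import Cfsg.Agent.Lib.H23.BlockQuotientP
import Cfsg.Agent.Lib.H23.BlockVanish
import Cfsg.Agent.Lib.H23.BlockVanishP
import Cfsg.Agent.Lib.H23.BlockDefectConj
import Cfsg.Agent.Lib.L0.BrauerAutomizer

/-!
# Defect groups of blocks of a quotient group (lead)

`N ⊴ G`, `Ḡ = G ⧸ N`.
* `pushAlg N z`: the image of `z ∈ ℂG` in `ℂḠ`;
* `exists_defectGroup_map_ge` (S4433): if the block `B̄` of `Ḡ` is contained in the block `B` of `G`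
  then every defect group of `B̄` lies in the image of a defect group of `B`.
-/

set_option autoImplicit false

namespace Cfsg.Agent.Lib.L0.BlockQuotDefect

open Cfsg MonoidAlgebra Cfsg.Agent.Lib.H23 Cfsg.Agent.Lib.H24 Cfsg.Agent.Lib.L0
  Cfsg.Agent.Lib.L0.GradedNil Cfsg.Agent.Lib.L0.Knorr
open scoped ComplexConjugate

section Push

variable {G : Type*} [Group G] [Fintype G] (N : Subgroup G) [hN : N.Normal] [Fintype (G ⧸ N)]

open scoped Classical in
/-- The image of a group algebra element in the group algebra of the quotient. -/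
noncomputable def pushAlg (z : MonoidAlgebra ℂ G) : MonoidAlgebra ℂ (G ⧸ N) :=
  ofFun (fun r : G ⧸ N => ∑ h : G, if (QuotientGroup.mk h : G ⧸ N) = r then z.coeff h else 0)

open scoped Classical in
theorem coeff_pushAlg (z : MonoidAlgebra ℂ G) (r : G ⧸ N) :
    (pushAlg N z).coeff r =
      ∑ h : G, if (QuotientGroup.mk h : G ⧸ N) = r then z.coeff h else 0 := rfl

theorem sum_pushAlg_mul (z : MonoidAlgebra ℂ G) (F : G ⧸ N → ℂ) :
    ∑ r : G ⧸ N, (pushAlg N z).coeff r * F r = ∑ h : G, z.coeff h * F (QuotientGroup.mk h) := by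
  classical
  simp only [coeff_pushAlg, Finset.sum_mul]
  rw [Finset.sum_comm]
  refine Finset.sum_congr rfl (fun h _ => ?_)
  rw [Finset.sum_eq_single (QuotientGroup.mk h : G ⧸ N)]
  · rw [if_pos rfl]
  · intro r _ hr
    rw [if_neg (Ne.symm hr), zero_mul]
  · intro h0
    exact absurd (Finset.mem_univ _) h0

theorem charEval_pushAlg (ψ : G ⧸ N → ℂ) (z : MonoidAlgebra ℂ G) :
    charEval ψ (pushAlg N z) = charEval (ψ ∘ QuotientGroup.mk) z := by
  unfold charEval
  exact sum_pushAlg_mul N z ψ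

theorem omega_pushAlg (ψ : IrrCharacter (G ⧸ N)) (z : MonoidAlgebra ℂ G) :
    omega (ψ : G ⧸ N → ℂ) (pushAlg N z) = omega (inflIrr N ψ : G → ℂ) z := by
  unfold omega
  rw [charEval_pushAlg]
  have h1 : (inflIrr N ψ : G → ℂ) = (ψ : G ⧸ N → ℂ) ∘ QuotientGroup.mk := by
    funext g
    rw [inflIrr_apply]
    rfl
  rw [h1]
  rfl

theorem pushAlg_mem_center {z : MonoidAlgebra ℂ G}
    (hz : z ∈ Subalgebra.center ℂ (MonoidAlgebra ℂ G)) :
    pushAlg N z ∈ Subalgebra.center ℂ (MonoidAlgebra ℂ (G ⧸ N)) := by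
  classical
  apply mem_center_of_classFunction
  intro r s
  obtain ⟨t, rfl⟩ := QuotientGroup.mk_surjective s
  rw [coeff_pushAlg, coeff_pushAlg]
  refine (Fintype.sum_equiv (MulAut.conj t).toEquiv _ _ (fun h => ?_)).symm
  simp only [MulEquiv.toEquiv_eq_coe, EquivLike.coe_coe, MulAut.conj_apply]
  rw [coeff_conj_of_mem_center hz]
  have h1 : (QuotientGroup.mk (t * h * t⁻¹) : G ⧸ N) =
      (QuotientGroup.mk t : G ⧸ N) * QuotientGroup.mk h * (QuotientGroup.mk t : G ⧸ N)⁻¹ := by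
    rw [QuotientGroup.mk_mul, QuotientGroup.mk_mul, QuotientGroup.mk_inv]
  have h2 : ((QuotientGroup.mk (t * h * t⁻¹) : G ⧸ N) =
      (QuotientGroup.mk t : G ⧸ N) * r * (QuotientGroup.mk t : G ⧸ N)⁻¹) ↔
      (QuotientGroup.mk h : G ⧸ N) = r := by
    rw [h1]
    constructor
    · intro h3
      exact mul_left_cancel (mul_right_cancel h3)
    · intro h3
      rw [h3]
  exact if_congr h2.symm rfl rfl

theorem coeff_mul_pushAlg (v : MonoidAlgebra ℂ (G ⧸ N)) (z : MonoidAlgebra ℂ G) (q : G ⧸ N) :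
    (v * pushAlg N z).coeff q =
      ∑ h : G, v.coeff (q * (QuotientGroup.mk h : G ⧸ N)⁻¹) * z.coeff h := by
  rw [coeff_mul_eq_sum']
  have h1 := sum_pushAlg_mul N z (fun r => v.coeff (q * r⁻¹))
  simp only [mul_comm ((pushAlg N z).coeff _)] at h1
  rw [h1]
  refine Finset.sum_congr rfl (fun h _ => ?_)
  rw [mul_comm]

/-- If the inflations of the members of `B̄` lie in `B` then `e_B̄ π(e_B) = e_B̄`. -/
theorem blockIdem_mul_pushAlg (Bbar : Set (IrrCharacter (G ⧸ N))) (B : Set (IrrCharacter G))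
    (hsub : ∀ ψ ∈ Bbar, inflIrr N ψ ∈ B) :
    blockIdem Bbar * pushAlg N (blockIdem B) = blockIdem Bbar := by
  classical
  refine eq_of_forall_omega_eq
    (Subalgebra.mul_mem _ (blockIdem_mem_center Bbar)
      (pushAlg_mem_center N (blockIdem_mem_center B)))
    (blockIdem_mem_center Bbar) (fun ψ => ?_)
  rw [omega_mul ψ.2 (blockIdem_mem_center Bbar), omega_blockIdem, omega_pushAlg, omega_blockIdem]
  by_cases hψ : ψ ∈ Bbar
  · rw [if_pos hψ, if_pos (hsub ψ hψ), one_mul]
  · rw [if_neg hψ, zero_mul]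

end Push

section Lift

variable {G : Type*} [Group G] [Finite G] (N : Subgroup G) [hN : N.Normal]

/-- A `p`-subgroup of the quotient is the image of a `p`-subgroup. -/
theorem exists_pgroup_map_eq (p : ℕ) [Fact p.Prime] (Dbar : Subgroup (G ⧸ N))
    (hD : IsPGroup p Dbar) :
    ∃ D : Subgroup G, IsPGroup p D ∧ D.map (QuotientGroup.mk' N) = Dbar := by
  set π := QuotientGroup.mk' N with hπ
  have hsurj : Function.Surjective (π.subgroupComap Dbar) :=
    MonoidHom.subgroupComap_surjective_of_surjective π Dbar (QuotientGroup.mk'_surjective N)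
  obtain ⟨Q₀⟩ : Nonempty (Sylow p (Dbar.comap π)) := inferInstance
  refine ⟨(Q₀ : Subgroup (Dbar.comap π)).map (Dbar.comap π).subtype, Q₀.2.map _, ?_⟩
  apply le_antisymm
  · rintro _ ⟨_, ⟨x, _, rfl⟩, rfl⟩
    exact x.2
  · intro d hd
    have htop : ((Q₀.mapSurjective hsurj : Sylow p Dbar) : Subgroup Dbar) = ⊤ := by
      have h1 : IsPGroup p (⊤ : Subgroup Dbar) := by
        intro g
        obtain ⟨k, hk⟩ := hD g.1
        exact ⟨k, Subtype.ext (by simpa using hk)⟩
      exact ((Q₀.mapSurjective hsurj).3 h1 le_top).symm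
    have h2 : (⟨d, hd⟩ : Dbar) ∈ ((Q₀.mapSurjective hsurj : Sylow p Dbar) : Subgroup Dbar) := by
      rw [htop]
      exact Subgroup.mem_top _
    rw [Sylow.coe_mapSurjective] at h2
    obtain ⟨x, hx, hxd⟩ := h2
    refine ⟨x.1, ⟨x, hx, rfl⟩, ?_⟩
    exact congrArg Subtype.val hxd

end Lift

section QuotDefect

variable {G : Type*} [Group G] [Fintype G] (N : Subgroup G) [hN : N.Normal]
  {p : ℕ} {M : Ideal AlgInt}

/-- **S4433.** -/
theorem exists_defectGroup_map_ge [Fact p.Prime] (hM : IsPModular p M)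
    {Bbar : Set (IrrCharacter (G ⧸ N))} (hBbar : IsPBlock M Bbar)
    {B : Set (IrrCharacter G)} (hB : IsPBlock M B)
    (hsub : ∀ ψ ∈ Bbar, inflIrr N ψ ∈ B) (Dbar : Subgroup (G ⧸ N))
    (hDbar : IsDefectGroup p M Bbar Dbar) :
    ∃ P : Subgroup G, IsDefectGroup p M B P ∧ Dbar ≤ P.map (QuotientGroup.mk' N) := by
  classical
  haveI hP := isPrime_of_isPModular hM
  haveI : Fintype (G ⧸ N) := Fintype.ofFinite _
  have hDp : IsPGroup p Dbar := isPGroup_of_isDefectGroup hDbar
  obtain ⟨ψ₁, rfl⟩ := hBbar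
  obtain ⟨χ₁, rfl⟩ := hB
  set Bbar := blockOf M (ψ₁ : G ⧸ N → ℂ) with hBbardef
  set B := blockOf M (χ₁ : G → ℂ) with hBdef
  obtain ⟨q, hq, S, hS⟩ := hDbar
  have hDq : ∀ u ∈ Dbar, u * q = q * u := by
    intro u hu
    rw [hS] at hu
    obtain ⟨w, _, rfl⟩ := hu
    exact Subgroup.mem_centralizer_singleton_iff.1 w.2
  obtain ⟨D, hDpg, hDmap⟩ := exists_pgroup_map_eq N p Dbar hDp
  have hsum : blockCoeff Bbar q =
      ∑ h : G, blockCoeff Bbar (q * (QuotientGroup.mk h : G ⧸ N)⁻¹) * blockCoeff B h := by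
    have h1 := congrArg (fun z : MonoidAlgebra ℂ (G ⧸ N) => z.coeff q)
      (blockIdem_mul_pushAlg N Bbar B hsub)
    simp only [coeff_mul_pushAlg, coeff_blockIdem] at h1
    exact h1.symm
  have hne : ¬ MemLocalIdeal M
      (∑ h : G, blockCoeff Bbar (q * (QuotientGroup.mk h : G ⧸ N)⁻¹) * blockCoeff B h) := by
    rw [← hsum]
    exact hq.2.1
  obtain ⟨h, hDh, hFh⟩ := exists_fixed_not_mem hM D hDpg
    (fun h => blockCoeff Bbar (q * (QuotientGroup.mk h : G ⧸ N)⁻¹) * blockCoeff B h)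
    (fun h => memLocalRing_mul (blockIdem_memLocalRing hM ψ₁ _) (blockIdem_memLocalRing hM χ₁ h))
    (by
      intro u hu h
      show blockCoeff Bbar (q * (QuotientGroup.mk (u * h * u⁻¹) : G ⧸ N)⁻¹) *
          blockCoeff B (u * h * u⁻¹) =
        blockCoeff Bbar (q * (QuotientGroup.mk h : G ⧸ N)⁻¹) * blockCoeff B h
      rw [blockCoeff_conj]
      congr 1
      have hu' : (QuotientGroup.mk u : G ⧸ N) ∈ Dbar := by
        rw [← hDmap]
        exact Subgroup.mem_map_of_mem _ hu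
      have h1 := hDq _ hu'
      have h2 : q * (QuotientGroup.mk (u * h * u⁻¹) : G ⧸ N)⁻¹ =
          (QuotientGroup.mk u : G ⧸ N) * (q * (QuotientGroup.mk h : G ⧸ N)⁻¹) *
            (QuotientGroup.mk u : G ⧸ N)⁻¹ := by
        rw [QuotientGroup.mk_mul, QuotientGroup.mk_mul, QuotientGroup.mk_inv]
        calc q * ((QuotientGroup.mk u : G ⧸ N) * QuotientGroup.mk h *
              (QuotientGroup.mk u : G ⧸ N)⁻¹)⁻¹
            = (q * (QuotientGroup.mk u : G ⧸ N)) * (QuotientGroup.mk h : G ⧸ N)⁻¹ *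
              (QuotientGroup.mk u : G ⧸ N)⁻¹ := by group
          _ = ((QuotientGroup.mk u : G ⧸ N) * q) * (QuotientGroup.mk h : G ⧸ N)⁻¹ *
              (QuotientGroup.mk u : G ⧸ N)⁻¹ := by rw [h1]
          _ = _ := by group
      rw [h2, blockCoeff_conj])
    hne
  have hβ : ¬ MemLocalIdeal M (blockCoeff B h) := by
    intro h1
    exact hFh (memLocalIdeal_mul_left (blockIdem_memLocalRing hM ψ₁ _) h1)
  obtain ⟨E, hE, hDE⟩ := exists_isDefectGroup_ge_of_blockCoeff hM χ₁ h hβ D hDpg hDh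
  refine ⟨E, hE, ?_⟩
  rw [← hDmap]
  exact Subgroup.map_mono hDE

end QuotDefect

section ConjDefect

variable {G : Type*} [Group G] [Fintype G] {p : ℕ} {M : Ideal AlgInt}

theorem irrEquiv_conj_image (c : G) (f : Set (IrrCharacter G)) :
    irrEquiv (MulAut.conj c) '' f = f := by
  have h : ∀ θ : IrrCharacter G, irrEquiv (MulAut.conj c) θ = θ := by
    intro θ
    apply Subtype.ext
    funext a
    rw [irrEquiv_apply]
    simp only [MulAut.conj_apply]
    exact irr_conj θ a c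
  ext θ
  constructor
  · rintro ⟨θ', hθ', rfl⟩
    rwa [h]
  · intro hθ
    exact ⟨θ, hθ, h θ⟩

/-- Conjugates of defect groups are defect groups. -/
theorem isDefectGroup_map_conj [Fact p.Prime] {f : Set (IrrCharacter G)} {D : Subgroup G}
    (hD : IsDefectGroup p M f D) (c : G) :
    IsDefectGroup p M f (D.map (MulAut.conj c).toMonoidHom) := by
  have h1 := BrauerAutomizer.isDefectGroup_irrEquiv_image (M := M) (p := p)
    (MulAut.conj c⁻¹) f D hD
  rw [irrEquiv_conj_image, Subgroup.comap_equiv_eq_map_symm'] at h1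
  have h2 : (MulAut.conj c⁻¹ : G ≃* G).symm = MulAut.conj c := by
    ext x
    simp [MulAut.conj_symm_apply]
  rw [h2] at h1
  exact h1

end ConjDefect

section QuotP

variable {G : Type*} [Group G] [Fintype G] (N : Subgroup G) [hN : N.Normal]
  {p : ℕ} {M : Ideal AlgInt}

theorem pushAlg_mem_intCoeff [Fintype (G ⧸ N)] [hP : M.IsPrime] {z : MonoidAlgebra ℂ G}
    (hz : z ∈ intCoeff (G := G) M) : pushAlg N z ∈ intCoeff (G := G ⧸ N) M := by
  classical
  intro r
  rw [coeff_pushAlg]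
  refine memLocalRing_sum _ _ (fun h _ => ?_)
  split_ifs
  · exact hz h
  · exact memLocalRing_zero hP.ne_top

/-- Inflation preserves the block relation. -/
theorem sameBlock_inflIrr [hP : M.IsPrime] {ψ φ : IrrCharacter (G ⧸ N)}
    (h : SameBlock M (ψ : G ⧸ N → ℂ) (φ : G ⧸ N → ℂ)) :
    SameBlock M (inflIrr N ψ : G → ℂ) (inflIrr N φ : G → ℂ) := by
  classical
  haveI : Fintype (G ⧸ N) := Fintype.ofFinite _
  intro g
  rw [← omega_classSum (irr_isClassFunction (inflIrr N ψ)),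
    ← omega_classSum (irr_isClassFunction (inflIrr N φ)), ← omega_pushAlg, ← omega_pushAlg]
  exact omega_sub_memLocalIdeal h (pushAlg_mem_center N (classSum_mem_center g))
    (pushAlg_mem_intCoeff N (classSum_mem_intCoeff g))

/-- For a `p`-regular element centralized by the normal `p`-subgroup `N`, the class sizes in `G`
and `G ⧸ N` agree. -/
theorem index_centralizer_mk_of_le (hp : p.Prime) (hNp : IsPGroup p N) {g : G}
    (hg : ¬ p ∣ orderOf g) (hNg : N ≤ Subgroup.centralizer ({g} : Set G)) :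
    (Subgroup.centralizer ({(g : G ⧸ N)} : Set (G ⧸ N))).index =
      (Subgroup.centralizer ({g} : Set G)).index := by
  classical
  haveI : Fact p.Prime := ⟨hp⟩
  rw [index_centralizer_eq_card_conj, index_centralizer_eq_card_conj]
  symm
  have hreg : ∀ x : G, IsConj g x → ¬ p ∣ orderOf x := by
    intro x hx
    rwa [← Cfsg.Agent.Lib.H23.orderOf_eq_of_isConj hx]
  have hcent : ∀ x : G, IsConj g x → ∀ u ∈ N, Commute u x := by
    intro x hx u hu
    obtain ⟨c, rfl⟩ := isConj_iff.1 hx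
    have h1 : c⁻¹ * u * c ∈ N := by
      have := hN.conj_mem u hu c⁻¹
      simpa using this
    have h2 := Subgroup.mem_centralizer_singleton_iff.1 (hNg h1)
    show u * (c * g * c⁻¹) = c * g * c⁻¹ * u
    calc u * (c * g * c⁻¹) = c * ((c⁻¹ * u * c) * g) * c⁻¹ := by group
      _ = c * (g * (c⁻¹ * u * c)) * c⁻¹ := by rw [h2]
      _ = c * g * c⁻¹ * u := by group
  refine Nat.card_congr (Equiv.ofBijective
    (fun x : {x : G // IsConj g x} => (⟨(x.1 : G ⧸ N), by
      obtain ⟨c, hc⟩ := isConj_iff.1 x.2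
      rw [isConj_iff]
      exact ⟨(c : G ⧸ N), by rw [← hc]; rfl⟩⟩ : {q : G ⧸ N // IsConj (g : G ⧸ N) q})) ⟨?_, ?_⟩)
  · rintro ⟨x, hx⟩ ⟨x', hx'⟩ h
    have h1 : (x : G ⧸ N) = (x' : G ⧸ N) := congrArg Subtype.val h
    have h2 : x⁻¹ * x' ∈ N := QuotientGroup.eq.1 h1
    set u := x⁻¹ * x' with hu
    have hx'eq : x' = x * u := by rw [hu, mul_inv_cancel_left]
    have hcomm : Commute u x := hcent x hx u h2
    have hupow : ∃ k : ℕ, orderOf u = p ^ k := by
      obtain ⟨k, hk⟩ := (IsPGroup.iff_orderOf.1 hNp) ⟨u, h2⟩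
      exact ⟨k, by rw [← hk, Subgroup.orderOf_mk]⟩
    have hreg' : ¬ p ∣ orderOf (u * x) := by
      rw [hcomm.eq, ← hx'eq]
      exact hreg x' hx'
    have hu1 := eq_one_of_pRegular_mul hp hcomm hupow (hreg x hx) hreg'
    apply Subtype.ext
    show x = x'
    rw [hx'eq, hu1, mul_one]
  · rintro ⟨q, hq⟩
    obtain ⟨c, hc⟩ := isConj_iff.1 hq
    obtain ⟨c₀, rfl⟩ := QuotientGroup.mk_surjective c
    refine ⟨⟨c₀ * g * c₀⁻¹, isConj_iff.2 ⟨c₀, rfl⟩⟩, ?_⟩
    apply Subtype.ext
    show ((c₀ * g * c₀⁻¹ : G) : G ⧸ N) = q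
    rw [← hc]
    rfl

end QuotP

section MainQuot

variable {G : Type*} [Group G] [Fintype G] (N : Subgroup G) [hN : N.Normal]
  {p : ℕ} {M : Ideal AlgInt}

/-- The coefficient of the pushed block idempotent at the image of a `p`-regular element
centralized by the normal `p`-subgroup `N`. -/
theorem coeff_pushAlg_blockIdem [Fintype (G ⧸ N)] (hM : IsPModular p M) (hNp : IsPGroup p N)
    (χ₁ : IrrCharacter G) {x : G} (hx : ¬ p ∣ orderOf x)
    (hNx : N ≤ Subgroup.centralizer ({x} : Set G)) :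
    (pushAlg N (blockIdem (blockOf M (χ₁ : G → ℂ)))).coeff (QuotientGroup.mk x : G ⧸ N) =
      blockCoeff (blockOf M (χ₁ : G → ℂ)) x := by
  classical
  have hp := prime_of_isPModular hM
  haveI : Fact p.Prime := ⟨hp⟩
  rw [coeff_pushAlg, Finset.sum_eq_single x]
  · rw [if_pos rfl, coeff_blockIdem]
  · intro h _ hne
    split_ifs with hh
    · rw [coeff_blockIdem]
      apply blockCoeff_eq_zero_of_dvd_orderOf hM χ₁ h
      by_contra hreg
      apply hne
      have h2 : x⁻¹ * h ∈ N := QuotientGroup.eq.1 hh.symm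
      set u := x⁻¹ * h with hu
      have hheq : h = x * u := by rw [hu, mul_inv_cancel_left]
      have hcomm : Commute u x := Subgroup.mem_centralizer_singleton_iff.1 (hNx h2)
      have hupow : ∃ k : ℕ, orderOf u = p ^ k := by
        obtain ⟨k, hk⟩ := (IsPGroup.iff_orderOf.1 hNp) ⟨u, h2⟩
        exact ⟨k, by rw [← hk, Subgroup.orderOf_mk]⟩
      have hreg' : ¬ p ∣ orderOf (u * x) := by
        rw [hcomm.eq, ← hheq]
        exact hreg
      have hu1 := eq_one_of_pRegular_mul hp hcomm hupow hx hreg'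
      rw [hheq, hu1, mul_one]
    · rfl
  · intro h0
    exact absurd (Finset.mem_univ _) h0

/-- **S4434.** -/
theorem exists_quotient_block [Fact p.Prime] (hM : IsPModular p M) (hNp : IsPGroup p N)
    {B : Set (IrrCharacter G)} (hB : IsPBlock M B) :
    ∃ Bbar : Set (IrrCharacter (G ⧸ N)), IsPBlock M Bbar ∧ (∀ ψ ∈ Bbar, inflIrr N ψ ∈ B) ∧
      ∀ Dbar : Subgroup (G ⧸ N), IsDefectGroup p M Bbar Dbar ↔
        ∃ P : Subgroup G, IsDefectGroup p M B P ∧ Dbar = P.map (QuotientGroup.mk' N) := by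
  classical
  haveI hP := isPrime_of_isPModular hM
  have hp := prime_of_isPModular hM
  haveI : Fintype (G ⧸ N) := Fintype.ofFinite _
  haveI : Fintype (IrrCharacter (G ⧸ N)) := Fintype.ofFinite _
  obtain ⟨χ₁, rfl⟩ := hB
  set B := blockOf M (χ₁ : G → ℂ) with hBdef
  obtain ⟨x, hx⟩ := exists_isDefectClass hM χ₁
  obtain ⟨S⟩ : Nonempty (Sylow p (Subgroup.centralizer ({x} : Set G))) := inferInstance
  set C := Subgroup.centralizer ({x} : Set G) with hC
  set D : Subgroup G := (S : Subgroup C).map C.subtype with hDdef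
  have hD : IsDefectGroup p M B D := ⟨x, hx, S, rfl⟩
  have hND : N ≤ D := normal_le_defectGroup hM χ₁ N hNp D hD
  have hDC : D ≤ C := by
    rintro _ ⟨w, _, rfl⟩
    exact w.2
  have hNC : N ≤ C := hND.trans hDC
  have hxreg : ¬ p ∣ orderOf x := by
    intro hdiv
    apply hx.2.1
    rw [blockCoeff_eq_zero_of_dvd_orderOf hM χ₁ x hdiv]
    exact memLocalIdeal_zero hP.ne_top
  -- the union of blocks `A`
  set A : Set (IrrCharacter (G ⧸ N)) := {ψ | inflIrr N ψ ∈ B} with hA
  have hAun : ∀ θ ∈ A, blockOf M (θ : G ⧸ N → ℂ) ⊆ A := by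
    intro θ hθ φ hφ
    show inflIrr N φ ∈ B
    exact sameBlock_trans hθ (sameBlock_inflIrr N hφ)
  have hw : pushAlg N (blockIdem B) = blockIdem A := by
    refine eq_of_forall_omega_eq (pushAlg_mem_center N (blockIdem_mem_center B))
      (blockIdem_mem_center A) (fun ψ => ?_)
    rw [omega_pushAlg, omega_blockIdem, omega_blockIdem]
    by_cases hψ : ψ ∈ A
    · rw [if_pos hψ, if_pos (show inflIrr N ψ ∈ B from hψ)]
    · rw [if_neg hψ, if_neg (show ¬ inflIrr N ψ ∈ B from hψ)]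
  have hcoef : blockCoeff A (QuotientGroup.mk x : G ⧸ N) = blockCoeff B x := by
    rw [← coeff_blockIdem A, ← hw]
    exact coeff_pushAlg_blockIdem N hM hNp χ₁ hxreg hNC
  -- find the block
  have hsum := blockIdem_eq_sum_of_union (M := M) A hAun
  have hex : ∃ B' ∈ (Finset.univ.image
      (fun χ : IrrCharacter (G ⧸ N) => blockOf M (χ : G ⧸ N → ℂ))).filter (fun B' => B' ⊆ A),
      ¬ MemLocalIdeal M (blockCoeff B' (QuotientGroup.mk x : G ⧸ N)) := by
    by_contra hcon
    have hcon' : ∀ B' ∈ (Finset.univ.image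
        (fun χ : IrrCharacter (G ⧸ N) => blockOf M (χ : G ⧸ N → ℂ))).filter (fun B' => B' ⊆ A),
        MemLocalIdeal M (blockCoeff B' (QuotientGroup.mk x : G ⧸ N)) := by
      intro B' hB'
      by_contra h1
      exact hcon ⟨B', hB', h1⟩
    apply hx.2.1
    rw [← hcoef, ← coeff_blockIdem A, hsum, coeff_sum']
    exact memLocalIdeal_sum _ _ (fun B' hB' => by rw [coeff_blockIdem]; exact hcon' B' hB')
  obtain ⟨B', hB'mem, hB'x⟩ := hex
  obtain ⟨hB'im, hB'A⟩ := Finset.mem_filter.1 hB'mem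
  obtain ⟨ψ₀, _, rfl⟩ := Finset.mem_image.1 hB'im
  set Bbar := blockOf M (ψ₀ : G ⧸ N → ℂ) with hBbardef
  -- the defect class
  have hxbar : IsDefectClass M Bbar (QuotientGroup.mk x : G ⧸ N) := by
    refine ⟨memLocalRing_blockCoeff hM ψ₀ _, hB'x, ?_⟩
    intro ψ hψ
    have h1 : centralChar (ψ : G ⧸ N → ℂ) (QuotientGroup.mk x : G ⧸ N) =
        centralChar (inflIrr N ψ : G → ℂ) x := by
      unfold centralChar
      rw [index_centralizer_mk_of_le N hp hNp hxreg hNC, inflIrr_apply, inflIrr_apply,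
        QuotientGroup.mk_one]
    rw [h1]
    exact hx.2.2 _ (hB'A hψ)
  -- the image of `D` is a defect group
  set π := QuotientGroup.mk' N with hπ
  set Cbar := Subgroup.centralizer ({(QuotientGroup.mk x : G ⧸ N)} : Set (G ⧸ N)) with hCbar
  have hDpg : IsPGroup p D := S.2.map _
  have hDbarC : D.map π ≤ Cbar := by
    rintro _ ⟨d, hd, rfl⟩
    rw [hCbar, Subgroup.mem_centralizer_singleton_iff]
    have h1 : d * x = x * d := Subgroup.mem_centralizer_singleton_iff.1 (hDC hd)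
    show (QuotientGroup.mk d : G ⧸ N) * QuotientGroup.mk x = QuotientGroup.mk x * QuotientGroup.mk d
    rw [← QuotientGroup.mk_mul, ← QuotientGroup.mk_mul, h1]
  have hQpg : IsPGroup p ((D.map π).subgroupOf Cbar) :=
    (hDpg.map π).comap_subtype
  have hidx : ((D.map π).subgroupOf Cbar).index = (S : Subgroup C).index := by
    have h1 : (D.map π).relIndex Cbar * Cbar.index = (D.map π).index :=
      Subgroup.relIndex_mul_index hDbarC
    have h2 : (D.map π).index = D.index :=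
      Subgroup.index_map_eq D (QuotientGroup.mk'_surjective N)
        (by rw [QuotientGroup.ker_mk']; exact hND)
    have h3 : Cbar.index = C.index := index_centralizer_mk_of_le N hp hNp hxreg hNC
    have h4 : D.relIndex C * C.index = D.index := Subgroup.relIndex_mul_index hDC
    have h5 : D.subgroupOf C = (S : Subgroup C) :=
      Subgroup.comap_map_eq_self_of_injective (Subgroup.subtype_injective C) _
    have h6 : C.index ≠ 0 := Subgroup.index_ne_zero_of_finite
    have h7 : (D.map π).relIndex Cbar * C.index = D.relIndex C * C.index := by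
      rw [← h3, h1, h2, h3, h4]
    have h8 := Nat.eq_of_mul_eq_mul_right (Nat.pos_of_ne_zero h6) h7
    show (D.map π).relIndex Cbar = _
    rw [h8]
    show (D.subgroupOf C).index = _
    rw [h5]
  have hndvd : ¬ p ∣ ((D.map π).subgroupOf Cbar).index := by
    rw [hidx]
    exact S.not_dvd_index
  have hDbar₀ : IsDefectGroup p M Bbar (D.map π) := by
    refine ⟨QuotientGroup.mk x, hxbar, hQpg.toSylow hndvd, ?_⟩
    rw [IsPGroup.toSylow_coe]
    exact (Subgroup.map_subgroupOf_eq_of_le hDbarC).symm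
  have hmapconj' : ∀ (E : Subgroup G) (c : G), (E.map (MulAut.conj c).toMonoidHom).map π =
      (E.map π).map (MulAut.conj (QuotientGroup.mk c : G ⧸ N)).toMonoidHom := by
    intro E c
    rw [Subgroup.map_map, Subgroup.map_map]
    congr 1
  have hmapconj := hmapconj' D
  refine ⟨Bbar, ⟨ψ₀, rfl⟩, fun ψ hψ => hB'A hψ, fun Dbar => ⟨?_, ?_⟩⟩
  · intro hDbar
    obtain ⟨q, hq⟩ := isDefectGroup_conj hM ψ₀ hDbar₀ hDbar
    obtain ⟨c, rfl⟩ := QuotientGroup.mk_surjective q
    refine ⟨D.map (MulAut.conj c).toMonoidHom, isDefectGroup_map_conj hD c, ?_⟩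
    rw [hq, hmapconj]
  · rintro ⟨P, hPd, rfl⟩
    obtain ⟨c, hc⟩ := isDefectGroup_conj hM χ₁ hD hPd
    rw [hc, hmapconj]
    exact isDefectGroup_map_conj hDbar₀ _

end MainQuot

end Cfsg.Agent.Lib.L0.BlockQuotDefect
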