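import Mathlib
import Cfsg.Agent.Lib.H23.BlockBrauerHom
import Cfsg.Agent.Lib.H23.BlockDefectGroups
import Cfsg.Agent.Lib.H23.BlockMinMax
import Cfsg.Agent.Lib.H23.BlockHom

/-!
# Blocks of the centralizer of a `p`-element inducing a given block, with large defect (lead)

`exists_induced_defect_ge`: let `B` be a block of `G`, `k` with `β_B(k) ∉ 𝔭`, `D` a `p`-subgroup
centralizing `k`, and `y` a `p`-element centralized by `D` and `k`. Then some block `b` of `C_G(y)` has
`b^G = B` and a defect group containing `D`.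
-/

set_option autoImplicit false

namespace Cfsg.Agent.Lib.L0.BlockCentralizerInd

open Cfsg MonoidAlgebra Cfsg.Agent.Lib.H23 Cfsg.Agent.Lib.H24
open scoped ComplexConjugate

variable {G : Type*} [Group G] [Fintype G] {p : ℕ} {M : Ideal AlgInt}

theorem zpowers_le_centralizer (y : G) :
    Subgroup.zpowers y ≤ Subgroup.centralizer ({y} : Set G) := by
  rw [Subgroup.zpowers_le, Subgroup.mem_centralizer_iff]
  intro u hu
  rw [Set.mem_singleton_iff.1 hu]

theorem centralizer_zpowers (y : G) :
    Subgroup.centralizer ((Subgroup.zpowers y : Subgroup G) : Set G) =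
      Subgroup.centralizer ({y} : Set G) := by
  rw [Subgroup.zpowers_eq_closure, Subgroup.centralizer_closure]

/-- If `u ^ 2 = u - p s` with everything central and integral, all positive powers of `u` are
congruent to `u` modulo `p`. -/
theorem pow_succ_eq_sub [hPr : M.IsPrime] {u s : MonoidAlgebra ℂ G}
    (hu : u ∈ intCoeff (G := G) M) (hs : s ∈ intCoeff (G := G) M)
    (h : u * u = u - (p : ℂ) • s) (n : ℕ) :
    ∃ r : MonoidAlgebra ℂ G, r ∈ intCoeff (G := G) M ∧ u ^ (n + 1) = u - (p : ℂ) • r := by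
  induction n with
  | zero => exact ⟨0, Subring.zero_mem _, by simp⟩
  | succ n ih =>
    obtain ⟨r, hr, hre⟩ := ih
    refine ⟨s + r * u, Subring.add_mem _ hs (Subring.mul_mem _ hr hu), ?_⟩
    rw [pow_succ, hre, sub_mul, h, smul_mul_assoc, smul_add]
    abel

theorem exists_induced_defect_ge [Fact p.Prime] (hM : IsPModular p M) (χ₀ : IrrCharacter G)
    (y : G) [Fintype (Subgroup.centralizer ({y} : Set G))]
    (hy : IsPGroup p (Subgroup.zpowers y)) (k : G)
    (hk : ¬ MemLocalIdeal M (blockCoeff (blockOf M (χ₀ : G → ℂ)) k))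
    (D : Subgroup G) (hD : IsPGroup p D) (hDk : D ≤ Subgroup.centralizer ({k} : Set G))
    (hDy : D ≤ Subgroup.centralizer ({y} : Set G))
    (hky : k ∈ Subgroup.centralizer ({y} : Set G)) :
    ∃ ξ₀ : IrrCharacter (Subgroup.centralizer ({y} : Set G)),
      IsInducedBlock M (Subgroup.centralizer ({y} : Set G))
        (blockOf M (ξ₀ : Subgroup.centralizer ({y} : Set G) → ℂ)) (blockOf M (χ₀ : G → ℂ)) ∧
      ∃ E : Subgroup (Subgroup.centralizer ({y} : Set G)),
        IsDefectGroup p M (blockOf M (ξ₀ : Subgroup.centralizer ({y} : Set G) → ℂ)) E ∧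
          D.subgroupOf (Subgroup.centralizer ({y} : Set G)) ≤ E := by
  classical
  haveI hPr := isPrime_of_isPModular hM
  have hp : p.Prime := Fact.out
  have hp0 : (p : ℂ) ≠ 0 := Nat.cast_ne_zero.2 hp.ne_zero
  set K := Subgroup.centralizer ({y} : Set G) with hK
  set P := Subgroup.zpowers y with hP
  haveI := Fintype.ofFinite (IrrCharacter K)
  have hPK : P ≤ K := zpowers_le_centralizer y
  have hCK : Subgroup.centralizer (P : Set G) ≤ K := le_of_eq (centralizer_zpowers y)
  have hKN : K ≤ Subgroup.normalizer (P : Set G) := by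
    rw [hK, ← centralizer_zpowers y]
    exact Subgroup.centralizer_le_normalizer _
  set B := blockOf M (χ₀ : G → ℂ) with hB
  set e := blockIdem B with he
  have hec : e ∈ Subalgebra.center ℂ (MonoidAlgebra ℂ G) := blockIdem_mem_center B
  have hei : e ∈ intCoeff (G := G) M := fun g => blockIdem_memLocalRing hM χ₀ g
  -- the Brauer map is restriction here
  have hbr : ∀ z : MonoidAlgebra ℂ G, brAlg P K z = resAlg K z := by
    intro z
    apply MonoidAlgebra.ext
    ext h
    rw [coeff_brAlg, coeff_resAlg, if_pos]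
    rw [centralizer_zpowers y]
    exact h.2
  set w := resAlg K e with hw
  have hwc : w ∈ Subalgebra.center ℂ (MonoidAlgebra ℂ K) := resAlg_mem_center K hec
  have hwi : w ∈ intCoeff (G := K) M := resAlg_mem_intCoeff K hei
  obtain ⟨t, hti, hte⟩ := brAlg_mul P K hM hy hCK e e hei hei
    (fun q _ => invUnder_of_mem_center hec q) (fun q _ => invUnder_of_mem_center hec q)
  rw [hbr, hbr, he, blockIdem_mul_self, ← he, ← hw] at hte
  have hww : w * w = w - (p : ℂ) • t := by
    rw [eq_sub_iff_add_eq]; exact hte.symm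
  have htc : t ∈ Subalgebra.center ℂ (MonoidAlgebra ℂ K) := by
    have h1 : t = (p : ℂ)⁻¹ • (w - w * w) := by
      rw [hww, sub_sub_cancel, smul_smul, inv_mul_cancel₀ hp0, one_smul]
    rw [h1]
    exact Subalgebra.smul_mem _ (Subalgebra.sub_mem _ hwc (Subalgebra.mul_mem _ hwc hwc)) _
  -- induced blocks exist
  have hindex : ∀ ξ : IrrCharacter K, ∃ χ' : IrrCharacter G,
      IsInducedBlock M K (blockOf M (ξ : K → ℂ)) (blockOf M (χ' : G → ℂ)) :=
    fun ξ => exists_isInducedBlock P K hM hy hPK hCK hKN ξ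
  -- decomposition of `w` along the blocks of `K`
  set k' : K := ⟨k, hky⟩ with hk'
  have hwk : w.coeff k' = blockCoeff B k := by
    rw [hw, coeff_resAlg, he, coeff_blockIdem]
  have hsum : w = ∑ b' ∈ (Finset.univ.image
      (fun ξ : IrrCharacter K => blockOf M (ξ : K → ℂ))), blockIdem b' * w := by
    rw [← Finset.sum_mul, sum_blockIdem_eq_one, one_mul]
  have hex : ∃ ξ' : IrrCharacter K,
      ¬ MemLocalIdeal M ((blockIdem (blockOf M (ξ' : K → ℂ)) * w).coeff k') := by
    by_contra hcon
    push Not at hcon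
    apply hk
    rw [← hwk, hsum, MonoidAlgebra.coeff_sum, Finsupp.finsetSum_apply]
    refine memLocalIdeal_sum _ _ fun b' hb' => ?_
    obtain ⟨ξ', _, rfl⟩ := Finset.mem_image.1 hb'
    exact hcon ξ'
  obtain ⟨ξ', hξ'⟩ := hex
  obtain ⟨χ', hind⟩ := hindex ξ'
  set b' := blockOf M (ξ' : K → ℂ) with hb'
  set u := blockIdem b' * w with hu
  have hbc : blockIdem b' ∈ Subalgebra.center ℂ (MonoidAlgebra ℂ K) := blockIdem_mem_center b'
  have hbi : blockIdem b' ∈ intCoeff (G := K) M := fun g => blockIdem_memLocalRing hM ξ' g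
  have huc : u ∈ Subalgebra.center ℂ (MonoidAlgebra ℂ K) := Subalgebra.mul_mem _ hbc hwc
  have hui : u ∈ intCoeff (G := K) M := Subring.mul_mem _ hbi hwi
  -- Claim 1: the induced block is `B`
  have hχ' : χ' ∈ B := by
    by_contra hnot
    have hω : ∀ ψ : IrrCharacter K, MemLocalIdeal M (omega (ψ : K → ℂ) u) := by
      intro ψ
      rw [hu, omega_mul ψ.2 hbc, omega_blockIdem]
      by_cases hψ : ψ ∈ b'
      · rw [if_pos hψ, one_mul]
        have h1 := omega_resAlg_sub_memLocalIdeal K hind hψ (mem_blockOf_self χ') hec hei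
        rw [he, omega_blockIdem, if_neg hnot, sub_zero] at h1
        exact h1
      · rw [if_neg hψ, zero_mul]
        exact memLocalIdeal_zero hPr.ne_top
    obtain ⟨N, hN0, hN⟩ := exists_pow_coeff_div hM huc hω
    have huu : u * u = u - (p : ℂ) • (blockIdem b' * t) := by
      have hcomm : w * blockIdem b' = blockIdem b' * w :=
        (Subalgebra.mem_center_iff.1 hbc) w
      calc u * u = blockIdem b' * (w * blockIdem b') * w := by rw [hu]; noncomm_ring
        _ = (blockIdem b' * blockIdem b') * (w * w) := by rw [hcomm]; noncomm_ring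
        _ = blockIdem b' * (w - (p : ℂ) • t) := by rw [blockIdem_mul_self, hww]
        _ = u - (p : ℂ) • (blockIdem b' * t) := by rw [mul_sub, mul_smul_comm]
    obtain ⟨n, rfl⟩ : ∃ n, N = n + 1 := ⟨N - 1, by omega⟩
    obtain ⟨r, hr, hre⟩ := pow_succ_eq_sub hui (Subring.mul_mem _ hbi hti) huu n
    apply hξ'
    have h2 : u.coeff k' = (u ^ (n + 1)).coeff k' + (p : ℂ) * r.coeff k' := by
      rw [hre]
      simp [MonoidAlgebra.coeff_smul]
    rw [h2]
    refine memLocalIdeal_add ?_ (memLocalIdeal_mul_right (memLocalIdeal_p hM) (hr k'))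
    have h3 : (u ^ (n + 1)).coeff k' = (p : ℂ) * ((u ^ (n + 1)).coeff k' / p) := by
      field_simp
    rw [h3]
    exact memLocalIdeal_mul_right (memLocalIdeal_p hM) (hN k')
  have hBeq : blockOf M (χ' : G → ℂ) = B := blockOf_eq_of_mem hχ'
  rw [hBeq] at hind
  refine ⟨ξ', hind, ?_⟩
  -- Claim 2: a defect group of `b'` contains `D`
  set Q := D.subgroupOf K with hQ
  have hQp : IsPGroup p Q := hD.comap_of_injective _ (Subgroup.subtype_injective _)
  have hQk : ∀ q ∈ Q, q * k' = k' * q := by
    intro q hq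
    have h1 : (q : G) ∈ D := Subgroup.mem_subgroupOf.1 hq
    have h2 := Subgroup.mem_centralizer_singleton_iff.1 (hDk h1)
    apply Subtype.ext
    simp only [Subgroup.coe_mul]
    exact h2
  set f : K → ℂ := fun x => (blockIdem b').coeff x * w.coeff (x⁻¹ * k') with hf
  have hfsum : u.coeff k' = ∑ x : K, f x := by
    rw [hu, coeff_mul_eq_sum]
  set S := Finset.univ.filter (fun x : K => ¬ Q ≤ Subgroup.centralizer ({x} : Set K)) with hS
  have hS1 : MemLocalIdeal M (∑ x ∈ S, f x) := by
    refine sum_memLocalIdeal_of_no_fixed hM Q hQp S ?_ f ?_ ?_ ?_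
    · intro q hq x hx
      rw [hS, Finset.mem_filter] at hx ⊢
      refine ⟨Finset.mem_univ _, fun hle => hx.2 ?_⟩
      intro v hv
      have h1 := Subgroup.mem_centralizer_singleton_iff.1
        (hle (Q.mul_mem (Q.mul_mem hq hv) (Q.inv_mem hq)))
      rw [Subgroup.mem_centralizer_singleton_iff]
      calc v * x = q⁻¹ * ((q * v * q⁻¹) * (q * x * q⁻¹)) * q := by group
        _ = q⁻¹ * ((q * x * q⁻¹) * (q * v * q⁻¹)) * q := by rw [h1]
        _ = x * v := by group
    · intro x _
      exact memLocalRing_mul (hbi x) (hwi _)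
    · intro q hq x _
      simp only [hf]
      rw [coeff_conj_of_mem_center hbc]
      congr 1
      have h1 : (q * x * q⁻¹)⁻¹ * k' = q * (x⁻¹ * k') * q⁻¹ := by
        have := hQk q hq
        calc (q * x * q⁻¹)⁻¹ * k' = q * x⁻¹ * q⁻¹ * k' := by group
          _ = q * x⁻¹ * (q⁻¹ * k') := by group
          _ = q * x⁻¹ * (k' * q⁻¹) := by
            congr 1
            calc q⁻¹ * k' = q⁻¹ * (k' * q) * q⁻¹ := by group
              _ = q⁻¹ * (q * k') * q⁻¹ := by rw [this]
              _ = k' * q⁻¹ := by group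
          _ = q * (x⁻¹ * k') * q⁻¹ := by group
      rw [h1, coeff_conj_of_mem_center hwc]
    · intro x hx
      rw [hS, Finset.mem_filter] at hx
      exact hx.2
  have hS2 : ¬ MemLocalIdeal M (∑ x ∈ Finset.univ.filter
      (fun x : K => Q ≤ Subgroup.centralizer ({x} : Set K)), f x) := by
    intro h
    apply hξ'
    rw [hfsum, ← Finset.sum_filter_add_sum_filter_not Finset.univ
      (fun x : K => Q ≤ Subgroup.centralizer ({x} : Set K))]
    exact memLocalIdeal_add h hS1
  obtain ⟨x, hx, hfx⟩ : ∃ x ∈ Finset.univ.filter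
      (fun x : K => Q ≤ Subgroup.centralizer ({x} : Set K)), ¬ MemLocalIdeal M (f x) := by
    by_contra hcon
    push Not at hcon
    exact hS2 (memLocalIdeal_sum _ _ hcon)
  have hQx : Q ≤ Subgroup.centralizer ({x} : Set K) := (Finset.mem_filter.1 hx).2
  have hβ : ¬ MemLocalIdeal M (blockCoeff b' x) := by
    intro h
    apply hfx
    simp only [hf]
    rw [coeff_blockIdem]
    exact memLocalIdeal_mul_right h (hwi _)
  exact exists_isDefectGroup_ge_of_blockCoeff hM ξ' x hβ Q hQp hQx

end Cfsg.Agent.Lib.L0.BlockCentralizerInd
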