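import Cfsg.Agent.Lib.L0.SubsectionTrace
import Cfsg.Agent.Lib.L0.BlockCentralizerInd
import Cfsg.Agent.Lib.L0.PrincipalBrauerPair
import Cfsg.Agent.Lib.H23.BlockPrincipalLocal
import Cfsg.Agent.S0919
import Cfsg.Agent.S0936

/-!
# The principal block in a `p`-section (lead)

For a `p`-element `x` with `C = C_G(x)` and `p`-regular `s, s' ∈ C`:
`∑_{ζ ∈ B₀(G)} conj ζ(x s') ζ(x s) = ∑_{ξ ∈ B₀(C)} conj ξ(s') ξ(s)`
(Brauer's second and third main theorems combined). In particular
`∑_{ζ ∈ B₀(G)} |ζ(x)|² = ∑_{ξ ∈ B₀(C)} ξ(1)²`.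
-/

set_option autoImplicit false

namespace Cfsg.Agent.Lib.L0.PrincipalSection

open Cfsg MonoidAlgebra Cfsg.Agent.Lib.H23 Cfsg.Agent.Lib.H24 Cfsg.Agent.Lib.L0
  Cfsg.Agent.Lib.L0.SubsectionTrace Cfsg.Agent.Lib.L0.PrincipalCrit
  Cfsg.Agent.Lib.L0.PrincipalBrauerPair Cfsg.Agent.Lib.L0.BlockCentralizerInd
open scoped ComplexConjugate

variable {G : Type*} [Group G] [Fintype G] {p : ℕ} [hpF : Fact p.Prime] {M : Ideal AlgInt}
  {x : G} (hx : ∃ k : ℕ, orderOf x = p ^ k) {C : Subgroup G} [Fintype C]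
  (hC : C = Subgroup.centralizer ({x} : Set G))

include hx hC in
/-- Every block of `C_G(x)` has an induced block. -/
theorem inducedBlockDefined_centralizer (hM : IsPModular p M) (b : Set (IrrCharacter C))
    (hb : IsPBlock M b) : InducedBlockDefined M C b := by
  have hP : IsPGroup p (Subgroup.zpowers x) := by
    obtain ⟨k, hk⟩ := hx
    apply IsPGroup.of_card (n := k)
    rw [Nat.card_zpowers, hk]
  refine Cfsg.Agent.S0919.result p M hM (Subgroup.zpowers x) C hP ?_ ?_ ?_ b hb
  · rw [hC]; exact zpowers_le_centralizer x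
  · rw [hC, centralizer_zpowers]
  · rw [hC, ← centralizer_zpowers]; exact Subgroup.centralizer_le_normalizer _

include hx hC in
/-- The `B₀(C)`-part of `c ↦ ζ(x c)` at a `p`-regular element. -/
theorem proj_principal_sec (hM : IsPModular p M) [DecidablePred (· ∈ principalBlock M G)]
    (ζ : IrrCharacter G) {s : C} (hs : ¬ p ∣ orderOf s) :
    proj (principalBlock M C) (sec x C (ζ : G → ℂ)) s =
      if ζ ∈ principalBlock M G then (ζ : G → ℂ) (x * (s : G)) else 0 := by
  classical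
  haveI hPr := isPrime_of_isPModular hM
  haveI := Fintype.ofFinite (IrrCharacter C)
  have hdef₀ := inducedBlockDefined_centralizer hx hC hM (principalBlock M C)
    (isPBlock_principalBlock M C)
  have hind₀ : IsInducedBlock M C (principalBlock M C) (principalBlock M G) :=
    (Cfsg.Agent.S0936.result p M hM C (principalBlock M C) hdef₀).mpr rfl
  split_ifs with hζ
  · -- sum over all blocks
    have hsum := sum_blocks_apply (G := C) (M := M) (fun k => sec x C (ζ : G → ℂ) (k * s))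
    rw [one_mul] at hsum
    have hmem : principalBlock M C ∈
        Finset.univ.image (fun χ : IrrCharacter C => blockOf M (χ : C → ℂ)) :=
      Finset.mem_image.mpr ⟨trivIrr C, Finset.mem_univ _, rfl⟩
    rw [← Finset.add_sum_erase _ _ hmem] at hsum
    have hzero : ∑ B ∈ (Finset.univ.image
        (fun χ : IrrCharacter C => blockOf M (χ : C → ℂ))).erase (principalBlock M C),
        ∑ k : C, blockCoeff B k * sec x C (ζ : G → ℂ) (k * s) = 0 := by
      apply Finset.sum_eq_zero
      intro b' hb'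
      rw [Finset.mem_erase, Finset.mem_image] at hb'
      obtain ⟨hne, ξ', -, rfl⟩ := hb'
      obtain ⟨B', hB'⟩ := inducedBlockDefined_centralizer hx hC hM (blockOf M (ξ' : C → ℂ))
        ⟨ξ', rfl⟩
      have hζB' : ζ ∉ B' := by
        intro hmem'
        apply hne
        obtain ⟨χ', hχ'⟩ := hB'.2.1
        have h1 : B' = principalBlock M G := by
          rw [hχ'] at hmem' ⊢
          rw [principalBlock_eq] at hζ ⊢
          rw [← blockOf_eq_of_mem hmem', ← blockOf_eq_of_mem hζ]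
        rw [h1] at hB'
        exact (Cfsg.Agent.S0936.result p M hM C _ ⟨_, hB'⟩).mp hB'
      exact proj_sec_eq_zero hx hC hM hB' ζ hζB' hs
    rw [hzero, add_zero] at hsum
    exact hsum
  · exact proj_sec_eq_zero hx hC hM hind₀ ζ hζ hs

include hx hC in
/-- Second and third main theorems for the principal block. -/
theorem sum_principal_section (hM : IsPModular p M) [Fintype (IrrCharacter G)]
    [Fintype (IrrCharacter C)] [DecidablePred (· ∈ principalBlock M G)]
    [DecidablePred (· ∈ principalBlock M C)] {s s' : C}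
    (hs : ¬ p ∣ orderOf s) (hs' : ¬ p ∣ orderOf s') :
    ∑ ζ : IrrCharacter G, (if ζ ∈ principalBlock M G then
        conj ((ζ : G → ℂ) (x * (s' : G))) * (ζ : G → ℂ) (x * (s : G)) else 0) =
      ∑ ξ : IrrCharacter C, (if ξ ∈ principalBlock M C then
        conj ((ξ : C → ℂ) s') * (ξ : C → ℂ) s else 0) := by
  haveI : DecidablePred (· ∈ blockOf M (trivIrr C : C → ℂ)) :=
    fun ξ => (inferInstance : Decidable (ξ ∈ principalBlock M C))
  have h := dagger hx hC hM (trivIrr C) hs hs'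
  have h1 : ∑ ζ : IrrCharacter G, (if ζ ∈ principalBlock M G then
        conj ((ζ : G → ℂ) (x * (s' : G))) * (ζ : G → ℂ) (x * (s : G)) else 0) =
      ∑ ζ : IrrCharacter G, conj ((ζ : G → ℂ) (x * (s' : G))) *
        proj (blockOf M (trivIrr C : C → ℂ)) (sec x C (ζ : G → ℂ)) s := by
    refine Finset.sum_congr rfl (fun ζ _ => ?_)
    rw [← principalBlock_eq, proj_principal_sec hx hC hM ζ hs]
    split_ifs <;> simp
  rw [h1, h]
  refine Finset.sum_congr rfl (fun ξ _ => ?_)
  by_cases hξ : ξ ∈ principalBlock M C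
  · have hξ' : ξ ∈ blockOf M (trivIrr C : C → ℂ) := hξ
    rw [if_pos hξ, if_pos hξ']
  · have hξ' : ξ ∉ blockOf M (trivIrr C : C → ℂ) := hξ
    rw [if_neg hξ, if_neg hξ']

section Orth

variable {G : Type*} [Group G] [Fintype G] {p : ℕ} [hpF : Fact p.Prime] {M : Ideal AlgInt}

theorem orderOf_conj_eq (w v : G) : orderOf (w * v * w⁻¹) = orderOf v :=
  orderOf_injective (MulAut.conj w).toMonoidHom (MulAut.conj w).injective v

/-- Block orthogonality for non-conjugate `p`-elements. -/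
theorem sum_block_pElements_eq_zero [Fintype (IrrCharacter G)] (hM : IsPModular p M)
    (χ₀ : IrrCharacter G) [DecidablePred (· ∈ blockOf M (χ₀ : G → ℂ))] (v v' : G)
    (hv : ∃ k : ℕ, orderOf v = p ^ k) (hv' : ∃ k : ℕ, orderOf v' = p ^ k)
    (hnc : ¬ IsConj v v') :
    ∑ χ : IrrCharacter G, (if χ ∈ blockOf M (χ₀ : G → ℂ) then
      conj ((χ : G → ℂ) v) * (χ : G → ℂ) v' else 0) = 0 := by
  classical
  have hp : p.Prime := hpF.out
  set e := (Nat.card G).factorization p with he
  set c := Nat.card G / p ^ e with hc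
  have hce : c * p ^ e = Nat.card G := by
    rw [mul_comm]; exact Nat.ordProj_mul_ordCompl_eq_self (Nat.card G) p
  have hcp : ¬ p ∣ c := Nat.not_dvd_ordCompl hp Nat.card_pos.ne'
  have hpow : ∀ g : G, g ^ (c * p ^ e) = 1 := by
    intro g; rw [hce]; exact pow_card_eq_one'
  have hnc' : ¬ IsConj (v' ^ c) (v ^ c) := by
    intro hconj
    apply hnc
    obtain ⟨w, hw⟩ := isConj_iff.mp hconj
    obtain ⟨k, hk⟩ := hv
    obtain ⟨k', hk'⟩ := hv'
    have hcop : c.Coprime (orderOf v) := by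
      rw [hk]
      exact Nat.Coprime.pow_right _ ((Nat.Prime.coprime_iff_not_dvd hp).mpr hcp).symm
    have hcop' : c.Coprime (orderOf v') := by
      rw [hk']
      exact Nat.Coprime.pow_right _ ((Nat.Prime.coprime_iff_not_dvd hp).mpr hcp).symm
    have hord : orderOf v' = orderOf v := by
      rw [← Nat.Coprime.orderOf_pow hcop'.symm, ← Nat.Coprime.orderOf_pow hcop.symm, ← hw,
        orderOf_conj_eq]
    obtain ⟨j, hj⟩ := exists_pow_eq_self_of_coprime hcop
    have hmod : c * j ≡ 1 [MOD orderOf v] := by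
      rw [← pow_mul] at hj
      have := (pow_eq_pow_iff_modEq (x := v) (n := c * j) (m := 1)).mp (by rw [hj, pow_one])
      exact this
    have hj' : (v' ^ c) ^ j = v' := by
      rw [← pow_mul]
      have := (pow_eq_pow_iff_modEq (x := v') (n := c * j) (m := 1)).mpr (by rw [hord]; exact hmod)
      rw [this, pow_one]
    rw [isConj_comm, isConj_iff]
    refine ⟨w, ?_⟩
    rw [← hj', ← conj_pow, hw, hj]
  have h := block_orthogonality_aux hM χ₀ v' v c e (hpow v') (hpow v) hnc'
  refine Eq.trans (Finset.sum_congr rfl (fun χ _ => ?_)) h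
  split_ifs
  · rw [irr_inv χ v, mul_comm]
  · rfl

end Orth

section OrbitCount

variable {G : Type*} [Group G]

/-- The fibre of `x ↦ x v x⁻¹` (`x ∈ N`) over an `N`-conjugate of `v` is a coset of `N ∩ C_G(v)`. -/
theorem card_fiber_conj_sub (N : Subgroup G) (v z : G) (hz : ∃ n ∈ N, n * v * n⁻¹ = z) :
    Nat.card {x : N // (x : G) * v * (x : G)⁻¹ = z} =
      Nat.card ↥(N ⊓ Subgroup.centralizer ({v} : Set G)) := by
  obtain ⟨n₀, hn₀, rfl⟩ := hz
  refine Nat.card_congr ?_
  refine ⟨fun x => ⟨n₀⁻¹ * (x.1 : G), ?_⟩, fun y => ⟨⟨n₀ * (y : G), ?_⟩, ?_⟩, ?_, ?_⟩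
  · refine Subgroup.mem_inf.mpr ⟨N.mul_mem (N.inv_mem hn₀) x.1.2, ?_⟩
    rw [Subgroup.mem_centralizer_singleton_iff]
    have h1 : (x.1 : G) * v * (x.1 : G)⁻¹ = n₀ * v * n₀⁻¹ := x.2
    have h2 : n₀⁻¹ * (x.1 : G) * v = n₀⁻¹ * ((x.1 : G) * v * (x.1 : G)⁻¹) * (x.1 : G) := by group
    rw [h2, h1]
    group
  · exact N.mul_mem hn₀ (Subgroup.mem_inf.mp y.2).1
  · have hy := Subgroup.mem_centralizer_singleton_iff.mp (Subgroup.mem_inf.mp y.2).2
    show n₀ * (y : G) * v * (n₀ * (y : G))⁻¹ = n₀ * v * n₀⁻¹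
    have h2 : n₀ * (y : G) * v * (n₀ * (y : G))⁻¹ = n₀ * ((y : G) * v) * (y : G)⁻¹ * n₀⁻¹ := by
      group
    rw [h2, hy]
    group
  · intro x
    apply Subtype.ext
    apply Subtype.ext
    simp
  · intro y
    apply Subtype.ext
    simp

open scoped Classical in
/-- Summing over the `N`-conjugates counts each `|N ∩ C_G(v)|` times. -/
theorem sum_conj_sub [Fintype G] (N : Subgroup G) [Fintype N] (v : G) (f : G → ℂ) :
    ∑ x : N, f ((x : G) * v * (x : G)⁻¹) =
      (Nat.card ↥(N ⊓ Subgroup.centralizer ({v} : Set G)) : ℂ) *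
        ∑ z ∈ Finset.univ.filter (fun z : G => ∃ n ∈ N, n * v * n⁻¹ = z), f z := by
  rw [Finset.sum_comp f (fun x : N => (x : G) * v * (x : G)⁻¹), Finset.mul_sum]
  have himg : (Finset.univ.image fun x : N => (x : G) * v * (x : G)⁻¹) =
      Finset.univ.filter (fun z : G => ∃ n ∈ N, n * v * n⁻¹ = z) := by
    ext z
    simp only [Finset.mem_image, Finset.mem_univ, true_and, Finset.mem_filter]
    constructor
    · rintro ⟨x, rfl⟩
      exact ⟨x, x.2, rfl⟩
    · rintro ⟨n, hn, rfl⟩
      exact ⟨⟨n, hn⟩, rfl⟩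
  rw [himg]
  refine Finset.sum_congr rfl fun z hz => ?_
  have hz' := (Finset.mem_filter.mp hz).2
  rw [nsmul_eq_mul]
  congr 1
  rw [← card_fiber_conj_sub N v z hz', Nat.card_eq_fintype_card, Fintype.card_subtype]

end OrbitCount

end Cfsg.Agent.Lib.L0.PrincipalSection
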