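import Cfsg.Agent.Lib.H8.GenChar
import Cfsg.Agent.Lib.H24.CharBasic

/-!
# The isometry lemma behind exceptional characters (lead's library)

* `genChar_norm_two_vanish` : a generalized character of norm 2 vanishing at 1 is a difference
  of two distinct irreducible characters.
* `classInner_irr_sub_irr` : inner product of two such differences as a sum of Kronecker deltas.
* `common_part` : the combinatorial core.
-/

set_option autoImplicit false

namespace Cfsg.Agent.Lib.L0

open Cfsg

section
variable {G : Type*} [Group G] [Fintype G]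

theorem irr_apply_one_pos {χ : G → ℂ} (h : IsIrrCharacter G χ) : ∃ n : ℕ, 0 < n ∧ χ 1 = n :=
  Cfsg.Agent.Lib.H24.irr_one_eq ⟨χ, h⟩

/-- A generalized character of norm two that vanishes at the identity is a difference of two
distinct irreducible characters. -/
theorem genChar_norm_two_vanish {θ : G → ℂ} (hθ : IsGeneralizedCharacter G θ)
    (h2 : classInner θ θ = 2) (h1 : θ 1 = 0) :
    ∃ a b : IrrCharacter G, a ≠ b ∧ θ = (a : G → ℂ) - (b : G → ℂ) := by
  obtain ⟨α, β, hα, hβ, horth, rfl⟩ := Cfsg.Agent.Lib.H8.genChar_norm_two hθ h2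
  have key : ∀ (x y : G → ℂ), IsIrrCharacter G x → IsIrrCharacter G y → (x + y) 1 ≠ 0 := by
    intro x y hx hy
    obtain ⟨n, hn, hxn⟩ := irr_apply_one_pos hx
    obtain ⟨m, hm, hym⟩ := irr_apply_one_pos hy
    rw [Pi.add_apply, hxn, hym]
    exact_mod_cast (by omega : n + m ≠ 0)
  rcases hα with hα | hα <;> rcases hβ with hβ | hβ
  · exact absurd h1 (key α β hα hβ)
  · refine ⟨⟨α, hα⟩, ⟨-β, hβ⟩, ?_, ?_⟩
    · intro h
      have hαβ : α = -β := congrArg Subtype.val h
      have : classInner α β = -1 := by
        have h3 : β = -α := by rw [hαβ, neg_neg]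
        rw [h3, classInner_neg_right, irr_classInner_self hα]
      rw [horth] at this
      norm_num at this
    · simp [sub_eq_add_neg]
  · refine ⟨⟨β, hβ⟩, ⟨-α, hα⟩, ?_, ?_⟩
    · intro h
      have hαβ : β = -α := congrArg Subtype.val h
      have : classInner α β = -1 := by
        rw [hαβ, classInner_neg_right]
        have := irr_classInner_self hα
        rw [classInner_neg_left, classInner_neg_right, neg_neg] at this
        rw [this]
      rw [horth] at this
      norm_num at this
    · simp [sub_eq_add_neg, add_comm]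
  · exfalso
    have := key (-α) (-β) hα hβ
    apply this
    have : (-α + -β) 1 = -((α + β) 1) := by simp; ring
    rw [this, h1, neg_zero]

/-- Kronecker delta with integer values. -/
def kd {X : Type*} [DecidableEq X] (x y : X) : ℤ := if x = y then 1 else 0

theorem classInner_irr_sub_irr [DecidableEq (IrrCharacter G)] (a b c d : IrrCharacter G) :
    classInner ((a : G → ℂ) - (b : G → ℂ)) ((c : G → ℂ) - (d : G → ℂ))
      = ((kd a c - kd a d - kd b c + kd b d : ℤ) : ℂ) := by
  have e : ∀ x y : IrrCharacter G, classInner (x : G → ℂ) (y : G → ℂ) = ((kd x y : ℤ) : ℂ) := by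
    intro x y
    unfold kd
    split_ifs with h
    · subst h; simpa using irr_classInner_self x.2
    · simpa using irr_classInner_ne x.2 y.2 (fun h' => h (Subtype.ext h'))
  rw [classInner_sub_left, classInner_sub_right, classInner_sub_right, e, e, e, e]
  push_cast
  ring

end

theorem kd_nonneg {X : Type*} [DecidableEq X] (x y : X) : 0 ≤ kd x y := by
  unfold kd; split_ifs <;> omega

theorem kd_of_ne {X : Type*} [DecidableEq X] {x y : X} (h : x ≠ y) : kd x y = 0 := by
  unfold kd; rw [if_neg h]

/-- Combinatorial core: if `a i ≠ b i` and the "Gram matrix" of the formal differences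
`a i - b i` has all off-diagonal entries `1` on the index set `S`, then relative to a base point
`i₁` either all `a j` agree or all `b j` agree. -/
theorem common_part {ι X : Type*} [DecidableEq X] (S : ι → Prop) (a b : ι → X)
    (hab : ∀ i, S i → a i ≠ b i)
    (hg : ∀ i j, S i → S j → i ≠ j →
      kd (a i) (a j) - kd (a i) (b j) - kd (b i) (a j) + kd (b i) (b j) = 1)
    (i₁ : ι) (h1 : S i₁) :
    (∀ j, S j → a j = a i₁) ∨ (∀ j, S j → b j = b i₁) := by
  by_contra hcon
  push Not at hcon
  obtain ⟨⟨j, hj, hja⟩, ⟨k, hk, hkb⟩⟩ := hcon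
  have hj1 : i₁ ≠ j := fun h => hja (by rw [h])
  have hk1 : i₁ ≠ k := fun h => hkb (by rw [h])
  have g1 := hg i₁ j h1 hj hj1
  have g2 := hg i₁ k h1 hk hk1
  have hab1 := hab i₁ h1
  have hbj : b j = b i₁ := by
    by_contra hne
    rw [kd_of_ne (fun h => hja h.symm), kd_of_ne (fun h => hne h.symm)] at g1
    have := kd_nonneg (a i₁) (b j)
    have := kd_nonneg (b i₁) (a j)
    omega
  have hak : a k = a i₁ := by
    by_contra hne
    rw [kd_of_ne (fun h => hne h.symm), kd_of_ne (fun h => hkb h.symm)] at g2
    have := kd_nonneg (a i₁) (b k)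
    have := kd_nonneg (b i₁) (a k)
    omega
  have hjk : j ≠ k := fun h => hja (by rw [h, hak])
  have g3 := hg j k hj hk hjk
  have e1 : kd (a j) (a k) = 0 := kd_of_ne (by rw [hak]; exact hja)
  have e2 : kd (b j) (a k) = 0 := kd_of_ne (by rw [hak, hbj]; exact fun h => hab1 h.symm)
  have e3 : kd (b j) (b k) = 0 := kd_of_ne (by rw [hbj]; exact fun h => hkb h.symm)
  have e4 := kd_nonneg (a j) (b k)
  rw [e1, e2, e3] at g3
  omega

end Cfsg.Agent.Lib.L0
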