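import Cfsg.Agent.Lib.L0.CharInd
import Cfsg.Agent.Lib.L0.CharIndChar
import Cfsg.Agent.Lib.L0.CharExceptional

/-!
# Special induction from a subgroup of index two in its "normalizer" (lead's library)

`C ≤ Nn ≤ G` with `Nn = C ∪ bC`, `lam : C →* ℂˣ` inverted by `b`, and the support of `1 - lam`
controls its own fusion (`SpecialData`).  Then `Θ = Ind_C^G (1 - lam)` satisfies
`Θ t = 2 - lam t - (lam t)⁻¹` on `C`, has norm `3`, and `Θ = 1 + χ₂ - χ₁` for irreducible
characters `χ₁, χ₂` of `G` with `χ₁ 1 = χ₂ 1 + 1`.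
-/

set_option autoImplicit false

namespace Cfsg.Agent.Lib.L0

open Cfsg
open scoped ComplexConjugate

variable {G : Type*} [Group G]

/-- Hypotheses for the special induction lemma. -/
structure SpecialData (C Nn : Subgroup G) (lam : C →* ℂˣ) (b : G) : Prop where
  le : C ≤ Nn
  hb : b ∈ Nn
  hbC : b ∉ C
  cases : ∀ g ∈ Nn, g ∈ C ∨ b⁻¹ * g ∈ C
  norm : ∀ g ∈ Nn, ∀ x ∈ C, g⁻¹ * x * g ∈ C
  inv : ∀ (x : C) (hx : b⁻¹ * (x : G) * b ∈ C), lam ⟨b⁻¹ * x * b, hx⟩ = (lam x)⁻¹
  control : ∀ (g : G) (t : C), lam t ≠ 1 → g⁻¹ * (t : G) * g ∈ C → g ∈ Nn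

/-- The class function `1 - lam` on `C`. -/
noncomputable def oneSub {C : Subgroup G} (lam : C →* ℂˣ) : C → ℂ :=
  fun x => 1 - ((lam x : ℂˣ) : ℂ)

namespace SpecialData

variable {C Nn : Subgroup G} {lam : C →* ℂˣ} {b : G}

theorem lam_conj (lam : C →* ℂˣ) (x t : C) : lam (x⁻¹ * t * x) = lam t := by
  rw [map_mul, map_mul, map_inv, mul_comm, ← mul_assoc, mul_inv_cancel, one_mul]

variable [Fintype G]

open scoped Classical in
/-- Pointwise description of the summands in the induced class function. -/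
theorem extend_conj (h : SpecialData C Nn lam b) (t : C) (x : G) :
    extendByZero C (oneSub lam) (x⁻¹ * (t : G) * x)
      = (if x ∈ C then (1 - ((lam t : ℂˣ) : ℂ)) else 0)
        + (if b⁻¹ * x ∈ C then (1 - (((lam t)⁻¹ : ℂˣ) : ℂ)) else 0) := by
  by_cases hx : x ∈ C
  · have hbx : b⁻¹ * x ∉ C := by
      intro h1
      apply h.hbC
      have : b⁻¹ ∈ C := by
        have := C.mul_mem h1 (C.inv_mem hx)
        simpa using this
      simpa using C.inv_mem this
    rw [if_pos hx, if_neg hbx, add_zero]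
    have hmem : x⁻¹ * (t : G) * x ∈ C := C.mul_mem (C.mul_mem (C.inv_mem hx) t.2) hx
    rw [extendByZero_apply_of_mem _ _ hmem]
    unfold oneSub
    have : (⟨x⁻¹ * (t : G) * x, hmem⟩ : C) = (⟨x, hx⟩ : C)⁻¹ * t * ⟨x, hx⟩ := by
      apply Subtype.ext; simp
    rw [this, lam_conj]
  · rw [if_neg hx, zero_add]
    by_cases hbx : b⁻¹ * x ∈ C
    · rw [if_pos hbx]
      have hbt : b⁻¹ * (t : G) * b ∈ C := h.norm b h.hb t t.2
      have hmem : x⁻¹ * (t : G) * x ∈ C := by
        have h1 : x⁻¹ * (t : G) * x = (b⁻¹ * x)⁻¹ * (b⁻¹ * (t : G) * b) * (b⁻¹ * x) := by group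
        rw [h1]
        exact C.mul_mem (C.mul_mem (C.inv_mem hbx) hbt) hbx
      rw [extendByZero_apply_of_mem _ _ hmem]
      unfold oneSub
      have : (⟨x⁻¹ * (t : G) * x, hmem⟩ : C)
          = (⟨b⁻¹ * x, hbx⟩ : C)⁻¹ * ⟨b⁻¹ * (t : G) * b, hbt⟩ * ⟨b⁻¹ * x, hbx⟩ := by
        apply Subtype.ext
        simp only [Subgroup.coe_mul, Subgroup.coe_inv]
        group
      rw [this, lam_conj, h.inv t hbt]
    · rw [if_neg hbx]
      have hxN : x ∉ Nn := fun h1 => by
        rcases h.cases x h1 with h2 | h2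
        · exact hx h2
        · exact hbx h2
      by_cases hmem : x⁻¹ * (t : G) * x ∈ C
      · rw [extendByZero_apply_of_mem _ _ hmem]
        unfold oneSub
        by_contra hne
        have hlam : lam ⟨x⁻¹ * (t : G) * x, hmem⟩ ≠ 1 := by
          intro h1
          apply hne
          rw [h1]; simp
        have h2 : (x⁻¹)⁻¹ * ((⟨x⁻¹ * (t : G) * x, hmem⟩ : C) : G) * x⁻¹ ∈ C := by
          have : (x⁻¹)⁻¹ * (x⁻¹ * (t : G) * x) * x⁻¹ = (t : G) := by group
          simp only [this]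
          exact t.2
        have := h.control x⁻¹ _ hlam h2
        exact hxN (by simpa using Nn.inv_mem this)
      · rw [extendByZero_apply_not_mem _ _ hmem]

/-- Values of the induced class function on `C`. -/
theorem indFun_apply_mem (h : SpecialData C Nn lam b) (t : C) :
    indFun C (oneSub lam) (t : G)
      = 2 - ((lam t : ℂˣ) : ℂ) - (((lam t)⁻¹ : ℂˣ) : ℂ) := by
  classical
  rw [indFun_apply]
  simp only [h.extend_conj t]
  rw [Finset.sum_add_distrib]
  have hcard : (Finset.univ.filter fun x : G => x ∈ C).card = Nat.card C := by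
    rw [Nat.card_eq_fintype_card, Fintype.card_subtype]
  have h1 : ∑ x : G, (if x ∈ C then (1 - ((lam t : ℂˣ) : ℂ)) else 0)
      = (Nat.card C : ℂ) * (1 - ((lam t : ℂˣ) : ℂ)) := by
    rw [Finset.sum_ite, Finset.sum_const_zero, add_zero, Finset.sum_const, nsmul_eq_mul, hcard]
  have h2 : ∑ x : G, (if b⁻¹ * x ∈ C then (1 - (((lam t)⁻¹ : ℂˣ) : ℂ)) else 0)
      = (Nat.card C : ℂ) * (1 - (((lam t)⁻¹ : ℂˣ) : ℂ)) := by
    have := Fintype.sum_equiv (Equiv.mulLeft b⁻¹)
      (fun x : G => if b⁻¹ * x ∈ C then (1 - (((lam t)⁻¹ : ℂˣ) : ℂ)) else 0)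
      (fun y : G => if y ∈ C then (1 - (((lam t)⁻¹ : ℂˣ) : ℂ)) else 0) (fun x => by simp)
    rw [this, Finset.sum_ite, Finset.sum_const_zero, add_zero, Finset.sum_const, nsmul_eq_mul, hcard]
  rw [h1, h2]
  have hC : (Nat.card C : ℂ) ≠ 0 := by
    exact_mod_cast (Nat.card_pos (α := C)).ne'
  field_simp
  ring

/-- The induced class function vanishes at `g` when no conjugate of `g` lies in the support. -/
theorem _root_.Cfsg.Agent.Lib.L0.indFun_oneSub_eq_zero (lam : C →* ℂˣ) (g : G)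
    (hg : ∀ (x : G) (hx : x⁻¹ * g * x ∈ C), lam ⟨x⁻¹ * g * x, hx⟩ = 1) :
    indFun C (oneSub lam) g = 0 := by
  rw [indFun_apply]
  have : ∀ x : G, extendByZero C (oneSub lam) (x⁻¹ * g * x) = 0 := by
    intro x
    by_cases hx : x⁻¹ * g * x ∈ C
    · rw [extendByZero_apply_of_mem _ _ hx]
      unfold oneSub
      rw [hg x hx]; simp
    · rw [extendByZero_apply_not_mem _ _ hx]
  simp only [this, Finset.sum_const_zero, mul_zero]

/-- a linear character as a complex valued function -/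
noncomputable def lamF (lam : C →* ℂˣ) : C → ℂ := fun x => ((lam x : ℂˣ) : ℂ)

theorem oneSub_eq (lam : C →* ℂˣ) : oneSub lam = 1 - lamF lam := by
  funext x; rfl

theorem lamF_irr (lam : C →* ℂˣ) : IsIrrCharacter C (lamF lam) := isIrrCharacter_of_hom lam

theorem lamF_ne_one {lam : C →* ℂˣ} (hne : ∃ x : C, lam x ≠ 1) : lamF lam ≠ 1 := by
  obtain ⟨x, hx⟩ := hne
  intro h1
  apply hx
  have := congrFun h1 x
  simp only [lamF, Pi.one_apply] at this
  exact Units.ext this

theorem lamF_ne_inv {lam : C →* ℂˣ} (hne : ∃ x : C, lam x * lam x ≠ 1) :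
    lamF lam ≠ lamF lam⁻¹ := by
  obtain ⟨x, hx⟩ := hne
  intro h1
  apply hx
  have := congrFun h1 x
  simp only [lamF, MonoidHom.inv_apply] at this
  have h2 : lam x = (lam x)⁻¹ := Units.ext this
  nth_rewrite 1 [h2]
  simp

theorem restrict_eq (h : SpecialData C Nn lam b) :
    (fun t : C => indFun C (oneSub lam) (t : G)) = 1 + 1 - lamF lam - lamF lam⁻¹ := by
  funext t
  rw [h.indFun_apply_mem t]
  simp only [lamF, Pi.sub_apply, Pi.add_apply, Pi.one_apply, MonoidHom.inv_apply]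
  ring

theorem classInner_self (h : SpecialData C Nn lam b) (hsq : ∃ x : C, lam x * lam x ≠ 1) :
    classInner (indFun C (oneSub lam)) (indFun C (oneSub lam)) = 3 := by
  classical
  have : Fintype C := Fintype.ofFinite _
  rw [frobenius_reciprocity C _ _ (indFun_isClassFunction C _), h.restrict_eq, oneSub_eq]
  have hne1 : ∃ x : C, lam x ≠ 1 := by
    obtain ⟨x, hx⟩ := hsq
    exact ⟨x, fun h1 => hx (by rw [h1, one_mul])⟩
  have hne1' : ∃ x : C, lam⁻¹ x ≠ 1 := by
    obtain ⟨x, hx⟩ := hne1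
    exact ⟨x, fun h1 => hx (by simpa using h1)⟩
  have i1 : IsIrrCharacter C (1 : C → ℂ) := isIrrCharacter_one
  have iL := lamF_irr lam
  have iL' := lamF_irr lam⁻¹
  have e11 := irr_classInner_self i1
  have eLL := irr_classInner_self iL
  have e1L := irr_classInner_ne i1 iL (lamF_ne_one hne1).symm
  have e1L' := irr_classInner_ne i1 iL' (lamF_ne_one hne1').symm
  have eL1 := irr_classInner_ne iL i1 (lamF_ne_one hne1)
  have eLL' := irr_classInner_ne iL iL' (lamF_ne_inv hsq)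
  simp only [classInner_sub_left, classInner_sub_right, classInner_add_right, e11, eLL, e1L, e1L',
    eL1, eLL']
  norm_num

theorem classInner_one (h : SpecialData C Nn lam b) (hne1 : ∃ x : C, lam x ≠ 1) :
    classInner (indFun C (oneSub lam)) (1 : G → ℂ) = 1 := by
  classical
  have : Fintype C := Fintype.ofFinite _
  have hcf : IsClassFunction G (1 : G → ℂ) := fun _ _ => rfl
  rw [frobenius_reciprocity C _ _ hcf, oneSub_eq]
  have i1 : IsIrrCharacter C (1 : C → ℂ) := isIrrCharacter_one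
  have iL := lamF_irr lam
  have e11 := irr_classInner_self i1
  have eL1 := irr_classInner_ne iL i1 (lamF_ne_one hne1)
  have : (fun h : C => (1 : G → ℂ) (h : G)) = (1 : C → ℂ) := rfl
  rw [this, classInner_sub_left, e11, eL1, sub_zero]

theorem indFun_one (h : SpecialData C Nn lam b) : indFun C (oneSub lam) 1 = 0 := by
  have := h.indFun_apply_mem 1
  simp only [OneMemClass.coe_one, map_one, Units.val_one, inv_one] at this
  rw [this]; norm_num

theorem isGeneralizedCharacter (lam : C →* ℂˣ) :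
    IsGeneralizedCharacter G (indFun C (oneSub lam)) := by
  refine ⟨indFun C 1, indFun C (lamF lam), ?_, ?_, ?_⟩
  · exact isCharacter_indFun C (isCharacter_of_irr isIrrCharacter_one)
  · exact isCharacter_indFun C (isCharacter_of_irr (lamF_irr lam))
  · rw [oneSub_eq]
    funext g
    simp only [indFun_apply, Pi.sub_apply]
    rw [← mul_sub, ← Finset.sum_sub_distrib]
    congr 1
    refine Finset.sum_congr rfl fun x _ => ?_
    by_cases hx : x⁻¹ * g * x ∈ C
    · simp only [extendByZero_apply_of_mem _ _ hx, Pi.sub_apply]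
    · simp only [extendByZero_apply_not_mem _ _ hx, sub_zero]

/-- A generalized character `Θ` with `[Θ,Θ] = 3`, `[Θ,1] = 1`, `Θ 1 = 0` is `1 + χ₂ - χ₁`. -/
theorem _root_.Cfsg.Agent.Lib.L0.genChar_norm_three {Θ : G → ℂ} (hΘ : IsGeneralizedCharacter G Θ)
    (h3 : classInner Θ Θ = 3) (h1 : classInner Θ (1 : G → ℂ) = 1) (h0 : Θ 1 = 0) :
    ∃ χ₁ χ₂ : G → ℂ, IsIrrCharacter G χ₁ ∧ IsIrrCharacter G χ₂ ∧ χ₁ ≠ 1 ∧ χ₂ ≠ 1 ∧ χ₁ ≠ χ₂ ∧
      χ₁ 1 = χ₂ 1 + 1 ∧ Θ = 1 + χ₂ - χ₁ := by
  classical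
  have i1 : IsIrrCharacter G (1 : G → ℂ) := isIrrCharacter_one
  have hgen : IsGeneralizedCharacter G (Θ - 1) := by
    obtain ⟨χ, ψ, hχ, hψ, rfl⟩ := hΘ
    exact ⟨χ, ψ + 1, hχ, isCharacter_add hψ (isCharacter_of_irr i1), by abel⟩
  have h1' : classInner (1 : G → ℂ) Θ = 1 := by
    rw [← classInner_conj_symm, h1, map_one]
  have hnorm : classInner (Θ - 1) (Θ - 1) = 2 := by
    rw [classInner_sub_left, classInner_sub_right, classInner_sub_right, h3, h1, h1',
      irr_classInner_self i1]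
    norm_num
  have horth1 : classInner (Θ - 1) (1 : G → ℂ) = 0 := by
    rw [classInner_sub_left, h1, irr_classInner_self i1, sub_self]
  have hval : (Θ - 1) 1 = -1 := by
    rw [Pi.sub_apply, h0, Pi.one_apply, zero_sub]
  obtain ⟨α, β, hα, hβ, horth, hsum⟩ := Cfsg.Agent.Lib.H8.genChar_norm_two hgen hnorm
  -- helper: the final assembly
  have assemble : ∀ χ₂ χ₁ : G → ℂ, IsIrrCharacter G χ₂ → IsIrrCharacter G χ₁ →
      Θ - 1 = χ₂ - χ₁ → χ₁ ≠ χ₂ →
      ∃ χ₁ χ₂ : G → ℂ, IsIrrCharacter G χ₁ ∧ IsIrrCharacter G χ₂ ∧ χ₁ ≠ 1 ∧ χ₂ ≠ 1 ∧ χ₁ ≠ χ₂ ∧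
        χ₁ 1 = χ₂ 1 + 1 ∧ Θ = 1 + χ₂ - χ₁ := by
    intro χ₂ χ₁ h2 h1i heq hne
    have hin : classInner χ₂ (1 : G → ℂ) = classInner χ₁ (1 : G → ℂ) := by
      have := horth1
      rw [heq, classInner_sub_left] at this
      exact sub_eq_zero.mp this
    refine ⟨χ₁, χ₂, h1i, h2, ?_, ?_, hne, ?_, ?_⟩
    · intro hc
      rw [hc, irr_classInner_self i1, irr_classInner_eq h2 i1] at hin
      split_ifs at hin with h4
      · exact hne (by rw [hc, h4])
      · norm_num at hin
    · intro hc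
      rw [hc, irr_classInner_self i1, irr_classInner_eq h1i i1] at hin
      split_ifs at hin with h4
      · exact hne (by rw [hc, h4])
      · norm_num at hin
    · have := congrFun heq 1
      rw [hval, Pi.sub_apply] at this
      linear_combination this
    · have : Θ = (Θ - 1) + 1 := by abel
      rw [this, heq]; abel
  rcases hα with hα | hα <;> rcases hβ with hβ | hβ
  · exfalso
    obtain ⟨n, hn, hαn⟩ := irr_apply_one_pos hα
    obtain ⟨m, hm, hβm⟩ := irr_apply_one_pos hβ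
    have := congrFun hsum 1
    rw [hval, Pi.add_apply, hαn, hβm] at this
    have h5 : ((n + m : ℕ) : ℂ) = -1 := by push_cast; rw [← this]
    have h6 : ((n + m : ℕ) : ℝ) = -1 := by exact_mod_cast h5
    have h7 : (0 : ℝ) ≤ ((n + m : ℕ) : ℝ) := Nat.cast_nonneg _
    linarith
  · -- Θ - 1 = α - (-β)
    apply assemble α (-β) hα hβ (by rw [hsum]; abel)
    intro hc
    have : classInner α β = -1 := by
      have h3' : β = -α := by rw [← hc, neg_neg]
      rw [h3', classInner_neg_right, irr_classInner_self hα]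
    rw [horth] at this
    norm_num at this
  · apply assemble β (-α) hβ hα (by rw [hsum]; abel)
    intro hc
    have : classInner α β = -1 := by
      have h3' : α = -β := by rw [← hc, neg_neg]
      rw [h3', classInner_neg_left, irr_classInner_self hβ]
    rw [horth] at this
    norm_num at this
  · exfalso
    obtain ⟨n, hn, hαn⟩ := irr_apply_one_pos hα
    obtain ⟨m, hm, hβm⟩ := irr_apply_one_pos hβ
    have := congrFun hsum 1
    rw [hval, Pi.add_apply] at this
    simp only [Pi.neg_apply] at hαn hβm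
    have h5 : ((n + m : ℕ) : ℂ) = 1 := by
      push_cast; rw [← hαn, ← hβm]; linear_combination this
    have h6 : n + m = 1 := by exact_mod_cast h5
    omega

/-- The decomposition of the special induced character. -/
theorem exists_decomp (h : SpecialData C Nn lam b) (hsq : ∃ x : C, lam x * lam x ≠ 1) :
    ∃ χ₁ χ₂ : G → ℂ, IsIrrCharacter G χ₁ ∧ IsIrrCharacter G χ₂ ∧ χ₁ ≠ 1 ∧ χ₂ ≠ 1 ∧ χ₁ ≠ χ₂ ∧
      χ₁ 1 = χ₂ 1 + 1 ∧ indFun C (oneSub lam) = 1 + χ₂ - χ₁ := by
  have hne1 : ∃ x : C, lam x ≠ 1 := by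
    obtain ⟨x, hx⟩ := hsq
    exact ⟨x, fun h1 => hx (by rw [h1, one_mul])⟩
  exact genChar_norm_three (isGeneralizedCharacter lam) (h.classInner_self hsq)
    (h.classInner_one hne1) h.indFun_one

end SpecialData

end Cfsg.Agent.Lib.L0
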