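import Cfsg.Agent.Lib.L0.TransferPC

/-!
# Groups with cyclic Sylow 2-subgroups (lead's library)

* `exists_odd_normal_complement_of_cyclic_sylow` : a finite group of even order with a cyclic Sylow
  2-subgroup `Q` has a normal complement `K` to `Q`, consisting of the odd-order elements.
-/

set_option autoImplicit false

namespace Cfsg.Agent.Lib.L0

open Subgroup

theorem exists_odd_normal_complement_of_cyclic_sylow {X : Type*} [Group X] [Finite X]
    (Q : Sylow 2 X) (hQ : IsCyclic (Q : Subgroup X)) (h2 : 2 ∣ Nat.card X) :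
    ∃ K : Subgroup X, K.Normal ∧ K.IsComplement' (Q : Subgroup X) ∧
      ∀ x, x ∈ K ↔ (orderOf x).Coprime 2 := by
  have hp2 : Fact (Nat.Prime 2) := ⟨Nat.prime_two⟩
  have hmin : (Nat.card X).minFac = 2 := (Nat.minFac_eq_two_iff _).mpr h2
  have hcomp := IsCyclic.isComplement' hmin hQ
  set K := (MonoidHom.transferSylow Q (hQ.normalizer_le_centralizer hmin)).ker with hK
  obtain ⟨k, hk⟩ := Q.2.exists_card_eq
  have hidx : K.index = 2 ^ k := by
    rw [← hk]; exact hcomp.symm.index_eq_card
  have hcard : Nat.card K = (Q : Subgroup X).index := hcomp.index_eq_card.symm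
  have hodd : ¬ 2 ∣ Nat.card K := by rw [hcard]; exact Q.not_dvd_index
  refine ⟨K, inferInstance, hcomp, fun x => ⟨fun hx => ?_, fun hx => ?_⟩⟩
  · have h1 : orderOf (⟨x, hx⟩ : K) ∣ Nat.card K := orderOf_dvd_natCard _
    rw [Subgroup.orderOf_mk] at h1
    rw [Nat.coprime_comm, Nat.Prime.coprime_iff_not_dvd Nat.prime_two]
    exact fun h3 => hodd (h3.trans h1)
  · exact mem_of_coprime_orderOf_of_index_pow K k hidx x hx

end Cfsg.Agent.Lib.L0
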