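import Mathlib

/-!
# Abstract generalized quaternion data (lead's library)

`QuatData S N a`: the subgroup `S` of `G` looks like the generalized quaternion group of order
`4 * N` with cyclic maximal subgroup `⟨a⟩`.
-/

set_option autoImplicit false

namespace Cfsg.Agent.Lib.L0

open Subgroup
open scoped commutatorElement

variable {G : Type*} [Group G]

/-- Abstract generalized quaternion data. -/
structure QuatData (S : Subgroup G) (N : ℕ) (a : G) : Prop where
  ha : a ∈ S
  order_a : orderOf a = 2 * N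
  card : Nat.card S = 4 * N
  conj_of_not_mem : ∀ x ∈ S, x ∉ zpowers a → x * a * x⁻¹ = a⁻¹
  sq_of_not_mem : ∀ x ∈ S, x ∉ zpowers a → x * x = a ^ N

theorem exists_quatData (S : Subgroup G) (N : ℕ) [NeZero N] (e : S ≃* QuaternionGroup N) :
    ∃ a : G, QuatData S N a := by
  refine ⟨(e.symm (QuaternionGroup.a 1) : G), ?_⟩
  have hpow : ∀ k : ℕ, ((e.symm (QuaternionGroup.a 1) : S) : G) ^ k
      = ((e.symm (QuaternionGroup.a (k : ZMod (2 * N))) : S) : G) := by
    intro k
    rw [← QuaternionGroup.a_one_pow, map_pow]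
    rfl
  have hcase : ∀ x : S, (x : G) ∉ zpowers ((e.symm (QuaternionGroup.a 1) : S) : G) →
      ∃ i, e x = QuaternionGroup.xa i := by
    intro x hx
    rcases h : e x with i | i
    · exfalso
      apply hx
      have hx' : x = e.symm (QuaternionGroup.a i) := by rw [← h, e.symm_apply_apply]
      have hi : ((i.val : ℕ) : ZMod (2 * N)) = i := ZMod.natCast_zmod_val i
      rw [hx', ← hi, ← hpow]
      exact Subgroup.pow_mem _ (Subgroup.mem_zpowers _) _
    · exact ⟨i, rfl⟩
  refine ⟨(e.symm _).2, ?_, ?_, ?_, ?_⟩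
  · rw [Subgroup.orderOf_coe, MulEquiv.orderOf_eq, QuaternionGroup.orderOf_a_one]
  · rw [Nat.card_congr e.toEquiv, Nat.card_eq_fintype_card, QuaternionGroup.card]
  · intro x hxS hx
    obtain ⟨i, hi⟩ := hcase ⟨x, hxS⟩ hx
    have h1 : (⟨x, hxS⟩ : S) * e.symm (QuaternionGroup.a 1) * (⟨x, hxS⟩ : S)⁻¹
        = (e.symm (QuaternionGroup.a 1))⁻¹ := by
      apply e.injective
      rw [map_mul, map_mul, map_inv, map_inv, hi, e.apply_symm_apply]
      rw [eq_inv_iff_mul_eq_one]
      have : (QuaternionGroup.xa i : QuaternionGroup N)⁻¹ = QuaternionGroup.xa ((N : ZMod (2 * N)) + i) := by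
        rw [inv_eq_iff_mul_eq_one, QuaternionGroup.xa_mul_xa, QuaternionGroup.one_def]
        congr 1
        have h2 : ((2 * N : ℕ) : ZMod (2 * N)) = 0 := ZMod.natCast_self _
        push_cast at h2
        linear_combination h2
      rw [this, QuaternionGroup.xa_mul_a, QuaternionGroup.xa_mul_xa, QuaternionGroup.a_mul_a,
        QuaternionGroup.one_def]
      congr 1
      have h2 : ((2 * N : ℕ) : ZMod (2 * N)) = 0 := ZMod.natCast_self _
      push_cast at h2
      linear_combination h2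
    have := congrArg (Subtype.val : S → G) h1
    simpa using this
  · intro x hxS hx
    obtain ⟨i, hi⟩ := hcase ⟨x, hxS⟩ hx
    have h1 : (⟨x, hxS⟩ : S) * (⟨x, hxS⟩ : S) = (e.symm (QuaternionGroup.a 1)) ^ N := by
      apply e.injective
      rw [map_mul, map_pow, hi, e.apply_symm_apply, QuaternionGroup.xa_mul_xa,
        QuaternionGroup.a_one_pow]
      congr 1
      ring
    have := congrArg (Subtype.val : S → G) h1
    simpa using this


namespace QuatData

variable {S : Subgroup G} {N : ℕ} {a : G}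

theorem zpowers_le (h : QuatData S N a) : zpowers a ≤ S :=
  Subgroup.zpowers_le.mpr h.ha

theorem card_zpowers (h : QuatData S N a) : Nat.card (zpowers a) = 2 * N := by
  rw [Nat.card_zpowers, h.order_a]

theorem finite_zpowers (h : QuatData S N a) (hN : 0 < N) : Finite (zpowers a) := by
  apply Nat.finite_of_card_ne_zero
  rw [h.card_zpowers]; omega

theorem finite (h : QuatData S N a) (hN : 0 < N) : Finite S := by
  apply Nat.finite_of_card_ne_zero
  rw [h.card]; omega

theorem relIndex (h : QuatData S N a) (hN : 0 < N) : (zpowers a).relIndex S = 2 := by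
  have h1 := Subgroup.relIndex_mul_relIndex ⊥ (zpowers a) S bot_le h.zpowers_le
  rw [Subgroup.relIndex_bot_left, Subgroup.relIndex_bot_left, h.card_zpowers, h.card] at h1
  have : (zpowers a).relIndex S * (2 * N) = 2 * (2 * N) := by rw [mul_comm, h1]; ring
  exact Nat.eq_of_mul_eq_mul_right (by omega) this

theorem exists_not_mem (h : QuatData S N a) (hN : 0 < N) : ∃ b ∈ S, b ∉ zpowers a := by
  by_contra hcon
  push Not at hcon
  have hle : S ≤ zpowers a := fun x hx => hcon x hx
  have heq : S = zpowers a := le_antisymm hle h.zpowers_le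
  have := h.card
  rw [heq, h.card_zpowers] at this
  omega

theorem inv_mul_mem (h : QuatData S N a) (hN : 0 < N) {x y : G} (hx : x ∈ S) (hy : y ∈ S)
    (hxa : x ∉ zpowers a) (hya : y ∉ zpowers a) : x⁻¹ * y ∈ zpowers a := by
  have hidx : ((zpowers a).subgroupOf S).index = 2 := h.relIndex hN
  have key := Subgroup.mul_mem_iff_of_index_two hidx (a := (⟨x, hx⟩ : S)⁻¹) (b := ⟨y, hy⟩)
  have h1 : ((⟨x, hx⟩ : S)⁻¹ * ⟨y, hy⟩ ∈ (zpowers a).subgroupOf S) := by
    rw [key]
    constructor
    · intro h2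
      exact absurd (by simpa [Subgroup.mem_subgroupOf] using h2) hxa
    · intro h2
      exact absurd (by simpa [Subgroup.mem_subgroupOf] using h2) hya
  simpa [Subgroup.mem_subgroupOf] using h1

theorem conj_mem_zpowers (h : QuatData S N a) {x c : G} (hx : x ∈ S) (hxa : x ∉ zpowers a)
    (hc : c ∈ zpowers a) : x * c * x⁻¹ = c⁻¹ := by
  obtain ⟨k, rfl⟩ := Subgroup.mem_zpowers_iff.mp hc
  have h1 := h.conj_of_not_mem x hx hxa
  have h2 : x * a ^ k * x⁻¹ = (x * a * x⁻¹) ^ k := by
    rw [conj_zpow]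
  rw [h2, h1, inv_zpow]

theorem sq_ne_one (h : QuatData S N a) (hN : 0 < N) {x : G} (hx : x ∈ S) (hxa : x ∉ zpowers a) :
    x * x ≠ 1 := by
  rw [h.sq_of_not_mem x hx hxa]
  intro h1
  have := orderOf_dvd_of_pow_eq_one h1
  rw [h.order_a] at this
  have := Nat.le_of_dvd hN this
  omega

theorem pow_N_sq (h : QuatData S N a) : (a ^ N) ^ 2 = 1 := by
  rw [← pow_mul, mul_comm, ← h.order_a, pow_orderOf_eq_one]

theorem pow_N_ne_one (h : QuatData S N a) (hN : 0 < N) : a ^ N ≠ 1 := by
  intro h1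
  have := orderOf_dvd_of_pow_eq_one h1
  rw [h.order_a] at this
  have := Nat.le_of_dvd hN this
  omega

/-- The unique involution. -/
theorem involution (h : QuatData S N a) (hN : 0 < N) {x : G} (hx : x ∈ S) (hx2 : x * x = 1)
    (hx1 : x ≠ 1) : x = a ^ N := by
  by_cases hxa : x ∈ zpowers a
  · obtain ⟨k, rfl⟩ := Subgroup.mem_zpowers_iff.mp hxa
    -- a^(2k) = 1 so 2N ∣ 2k so N ∣ k
    have h1 : a ^ (2 * k) = 1 := by rw [two_mul, zpow_add]; exact hx2
    have h2 : ((orderOf a : ℕ) : ℤ) ∣ 2 * k := orderOf_dvd_iff_zpow_eq_one.mpr h1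
    rw [h.order_a] at h2
    push_cast at h2
    have h3 : (N : ℤ) ∣ k := by
      obtain ⟨m, hm⟩ := h2
      exact ⟨m, by linarith⟩
    obtain ⟨m, rfl⟩ := h3
    rcases Int.even_or_odd m with ⟨j, rfl⟩ | ⟨j, rfl⟩
    · exfalso; apply hx1
      have : (N : ℤ) * (j + j) = (2 * N : ℕ) * j := by push_cast; ring
      rw [this, zpow_mul, zpow_natCast, ← h.order_a, pow_orderOf_eq_one, one_zpow]
    · have : (N : ℤ) * (2 * j + 1) = (2 * N : ℕ) * j + N := by push_cast; ring
      rw [this, zpow_add, zpow_mul, zpow_natCast, ← h.order_a, pow_orderOf_eq_one, one_zpow,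
        one_mul, zpow_natCast]
  · exact absurd hx2 (h.sq_ne_one hN hx hxa)

theorem pow_N_mem_zpowers_sq (h : QuatData S N a) (hNe : Even N) : a ^ N ∈ zpowers (a ^ 2) := by
  obtain ⟨m, hm⟩ := hNe
  have : a ^ N = (a ^ 2) ^ m := by rw [← pow_mul, hm]; congr 1; ring
  rw [this]
  exact Subgroup.pow_mem _ (Subgroup.mem_zpowers _) _

theorem sq_mem_zpowers_sq {c : G} (hc : c ∈ zpowers a) : c ^ 2 ∈ zpowers (a ^ 2) := by
  obtain ⟨k, rfl⟩ := Subgroup.mem_zpowers_iff.mp hc
  rw [Subgroup.mem_zpowers_iff]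
  refine ⟨k, ?_⟩
  rw [← zpow_natCast, ← zpow_natCast, ← zpow_mul, ← zpow_mul, mul_comm]

theorem zpowers_sq_le : zpowers (a ^ 2) ≤ zpowers a :=
  (Subgroup.zpowers_le).mpr (Subgroup.pow_mem _ (Subgroup.mem_zpowers _) _)

/-- The commutator subgroup. -/
theorem commutator_eq (h : QuatData S N a) (hN : 0 < N) : ⁅S, S⁆ = zpowers (a ^ 2) := by
  apply le_antisymm
  · rw [Subgroup.commutator_le]
    intro x hx y hy
    rw [commutatorElement_def]
    by_cases hxa : x ∈ zpowers a
    · by_cases hya : y ∈ zpowers a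
      · -- both in the cyclic group
        obtain ⟨i, rfl⟩ := Subgroup.mem_zpowers_iff.mp hxa
        obtain ⟨j, rfl⟩ := Subgroup.mem_zpowers_iff.mp hya
        have : a ^ i * a ^ j * (a ^ i)⁻¹ * (a ^ j)⁻¹ = 1 := by
          rw [← zpow_add, ← zpow_neg, ← zpow_neg, ← zpow_add, ← zpow_add]
          have : i + j + -i + -j = 0 := by ring
          rw [this, zpow_zero]
        rw [this]; exact one_mem _
      · -- x cyclic, y outside: x y x⁻¹ y⁻¹ = x (y x⁻¹ y⁻¹) = x * x
        have h1 := h.conj_mem_zpowers hy hya (Subgroup.inv_mem _ hxa)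
        rw [inv_inv] at h1
        have : x * y * x⁻¹ * y⁻¹ = x ^ 2 := by
          rw [mul_assoc x y, mul_assoc x, h1, sq]
        rw [this]
        exact sq_mem_zpowers_sq hxa
    · by_cases hya : y ∈ zpowers a
      · -- x outside, y cyclic: x y x⁻¹ y⁻¹ = y⁻¹ y⁻¹
        have h1 := h.conj_mem_zpowers hx hxa hya
        rw [h1]
        have : y⁻¹ * y⁻¹ = (y⁻¹) ^ 2 := (sq _).symm
        rw [this]
        exact sq_mem_zpowers_sq (Subgroup.inv_mem _ hya)
      · -- both outside: y = x c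
        have hc := h.inv_mul_mem hN hx hy hxa hya
        set c := x⁻¹ * y with hcdef
        have hy' : y = x * c := by rw [hcdef]; group
        have h1 := h.conj_mem_zpowers hx hxa hc
        -- x (x c) x⁻¹ (x c)⁻¹ = x (x c x⁻¹) c⁻¹ x⁻¹ = x c⁻¹ c⁻¹ x⁻¹ = (c⁻¹ c⁻¹)⁻¹
        have h2 : x * y * x⁻¹ * y⁻¹ = x * ((x * c * x⁻¹) * c⁻¹) * x⁻¹ := by
          rw [hy']; group
        rw [h2, h1]
        have h3 := h.conj_mem_zpowers hx hxa
          (Subgroup.mul_mem _ (Subgroup.inv_mem _ hc) (Subgroup.inv_mem _ hc))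
        rw [h3]
        have : (c⁻¹ * c⁻¹)⁻¹ = c ^ 2 := by rw [sq, mul_inv_rev, inv_inv]
        rw [this]
        exact sq_mem_zpowers_sq hc
  · rw [Subgroup.zpowers_le]
    obtain ⟨b, hb, hba⟩ := h.exists_not_mem hN
    -- ⁅b, a⁆ = b a b⁻¹ a⁻¹ = a⁻¹ a⁻¹
    have h1 : ⁅b, a⁆ ∈ ⁅S, S⁆ := Subgroup.commutator_mem_commutator hb h.ha
    rw [commutatorElement_def, h.conj_of_not_mem b hb hba] at h1
    have : a ^ 2 = (a⁻¹ * a⁻¹)⁻¹ := by rw [sq, mul_inv_rev, inv_inv]
    rw [this]
    exact Subgroup.inv_mem _ h1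

theorem pow_four_ne_one (h : QuatData S N a) (hN : 2 < N) : a ^ 4 ≠ 1 := by
  intro h1
  have := orderOf_dvd_of_pow_eq_one h1
  rw [h.order_a] at this
  have := Nat.le_of_dvd (by norm_num) this
  omega

theorem orderOf_sq (h : QuatData S N a) (hN : 0 < N) : orderOf (a ^ 2) = N := by
  rw [orderOf_pow' a (by norm_num), h.order_a, Nat.gcd_eq_right (Dvd.intro _ rfl)]
  omega

theorem card_zpowers_sq (h : QuatData S N a) (hN : 0 < N) : Nat.card (zpowers (a ^ 2)) = N := by
  rw [Nat.card_zpowers, h.orderOf_sq hN]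

/-- The centralizer in `S` of the commutator subgroup. -/
theorem inf_centralizer (h : QuatData S N a) (hN : 2 < N) :
    S ⊓ centralizer (zpowers (a ^ 2) : Set G) = zpowers a := by
  apply le_antisymm
  · rintro x ⟨hxS, hxC⟩
    by_contra hxa
    have h1 := h.conj_mem_zpowers hxS hxa (zpowers_sq_le (Subgroup.mem_zpowers (a ^ 2)))
    have h2 : a ^ 2 * x = x * a ^ 2 := (Subgroup.mem_centralizer_iff.mp hxC) (a ^ 2)
      (Subgroup.mem_zpowers _)
    have h3 : x * a ^ 2 * x⁻¹ = a ^ 2 := by rw [← h2]; group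
    rw [h3] at h1
    apply h.pow_four_ne_one hN
    have : a ^ 4 = a ^ 2 * a ^ 2 := by rw [← pow_add]
    rw [this]
    nth_rewrite 1 [h1]
    group
  · apply le_inf h.zpowers_le
    intro x hx
    rw [Subgroup.mem_centralizer_iff]
    intro y hy
    obtain ⟨i, rfl⟩ := Subgroup.mem_zpowers_iff.mp hx
    obtain ⟨j, rfl⟩ := Subgroup.mem_zpowers_iff.mp (zpowers_sq_le hy)
    rw [← zpow_add, ← zpow_add, add_comm]

/-- The centre has order at most two. -/
theorem center (h : QuatData S N a) (hN : 2 < N) {x : G} (hx : x ∈ S)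
    (hc : ∀ y ∈ S, y * x = x * y) : x = 1 ∨ x = a ^ N := by
  have hN0 : 0 < N := by omega
  by_cases hxa : x ∈ zpowers a
  · obtain ⟨b, hb, hba⟩ := h.exists_not_mem hN0
    have h1 := h.conj_mem_zpowers hb hba hxa
    have h2 : b * x * b⁻¹ = x := by rw [hc b hb]; group
    rw [h2] at h1
    by_cases hx1 : x = 1
    · exact Or.inl hx1
    · right
      apply h.involution hN0 hx _ hx1
      nth_rewrite 1 [h1]
      group
  · exfalso
    have h1 := h.conj_of_not_mem x hx hxa
    have h2 : x * a * x⁻¹ = a := by rw [← hc a h.ha]; group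
    rw [h2] at h1
    apply h.pow_four_ne_one hN
    have h3 : a * a = 1 := by
      nth_rewrite 1 [h1]
      group
    have : a ^ 4 = (a * a) * (a * a) := by
      rw [← sq, ← sq, ← pow_mul]
    rw [this, h3, one_mul]

end QuatData

end Cfsg.Agent.Lib.L0
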