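import Cfsg.Agent.Lib.L0.CharSpecial
import Cfsg.Agent.S0840

/-!
# Products of two conjugates avoiding the support of an induced class function (lead's library)

* `sum_sq_div_mul_classInner_eq_zero` : if no product of two conjugates of `z` lies in the support
  of `φ : C → ℂ`, then `∑_χ χ(z)²/χ(1) ⟨Ind φ, χ⟩ = 0`.
* `ker_of_decomp` : for `Ind φ = 1 + χ₂ - χ₁`, `χ₁ 1 = χ₂ 1 + 1`, `(Ind φ) z = 0`, we get
  `χ₁ z = χ₁ 1` and `χ₂ z = χ₂ 1`.
-/

set_option autoImplicit false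

namespace Cfsg.Agent.Lib.L0

open Cfsg
open scoped ComplexConjugate

variable {G : Type*} [Group G] [Fintype G]

theorem sum_irr_conj_eq_zero (z y : G)
    (hno : ∀ u v : G, IsConj z u → IsConj z v → u * v ≠ y) :
    ∑ᶠ χ : IrrCharacter G, (χ : G → ℂ) z * (χ : G → ℂ) z * conj ((χ : G → ℂ) y) / (χ : G → ℂ) 1
      = 0 := by
  have h := Cfsg.Agent.S0840.result z z y
  have hempty : IsEmpty {p : G × G // IsConj z p.1 ∧ IsConj z p.2 ∧ p.1 * p.2 = y} := by
    constructor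
    rintro ⟨⟨u, v⟩, hu, hv, huv⟩
    exact hno u v hu hv huv
  rw [Nat.card_of_isEmpty, Nat.cast_zero] at h
  have hcl : (Nat.card {x : G // IsConj z x} : ℂ) ≠ 0 := by
    have : Nonempty {x : G // IsConj z x} := ⟨⟨z, IsConj.refl z⟩⟩
    exact_mod_cast (Nat.card_pos (α := {x : G // IsConj z x})).ne'
  have hG : (Nat.card G : ℂ) ≠ 0 := by exact_mod_cast (Nat.card_pos (α := G)).ne'
  have h2 := h.symm
  rw [mul_eq_zero] at h2
  rcases h2 with h2 | h2
  · exfalso
    rw [div_eq_zero_iff] at h2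
    rcases h2 with h2 | h2
    · rw [mul_eq_zero] at h2
      rcases h2 with h2 | h2 <;> exact hcl h2
    · exact hG h2
  · exact h2

theorem sum_sq_div_mul_classInner_eq_zero (C : Subgroup G) (φ : C → ℂ) (z : G)
    (hno : ∀ y : C, φ y ≠ 0 → ∀ u v : G, IsConj z u → IsConj z v → u * v ≠ (y : G)) :
    ∑ᶠ χ : IrrCharacter G, (χ : G → ℂ) z * (χ : G → ℂ) z / (χ : G → ℂ) 1
      * classInner (indFun C φ) (χ : G → ℂ) = 0 := by
  classical
  have := Fintype.ofFinite (IrrCharacter G)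
  have : Fintype C := Fintype.ofFinite _
  rw [finsum_eq_sum_of_fintype]
  have hC : (Nat.card C : ℂ) ≠ 0 := by exact_mod_cast (Nat.card_pos (α := C)).ne'
  have key : ∑ y : C, φ y * ∑ χ : IrrCharacter G,
      (χ : G → ℂ) z * (χ : G → ℂ) z * conj ((χ : G → ℂ) y) / (χ : G → ℂ) 1 = 0 := by
    apply Finset.sum_eq_zero
    intro y _
    by_cases hy : φ y = 0
    · rw [hy, zero_mul]
    · have := sum_irr_conj_eq_zero z (y : G) (hno y hy)
      rw [finsum_eq_sum_of_fintype] at this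
      rw [this, mul_zero]
  have hswap : ∑ y : C, φ y * ∑ χ : IrrCharacter G,
      (χ : G → ℂ) z * (χ : G → ℂ) z * conj ((χ : G → ℂ) y) / (χ : G → ℂ) 1
      = (Nat.card C : ℂ) * ∑ χ : IrrCharacter G, (χ : G → ℂ) z * (χ : G → ℂ) z / (χ : G → ℂ) 1
        * classInner (indFun C φ) (χ : G → ℂ) := by
    simp only [Finset.mul_sum]
    rw [Finset.sum_comm]
    refine Finset.sum_congr rfl fun χ _ => ?_
    rw [frobenius_reciprocity C φ _ (isClassFunction_of_isCharacter (isCharacter_of_irr χ.2))]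
    unfold classInner
    rw [Finset.mul_sum, Finset.mul_sum, Finset.mul_sum]
    refine Finset.sum_congr rfl fun y _ => ?_
    field_simp
  rw [hswap] at key
  exact (mul_eq_zero.mp key).resolve_left hC

/-- The kernel lemma. -/
theorem ker_of_decomp (C : Subgroup G) (φ : C → ℂ) (z : G)
    (hno : ∀ y : C, φ y ≠ 0 → ∀ u v : G, IsConj z u → IsConj z v → u * v ≠ (y : G))
    {χ₁ χ₂ : G → ℂ} (h1 : IsIrrCharacter G χ₁) (h2 : IsIrrCharacter G χ₂)
    (hne1 : χ₁ ≠ 1) (hne2 : χ₂ ≠ 1) (hne : χ₁ ≠ χ₂) (hdeg : χ₁ 1 = χ₂ 1 + 1)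
    (hΘ : indFun C φ = 1 + χ₂ - χ₁) (hz : indFun C φ z = 0) :
    χ₁ z = χ₁ 1 ∧ χ₂ z = χ₂ 1 := by
  classical
  have := Fintype.ofFinite (IrrCharacter G)
  have i1 : IsIrrCharacter G (1 : G → ℂ) := isIrrCharacter_one
  have hsum := sum_sq_div_mul_classInner_eq_zero C φ z hno
  rw [finsum_eq_sum_of_fintype, hΘ] at hsum
  have hinner : ∀ χ : IrrCharacter G, classInner (1 + χ₂ - χ₁) (χ : G → ℂ)
      = (if (⟨1, i1⟩ : IrrCharacter G) = χ then 1 else 0)
        + (if (⟨χ₂, h2⟩ : IrrCharacter G) = χ then 1 else 0)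
        - (if (⟨χ₁, h1⟩ : IrrCharacter G) = χ then 1 else 0) := by
    intro χ
    rw [classInner_sub_left, classInner_add_left, irr_classInner_eq i1 χ.2,
      irr_classInner_eq h2 χ.2, irr_classInner_eq h1 χ.2]
    congr 1
    · congr 1
      · by_cases hc : (1 : G → ℂ) = χ
        · rw [if_pos hc, if_pos (Subtype.ext hc)]
        · rw [if_neg hc, if_neg (fun h => hc (congrArg Subtype.val h))]
      · by_cases hc : χ₂ = χ
        · rw [if_pos hc, if_pos (Subtype.ext hc)]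
        · rw [if_neg hc, if_neg (fun h => hc (congrArg Subtype.val h))]
    · by_cases hc : χ₁ = χ
      · rw [if_pos hc, if_pos (Subtype.ext hc)]
      · rw [if_neg hc, if_neg (fun h => hc (congrArg Subtype.val h))]
  simp only [hinner, mul_sub, mul_add, Finset.sum_sub_distrib, Finset.sum_add_distrib,
    mul_ite, mul_one, mul_zero, Finset.sum_ite_eq, Finset.mem_univ, if_true] at hsum
  -- hsum : 1*1/1 + χ₂ z * χ₂ z / χ₂ 1 - χ₁ z * χ₁ z / χ₁ 1 = 0
  simp only [Pi.one_apply] at hsum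
  have hzz : χ₁ z = χ₂ z + 1 := by
    rw [hΘ] at hz
    simp only [Pi.sub_apply, Pi.add_apply, Pi.one_apply] at hz
    linear_combination -hz
  obtain ⟨d, hd, hd2⟩ := irr_apply_one_pos h2
  have hd0 : (d : ℂ) ≠ 0 := by exact_mod_cast hd.ne'
  have hd1 : (d : ℂ) + 1 ≠ 0 := by
    have : ((d + 1 : ℕ) : ℂ) ≠ 0 := by exact_mod_cast (Nat.succ_ne_zero d)
    simpa using this
  rw [hdeg, hzz, hd2] at hsum
  have hfinal : ((d : ℂ) - χ₂ z) ^ 2 = 0 := by
    field_simp at hsum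
    linear_combination hsum
  have hc : χ₂ z = d := by
    have := pow_eq_zero_iff (n := 2) (by norm_num) |>.mp hfinal
    linear_combination -this
  constructor
  · rw [hzz, hc, hdeg, hd2]
  · rw [hc, hd2]

end Cfsg.Agent.Lib.L0
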