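import Cfsg.Agent.Lib.L0.NPCReduction

/-!
# Structure of a minimal counterexample to a normal `p`-complement theorem (lead's library)

`FinalConfig.exists_struct` : in the final configuration there are `H = O_p(G) ≠ 1` and
`K = O_{p,p'}(G)` with `C_G(H) ≤ H`, `K' ≤ H`, `|G : K|` a power of `p`, `|K : H|` prime to `p`,
and every normal subgroup `C ≥ H` of `G` either contains `K` or meets `K` in `H`.
-/

set_option autoImplicit false

universe u

namespace Cfsg.Agent.Lib.L0

open Cfsg.Agent.Lib
open scoped commutatorElement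

/-- The structure of a minimal counterexample. -/
structure NPCStruct (p : ℕ) (X : Type u) [Group X] (H K : Subgroup X) : Prop where
  hHn : H.Normal
  hKn : K.Normal
  hHp : IsPGroup p H
  hHne : H ≠ ⊥
  hmax : ∀ H' : Subgroup X, H'.Normal → IsPGroup p H' → H' ≤ H
  hHK : H ≤ K
  hidx : ∃ k, K.index = p ^ k
  hrel : (H.relIndex K).Coprime p
  hcent : Subgroup.centralizer (H : Set X) ≤ H
  hirr : ∀ C : Subgroup X, C.Normal → H ≤ C → K ≤ C ∨ C ⊓ K ≤ H
  hcomm : ⁅K, K⁆ ≤ H

section aux

variable {G : Type*} [Group G]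

/-- A subgroup of index prime to `p` contains a Sylow `p`-subgroup. -/
theorem exists_sylow_le_of_not_dvd_index [Finite G] {p : ℕ} [hp : Fact p.Prime] (L : Subgroup G)
    (hL : ¬ p ∣ L.index) : ∃ P : Sylow p G, (P : Subgroup G) ≤ L := by
  let P₀ : Sylow p L := Classical.arbitrary _
  have hcard : Nat.card ((P₀ : Subgroup L).map L.subtype) = p ^ (Nat.card G).factorization p := by
    rw [Subgroup.card_map_of_injective L.subtype_injective, P₀.card_eq_multiplicity,
      ← Subgroup.card_mul_index L, Nat.factorization_mul Nat.card_pos.ne'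
        Subgroup.index_ne_zero_of_finite, Finsupp.add_apply,
      Nat.factorization_eq_zero_of_not_dvd hL, add_zero]
  refine ⟨Sylow.ofCard _ hcard, ?_⟩
  rw [Sylow.coe_ofCard]
  exact Subgroup.map_subtype_le _

/-- If `L K = G` with `K` normal then `|G : L| = |K : K ∩ L|`. -/
theorem index_eq_relIndex_of_sup_eq_top [Finite G] {K L : Subgroup G} [K.Normal]
    (h : L ⊔ K = ⊤) : L.index = L.relIndex K := by
  have h1 : K.relIndex L = K.index := by
    rw [← Subgroup.relIndex_sup_right L K, h, Subgroup.relIndex_top_right]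
  have h2 : Nat.card L = Nat.card (L ⊓ K : Subgroup G) * K.index := by
    have h8 := card_eq_card_mul_relIndex (inf_le_right : K ⊓ L ≤ L)
    rw [Subgroup.inf_relIndex_right K L, h1, inf_comm] at h8
    exact h8
  have h3 : Nat.card K = Nat.card (L ⊓ K : Subgroup G) * L.relIndex K := by
    rw [← Subgroup.inf_relIndex_right L K]
    exact card_eq_card_mul_relIndex inf_le_right
  have h4 : Nat.card L * L.index = Nat.card K * K.index := by
    rw [Subgroup.card_mul_index, Subgroup.card_mul_index]
  rw [h2, h3] at h4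
  have h5 : 0 < Nat.card (L ⊓ K : Subgroup G) := Nat.card_pos
  have h6 : 0 < K.index := Nat.pos_of_ne_zero Subgroup.index_ne_zero_of_finite
  have h7 : Nat.card (L ⊓ K : Subgroup G) * K.index * L.index =
      Nat.card (L ⊓ K : Subgroup G) * K.index * L.relIndex K := by
    rw [h4]; ring
  exact Nat.eq_of_mul_eq_mul_left (Nat.mul_pos h5 h6) h7

/-- A group all of whose `p'`-elements are trivial is a `p`-group. -/
theorem isPGroup_of_forall_coprime_eq_one [Finite G] {p : ℕ} [hp : Fact p.Prime]
    (h : ∀ g : G, (orderOf g).Coprime p → g = 1) : IsPGroup p G := by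
  intro x
  obtain ⟨k, m, hm, hkm⟩ := Nat.exists_eq_pow_mul_and_not_dvd (orderOf_pos x).ne' p hp.out.ne_one
  refine ⟨k, ?_⟩
  apply h
  have hord : orderOf (x ^ p ^ k) = m := by
    rw [orderOf_pow, hkm, Nat.gcd_eq_right (Dvd.intro _ rfl)]
    exact Nat.mul_div_cancel_left m (pow_pos hp.out.pos k)
  rw [hord]
  exact ((Nat.Prime.coprime_iff_not_dvd hp.out).mpr hm).symm

/-- If `H ⊴ G` is a `p`-group with `|K : H|` prime to `p`, every `p`-subgroup of `K` lies in
`H`. -/
theorem le_of_isPGroup_of_relIndex_coprime [Finite G] {p : ℕ} [hp : Fact p.Prime]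
    {H K Q : Subgroup G} [H.Normal] (hHp : IsPGroup p H) (hHK : H ≤ K)
    (hrel : (H.relIndex K).Coprime p) (hQK : Q ≤ K) (hQ : IsPGroup p Q) : Q ≤ H := by
  have h1 : IsPGroup p (Q ⊔ H : Subgroup G) := IsPGroup.to_sup_of_normal_right hQ hHp
  have h2 : H.relIndex (Q ⊔ H) ∣ H.relIndex K :=
    Dvd.intro _ (Subgroup.relIndex_mul_relIndex H (Q ⊔ H) K le_sup_right (sup_le hQK hHK))
  obtain ⟨a, ha⟩ := IsPGroup.iff_card.mp h1
  have h3 : H.relIndex (Q ⊔ H) ∣ p ^ a := by
    rw [← ha]; exact Subgroup.relIndex_dvd_card _ _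
  obtain ⟨j, _, hj⟩ := (Nat.dvd_prime_pow hp.out).mp h3
  have h4 : H.relIndex (Q ⊔ H) = 1 := by
    have h5 : (H.relIndex (Q ⊔ H)).Coprime p := Nat.Coprime.coprime_dvd_left h2 hrel
    rw [hj] at h5 ⊢
    rcases Nat.eq_zero_or_pos j with h0 | h0
    · rw [h0, pow_zero]
    · exfalso
      have h6 : p ∣ Nat.gcd (p ^ j) p := Nat.dvd_gcd (dvd_pow_self p h0.ne') dvd_rfl
      rw [h5] at h6
      exact hp.out.one_lt.ne' (Nat.dvd_one.mp h6)
  exact le_sup_left.trans (Subgroup.relIndex_eq_one.mp h4)

/-- In an NPC subgroup `L`, the `p'`-elements centralize every normal `p`-subgroup `H ≤ L` of the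
ambient group. -/
theorem mem_centralizer_of_npc_subgroup [Finite G] {p : ℕ} [hp : Fact p.Prime] {L H : Subgroup G}
    [hHn : H.Normal] (hHp : IsPGroup p H) (hL : Cfsg.HasNormalPComplement p L) (hHL : H ≤ L)
    {g : G} (hg : g ∈ L) (hcop : (orderOf g).Coprime p) :
    g ∈ Subgroup.centralizer (H : Set G) := by
  have hn : (H.subgroupOf L).Normal := Subgroup.normal_subgroupOf
  have hp' : IsPGroup p (H.subgroupOf L) := hHp.comap_subtype
  have hord : Nat.Coprime (orderOf (⟨g, hg⟩ : L)) p := by rwa [Subgroup.orderOf_mk]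
  have h1 := HasNormalPComplement.mem_centralizer hL _ hp' ⟨g, hg⟩ hord
  rw [Subgroup.mem_centralizer_iff] at h1 ⊢
  intro x hx
  have h2 := h1 ⟨x, hHL hx⟩ (by
    show (⟨x, hHL hx⟩ : L) ∈ H.subgroupOf L
    rw [Subgroup.mem_subgroupOf]; exact hx)
  exact congrArg Subtype.val h2

/-- `K ⊔ P = ⊤` when `K` has `p`-power index and `P` is a Sylow `p`-subgroup. -/
theorem sup_sylow_eq_top [Finite G] {p : ℕ} [hp : Fact p.Prime] {K : Subgroup G}
    (hidx : ∃ k, K.index = p ^ k) (P : Sylow p G) : K ⊔ (P : Subgroup G) = ⊤ := by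
  obtain ⟨k, hk⟩ := hidx
  rw [← Subgroup.index_eq_one]
  have h1 : (K ⊔ (P : Subgroup G)).index ∣ p ^ k := by
    rw [← hk]; exact Subgroup.index_dvd_of_le le_sup_left
  have h2 : (K ⊔ (P : Subgroup G)).index ∣ (P : Subgroup G).index :=
    Subgroup.index_dvd_of_le le_sup_right
  obtain ⟨j, _, hj⟩ := (Nat.dvd_prime_pow hp.out).mp h1
  rcases Nat.eq_zero_or_pos j with h0 | h0
  · rw [hj, h0, pow_zero]
  · exfalso
    apply P.not_dvd_index
    exact (dvd_pow_self p h0.ne').trans (hj ▸ h2)

end aux

section main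

variable {p : ℕ} [hp : Fact p.Prime] {Hyp : ∀ (X : Type u) [Group X], Subgroup X → Prop}

theorem FinalConfig.exists_struct {X : Type u} [Group X] [Finite X]
    (hF : FinalConfig p Hyp X) : ∃ H K : Subgroup X, NPCStruct p X H K := by
  obtain ⟨hnot, -, hproper, hpprime, H, hHn, hHp, hHne, hquot, hmaxH⟩ := hF
  obtain ⟨M, hMn, hpM, k, hk⟩ := HasNormalPComplement.exists_normal hquot
  have hsurj := QuotientGroup.mk'_surjective H
  set π := QuotientGroup.mk' H with hπ
  have hker : π.ker = H := QuotientGroup.ker_mk' H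
  set K := M.comap π with hKdef
  have hKn : K.Normal := Subgroup.Normal.comap hMn π
  have hHK : H ≤ K := hker.ge.trans (Subgroup.ker_le_comap π M)
  have hidx : K.index = p ^ k := by
    rw [hKdef, Subgroup.index_comap_of_surjective _ hsurj, hk]
  have hrel : (H.relIndex K).Coprime p := by
    have h2 := Subgroup.relIndex_ker π (K := K)
    rw [hKdef, Subgroup.map_comap_eq_self_of_surjective hsurj] at h2
    have h3 : H.relIndex K = Nat.card M := by
      rw [← h2, hKdef]
      congr 1
      exact hker.symm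
    rw [h3]
    exact ((Nat.Prime.coprime_iff_not_dvd hp.out).mpr hpM).symm
  obtain ⟨P⟩ : Nonempty (Sylow p X) := inferInstance
  have hHP : H ≤ P := normal_le_sylow hHp P
  -- `C_K(H) ≤ H`
  have hCK : Subgroup.centralizer (H : Set X) ⊓ K ≤ H := by
    set D := Subgroup.centralizer (H : Set X) ⊓ K with hDdef
    have hDn : D.Normal := Subgroup.normal_inf_normal _ _
    have hZp : IsPGroup p (H.subgroupOf D) := hHp.comap_subtype
    have hZidx : ¬ p ∣ (H.subgroupOf D).index := by
      have h1 : (H.subgroupOf D).index = H.relIndex D := rfl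
      have h2 : H.relIndex D ∣ H.relIndex K := by
        rw [← Subgroup.relIndex_sup_right D H]
        exact Dvd.intro _ (Subgroup.relIndex_mul_relIndex H (D ⊔ H) K le_sup_right
          (sup_le inf_le_right hHK))
      rw [h1]
      intro h3
      have h4 : p ∣ Nat.gcd (H.relIndex K) p := Nat.dvd_gcd (h3.trans h2) dvd_rfl
      rw [hrel] at h4
      exact hp.out.one_lt.ne' (Nat.dvd_one.mp h4)
    have hcen : Subgroup.centralizer ((H.subgroupOf D : Subgroup D) : Set D) = ⊤ := by
      rw [eq_top_iff]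
      intro d _
      rw [Subgroup.mem_centralizer_iff]
      intro z hz
      apply Subtype.ext
      have hd : (d : X) ∈ Subgroup.centralizer (H : Set X) := d.2.1
      exact Subgroup.mem_centralizer_iff.mp hd z hz
    have hnpcD : Cfsg.HasNormalPComplement p D := by
      apply hasNormalPComplement_of_normalizer_le_centralizer (hZp.toSylow hZidx)
      show _ ≤ Subgroup.centralizer ((H.subgroupOf D : Subgroup D) : Set D)
      rw [hcen]; exact le_top
    obtain ⟨M', hM'n, hpM', j, hj⟩ := HasNormalPComplement.exists_normal hnpcD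
    have hcop : Nat.Coprime (Nat.card M') M'.index := by
      rw [hj]
      exact Nat.Coprime.pow_right j ((Nat.Prime.coprime_iff_not_dvd hp.out).mpr hpM').symm
    have hM'G : (M'.map D.subtype).Normal := normal_map_subtype_of_coprime D M' hcop
    have hM'bot : M'.map D.subtype = ⊥ := by
      apply hpprime _ hM'G
      rw [Subgroup.card_map_of_injective D.subtype_injective]
      exact ((Nat.Prime.coprime_iff_not_dvd hp.out).mpr hpM').symm
    have hM'bot' : M' = ⊥ := (Subgroup.map_eq_bot_iff_of_injective _ D.subtype_injective).mp hM'bot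
    have hDp : IsPGroup p D := by
      apply IsPGroup.of_card (n := j)
      rw [← hj, hM'bot', Subgroup.index_bot]
    exact hmaxH D hDn hDp
  -- `C_G(H) ≤ H`
  have hcent : Subgroup.centralizer (H : Set X) ≤ H := by
    set C := Subgroup.centralizer (H : Set X) with hCdef
    have hEn : (C ⊔ H).Normal := Subgroup.sup_normal C H
    have hEK : (C ⊔ H) ⊓ K ≤ H := by
      rintro x ⟨hxE, hxK⟩
      obtain ⟨c, hc, h, hh, rfl⟩ := Subgroup.mem_sup_of_normal_right.mp hxE
      have hcK : c ∈ K := by
        have : c = c * h * h⁻¹ := by group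
        rw [this]; exact K.mul_mem hxK (K.inv_mem (hHK hh))
      exact H.mul_mem (hCK ⟨hc, hcK⟩) hh
    have hEK' : K ⊓ (C ⊔ H) = H :=
      le_antisymm (by rw [inf_comm]; exact hEK) (le_inf hHK le_sup_right)
    have h1 : H.relIndex (C ⊔ H) = K.relIndex (C ⊔ H) := by
      rw [← Subgroup.inf_relIndex_right K (C ⊔ H), hEK']
    have h2 : H.relIndex (C ⊔ H) ∣ p ^ k := by
      rw [h1, ← hidx]; exact Subgroup.relIndex_dvd_index_of_normal K _
    obtain ⟨j, _, hj⟩ := (Nat.dvd_prime_pow hp.out).mp h2
    obtain ⟨a, ha⟩ := IsPGroup.iff_card.mp hHp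
    have hEp : IsPGroup p (C ⊔ H : Subgroup X) := by
      apply IsPGroup.of_card (n := a + j)
      rw [card_eq_card_mul_relIndex (le_sup_right : H ≤ C ⊔ H), ha, hj, pow_add]
    exact le_sup_left.trans (hmaxH _ hEn hEp)
  -- irreducibility
  have hirr : ∀ C : Subgroup X, C.Normal → H ≤ C → K ≤ C ∨ C ⊓ K ≤ H := by
    intro C hCn hHC
    have hCKn : (C ⊓ K).Normal := Subgroup.normal_inf_normal _ _
    by_cases hL : (C ⊓ K) ⊔ (P : Subgroup X) = ⊤
    · left
      intro x hx
      have hx' : x ∈ (C ⊓ K) ⊔ (P : Subgroup X) := by rw [hL]; exact Subgroup.mem_top x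
      obtain ⟨d, hd, u, hu, rfl⟩ := Subgroup.mem_sup_of_normal_left.mp hx'
      have huK : u ∈ K := by
        have : u = d⁻¹ * (d * u) := by group
        rw [this]; exact K.mul_mem (K.inv_mem hd.2) hx
      have huH : u ∈ H := le_of_isPGroup_of_relIndex_coprime hHp hHK hrel
        (inf_le_left : K ⊓ (P : Subgroup X) ≤ K) (P.2.to_le inf_le_right) ⟨huK, hu⟩
      exact C.mul_mem hd.1 (hHC huH)
    · right
      have hnpcL := hproper _ hL ⟨P, le_sup_right⟩
      have hLp : IsPGroup p ((C ⊓ K) ⊔ (P : Subgroup X) : Subgroup X) := by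
        apply isPGroup_of_forall_coprime_eq_one
        intro g hg
        have hg' : (orderOf (g : X)).Coprime p := by rwa [Subgroup.orderOf_coe]
        have h1 := mem_centralizer_of_npc_subgroup hHp hnpcL (hHP.trans le_sup_right) g.2 hg'
        have h2 : (g : X) ∈ H := hcent h1
        obtain ⟨a, ha⟩ := (hHp ⟨g, h2⟩)
        have h3 : (g : X) ^ p ^ a = 1 := congrArg Subtype.val ha
        have h4 : orderOf (g : X) ∣ p ^ a := orderOf_dvd_of_pow_eq_one h3
        have h5 : orderOf (g : X) = 1 :=
          Nat.Coprime.eq_one_of_dvd (Nat.Coprime.pow_right a hg') h4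
        exact Subtype.ext (orderOf_eq_one_iff.mp h5)
      exact hmaxH _ hCKn (hLp.to_le le_sup_left)
  -- `K' ≤ H`
  have hcomm : ⁅K, K⁆ ≤ H := by
    have hKH : ¬ K ≤ H := by
      intro hle
      have hKeq : K = H := le_antisymm hle hHK
      apply hnot
      apply hasNormalPComplement_of_isPGroup
      obtain ⟨a, ha⟩ := IsPGroup.iff_card.mp hHp
      apply IsPGroup.of_card (n := a + k)
      rw [← Subgroup.card_mul_index K, hidx, hKeq, ha, pow_add]
    have hrel1 : H.relIndex K ≠ 1 := fun h => hKH (Subgroup.relIndex_eq_one.mp h)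
    obtain ⟨q, hq, hqdvd⟩ := Nat.exists_prime_and_dvd hrel1
    haveI : Fact q.Prime := ⟨hq⟩
    have hqp : q ≠ p := by
      rintro rfl
      have h4 : q ∣ Nat.gcd (H.relIndex K) q := Nat.dvd_gcd hqdvd dvd_rfl
      rw [hrel] at h4
      exact hq.one_lt.ne' (Nat.dvd_one.mp h4)
    have hqK : q ∣ Nat.card K := hqdvd.trans (Subgroup.relIndex_dvd_card H K)
    let R' : Sylow q K := Classical.arbitrary _
    set R : Subgroup X := (R' : Subgroup K).map K.subtype with hRdef
    have hRK : R ≤ K := Subgroup.map_subtype_le _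
    have hRq : IsPGroup q R := R'.2.map _
    have hRcard : Nat.card R = q ^ (Nat.card K).factorization q := by
      rw [hRdef, Subgroup.card_map_of_injective K.subtype_injective, R'.card_eq_multiplicity]
    have hRne : R ≠ ⊥ := by
      rw [← Subgroup.one_lt_card_iff_ne_bot, hRcard]
      exact Nat.one_lt_pow
        (Nat.Prime.factorization_pos_of_dvd hq Nat.card_pos.ne' hqK).ne' hq.one_lt
    have hRH : R ⊓ H = ⊥ := by
      apply Subgroup.inf_eq_bot_of_coprime
      obtain ⟨a, ha⟩ := IsPGroup.iff_card.mp hHp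
      rw [hRcard, ha]
      exact Nat.coprime_pow_primes _ _ hq hp.out hqp
    have hfrat : Subgroup.normalizer (R : Set X) ⊔ K = ⊤ := Sylow.normalizer_sup_eq_top R'
    have hRcop : ∀ r ∈ R, (orderOf r).Coprime p := by
      intro r hr
      have h1 : orderOf r ∣ Nat.card R := by
        have := orderOf_dvd_natCard (⟨r, hr⟩ : R)
        rwa [Subgroup.orderOf_mk] at this
      rw [hRcard] at h1
      exact Nat.Coprime.coprime_dvd_left h1
        (Nat.Coprime.pow_left _ ((Nat.coprime_primes hq hp.out).mpr hqp))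
    set L := H ⊔ Subgroup.normalizer (R : Set X) with hLdef
    have hLtop : L = ⊤ := by
      by_contra hL
      have hLK : L ⊔ K = ⊤ := by
        rw [eq_top_iff, ← hfrat]
        exact sup_le_sup_right le_sup_right K
      have hLidx : ¬ p ∣ L.index := by
        rw [index_eq_relIndex_of_sup_eq_top hLK, ← Subgroup.inf_relIndex_right L K]
        have h2 : (L ⊓ K).relIndex K ∣ H.relIndex K :=
          Dvd.intro_left _ (Subgroup.relIndex_mul_relIndex H (L ⊓ K) K
            (le_inf le_sup_left hHK) inf_le_right)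
        intro h3
        have h4 : p ∣ Nat.gcd (H.relIndex K) p := Nat.dvd_gcd (h3.trans h2) dvd_rfl
        rw [hrel] at h4
        exact hp.out.one_lt.ne' (Nat.dvd_one.mp h4)
      have hnpcL := hproper L hL (exists_sylow_le_of_not_dvd_index L hLidx)
      apply hRne
      rw [eq_bot_iff]
      intro r hr
      have hrL : r ∈ L := (le_sup_right : Subgroup.normalizer (R : Set X) ≤ L)
        (Subgroup.le_normalizer hr)
      have h1 := mem_centralizer_of_npc_subgroup hHp hnpcL le_sup_left hrL (hRcop r hr)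
      have h2 : r ∈ R ⊓ H := ⟨hr, hcent h1⟩
      rwa [hRH] at h2
    have hnorm : ∀ R₀ : Subgroup X, Subgroup.normalizer (R : Set X) ≤
        Subgroup.normalizer (R₀ : Set X) → (H ⊔ R₀).Normal := by
      intro R₀ hR₀
      rw [← Subgroup.normalizer_eq_top_iff, eq_top_iff, ← hLtop, hLdef]
      apply sup_le
      · exact le_sup_left.trans Subgroup.le_normalizer
      · intro g hg
        have hg' := hR₀ hg
        have hgH : g ∈ Subgroup.normalizer (H : Set X) := by
          rw [Subgroup.normalizer_eq_top_iff.mpr hHn]; exact Subgroup.mem_top g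
        rw [Subgroup.mem_normalizer_iff_map_conj_eq] at hg' hgH ⊢
        rw [Subgroup.map_sup, hg', hgH]
    have hKHR : K ≤ H ⊔ R := by
      rcases hirr (H ⊔ R) (hnorm R le_rfl) le_sup_left with h | h
      · exact h
      · exfalso
        apply hRne
        rw [eq_bot_iff, ← hRH]
        exact le_inf le_rfl ((le_inf le_sup_right hRK).trans h)
    have hR1R : ⁅R, R⁆ ≤ R := Subgroup.commutator_le.mpr (fun g₁ h₁ g₂ h₂ =>
      R.mul_mem (R.mul_mem (R.mul_mem h₁ h₂) (R.inv_mem h₁)) (R.inv_mem h₂))
    have hRab : ⁅R, R⁆ = ⊥ := by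
      have hN1 : Subgroup.normalizer (R : Set X) ≤
          Subgroup.normalizer ((⁅R, R⁆ : Subgroup X) : Set X) := by
        intro g hg
        rw [Subgroup.mem_normalizer_iff_map_conj_eq] at hg ⊢
        rw [Subgroup.map_commutator, hg]
      rcases hirr (H ⊔ ⁅R, R⁆) (hnorm _ hN1) le_sup_left with h | h
      · exfalso
        have hRle : R ≤ ⁅R, R⁆ := by
          intro r hr
          obtain ⟨h', hh', r₁, hr₁, rfl⟩ := Subgroup.mem_sup_of_normal_left.mp (h (hRK hr))
          have h1 : h' ∈ R ⊓ H := by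
            refine ⟨?_, hh'⟩
            have : h' = h' * r₁ * r₁⁻¹ := by group
            rw [this]; exact R.mul_mem hr (R.inv_mem (hR1R hr₁))
          rw [hRH, Subgroup.mem_bot] at h1
          rw [h1, one_mul]; exact hr₁
        have hfin : Finite R := inferInstance
        have hnil : Group.IsNilpotent R := hRq.isNilpotent
        have hnt : Nontrivial R := (Subgroup.nontrivial_iff_ne_bot R).mpr hRne
        have h2 := Group.IsSolvable.commutator_lt_top_of_nontrivial R
        apply h2.ne
        apply Subgroup.map_injective R.subtype_injective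
        rw [commutator_def, Subgroup.map_commutator, ← MonoidHom.range_eq_map,
          Subgroup.range_subtype]
        exact le_antisymm hR1R hRle
      · rw [eq_bot_iff, ← hRH]
        exact le_inf hR1R ((le_inf le_sup_right (hR1R.trans hRK)).trans h)
    rw [Subgroup.commutator_le]
    intro k₁ hk₁ k₂ hk₂
    obtain ⟨h₁, hh₁, r₁, hr₁, rfl⟩ := Subgroup.mem_sup_of_normal_left.mp (hKHR hk₁)
    obtain ⟨h₂, hh₂, r₂, hr₂, rfl⟩ := Subgroup.mem_sup_of_normal_left.mp (hKHR hk₂)
    have e1 : π h₁ = 1 := (QuotientGroup.eq_one_iff h₁).mpr hh₁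
    have e2 : π h₂ = 1 := (QuotientGroup.eq_one_iff h₂).mpr hh₂
    have e3 : ⁅r₁, r₂⁆ = 1 := by
      have := Subgroup.commutator_mem_commutator hr₁ hr₂
      rwa [hRab, Subgroup.mem_bot] at this
    have hx : π ⁅h₁ * r₁, h₂ * r₂⁆ = 1 := by
      rw [map_commutatorElement, map_mul, map_mul, e1, e2, one_mul, one_mul,
        ← map_commutatorElement, e3, map_one]
    exact (QuotientGroup.eq_one_iff _).mp hx
  exact ⟨H, K, hHn, hKn, hHp, hHne, hmaxH, hHK, ⟨k, hidx⟩, hrel, hcent, hirr, hcomm⟩

end main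

end Cfsg.Agent.Lib.L0
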