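import Cfsg.Agent.Lib.L0.CharIndChar
open Module
open scoped ComplexConjugate

namespace Cfsg.Agent.Lib.L0

section Degree
variable {G : Type*} [Group G]

/-- degree of a character as a natural number -/
theorem isCharacter_list_sum_apply_one {l : List (G → ℂ)} (hl : ∀ χ ∈ l, Cfsg.IsCharacter G χ) :
    ∀ χ ∈ l, ∃ a b : ℕ, χ 1 = a ∧ l.sum 1 = b ∧ a ≤ b := by
  induction l with
  | nil => intro χ hχ; simp at hχ
  | cons c l ih =>
    intro χ hχ
    obtain ⟨n, hn⟩ := isCharacter_apply_one (hl c (by simp))
    obtain ⟨m, hm⟩ := isCharacter_apply_one (isCharacter_list_sum (l := l) fun ψ hψ => hl ψ (by simp [hψ]))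
    rcases List.mem_cons.mp hχ with rfl | h
    · exact ⟨n, n + m, hn, by simp [hn, hm], by omega⟩
    · obtain ⟨a, b, ha, hb, hab⟩ := ih (fun ψ hψ => hl ψ (by simp [hψ])) χ h
      refine ⟨a, n + b, ha, by simp [hn, hb], by omega⟩

variable [Fintype G]

theorem indFun_apply_one (H : Subgroup G) (θ : H → ℂ) :
    Cfsg.indFun H θ 1 = (H.index : ℂ) * θ 1 := by
  rw [indFun_apply]
  have : ∀ x : G, Cfsg.extendByZero H θ (x⁻¹ * 1 * x) = θ 1 := by
    intro x
    rw [mul_one, inv_mul_cancel]
    exact extendByZero_apply_mem H θ 1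
  rw [Finset.sum_congr rfl fun x _ => this x, Finset.sum_const, Finset.card_univ, nsmul_eq_mul,
    ← Nat.card_eq_fintype_card, ← H.card_mul_index]
  have hH : (Nat.card H : ℂ) ≠ 0 := by exact_mod_cast (Nat.card_pos (α := H)).ne'
  push_cast
  field_simp

/-- A constituent of a character has degree at most the degree of the character. -/
theorem degree_le_of_classInner_ne_zero {χ ψ : G → ℂ} (hχ : Cfsg.IsIrrCharacter G χ)
    (hψ : Cfsg.IsCharacter G ψ) (h : Cfsg.classInner ψ χ ≠ 0) :
    ∃ a b : ℕ, χ 1 = a ∧ ψ 1 = b ∧ a ≤ b := by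
  classical
  obtain ⟨l, hl, rfl⟩ := isCharacter_exists_irr_decomp hψ
  rw [classInner_irr_list_sum hl hχ] at h
  have hmem : χ ∈ l := by
    by_contra hcon
    rw [List.count_eq_zero_of_not_mem hcon] at h
    simp at h
  exact isCharacter_list_sum_apply_one (fun φ hφ => isCharacter_of_irr (hl φ hφ)) χ hmem

end Degree


section AbelianIndex
variable {G : Type*} [Group G]

theorem irr_apply_one_of_comm (hcomm : ∀ a b : G, a * b = b * a) {θ : G → ℂ}
    (hθ : Cfsg.IsIrrCharacter G θ) : θ 1 = 1 := by
  obtain ⟨n, ρ, hirr, rfl⟩ := hθ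
  have : IsMulCommutative G := ⟨⟨fun a b => hcomm a b⟩⟩
  rw [Representation.char_one, Representation.IsIrreducible.finrank_eq_one_of_isMulCommutative ρ]
  simp

/-- The degree of an irreducible representation is at most the index of any abelian subgroup. -/
theorem finrank_le_index_of_comm [Finite G] {V : Type*} [AddCommGroup V] [Module ℂ V]
    [FiniteDimensional ℂ V] (ρ : Representation ℂ G V) [ρ.IsIrreducible] (A : Subgroup G)
    (hA : ∀ a ∈ A, ∀ b ∈ A, a * b = b * a) : Module.finrank ℂ V ≤ A.index := by
  classical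
  have := Fintype.ofFinite G
  have := Fintype.ofFinite A
  have hχ : Cfsg.IsIrrCharacter G ρ.character := isIrrCharacter_of_irr ρ
  have hres : Cfsg.IsCharacter A (fun a : A => ρ.character a) :=
    isCharacter_restrict A (isCharacter_of_irr hχ)
  obtain ⟨l, hl, hsum⟩ := isCharacter_exists_irr_decomp hres
  -- the restriction is nonzero, so the list is nonempty
  have hV : 0 < Module.finrank ℂ V := by
    have : Nontrivial (Subrepresentation ρ) := inferInstance
    rw [Module.finrank_pos_iff]
    by_contra hnt
    rw [not_nontrivial_iff_subsingleton] at hnt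
    obtain ⟨a, b, hab⟩ := exists_pair_ne (Subrepresentation ρ)
    apply hab
    apply Subrepresentation.toSubmodule_injective
    exact Subsingleton.elim _ _
  have hne : l ≠ [] := by
    rintro rfl
    have h1 := congrFun hsum 1
    simp only [List.sum_nil, Pi.zero_apply, OneMemClass.coe_one, Representation.char_one] at h1
    have : Module.finrank ℂ V = 0 := by exact_mod_cast h1
    omega
  obtain ⟨lam, hlam⟩ := List.exists_mem_of_ne_nil l hne
  have hlamirr := hl lam hlam
  have hlam1 : lam 1 = 1 :=
    irr_apply_one_of_comm (fun a b => Subtype.ext (hA a a.2 b b.2)) hlamirr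
  -- multiplicity of lam in the restriction is positive
  have hmult : Cfsg.classInner (fun a : A => ρ.character a) lam = (l.count lam : ℂ) := by
    rw [hsum]; exact classInner_irr_list_sum hl hlamirr
  have hcount : 0 < l.count lam := List.count_pos_iff.mpr hlam
  -- Frobenius reciprocity
  have hfr : Cfsg.classInner (Cfsg.indFun A lam) ρ.character = (l.count lam : ℂ) := by
    rw [frobenius_reciprocity A lam _ (isClassFunction_of_isCharacter (isCharacter_of_irr hχ)),
      ← classInner_conj_symm, hmult, Complex.conj_natCast]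
  have hψ : Cfsg.IsCharacter G (Cfsg.indFun A lam) := isCharacter_indFun A (isCharacter_of_irr hlamirr)
  obtain ⟨a, b, ha, hb, hab⟩ := degree_le_of_classInner_ne_zero hχ hψ (by
    rw [hfr]; exact_mod_cast hcount.ne')
  rw [Representation.char_one] at ha
  rw [indFun_apply_one, hlam1, mul_one] at hb
  have ha' : Module.finrank ℂ V = a := by exact_mod_cast ha
  have hb' : A.index = b := by exact_mod_cast hb
  omega

end AbelianIndex

end Cfsg.Agent.Lib.L0
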