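import Cfsg.Agent.Lib.L0.CharOps
open Module
open scoped ComplexConjugate

namespace Cfsg.Agent.Lib.L0

section EquivTools
variable {k G : Type*} [Field k] [Monoid G]
  {V W V' W' : Type*} [AddCommGroup V] [Module k V] [AddCommGroup W] [Module k W]
  [AddCommGroup V'] [Module k V'] [AddCommGroup W'] [Module k W']

/-- A representation is the product of two complementary subrepresentations. -/
noncomputable def equivProdOfIsCompl (ρ : Representation k G V) (U U' : Subrepresentation ρ)
    (hc : IsCompl U.toSubmodule U'.toSubmodule) :
    Representation.Equiv (U.toRepresentation.prod U'.toRepresentation) ρ :=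
  Representation.Equiv.mk (Submodule.prodEquivOfIsCompl U.toSubmodule U'.toSubmodule hc) (fun g => by
    ext ⟨u, u'⟩ <;> simp [Subrepresentation.toRepresentation])

/-- Product of equivalences of representations. -/
noncomputable def equivProdCongr {ρ₁ : Representation k G V} {σ₁ : Representation k G W}
    {ρ₂ : Representation k G V'} {σ₂ : Representation k G W'}
    (e₁ : Representation.Equiv ρ₁ σ₁) (e₂ : Representation.Equiv ρ₂ σ₂) :
    Representation.Equiv (ρ₁.prod ρ₂) (σ₁.prod σ₂) :=
  Representation.Equiv.mk (LinearEquiv.prodCongr e₁.toLinearEquiv e₂.toLinearEquiv) (fun g => by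
    apply LinearMap.ext
    rintro ⟨v, v'⟩
    have h1 := LinearMap.congr_fun (e₁.toIntertwiningMap.isIntertwining' g) v
    have h2 := LinearMap.congr_fun (e₂.toIntertwiningMap.isIntertwining' g) v'
    exact Prod.ext h1 h2)

/-- An injective intertwining map is an equivalence onto its range. -/
noncomputable def equivRangeOfInjective {ρ : Representation k G V} {σ : Representation k G W}
    (f : Representation.IntertwiningMap ρ σ) (hf : Function.Injective f.toLinearMap) :
    Representation.Equiv ρ f.range.toRepresentation :=
  Representation.Equiv.mk (LinearEquiv.ofInjective f.toLinearMap hf) (fun g => by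
    ext v
    exact LinearMap.congr_fun (f.isIntertwining' g) v)

end EquivTools


section SubSub
variable {k G : Type*} [Field k] [Monoid G] {V : Type*} [AddCommGroup V] [Module k V]

/-- A subrepresentation of a subrepresentation, viewed in the big representation. -/
def subrepOfSub {ρ : Representation k G V} (U : Subrepresentation ρ)
    (U₂ : Subrepresentation U.toRepresentation) : Subrepresentation ρ where
  toSubmodule := U₂.toSubmodule.map U.toSubmodule.subtype
  apply_mem_toSubmodule g v hv := by
    obtain ⟨u, hu, rfl⟩ := hv
    exact ⟨U.toRepresentation g u, U₂.apply_mem_toSubmodule g hu, rfl⟩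

theorem finrank_subrepOfSub {ρ : Representation k G V} (U : Subrepresentation ρ)
    (U₂ : Subrepresentation U.toRepresentation) :
    finrank k (subrepOfSub U U₂).toSubmodule = finrank k U₂.toSubmodule :=
  (Submodule.equivMapOfInjective U.toSubmodule.subtype (Submodule.injective_subtype _)
    U₂.toSubmodule).finrank_eq.symm

theorem subrepOfSub_ne_bot {ρ : Representation k G V} (U : Subrepresentation ρ)
    (U₂ : Subrepresentation U.toRepresentation) (h : U₂ ≠ ⊥) : subrepOfSub U U₂ ≠ ⊥ := by
  intro hb
  apply h
  apply Subrepresentation.toSubmodule_injective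
  have : U₂.toSubmodule.map U.toSubmodule.subtype = ⊥ := congrArg Subrepresentation.toSubmodule hb
  rw [Submodule.eq_bot_iff] at this
  show U₂.toSubmodule = ⊥
  rw [Submodule.eq_bot_iff]
  intro x hx
  have := this _ (Submodule.mem_map_of_mem hx)
  exact Subtype.ext (by simpa using this)

/-- In a nontrivial finite-dimensional representation there is an irreducible subrepresentation. -/
theorem exists_irreducible_subrep [FiniteDimensional k V] [Nontrivial V] (ρ : Representation k G V) :
    ∃ U : Subrepresentation ρ, U ≠ ⊥ ∧ U.toRepresentation.IsIrreducible := by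
  classical
  let P : ℕ → Prop := fun d => ∃ U : Subrepresentation ρ, U ≠ ⊥ ∧ finrank k U.toSubmodule = d
  have hP : ∃ d, P d := ⟨finrank k (⊤ : Subrepresentation ρ).toSubmodule, ⊤, by
    intro h
    have h' : (⊤ : Submodule k V) = ⊥ := congrArg Subrepresentation.toSubmodule h
    exact top_ne_bot h', rfl⟩
  obtain ⟨U, hU, hd⟩ := Nat.find_spec hP
  have hmin : ∀ U' : Subrepresentation ρ, U' ≠ ⊥ → finrank k U.toSubmodule ≤ finrank k U'.toSubmodule := by
    intro U' hU'
    rw [hd]
    exact Nat.find_min' hP ⟨U', hU', rfl⟩
  refine ⟨U, hU, ?_⟩
  have hUnt : Nontrivial U.toSubmodule := by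
    rw [Submodule.nontrivial_iff_ne_bot]
    intro h; exact hU (Subrepresentation.toSubmodule_injective h)
  refine { exists_pair_ne := ⟨⊥, ⊤, fun hbt => ?_⟩, eq_bot_or_eq_top := fun U₂ => ?_ }
  · have h' : (⊥ : Submodule k U.toSubmodule) = ⊤ := congrArg Subrepresentation.toSubmodule hbt
    exact bot_ne_top h'
  · by_cases h2 : U₂ = ⊥
    · exact Or.inl h2
    · right
      apply Subrepresentation.toSubmodule_injective
      apply Submodule.eq_top_of_finrank_eq
      have h1 := hmin _ (subrepOfSub_ne_bot U U₂ h2)
      rw [finrank_subrepOfSub] at h1
      exact le_antisymm (Submodule.finrank_le _) h1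

end SubSub

section SameChar
universe u v
variable {G : Type*} [Group G] [Finite G]

theorem equiv_of_char_eq_aux (n : ℕ) : ∀ {V : Type u} {W : Type v} [AddCommGroup V] [Module ℂ V]
    [FiniteDimensional ℂ V] [AddCommGroup W] [Module ℂ W] [FiniteDimensional ℂ W]
    (ρ : Representation ℂ G V) (σ : Representation ℂ G W),
    finrank ℂ V = n → ρ.character = σ.character → Nonempty (ρ.Equiv σ) := by
  classical
  induction n using Nat.strong_induction_on with
  | _ n ih =>
    intro V W _ _ _ _ _ _ ρ σ hn hchar
    have := Fintype.ofFinite G
    have hNZ : NeZero (Nat.card G : ℂ) := ⟨by exact_mod_cast (Nat.card_pos (α := G)).ne'⟩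
    have hWn : finrank ℂ W = n := by
      have h1 := congrFun hchar 1
      rw [Representation.char_one, Representation.char_one, hn] at h1
      exact_mod_cast h1.symm
    rcases Nat.eq_zero_or_pos n with h0 | hpos
    · subst h0
      have hV : Subsingleton V := Module.finrank_zero_iff.mp hn
      have hW : Subsingleton W := Module.finrank_zero_iff.mp hWn
      exact ⟨Representation.Equiv.mk (LinearEquiv.ofSubsingleton V W) (fun g => by
        ext v; exact Subsingleton.elim _ _)⟩
    · have hVnt : Nontrivial V := Module.finrank_pos_iff (R := ℂ).mp (hn ▸ hpos)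
      obtain ⟨U, hUb, hUirr⟩ := exists_irreducible_subrep ρ
      -- a nonzero intertwining map U → W
      let := invertibleCard G
      have hfr : finrank ℂ (Representation.IntertwiningMap U.toRepresentation σ)
          = finrank ℂ (Representation.IntertwiningMap U.toRepresentation ρ) := by
        have h1 := Representation.card_inv_mul_sum_char_mul_char_eq_finrank U.toRepresentation σ
        have h2 := Representation.card_inv_mul_sum_char_mul_char_eq_finrank U.toRepresentation ρ
        rw [← hchar, h2] at h1
        exact_mod_cast h1.symm
      let incl : Representation.IntertwiningMap U.toRepresentation ρ :=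
        ⟨U.toSubmodule.subtype, fun g => by ext v; rfl⟩
      have hincl : incl ≠ 0 := by
        intro h
        apply hUb
        apply Subrepresentation.toSubmodule_injective
        show U.toSubmodule = ⊥
        rw [Submodule.eq_bot_iff]
        intro v hv
        have := congrArg (fun f : Representation.IntertwiningMap U.toRepresentation ρ =>
          f.toLinearMap ⟨v, hv⟩) h
        simpa [incl] using this
      have hpos' : 0 < finrank ℂ (Representation.IntertwiningMap U.toRepresentation σ) := by
        rw [hfr, Module.finrank_pos_iff]
        exact ⟨incl, 0, hincl⟩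
      obtain ⟨f, hf⟩ : ∃ f : Representation.IntertwiningMap U.toRepresentation σ, f ≠ 0 := by
        have := Module.finrank_pos_iff.mp hpos'
        exact exists_ne 0
      have hinj : Function.Injective f :=
        (Representation.IsIrreducible.injective_or_eq_zero f).resolve_right hf
      let e₁ := equivRangeOfInjective f hinj
      obtain ⟨V₁, hV₁⟩ := exists_isCompl U
      obtain ⟨W₁, hW₁⟩ := exists_isCompl f.range
      have hcV : IsCompl U.toSubmodule V₁.toSubmodule := by
        constructor
        · rw [disjoint_iff]; exact congrArg Subrepresentation.toSubmodule hV₁.inf_eq_bot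
        · rw [codisjoint_iff]; exact congrArg Subrepresentation.toSubmodule hV₁.sup_eq_top
      have hcW : IsCompl f.range.toSubmodule W₁.toSubmodule := by
        constructor
        · rw [disjoint_iff]; exact congrArg Subrepresentation.toSubmodule hW₁.inf_eq_bot
        · rw [codisjoint_iff]; exact congrArg Subrepresentation.toSubmodule hW₁.sup_eq_top
      have hχ1 : V₁.toRepresentation.character = W₁.toRepresentation.character := by
        have h1 := char_eq_add_of_isCompl ρ U V₁ hV₁
        have h2 := char_eq_add_of_isCompl σ f.range W₁ hW₁
        rw [hchar, h2, ← Representation.char_iso e₁] at h1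
        exact (add_left_cancel h1).symm
      have hlt : finrank ℂ V₁.toSubmodule < n := by
        have h1 := Submodule.finrank_add_eq_of_isCompl hcV
        have h2 : 0 < finrank ℂ U.toSubmodule := by
          rw [Module.finrank_pos_iff, Submodule.nontrivial_iff_ne_bot]
          intro h; exact hUb (Subrepresentation.toSubmodule_injective h)
        omega
      obtain ⟨e₂⟩ := ih _ hlt V₁.toRepresentation W₁.toRepresentation rfl hχ1
      exact ⟨((equivProdOfIsCompl ρ U V₁ hcV).symm.trans (equivProdCongr e₁ e₂)).trans
        (equivProdOfIsCompl σ f.range W₁ hcW)⟩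

/-- Representations with the same character are equivalent. -/
theorem equiv_of_char_eq {V W : Type*} [AddCommGroup V] [Module ℂ V]
    [FiniteDimensional ℂ V] [AddCommGroup W] [Module ℂ W] [FiniteDimensional ℂ W]
    (ρ : Representation ℂ G V) (σ : Representation ℂ G W) (h : ρ.character = σ.character) :
    Nonempty (ρ.Equiv σ) :=
  equiv_of_char_eq_aux _ ρ σ rfl h

end SameChar

end Cfsg.Agent.Lib.L0
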