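import Cfsg.Agent.Lib.H26.Thompson
import Cfsg.Agent.Lib.H3.Thompson

/-!
# The Thompson subgroup `J(T)` and the centre `Z(T)` under maps (lead's library)

* `thompsonSubgroup_map_mulEquiv` : `J` is invariant under isomorphisms.
* `thompsonSubgroupOf_map` : `J(f T) = f (J T)` for `f` injective on `T`.
* `thompsonSubgroupOf_ne_bot` : `J(T) ≠ 1` for a nontrivial `p`-group `T`.
* `normalizer_le_normalizer_thompsonSubgroupOf` : `N(T) ≤ N(J(T))`.
* `thompsonSubgroupOf_eq_of_le` : `J(P) ≤ H ≤ P` implies `J(H) = J(P)`.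
* `zOf T = T ⊓ C(T)` with the analogous lemmas `zOf_map`, `zOf_ne_bot`,
  `normalizer_le_normalizer_zOf`.
-/

set_option autoImplicit false

namespace Cfsg.Agent.Lib.L0

open Cfsg.Agent.Lib

theorem maxElemAb_map_mulEquiv_iff {A B : Type*} [Group A] [Group B] (p : ℕ) (e : A ≃* B)
    (A' : Subgroup A) :
    A'.map e.toMonoidHom ∈ Cfsg.maxElementaryAbelianSubgroups p B ↔
      A' ∈ Cfsg.maxElementaryAbelianSubgroups p A := by
  unfold Cfsg.maxElementaryAbelianSubgroups
  simp only [Set.mem_setOf_eq]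
  rw [H26.isElementaryAbelian_map_iff p e.toMonoidHom e.injective]
  constructor
  · rintro ⟨h1, h2⟩
    refine ⟨h1, fun B' hB' => ?_⟩
    have := h2 (B'.map e.toMonoidHom)
      ((H26.isElementaryAbelian_map_iff p _ e.injective B').mpr hB')
    rwa [Subgroup.card_map_of_injective e.injective,
      Subgroup.card_map_of_injective e.injective] at this
  · rintro ⟨h1, h2⟩
    refine ⟨h1, fun B' hB' => ?_⟩
    have hB'' : (B'.comap e.toMonoidHom).map e.toMonoidHom = B' :=
      Subgroup.map_comap_eq_self_of_surjective e.surjective B'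
    rw [← hB''] at hB' ⊢
    rw [H26.isElementaryAbelian_map_iff p _ e.injective] at hB'
    rw [Subgroup.card_map_of_injective e.injective, Subgroup.card_map_of_injective e.injective]
    exact h2 _ hB'

/-- `J` is invariant under isomorphisms. -/
theorem thompsonSubgroup_map_mulEquiv {A B : Type*} [Group A] [Group B] (p : ℕ) (e : A ≃* B) :
    (Cfsg.thompsonSubgroup p A).map e.toMonoidHom = Cfsg.thompsonSubgroup p B := by
  unfold Cfsg.thompsonSubgroup
  apply le_antisymm
  · rw [Subgroup.map_le_iff_le_comap]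
    apply sSup_le
    intro A' hA'
    rw [← Subgroup.map_le_iff_le_comap]
    exact le_sSup ((maxElemAb_map_mulEquiv_iff p e A').mpr hA')
  · apply sSup_le
    intro B' hB'
    have hB'' : (B'.comap e.toMonoidHom).map e.toMonoidHom = B' :=
      Subgroup.map_comap_eq_self_of_surjective e.surjective B'
    rw [← hB''] at hB' ⊢
    exact Subgroup.map_mono (le_sSup ((maxElemAb_map_mulEquiv_iff p e _).mp hB'))

/-- `J(f T) = f (J T)` when `f` is injective on `T`. -/
theorem thompsonSubgroupOf_map {X Y : Type*} [Group X] [Group Y] (p : ℕ) (f : X →* Y)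
    (T : Subgroup X) (hf : Set.InjOn f (T : Set X)) :
    Cfsg.thompsonSubgroupOf p (T.map f) = (Cfsg.thompsonSubgroupOf p T).map f := by
  have hbij : Function.Bijective (f.subgroupMap T) := by
    refine ⟨?_, f.subgroupMap_surjective T⟩
    intro a b hab
    apply Subtype.ext
    apply hf a.2 b.2
    exact congrArg Subtype.val hab
  let e : ↥T ≃* ↥(T.map f) := MulEquiv.ofBijective (f.subgroupMap T) hbij
  have he : (T.map f).subtype.comp e.toMonoidHom = f.comp T.subtype := by
    ext x; rfl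
  unfold Cfsg.thompsonSubgroupOf
  rw [← thompsonSubgroup_map_mulEquiv p e, Subgroup.map_map, he, ← Subgroup.map_map]

theorem thompsonSubgroupOf_le' {X : Type*} [Group X] (p : ℕ) (T : Subgroup X) :
    Cfsg.thompsonSubgroupOf p T ≤ T :=
  Subgroup.map_subtype_le _

/-- `J(T) ≠ 1` for a nontrivial finite `p`-group `T`. -/
theorem thompsonSubgroupOf_ne_bot {X : Type*} [Group X] {p : ℕ} [Fact p.Prime]
    (T : Subgroup X) [Finite T] (hT : IsPGroup p T) (hne : T ≠ ⊥) :
    Cfsg.thompsonSubgroupOf p T ≠ ⊥ := by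
  unfold Cfsg.thompsonSubgroupOf
  rw [Ne, Subgroup.map_eq_bot_iff_of_injective _ T.subtype_injective]
  haveI : Nontrivial T := (Subgroup.nontrivial_iff_ne_bot T).mpr hne
  have hdvd : p ∣ Nat.card T := by
    obtain ⟨n, hn⟩ := IsPGroup.iff_card.mp hT
    rcases Nat.eq_zero_or_pos n with h0 | h0
    · rw [h0, pow_zero] at hn
      exact absurd hn (Finite.one_lt_card (α := T)).ne'
    · rw [hn]; exact dvd_pow_self p h0.ne'
  obtain ⟨x, hx⟩ := exists_prime_orderOf_dvd_card' p hdvd
  have hxp : x ^ p = 1 := by rw [← hx, pow_orderOf_eq_one]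
  obtain ⟨A, hA⟩ := H3.exists_maxElemAb (G := T) p
  have h1 := hA.2 _ (H3.elemAb_zpowers hxp)
  rw [Nat.card_zpowers, hx] at h1
  intro hbot
  have h2 : A ≤ Cfsg.thompsonSubgroup p T := H3.le_thompson hA
  rw [hbot, le_bot_iff] at h2
  rw [h2, Subgroup.card_bot] at h1
  exact absurd h1 (not_le.mpr (Fact.out : p.Prime).one_lt)

/-- `N(T) ≤ N(J(T))`. -/
theorem normalizer_le_normalizer_thompsonSubgroupOf {X : Type*} [Group X] (p : ℕ)
    (T : Subgroup X) :
    Subgroup.normalizer (T : Set X) ≤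
      Subgroup.normalizer (Cfsg.thompsonSubgroupOf p T : Set X) := by
  intro g hg
  rw [Subgroup.mem_normalizer_iff_map_conj_eq] at hg ⊢
  have h1 := thompsonSubgroupOf_map p (MulAut.conj g).toMonoidHom T
    (fun a _ b _ hab => (MulAut.conj g).injective hab)
  have h2 : (MulAut.conj g).toMonoidHom = ((MulAut.conj g : X ≃* X) : X →* X) := rfl
  rw [h2, hg] at h1
  exact h1.symm

/-- If `J(P) ≤ H ≤ P` then `J(H) = J(P)`. -/
theorem thompsonSubgroupOf_eq_of_le {X : Type*} [Group X] [Finite X] (p : ℕ) {H P : Subgroup X}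
    (hHP : H ≤ P) (hJ : Cfsg.thompsonSubgroupOf p P ≤ H) :
    Cfsg.thompsonSubgroupOf p H = Cfsg.thompsonSubgroupOf p P := by
  rw [H26.thompsonSubgroupOf_eq] at hJ ⊢
  rw [H26.thompsonSubgroupOf_eq]
  have hsub : ∀ A ∈ H26.maxEA p P, A ≤ H := fun A hA => (le_sSup hA).trans hJ
  have hne : (H26.maxEA p P).Nonempty := by
    obtain ⟨A, hA⟩ := H3.exists_maxElemAb (G := P) p
    refine ⟨A.map P.subtype, Subgroup.map_subtype_le A, ?_, ?_⟩
    · exact (H26.isElementaryAbelian_map_iff p P.subtype P.subtype_injective A).mpr hA.1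
    · intro B hBP hB
      have hB' : Cfsg.IsElementaryAbelian p (B.subgroupOf P) := by
        rw [← H26.isElementaryAbelian_map_iff p P.subtype P.subtype_injective,
          Subgroup.map_subgroupOf_eq_of_le hBP]
        exact hB
      have h1 := hA.2 _ hB'
      rw [Subgroup.card_map_of_injective P.subtype_injective]
      have h2 : Nat.card (B.subgroupOf P) = Nat.card B := by
        conv_rhs => rw [← Subgroup.map_subgroupOf_eq_of_le hBP]
        exact (Subgroup.card_map_of_injective P.subtype_injective).symm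
      rw [← h2]; exact h1
  have hset : H26.maxEA p H = H26.maxEA p P := by
    ext A
    constructor
    · rintro ⟨hAH, hA, hmax⟩
      refine ⟨hAH.trans hHP, hA, fun B hBP hB => ?_⟩
      obtain ⟨A₀, hA₀⟩ := hne
      exact (hA₀.2.2 B hBP hB).trans (hmax A₀ (hsub A₀ hA₀) hA₀.2.1)
    · intro hA
      exact ⟨hsub A hA, hA.2.1, fun B hBH hB => hA.2.2 B (hBH.trans hHP) hB⟩
  unfold H26.JJ
  rw [hset]

/-- `Z(T)` as a subgroup of the ambient group. -/
def zOf {X : Type*} [Group X] (T : Subgroup X) : Subgroup X :=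
  T ⊓ Subgroup.centralizer (T : Set X)

theorem zOf_le {X : Type*} [Group X] (T : Subgroup X) : zOf T ≤ T := inf_le_left

theorem mem_zOf {X : Type*} [Group X] {T : Subgroup X} {x : X} :
    x ∈ zOf T ↔ x ∈ T ∧ ∀ s ∈ T, s * x = x * s := by
  unfold zOf
  rw [Subgroup.mem_inf, Subgroup.mem_centralizer_iff]
  rfl

theorem zOf_map {X Y : Type*} [Group X] [Group Y] (f : X →* Y)
    (T : Subgroup X) (hf : Set.InjOn f (T : Set X)) :
    zOf (T.map f) = (zOf T).map f := by
  ext y
  rw [mem_zOf, Subgroup.mem_map]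
  constructor
  · rintro ⟨⟨t, ht, rfl⟩, hc⟩
    refine ⟨t, mem_zOf.mpr ⟨ht, ?_⟩, rfl⟩
    intro s hs
    apply hf (T.mul_mem hs ht) (T.mul_mem ht hs)
    rw [map_mul, map_mul]
    exact hc (f s) (Subgroup.mem_map_of_mem f hs)
  · rintro ⟨t, ht, rfl⟩
    have ht := mem_zOf.mp ht
    refine ⟨Subgroup.mem_map_of_mem f ht.1, ?_⟩
    rintro _ ⟨s, hs, rfl⟩
    rw [← map_mul, ← map_mul, ht.2 s hs]

theorem zOf_eq_map_center {X : Type*} [Group X] (T : Subgroup X) :
    zOf T = (Subgroup.center T).map T.subtype := by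
  ext x
  rw [mem_zOf, Subgroup.mem_map]
  constructor
  · rintro ⟨hx, hc⟩
    refine ⟨⟨x, hx⟩, ?_, rfl⟩
    rw [Subgroup.mem_center_iff]
    intro s
    apply Subtype.ext
    exact hc s s.2
  · rintro ⟨t, ht, rfl⟩
    refine ⟨t.2, ?_⟩
    intro s hs
    have := Subgroup.mem_center_iff.mp ht ⟨s, hs⟩
    exact congrArg Subtype.val this

theorem zOf_ne_bot {X : Type*} [Group X] {p : ℕ} [Fact p.Prime]
    (T : Subgroup X) [Finite T] (hT : IsPGroup p T) (hne : T ≠ ⊥) : zOf T ≠ ⊥ := by
  rw [zOf_eq_map_center, Ne, Subgroup.map_eq_bot_iff_of_injective _ T.subtype_injective]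
  haveI : Nontrivial T := (Subgroup.nontrivial_iff_ne_bot T).mpr hne
  haveI := hT.center_nontrivial
  exact (Subgroup.nontrivial_iff_ne_bot _).mp inferInstance

theorem normalizer_le_normalizer_zOf {X : Type*} [Group X] (T : Subgroup X) :
    Subgroup.normalizer (T : Set X) ≤ Subgroup.normalizer (zOf T : Set X) := by
  intro g hg
  rw [Subgroup.mem_normalizer_iff_map_conj_eq] at hg ⊢
  have h1 := zOf_map (MulAut.conj g).toMonoidHom T
    (fun a _ b _ hab => (MulAut.conj g).injective hab)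
  have h2 : (MulAut.conj g).toMonoidHom = ((MulAut.conj g : X ≃* X) : X →* X) := rfl
  rw [h2, hg] at h1
  exact h1.symm

end Cfsg.Agent.Lib.L0
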