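import Cfsg.Agent.Lib.L0.NPCTools
import Cfsg.Agent.Lib.L0.ThompsonJ
import Cfsg.Agent.Lib.L0.QuadraticRing
import Cfsg.Agent.Lib.H7.CoprimeQuot

/-!
# Thompson's normal `p`-complement theorem (lead's library)

`ThompsonHyp p X T` : `N_X(J(T))` and `C_X(Z(T))` have normal `p`-complements.
`thompsonHyp_localHyp` : it is a `LocalHyp`.
`thompson_final` : for odd `p`, given the replacement theorem `Repl`, no group is in the final
configuration for `ThompsonHyp`.
`thompson_npc` : Thompson's theorem, assuming the replacement theorem.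
-/

set_option autoImplicit false

universe u

namespace Cfsg.Agent.Lib.L0

open Cfsg.Agent.Lib
open scoped commutatorElement

/-- The hypothesis of Thompson's normal `p`-complement theorem. -/
def ThompsonHyp (p : ℕ) : ∀ (X : Type u) [Group X], Subgroup X → Prop := fun X _ T =>
  Cfsg.HasNormalPComplement p (Subgroup.normalizer (Cfsg.thompsonSubgroupOf p T : Set X)) ∧
  Cfsg.HasNormalPComplement p (Subgroup.centralizer (zOf T : Set X))

section localhyp

variable {p : ℕ} [hp : Fact p.Prime]

theorem map_centralizer_le {X Y : Type*} [Group X] [Group Y] (f : X →* Y) (S : Subgroup X) :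
    (Subgroup.centralizer (S : Set X)).map f ≤
      Subgroup.centralizer ((S.map f : Subgroup Y) : Set Y) := by
  rintro _ ⟨c, hc, rfl⟩
  rw [Subgroup.mem_centralizer_iff]
  rintro _ ⟨s, hs, rfl⟩
  rw [← map_mul, ← map_mul, Subgroup.mem_centralizer_iff.mp hc s hs]

theorem injOn_mk_of_coprime {X : Type*} [Group X] [Finite X] (N : Subgroup X) [N.Normal]
    (hN : (Nat.card N).Coprime p) (T : Subgroup X) (hT : IsPGroup p T) :
    Set.InjOn (QuotientGroup.mk' N) (T : Set X) := by
  intro a ha b hb hab
  have h1 : a⁻¹ * b ∈ N := by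
    rw [← QuotientGroup.eq_one_iff, ← QuotientGroup.mk'_apply, map_mul, map_inv, hab,
      inv_mul_cancel]
  have h2 : a⁻¹ * b ∈ T := T.mul_mem (T.inv_mem ha) hb
  have hdisj : N ⊓ T = ⊥ := by
    apply Subgroup.inf_eq_bot_of_coprime
    obtain ⟨k, hk⟩ := IsPGroup.iff_card.mp hT
    rw [hk]; exact Nat.Coprime.pow_right k hN
  have h3 : a⁻¹ * b ∈ N ⊓ T := ⟨h1, h2⟩
  rw [hdisj, Subgroup.mem_bot] at h3
  exact inv_mul_eq_one.mp h3

theorem thompsonHyp_localHyp : LocalHyp.{u} p (ThompsonHyp p) where
  of_injective := by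
    intro X Y _ _ _ f hf T hT
    have hinj : Set.InjOn f (T : Set X) := fun a _ b _ hab => hf hab
    obtain ⟨h1, h2⟩ := hT
    rw [thompsonSubgroupOf_map p f T hinj] at h1
    rw [zOf_map f T hinj] at h2
    constructor
    · have h3 := HasNormalPComplement.of_le (Subgroup.le_normalizer_map f) h1
      exact HasNormalPComplement.of_mulEquiv
        (Subgroup.equivMapOfInjective _ f hf).symm h3
    · have h3 := HasNormalPComplement.of_le (map_centralizer_le f _) h2
      exact HasNormalPComplement.of_mulEquiv
        (Subgroup.equivMapOfInjective _ f hf).symm h3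
  quotient := by
    intro X _ _ N _ hN T hT hHyp
    have hinj := injOn_mk_of_coprime N hN T hT
    obtain ⟨h1, h2⟩ := hHyp
    have hJp : IsPGroup p (Cfsg.thompsonSubgroupOf p T) := hT.to_le (thompsonSubgroupOf_le' p T)
    have hZp : IsPGroup p (zOf T) := hT.to_le (zOf_le T)
    constructor
    · show Cfsg.HasNormalPComplement p (Subgroup.normalizer
        ((Cfsg.thompsonSubgroupOf p (T.map (QuotientGroup.mk' N)) : Subgroup (X ⧸ N)) :
          Set (X ⧸ N)))
      rw [thompsonSubgroupOf_map p _ T hinj, ← H7.map_normalizer_of_coprime p hN hJp]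
      exact HasNormalPComplement.of_surjective ((QuotientGroup.mk' N).subgroupMap _)
        ((QuotientGroup.mk' N).subgroupMap_surjective _) h1
    · show Cfsg.HasNormalPComplement p (Subgroup.centralizer
        ((zOf (T.map (QuotientGroup.mk' N)) : Subgroup (X ⧸ N)) : Set (X ⧸ N)))
      rw [zOf_map _ T hinj, ← H7.map_centralizer_of_coprime p hN hZp]
      exact HasNormalPComplement.of_surjective ((QuotientGroup.mk' N).subgroupMap _)
        ((QuotientGroup.mk' N).subgroupMap_surjective _) h2
  of_normalizers := by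
    intro X _ _ T hT hTne hU
    constructor
    · exact hU _ (thompsonSubgroupOf_le' p T) (thompsonSubgroupOf_ne_bot T hT hTne)
        (normalizer_le_normalizer_thompsonSubgroupOf p T)
    · have h1 := hU _ (zOf_le T) (zOf_ne_bot T hT hTne) (normalizer_le_normalizer_zOf T)
      exact HasNormalPComplement.of_le (Subgroup.centralizer_le_normalizer _) h1

end localhyp

section final

variable {p : ℕ} [hp : Fact p.Prime]

/-- The consequence of the Thompson replacement theorem that is used: an `A ∈ 𝒜(Y)` acting
nontrivially on the elementary abelian normal subgroup `V` can be replaced by one acting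
quadratically and nontrivially. -/
def QuadRepl (p : ℕ) (Y : Type u) [Group Y] : Prop :=
  ∀ V : Subgroup Y, V.Normal → Cfsg.IsElementaryAbelian p V →
    ∀ A ∈ Cfsg.maxElementaryAbelianSubgroups p Y, ⁅V, A⁆ ≠ ⊥ →
      ∃ A₀ ∈ Cfsg.maxElementaryAbelianSubgroups p Y, ⁅⁅V, A₀⁆, A₀⁆ = ⊥ ∧ ⁅V, A₀⁆ ≠ ⊥

theorem maxEA_subgroupOf {X : Type*} [Group X] {P A : Subgroup X} (hA : A ∈ H26.maxEA p P) :
    A.subgroupOf P ∈ Cfsg.maxElementaryAbelianSubgroups p P := by
  refine ⟨?_, ?_⟩
  · rw [← H26.isElementaryAbelian_map_iff p P.subtype P.subtype_injective,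
      Subgroup.map_subgroupOf_eq_of_le hA.1]
    exact hA.2.1
  · intro B' hB'
    have h1 := hA.2.2 (B'.map P.subtype) (Subgroup.map_subtype_le B')
      ((H26.isElementaryAbelian_map_iff p P.subtype P.subtype_injective B').mpr hB')
    rw [Subgroup.card_map_of_injective P.subtype_injective] at h1
    have h2 : Nat.card (A.subgroupOf P) = Nat.card A := by
      conv_rhs => rw [← Subgroup.map_subgroupOf_eq_of_le hA.1]
      exact (Subgroup.card_map_of_injective P.subtype_injective).symm
    rw [h2]; exact h1

theorem thompson_final (hp2 : p ≠ 2)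
    (hrepl : ∀ (Y : Type u) [Group Y] [Finite Y], QuadRepl p Y)
    (X : Type u) [Group X] [Finite X] (hF : FinalConfig p (ThompsonHyp p) X) : False := by
  obtain ⟨H, K, hS⟩ := hF.exists_struct
  obtain ⟨hHn, hKn, hHp, hHne, hmax, hHK, hidx, hrel, hcent, hirr, hcomm⟩ := hS
  obtain ⟨P⟩ : Nonempty (Sylow p X) := inferInstance
  obtain ⟨hJ, hZ⟩ := hF.hyp P
  have hHP : H ≤ P := normal_le_sylow hHp P
  have hKP : K ⊔ (P : Subgroup X) = ⊤ := sup_sylow_eq_top hidx P
  set V := omegaCenter p H with hVdef
  have hVn : V.Normal := omegaCenter_normal p H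
  have hVH : V ≤ H := omegaCenter_le p H
  set C := Subgroup.centralizer (V : Set X) with hCdef
  have hCn : C.Normal := inferInstance
  have hHC : H ≤ C := Subgroup.le_centralizer_iff.mpr (omegaCenter_le_centralizer p H)
  have hZPle : zOf (P : Subgroup X) ≤ Subgroup.centralizer (H : Set X) :=
    inf_le_right.trans (Subgroup.centralizer_le hHP)
  have hCHn : (Subgroup.centralizer (H : Set X)).Normal := inferInstance
  rcases hirr C hCn hHC with hKC | hCK
  · -- `K` centralizes `Ω₁(Z(H))`, hence `Z(H) ≥ Z(P)`
    apply hF.not_npc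
    have htop : Subgroup.centralizer ((zOf (P : Subgroup X) : Subgroup X) : Set X) = ⊤ := by
      rw [eq_top_iff, ← hKP]
      apply sup_le
      · intro x hx
        have hcz := conj_eq_of_centralizes_omega hp.out (Subgroup.centralizer (H : Set X))
          (fun u hu v hv => (Subgroup.mem_centralizer_iff.mp hu v (hcent hv)).symm)
          (hHp.to_le hcent) x (fun z hz => hCHn.conj_mem z hz x)
          (fun z hz hzp => by
            have hzV : z ∈ V := ⟨hcent hz, hz, hzp⟩
            have := Subgroup.mem_centralizer_iff.mp (hKC hx) z hzV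
            rw [← this]; group)
          hrel
          (fun z hz => by
            have h1 : x ^ H.relIndex K ∈ H := pow_relIndex_mem hx
            have := Subgroup.mem_centralizer_iff.mp hz _ h1
            rw [this]; group)
        rw [Subgroup.mem_centralizer_iff]
        intro z hz
        have := hcz z (hZPle hz)
        calc z * x = (x * z * x⁻¹) * x := by rw [this]
          _ = x * z := by group
      · exact Subgroup.le_centralizer_iff.mp inf_le_right
    rw [htop, hasNormalPComplement_top_iff] at hZ
    exact hZ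
  · -- `C_K(V) = H`
    set D := centralizerMod H K with hDdef
    have hCD : C ≤ D := by
      intro y hy
      rw [mem_centralizerMod]
      intro k hk
      apply hCK
      constructor
      · have : ⁅k, y⁆ = (k * y * k⁻¹) * y⁻¹ := by rw [commutatorElement_def]
        rw [this]; exact C.mul_mem (hCn.conj_mem y hy k) (C.inv_mem hy)
      · have : ⁅k, y⁆ = k * (y * k⁻¹ * y⁻¹) := by rw [commutatorElement_def]; group
        rw [this]; exact K.mul_mem hk (hKn.conj_mem _ (K.inv_mem hk) y)
    have hDP : D ⊓ (P : Subgroup X) ≤ H := centralizerMod_inf_sylow_le hmax P hHP hKP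
    have hAC : ∀ A ∈ H26.maxEA p (P : Subgroup X), A ≤ C := by
      intro A hA
      by_contra hAC
      have hA' := maxEA_subgroupOf hA
      have hV'n : (V.subgroupOf (P : Subgroup X)).Normal := Subgroup.normal_subgroupOf
      have hV'e : Cfsg.IsElementaryAbelian p (V.subgroupOf (P : Subgroup X)) := by
        refine ⟨IsMulCommutative.of_setLike_mul_comm (fun a ha b hb => ?_), fun a ha => ?_⟩
        · exact Subtype.ext (omegaCenter_comm p H a (Subgroup.mem_subgroupOf.mp ha) b
            (Subgroup.mem_subgroupOf.mp hb))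
        · apply Subtype.ext
          rw [Subgroup.coe_pow]
          exact omegaCenter_pow p H a (Subgroup.mem_subgroupOf.mp ha)
      have hne : ⁅V.subgroupOf (P : Subgroup X), A.subgroupOf (P : Subgroup X)⁆ ≠ ⊥ := by
        intro hbot
        apply hAC
        intro a ha
        rw [hCdef, Subgroup.mem_centralizer_iff]
        intro v hv
        have h1 : ⁅(⟨v, hHP (hVH hv)⟩ : (P : Subgroup X)), (⟨a, hA.1 ha⟩ : (P : Subgroup X))⁆ ∈
            ⁅V.subgroupOf (P : Subgroup X), A.subgroupOf (P : Subgroup X)⁆ :=
          Subgroup.commutator_mem_commutator (Subgroup.mem_subgroupOf.mpr hv)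
            (Subgroup.mem_subgroupOf.mpr ha)
        rw [hbot, Subgroup.mem_bot, commutatorElement_eq_one_iff_mul_comm] at h1
        exact congrArg Subtype.val h1
      obtain ⟨A₀, hA₀, hquad, hA₀ne⟩ :=
        hrepl (P : Subgroup X) (V.subgroupOf (P : Subgroup X)) hV'n hV'e _ hA' hne
      have hex : ∃ v' ∈ V.subgroupOf (P : Subgroup X), ∃ a' ∈ A₀, ⁅v', a'⁆ ≠ 1 := by
        by_contra hcon
        push Not at hcon
        apply hA₀ne
        rw [eq_bot_iff, Subgroup.commutator_le]
        intro v' hv' a' ha'
        rw [Subgroup.mem_bot]; exact hcon v' hv' a' ha'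
      obtain ⟨v', hv', a', ha', hva⟩ := hex
      have haP : (a' : X) ∈ (P : Subgroup X) := a'.2
      have hquad' : ∀ v ∈ V, (a' : X) * ⁅(a' : X), v⁆ = ⁅(a' : X), v⁆ * (a' : X) := by
        intro v hv
        have h1 : ⁅(⟨v, hHP (hVH hv)⟩ : (P : Subgroup X)), a'⁆ ∈
            ⁅V.subgroupOf (P : Subgroup X), A₀⁆ :=
          Subgroup.commutator_mem_commutator (Subgroup.mem_subgroupOf.mpr hv) ha'
        have h2 := Subgroup.commutator_mem_commutator h1 ha'
        rw [hquad, Subgroup.mem_bot, commutatorElement_eq_one_iff_mul_comm] at h2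
        have h3 : ⁅v, (a' : X)⁆ * (a' : X) = (a' : X) * ⁅v, (a' : X)⁆ :=
          congrArg Subtype.val h2
        rw [← commutatorElement_inv v (a' : X)]
        calc (a' : X) * ⁅v, (a' : X)⁆⁻¹
            = ⁅v, (a' : X)⁆⁻¹ * (⁅v, (a' : X)⁆ * (a' : X)) * ⁅v, (a' : X)⁆⁻¹ := by group
          _ = ⁅v, (a' : X)⁆⁻¹ * ((a' : X) * ⁅v, (a' : X)⁆) * ⁅v, (a' : X)⁆⁻¹ := by rw [h3]
          _ = ⁅v, (a' : X)⁆⁻¹ * (a' : X) := by group
      have hmem : ∀ x ∈ K, ⁅x, (a' : X)⁆ ∈ H := by
        intro x hx
        apply hCK
        constructor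
        · apply commutator_mem_centralizer_of_quadratic hp.out hp2 V (omegaCenter_comm p H)
            (omegaCenter_pow p H) (a' : X) x hquad' hrel
          · exact hHC (pow_relIndex_mem hx)
          · apply hHC; apply hcomm
            apply Subgroup.commutator_mem_commutator hx
            have := hKn.conj_mem x hx (a' : X)⁻¹
            rwa [inv_inv] at this
          · apply hHC; apply hcomm
            exact Subgroup.commutator_mem_commutator hx (hKn.conj_mem x hx (a' : X))
        · have : ⁅x, (a' : X)⁆ = x * ((a' : X) * x⁻¹ * (a' : X)⁻¹) := by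
            rw [commutatorElement_def]; group
          rw [this]; exact K.mul_mem hx (hKn.conj_mem _ (K.inv_mem hx) _)
      have haD : (a' : X) ∈ D := mem_centralizerMod.mpr hmem
      have haH : (a' : X) ∈ H := hDP ⟨haD, haP⟩
      apply hva
      rw [commutatorElement_eq_one_iff_mul_comm]
      apply Subtype.ext
      exact Subgroup.mem_centralizer_iff.mp (hHC haH) (v' : X) (Subgroup.mem_subgroupOf.mp hv')
    have hJH : Cfsg.thompsonSubgroupOf p (P : Subgroup X) ≤ H := by
      rw [H26.thompsonSubgroupOf_eq]
      apply sSup_le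
      intro A hA
      exact (le_inf ((hAC A hA).trans hCD) hA.1).trans hDP
    have hJeq := thompsonSubgroupOf_eq_of_le p hHP hJH
    have htop : Subgroup.normalizer (Cfsg.thompsonSubgroupOf p (P : Subgroup X) : Set X) = ⊤ := by
      rw [← hJeq, eq_top_iff, ← Subgroup.normalizer_eq_top_iff.mpr hHn]
      exact normalizer_le_normalizer_thompsonSubgroupOf p H
    apply hF.not_npc
    rw [htop, hasNormalPComplement_top_iff] at hJ
    exact hJ

/-- **Thompson's normal `p`-complement theorem** (`p` odd), given the replacement theorem. -/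
theorem thompson_npc (hp2 : p ≠ 2)
    (hrepl : ∀ (Y : Type u) [Group Y] [Finite Y], QuadRepl p Y)
    (G : Type u) [Group G] [Finite G] (P : Sylow p G)
    (hJ : Cfsg.HasNormalPComplement p
      (Subgroup.normalizer (Cfsg.thompsonSubgroupOf p (P : Subgroup G) : Set G)))
    (hZ : Cfsg.HasNormalPComplement p (Subgroup.centralizer
      (((P : Subgroup G) ⊓ Subgroup.centralizer (P : Set G) : Subgroup G) : Set G))) :
    Cfsg.HasNormalPComplement p G :=
  npc_of_localHyp thompsonHyp_localHyp (thompson_final hp2 hrepl) G P ⟨hJ, hZ⟩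

end final

end Cfsg.Agent.Lib.L0
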