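import Cfsg.Agent.Lib.L0.QuatChar
import Cfsg.Agent.Lib.L0.CharSpecialKer
import Cfsg.Agent.Lib.H24.CharKer
import Cfsg.Agent.Lib.H24.CharDefl

/-!
# The Brauer–Suzuki theorem for generalized quaternion Sylow 2-subgroups of order at least 16
(lead's library)
-/

set_option autoImplicit false

namespace Cfsg.Agent.Lib.L0

open Subgroup Cfsg
open scoped commutatorElement

namespace QuatData

variable {G : Type*} [Group G] [Finite G] {S : Sylow 2 G} {N n : ℕ} {a : G}

/-- No product of two conjugates of the central involution lies in the special classes. -/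
theorem no_involution_product (h : QuatData (S : Subgroup G) N a) (hN : N = 2 ^ (n + 2)) {y : G}
    (hy : y ∈ centralizer (zpowers (a ^ 2) : Set G)) (hdvd : N ∣ orderOf y) {u v : G}
    (hu : IsConj (a ^ N) u) (hv : IsConj (a ^ N) v) : u * v ≠ y := by
  have hN0 : 0 < N := by rw [hN]; positivity
  have hN2 : 2 < N := by
    rw [hN]
    calc 2 < 2 ^ 2 := by norm_num
      _ ≤ 2 ^ (n + 2) := Nat.pow_le_pow_right (by norm_num) (by omega)
  have hp2 : Fact (Nat.Prime 2) := ⟨Nat.prime_two⟩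
  intro huv
  have hzz : a ^ N * a ^ N = 1 := by rw [← sq]; exact h.pow_N_sq
  have hinv : ∀ w : G, IsConj (a ^ N) w → w * w = 1 ∧ w ≠ 1 := by
    intro w hw
    obtain ⟨g, hg⟩ := isConj_iff.mp hw
    constructor
    · rw [← hg]
      calc g * a ^ N * g⁻¹ * (g * a ^ N * g⁻¹) = g * (a ^ N * a ^ N) * g⁻¹ := by group
        _ = 1 := by rw [hzz]; group
    · intro h1
      rw [h1] at hg
      apply h.pow_N_ne_one hN0
      have : a ^ N = g⁻¹ * (g * a ^ N * g⁻¹) * g := by group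
      rw [this, hg]; group
  obtain ⟨huu, hu1⟩ := hinv u hu
  obtain ⟨hvv, -⟩ := hinv v hv
  have huinv : u⁻¹ = u := inv_eq_of_mul_eq_one_left huu
  have hvinv : v⁻¹ = v := inv_eq_of_mul_eq_one_left hvv
  have hconj : u * y * u⁻¹ = y⁻¹ := by
    rw [← huv, mul_inv_rev, huinv, hvinv]
    calc u * (u * v) * u = (u * u) * v * u := by group
      _ = v * u := by rw [huu, one_mul]
  have hDy := zpowers_sq_le_zpowers h hN hy hdvd
  have hconjD : ∀ d ∈ zpowers (a ^ 2), u * d * u⁻¹ = d⁻¹ := by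
    intro d hd
    obtain ⟨k, rfl⟩ := Subgroup.mem_zpowers_iff.mp (hDy hd)
    rw [← conj_zpow, hconj, inv_zpow]
  have huN : u ∈ normalizer (zpowers (a ^ 2) : Set G) := by
    apply mem_normalizer_of_forall_conj_mem
    intro d hd
    rw [hconjD d hd]; exact Subgroup.inv_mem _ hd
  -- conjugate `u` into `S` inside the normalizer
  let P : Sylow 2 (normalizer (zpowers (a ^ 2) : Set G)) := S.subtype h.le_normalizer
  let u' : normalizer (zpowers (a ^ 2) : Set G) := ⟨u, huN⟩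
  have hu'ord : orderOf u' = 2 := by
    rw [← Subgroup.orderOf_coe]
    exact orderOf_eq_prime (by rw [sq]; exact huu) hu1
  have hA : IsPGroup 2 (zpowers u') := by
    apply IsPGroup.of_card (n := 1)
    rw [Nat.card_zpowers, hu'ord, pow_one]
  obtain ⟨g, hg⟩ := Cfsg.Agent.Lib.H16.exists_conj_mem_sylow (zpowers u') hA P
  have hw : (g : G) * u * (g : G)⁻¹ ∈ (S : Subgroup G) := by
    have := hg u' (Subgroup.mem_zpowers u')
    have h2 : g * u' * g⁻¹ ∈ (S : Subgroup G).subgroupOf (normalizer (zpowers (a ^ 2) : Set G)) :=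
      this
    rw [Subgroup.mem_subgroupOf] at h2
    simpa [u'] using h2
  have hww : (g : G) * u * (g : G)⁻¹ * ((g : G) * u * (g : G)⁻¹) = 1 := by
    calc (g : G) * u * (g : G)⁻¹ * ((g : G) * u * (g : G)⁻¹) = (g : G) * (u * u) * (g : G)⁻¹ := by
          group
      _ = 1 := by rw [huu]; group
  have hw1 : (g : G) * u * (g : G)⁻¹ ≠ 1 := by
    intro h1
    apply hu1
    have : u = (g : G)⁻¹ * ((g : G) * u * (g : G)⁻¹) * (g : G) := by group
    rw [this, h1]; group
  have hwz := h.involution hN0 hw hww hw1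
  have hwC : (g : G) * u * (g : G)⁻¹ ∈ centralizer (zpowers (a ^ 2) : Set G) := by
    rw [hwz]
    exact zpowers_le_centralizer (Subgroup.pow_mem _ (Subgroup.mem_zpowers a) N)
  have huC : u ∈ centralizer (zpowers (a ^ 2) : Set G) := by
    have h1 : (g : G)⁻¹ ∈ normalizer (zpowers (a ^ 2) : Set G) := Subgroup.inv_mem _ g.2
    have := normalizer_le_normalizer_centralizer (zpowers (a ^ 2)) h1
    have h2 := (Subgroup.mem_normalizer_iff.mp this _).mp hwC
    have h3 : (g : G)⁻¹ * ((g : G) * u * (g : G)⁻¹) * ((g : G)⁻¹)⁻¹ = u := by group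
    rwa [h3] at h2
  have hd : a ^ 2 ∈ zpowers (a ^ 2) := Subgroup.mem_zpowers _
  have h1 := hconjD _ hd
  have h2 : u * a ^ 2 * u⁻¹ = a ^ 2 := by
    have := (Subgroup.mem_centralizer_iff.mp huC) _ hd
    rw [← this]; group
  rw [h2] at h1
  apply h.pow_four_ne_one hN2
  have : a ^ 4 = a ^ 2 * a ^ 2 := by rw [← pow_add]
  rw [this]
  nth_rewrite 1 [h1]
  group

/-- A normal subgroup not containing `a ^ 2` meets `S` inside `⟨a⟩`. -/
theorem sylow_inf_le (h : QuatData (S : Subgroup G) N a) {M₀ : Subgroup G} [hM₀ : M₀.Normal]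
    (hM : a ^ 2 ∉ M₀) : (S : Subgroup G) ⊓ M₀ ≤ zpowers a := by
  rintro x ⟨hxS, hxM⟩
  by_contra hxa
  apply hM
  have h1 := h.conj_of_not_mem x hxS hxa
  -- `x * (a * x⁻¹ * a⁻¹) ∈ M₀`
  have h2 : a * x⁻¹ * a⁻¹ ∈ M₀ := hM₀.conj_mem _ (M₀.inv_mem hxM) a
  have h3 : x * (a * x⁻¹ * a⁻¹) ∈ M₀ := M₀.mul_mem hxM h2
  have h4 : x * (a * x⁻¹ * a⁻¹) = (x * a * x⁻¹) * a⁻¹ := by group
  rw [h4, h1] at h3
  have h5 : a ^ 2 = (a⁻¹ * a⁻¹)⁻¹ := by rw [sq, mul_inv_rev, inv_inv]
  rw [h5]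
  exact M₀.inv_mem h3

/-- Every involution lies in a normal subgroup containing the central involution of `S`. -/
theorem involution_mem (h : QuatData (S : Subgroup G) N a) (hN0 : 0 < N) {M₀ : Subgroup G}
    [hM₀ : M₀.Normal] (hz : a ^ N ∈ M₀) {g : G} (hg : orderOf g = 2) : g ∈ M₀ := by
  have hp2 : Fact (Nat.Prime 2) := ⟨Nat.prime_two⟩
  have hA : IsPGroup 2 (zpowers g) := by
    apply IsPGroup.of_card (n := 1)
    rw [Nat.card_zpowers, hg, pow_one]
  obtain ⟨x, hx⟩ := Cfsg.Agent.Lib.H16.exists_conj_mem_sylow (zpowers g) hA S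
  have hw := hx g (Subgroup.mem_zpowers g)
  have hgg : g * g = 1 := by rw [← sq, ← hg]; exact pow_orderOf_eq_one g
  have hg1 : g ≠ 1 := by
    intro h1; rw [h1, orderOf_one] at hg; omega
  have hww : x * g * x⁻¹ * (x * g * x⁻¹) = 1 := by
    calc x * g * x⁻¹ * (x * g * x⁻¹) = x * (g * g) * x⁻¹ := by group
      _ = 1 := by rw [hgg]; group
  have hw1 : x * g * x⁻¹ ≠ 1 := by
    intro h1
    apply hg1
    have : g = x⁻¹ * (x * g * x⁻¹) * x := by group
    rw [this, h1]; group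
  have hwz := h.involution hN0 hw hww hw1
  have : g = x⁻¹ * (x * g * x⁻¹) * x⁻¹⁻¹ := by group
  rw [this, hwz]
  exact hM₀.conj_mem _ hz _

/-- A 2-subgroup of a normal subgroup not containing `a ^ 2` is conjugate into `⟨a⟩`. -/
theorem exists_conj_mem_zpowers (h : QuatData (S : Subgroup G) N a) {M₀ : Subgroup G}
    [hM₀ : M₀.Normal] (hM : a ^ 2 ∉ M₀) (R : Subgroup G) (hR : IsPGroup 2 R) (hRM : R ≤ M₀) :
    ∃ g : G, ∀ x ∈ R, g * x * g⁻¹ ∈ zpowers a := by
  have hp2 : Fact (Nat.Prime 2) := ⟨Nat.prime_two⟩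
  obtain ⟨g, hg⟩ := Cfsg.Agent.Lib.H16.exists_conj_mem_sylow R hR S
  refine ⟨g, fun x hx => ?_⟩
  exact h.sylow_inf_le hM ⟨hg x hx, hM₀.conj_mem _ (hRM hx) g⟩

end QuatData

namespace QuatData

variable {G : Type*} [Group G] [Fintype G] {S : Sylow 2 G} {N n : ℕ} {a : G}

/-- Brauer–Suzuki: two normal subgroups `M₀ ≤ M₁` containing the central involution `a ^ N`,
with `a ^ 2 ∉ M₀` and `G / M₁` non-abelian. -/
theorem exists_kernels (h : QuatData (S : Subgroup G) N a) (hN : N = 2 ^ (n + 2)) :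
    ∃ M₁ M₀ : Subgroup G, M₁.Normal ∧ M₀.Normal ∧ M₀ ≤ M₁ ∧ a ^ N ∈ M₀ ∧ a ^ 2 ∉ M₀ ∧
      ¬ commutator G ≤ M₁ := by
  have hN0 : 0 < N := by rw [hN]; positivity
  have hN2 : 2 < N := by
    rw [hN]
    calc 2 < 2 ^ 2 := by norm_num
      _ ≤ 2 ^ (n + 2) := Nat.pow_le_pow_right (by norm_num) (by omega)
  obtain ⟨lam, b, hsd, -, -, hlam1, hord⟩ := exists_specialData h hN
  set t : centralizer (zpowers (a ^ 2) : Set G) :=
    ⟨a, zpowers_le_centralizer (mem_zpowers a)⟩ with ht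
  have hsq : ∃ x : centralizer (zpowers (a ^ 2) : Set G), lam x * lam x ≠ 1 := by
    refine ⟨t, fun h1 => ?_⟩
    have h2 : (lam t) ^ 2 = 1 := by rw [sq]; exact h1
    have := orderOf_dvd_of_pow_eq_one h2
    rw [hord] at this
    norm_num at this
  obtain ⟨χ₁, χ₂, h1, h2, hne1, hne2, hne, hdeg, hΘ⟩ := hsd.exists_decomp hsq
  -- vanishing at the involution
  have hz : indFun _ (oneSub lam) (a ^ N) = 0 := by
    apply indFun_oneSub_eq_zero
    intro x hx
    apply hlam1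
    intro hdvd
    have h6 : orderOf (x⁻¹ * a ^ N * x) = orderOf (a ^ N) := by
      have := orderOf_conj' x⁻¹ (a ^ N)
      rwa [inv_inv] at this
    have h7 : orderOf (a ^ N) ∣ 2 := orderOf_dvd_of_pow_eq_one h.pow_N_sq
    change N ∣ orderOf (x⁻¹ * a ^ N * x) at hdvd
    rw [h6] at hdvd
    have := Nat.le_of_dvd (by norm_num) (hdvd.trans h7)
    omega
  -- no products of involutions in the support
  have hno : ∀ y : centralizer (zpowers (a ^ 2) : Set G), oneSub lam y ≠ 0 →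
      ∀ u v : G, IsConj (a ^ N) u → IsConj (a ^ N) v → u * v ≠ (y : G) := by
    intro y hy u v hu hv
    have hdvd : N ∣ orderOf (y : G) := by
      by_contra hcon
      apply hy
      unfold oneSub
      rw [hlam1 y hcon]; simp
    exact no_involution_product h hN y.2 hdvd hu hv
  obtain ⟨hk1, hk2⟩ := ker_of_decomp _ (oneSub lam) (a ^ N) hno h1 h2 hne1 hne2 hne hdeg hΘ hz
  -- the value at `a ^ 2`
  have hval : indFun _ (oneSub lam) (a ^ 2) = 4 := by
    have h3 := hsd.indFun_apply_mem (t ^ 2)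
    have h4 : ((t ^ 2 : centralizer (zpowers (a ^ 2) : Set G)) : G) = a ^ 2 := rfl
    rw [h4] at h3
    rw [h3, map_pow]
    have h5 : (lam t) ^ 2 = -1 := by
      have h6 : ((lam t) ^ 2) ^ 2 = 1 := by
        rw [← pow_mul]
        have : (2 * 2 : ℕ) = orderOf (lam t) := by rw [hord]
        rw [this]; exact pow_orderOf_eq_one _
      have h7 : (lam t) ^ 2 ≠ 1 := by
        intro h8
        have := orderOf_dvd_of_pow_eq_one h8
        rw [hord] at this
        norm_num at this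
      have h8 : (((lam t) ^ 2 : ℂˣ) : ℂ) ^ 2 = 1 := by
        have := congrArg (fun u : ℂˣ => (u : ℂ)) h6
        simpa using this
      rcases sq_eq_one_iff.mp h8 with h9 | h9
      · exact absurd (Units.ext h9) h7
      · exact Units.ext (by rw [h9]; simp)
    rw [h5]
    simp
    norm_num
  have hdiff : χ₁ (a ^ 2) - χ₂ (a ^ 2) = -3 := by
    rw [hΘ] at hval
    simp only [Pi.sub_apply, Pi.add_apply, Pi.one_apply] at hval
    linear_combination -hval
  have c1 := isCharacter_of_irr h1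
  have c2 := isCharacter_of_irr h2
  refine ⟨Cfsg.Agent.Lib.H24.charKer χ₁ c1,
    Cfsg.Agent.Lib.H24.charKer χ₁ c1 ⊓ Cfsg.Agent.Lib.H24.charKer χ₂ c2,
    inferInstance, inferInstance, inf_le_left, ⟨hk1, hk2⟩, ?_, ?_⟩
  · rintro ⟨hm1, hm2⟩
    have hm1 : χ₁ (a ^ 2) = χ₁ 1 := hm1
    have hm2 : χ₂ (a ^ 2) = χ₂ 1 := hm2
    rw [hm1, hm2, hdeg] at hdiff
    norm_num at hdiff
  · intro hle
    have hN' : ∀ m ∈ commutator G, ((⟨χ₁, h1⟩ : IrrCharacter G) : G → ℂ) m
        = ((⟨χ₁, h1⟩ : IrrCharacter G) : G → ℂ) 1 := fun m hm => hle hm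
    obtain ⟨ψ, hψ⟩ := Cfsg.Agent.Lib.H24.exists_deflation ⟨χ₁, h1⟩ (commutator G) hN'
    have hψ1 : (ψ : G ⧸ commutator G → ℂ) 1 = 1 := by
      apply irr_apply_one_of_comm _ ψ.2
      intro x y
      obtain ⟨x', rfl⟩ := QuotientGroup.mk_surjective x
      obtain ⟨y', rfl⟩ := QuotientGroup.mk_surjective y
      rw [← QuotientGroup.mk_mul, ← QuotientGroup.mk_mul, QuotientGroup.eq]
      have : (x' * y')⁻¹ * (y' * x') = ⁅y'⁻¹, x'⁻¹⁆ := by
        rw [commutatorElement_def]; group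
      rw [this]
      exact Subgroup.commutator_mem_commutator (Subgroup.mem_top _) (Subgroup.mem_top _)
    have h3 := hψ 1
    rw [QuotientGroup.mk_one, hψ1] at h3
    change (1 : ℂ) = χ₁ 1 at h3
    obtain ⟨d, hd, hd2⟩ := irr_apply_one_pos h2
    rw [hdeg, hd2] at h3
    have : ((d + 1 : ℕ) : ℂ) = ((1 : ℕ) : ℂ) := by push_cast; rw [← h3]
    have h4 : d + 1 = 1 := by exact_mod_cast this
    omega

end QuatData

end Cfsg.Agent.Lib.L0
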