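import Cfsg.Agent.Lib.L0.FrobeniusPC
import Cfsg.Agent.Lib.H7.Coprime

/-!
# Groups with dihedral-like Sylow 2-subgroups (lead's library)

* `mem_centralizer_of_normalizerMonoidHom_pow` : a coprime-order element of `N(H)` whose image in
  `Aut(H)` is killed by `n` centralizes `H`.
* `mem_normalizer_of_forall_conj_mem` : finite normalizer criterion.
* `mem_centralizer_of_cyclic_two_group` : odd-order elements normalizing a cyclic 2-group centralize it.
* `FrobHyp.of_sylow` : the Frobenius hypothesis need only be checked for subgroups of a fixed Sylow.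
* `dihedralRot`, rotation subgroup of a subgroup `P ≃* DihedralGroup m`.
* `mem_centralizer_of_dihedralLike` : the core lemma: an odd-order element normalizing a subgroup
  `Q` of a dihedral-like `2`-group centralizes it, unless `Q` is a Klein four group.
-/

set_option autoImplicit false

universe u

namespace Cfsg.Agent.Lib.L0

variable {G : Type*} [Group G]

/-- A coprime-order element of `N(H)` whose image in `Aut(H)` is killed by `n` centralizes `H`. -/
theorem mem_centralizer_of_normalizerMonoidHom_pow (H : Subgroup G) {g : G}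
    (hg : g ∈ Subgroup.normalizer (H : Set G)) (n : ℕ) (hcop : (orderOf g).Coprime n)
    (hpow : (H.normalizerMonoidHom ⟨g, hg⟩) ^ n = 1) :
    g ∈ Subgroup.centralizer (H : Set G) := by
  have h1 : orderOf (H.normalizerMonoidHom ⟨g, hg⟩) ∣ n := orderOf_dvd_of_pow_eq_one hpow
  have h2 : orderOf (H.normalizerMonoidHom ⟨g, hg⟩) ∣ orderOf g := by
    have := orderOf_map_dvd H.normalizerMonoidHom (⟨g, hg⟩ : Subgroup.normalizer (H : Set G))
    rwa [Subgroup.orderOf_mk] at this
  have h3 : orderOf (H.normalizerMonoidHom ⟨g, hg⟩) = 1 := Nat.eq_one_of_dvd_coprimes hcop h2 h1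
  have h4 : (⟨g, hg⟩ : Subgroup.normalizer (H : Set G)) ∈ H.normalizerMonoidHom.ker := by
    rw [MonoidHom.mem_ker]; exact orderOf_eq_one_iff.mp h3
  rw [Subgroup.normalizerMonoidHom_ker, Subgroup.mem_subgroupOf] at h4
  exact h4

/-- Finite normalizer criterion. -/
theorem mem_normalizer_of_forall_conj_mem [Finite G] (H : Subgroup G) (g : G)
    (h : ∀ x ∈ H, g * x * g⁻¹ ∈ H) : g ∈ Subgroup.normalizer (H : Set G) := by
  rw [Subgroup.mem_normalizer_iff]
  intro y
  refine ⟨h y, fun hy => ?_⟩
  let f : H → H := fun x => ⟨g * x * g⁻¹, h x x.2⟩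
  have hinj : Function.Injective f := by
    intro a b hab
    have : g * (a : G) * g⁻¹ = g * (b : G) * g⁻¹ := congrArg Subtype.val hab
    apply Subtype.ext
    simpa using this
  obtain ⟨x, hx⟩ := (Finite.injective_iff_surjective.mp hinj) ⟨g * y * g⁻¹, hy⟩
  have : g * (x : G) * g⁻¹ = g * y * g⁻¹ := congrArg Subtype.val hx
  have hxy : (x : G) = y := by simpa using this
  rw [← hxy]; exact x.2

/-- Odd-order elements normalizing a cyclic `2`-group centralize it. -/
theorem mem_centralizer_of_cyclic_two_group [Finite G] (C : Subgroup G) (hcyc : IsCyclic C)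
    (hC : IsPGroup 2 C) {g : G} (hg : g ∈ Subgroup.normalizer (C : Set G))
    (hodd : (orderOf g).Coprime 2) : g ∈ Subgroup.centralizer (C : Set G) := by
  have : Fact (Nat.Prime 2) := ⟨Nat.prime_two⟩
  obtain ⟨k, hk⟩ := hC.exists_card_eq
  apply mem_centralizer_of_normalizerMonoidHom_pow C hg (Nat.card (MulAut C))
  · rw [IsCyclic.card_mulAut, hk]
    rcases Nat.eq_zero_or_pos k with h0 | h0
    · subst h0; simp
    · rw [Nat.totient_prime_pow Nat.prime_two h0]
      simpa using Nat.Coprime.pow_right (k - 1) hodd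
  · exact pow_card_eq_one'

/-- The Frobenius hypothesis need only be checked for subgroups of one fixed Sylow subgroup. -/
theorem FrobHyp.of_sylow [Finite G] {p : ℕ} [hp : Fact p.Prime] (S : Sylow p G)
    (h : ∀ Q : Subgroup G, Q ≤ S → ∀ g ∈ Subgroup.normalizer (Q : Set G),
      Nat.Coprime (orderOf g) p → g ∈ Subgroup.centralizer (Q : Set G)) : FrobHyp p G := by
  intro Q hQ g hg hcop
  obtain ⟨P, hQP⟩ := hQ.exists_le_sylow
  obtain ⟨x, hx⟩ := MulAction.exists_smul_eq G S P
  -- `Q' = x⁻¹ Q x ≤ S`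
  set Q' : Subgroup G := Q.comap (MulAut.conj x).toMonoidHom with hQ'
  have hmem : ∀ y, y ∈ Q' ↔ x * y * x⁻¹ ∈ Q := by
    intro y; rw [hQ', Subgroup.mem_comap]; rfl
  have hQ'S : Q' ≤ S := by
    intro y hy
    have h1 : x * y * x⁻¹ ∈ (P : Subgroup G) := hQP ((hmem y).mp hy)
    rw [← hx, Sylow.coe_subgroup_smul, Subgroup.mem_pointwise_smul_iff_inv_smul_mem] at h1
    simpa [MulAut.smul_def, mul_assoc] using h1
  have hg' : x⁻¹ * g * x ∈ Subgroup.normalizer (Q' : Set G) := by
    rw [Subgroup.mem_normalizer_iff]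
    intro y
    rw [hmem, hmem, (Subgroup.mem_normalizer_iff.mp hg) (x * y * x⁻¹)]
    have : x * (x⁻¹ * g * x * y * (x⁻¹ * g * x)⁻¹) * x⁻¹ = g * (x * y * x⁻¹) * g⁻¹ := by group
    rw [this]
  have hord : orderOf (x⁻¹ * g * x) = orderOf g := by
    have := (MulAut.conj x⁻¹).orderOf_eq g
    simpa [MulAut.conj_apply] using this
  have hc := h Q' hQ'S _ hg' (by rw [hord]; exact hcop)
  rw [Subgroup.mem_centralizer_iff] at hc ⊢
  intro q hq
  have hq' : x⁻¹ * q * x ∈ Q' := by
    rw [hmem]; have : x * (x⁻¹ * q * x) * x⁻¹ = q := by group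
    rw [this]; exact hq
  have := hc _ hq'
  have h2 : x * (x⁻¹ * q * x * (x⁻¹ * g * x)) * x⁻¹ = x * (x⁻¹ * g * x * (x⁻¹ * q * x)) * x⁻¹ := by
    rw [this]
  have e1 : x * (x⁻¹ * q * x * (x⁻¹ * g * x)) * x⁻¹ = q * g := by group
  have e2 : x * (x⁻¹ * g * x * (x⁻¹ * q * x)) * x⁻¹ = g * q := by group
  rw [e1, e2] at h2
  exact h2

/-! ### Dihedral-like 2-groups -/

/-- The core lemma: in a `2`-group `P` with a cyclic subgroup `R₀` such that all elements of `P`
outside `R₀` are involutions lying in a single coset of `R₀`, an odd-order element `g` normalizing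
`Q ≤ P` centralizes `Q`, unless `Q` is a Klein four group. -/
theorem mem_centralizer_of_dihedralLike [Finite G] (P R₀ : Subgroup G) (hP : IsPGroup 2 P)
    (hcyc : IsCyclic R₀)
    (h2 : ∀ a ∈ P, a ∉ R₀ → a * a = 1)
    (h3 : ∀ a ∈ P, ∀ b ∈ P, a ∉ R₀ → b ∉ R₀ → a * b⁻¹ ∈ R₀)
    (Q : Subgroup G) (hQP : Q ≤ P) (g : G) (hg : g ∈ Subgroup.normalizer (Q : Set G))
    (hodd : (orderOf g).Coprime 2)
    (hK : IsKleinFour Q → g ∈ Subgroup.centralizer (Q : Set G)) :
    g ∈ Subgroup.centralizer (Q : Set G) := by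
  have hp2 : Fact (Nat.Prime 2) := ⟨Nat.prime_two⟩
  have hgQ : ∀ q ∈ Q, g * q * g⁻¹ ∈ Q := fun q hq => (Subgroup.mem_normalizer_iff.mp hg q).mp hq
  set C : Subgroup G := Q ⊓ R₀ with hCdef
  have hCcyc : IsCyclic C := by
    have : IsCyclic (C.subgroupOf R₀) := inferInstance
    exact isCyclic_of_surjective (Subgroup.subgroupOfEquivOfLe (inf_le_right : C ≤ R₀)).toMonoidHom
      (Subgroup.subgroupOfEquivOfLe (inf_le_right : C ≤ R₀)).surjective
  have hC2 : IsPGroup 2 C := hP.to_le (inf_le_left.trans hQP)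
  by_cases hex : ∃ y ∈ Q, y * y ≠ 1
  · -- Case A : `C` is generated by the elements of `Q` of order `> 2`, hence `g`-invariant
    set T : Set G := {y | y ∈ Q ∧ y * y ≠ 1} with hT
    have hTC : T ⊆ C := by
      intro y hy
      refine ⟨hy.1, ?_⟩
      by_contra hyR
      exact hy.2 (h2 y (hQP hy.1) hyR)
    have hCT : C ≤ Subgroup.closure T := by
      obtain ⟨c, hc⟩ := hCcyc.exists_generator
      obtain ⟨y, hyQ, hy1⟩ := hex
      have hyC : y ∈ C := hTC ⟨hyQ, hy1⟩
      obtain ⟨k, hk⟩ := Subgroup.mem_zpowers_iff.mp (hc ⟨y, hyC⟩)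
      have hcT : (c : G) ∈ T := by
        refine ⟨c.2.1, fun hcc => hy1 ?_⟩
        have hky : (c : G) ^ k = y := by
          have := congrArg Subtype.val hk
          simpa using this
        rw [← hky, ← zpow_add, ← two_mul, zpow_mul, zpow_two, hcc, one_zpow]
      intro z hz
      obtain ⟨j, hj⟩ := Subgroup.mem_zpowers_iff.mp (hc ⟨z, hz⟩)
      have hjz : (c : G) ^ j = z := by
        have := congrArg Subtype.val hj
        simpa using this
      rw [← hjz]
      exact Subgroup.zpow_mem _ (Subgroup.subset_closure hcT) j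
    have hCeq : C = Subgroup.closure T := le_antisymm hCT ((Subgroup.closure_le _).mpr hTC)
    have hgT : ∀ y ∈ T, g * y * g⁻¹ ∈ T := by
      intro y hy
      refine ⟨hgQ y hy.1, fun h1 => hy.2 ?_⟩
      have : g * y * g⁻¹ * (g * y * g⁻¹) = g * (y * y) * g⁻¹ := by group
      rw [this] at h1
      have h2' : y * y = g⁻¹ * (g * (y * y) * g⁻¹) * g := by group
      rw [h2', h1]; group
    have hgC : ∀ c ∈ C, g * c * g⁻¹ ∈ C := by
      intro c hc
      rw [hCeq] at hc ⊢
      have hle : Subgroup.closure T ≤ (Subgroup.closure T).comap (MulAut.conj g).toMonoidHom := by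
        rw [Subgroup.closure_le]
        intro y hy
        exact Subgroup.subset_closure (hgT y hy)
      exact hle hc
    have hgNC : g ∈ Subgroup.normalizer (C : Set G) := mem_normalizer_of_forall_conj_mem C g hgC
    have hcentC : g ∈ Subgroup.centralizer (C : Set G) :=
      mem_centralizer_of_cyclic_two_group C hCcyc hC2 hgNC hodd
    obtain ⟨k, hk⟩ := hC2.exists_card_eq
    have hstep : ∀ q ∈ Q, g * q * g⁻¹ * q⁻¹ ∈ C := by
      intro q hq
      by_cases hqR : q ∈ R₀
      · have hqC : q ∈ C := ⟨hq, hqR⟩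
        exact C.mul_mem (hgC q hqC) (C.inv_mem hqC)
      · have hgqR : g * q * g⁻¹ ∉ R₀ := by
          intro hcon
          have h1 : g * q * g⁻¹ ∈ C := ⟨hgQ q hq, hcon⟩
          have h2' := (Subgroup.mem_normalizer_iff.mp hgNC q).mpr h1
          exact hqR h2'.2
        exact ⟨Q.mul_mem (hgQ q hq) (Q.inv_mem hq),
          h3 _ (hQP (hgQ q hq)) _ (hQP hq) hgqR hqR⟩
    have hcomm := Cfsg.Agent.Lib.H7.commute_of_stable_step (a := g) (Q := Q) (R := C)
      (by rw [hk]; exact Nat.Coprime.pow_right k hodd) hstep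
      (fun r hr => ((Subgroup.mem_centralizer_iff.mp hcentC) r hr).symm)
    rw [Subgroup.mem_centralizer_iff]
    intro q hq
    exact (hcomm q hq).symm
  · -- Case B : `Q` has exponent at most 2, so order at most 4
    push Not at hex
    have hCcard : Nat.card C ≤ 2 := by
      obtain ⟨c, hc⟩ := hCcyc.exists_generator
      have h1 : Nat.card C = orderOf c := by
        rw [← Nat.card_zpowers c]
        have : Subgroup.zpowers c = ⊤ := by
          rw [Subgroup.eq_top_iff']; exact hc
        rw [this, Subgroup.card_top]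
      have h2' : c ^ 2 = 1 := by
        apply Subtype.ext
        have := hex c c.2.1
        simpa [pow_two] using this
      rw [h1]
      exact Nat.le_of_dvd (by norm_num) (orderOf_dvd_of_pow_eq_one h2')
    have hQcard : Nat.card Q ≤ 4 := by
      by_cases hQR : Q ≤ R₀
      · have : C = Q := inf_eq_left.mpr hQR
        rw [← this]; omega
      · obtain ⟨a, haQ, haR⟩ := SetLike.not_le_iff_exists.mp hQR
        have hsub : (Q : Set G) ⊆ (C : Set G) ∪ (fun c => c * a) '' (C : Set G) := by
          intro q hq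
          by_cases hqR : q ∈ R₀
          · exact Or.inl ⟨hq, hqR⟩
          · refine Or.inr ⟨q * a⁻¹, ⟨Q.mul_mem hq (Q.inv_mem haQ),
              h3 q (hQP hq) a (hQP haQ) hqR haR⟩, by simp⟩
        have h1 : Set.ncard (Q : Set G) ≤ Set.ncard ((C : Set G) ∪ (fun c => c * a) '' (C : Set G)) :=
          Set.ncard_le_ncard hsub (Set.toFinite _)
        have h2' := Set.ncard_union_le (C : Set G) ((fun c => c * a) '' (C : Set G))
        have h3' := Set.ncard_image_le (f := fun c => c * a) (Set.toFinite (C : Set G))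
        have h4 : Set.ncard (C : Set G) = Nat.card C := (Nat.card_coe_set_eq _).symm
        have h5 : Set.ncard (Q : Set G) = Nat.card Q := (Nat.card_coe_set_eq _).symm
        omega
    obtain ⟨j, hj⟩ := (hP.to_le hQP).exists_card_eq
    have hj2 : j ≤ 2 := by
      by_contra hcon
      push Not at hcon
      have : 2 ^ 3 ≤ 2 ^ j := Nat.pow_le_pow_right (by norm_num) hcon
      omega
    interval_cases j
    · -- |Q| = 1
      have : Q = ⊥ := Subgroup.card_eq_one.mp (by simpa using hj)
      rw [this, Subgroup.mem_centralizer_iff]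
      intro h hh
      rw [Subgroup.mem_bot.mp hh]; simp
    · -- |Q| = 2 : cyclic
      have hcyQ : IsCyclic Q := by
        have : Fact (Nat.Prime (Nat.card Q)) := ⟨by rw [hj]; norm_num⟩
        exact isCyclic_of_prime_card rfl
      exact mem_centralizer_of_cyclic_two_group Q hcyQ (hP.to_le hQP) hg hodd
    · -- |Q| = 4 : Klein four
      apply hK
      refine ⟨by simpa using hj, ?_⟩
      apply Nat.dvd_antisymm
      · apply Monoid.exponent_dvd_of_forall_pow_eq_one
        intro q
        apply Subtype.ext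
        have := hex q q.2
        simpa [pow_two] using this
      · -- exponent is not 1
        have hne : Monoid.exponent Q ≠ 1 := by
          intro h1
          have : Subsingleton Q := Monoid.exp_eq_one_iff.mp h1
          have : Nat.card Q = 1 := Nat.card_unique
          omega
        have hpos : 0 < Monoid.exponent Q := Monoid.exponent_pos_of_exists 2 (by norm_num) (by
          intro q
          apply Subtype.ext
          have := hex q q.2
          simpa [pow_two] using this)
        have hdvd : Monoid.exponent Q ∣ 2 := by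
          apply Monoid.exponent_dvd_of_forall_pow_eq_one
          intro q
          apply Subtype.ext
          have := hex q q.2
          simpa [pow_two] using this
        have hle := Nat.le_of_dvd (by norm_num) hdvd
        have : Monoid.exponent Q = 2 := by omega
        rw [this]

/-- The rotation subgroup of a subgroup `P ≃* DihedralGroup m` (`m ≠ 0`), with the properties
needed by `mem_centralizer_of_dihedralLike`. -/
theorem exists_dihedral_rotation_subgroup (P : Subgroup G) (m : ℕ) [NeZero m]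
    (e : P ≃* DihedralGroup m) :
    ∃ R₀ : Subgroup G, R₀ ≤ P ∧ IsCyclic R₀ ∧ (∀ a ∈ P, a ∉ R₀ → a * a = 1) ∧
      (∀ a ∈ P, ∀ b ∈ P, a ∉ R₀ → b ∉ R₀ → a * b⁻¹ ∈ R₀) ∧
      (∀ a : P, (a : G) ∈ R₀ ↔ ∃ i, e a = DihedralGroup.r i) := by
  set ρ' : P := e.symm (DihedralGroup.r 1) with hρ'
  have key : ∀ (a' : P) (i : ZMod m), e a' = DihedralGroup.r i →
      (a' : G) ∈ Subgroup.zpowers (ρ' : G) := by
    intro a' i hi
    have h1 : a' = ρ' ^ i.val := by
      apply e.injective
      rw [map_pow, hρ', MulEquiv.apply_symm_apply, DihedralGroup.r_one_pow, hi,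
        ZMod.natCast_zmod_val]
    rw [h1]
    exact Subgroup.pow_mem _ (Subgroup.mem_zpowers _) _
  have key2 : ∀ (a' : P), (a' : G) ∈ Subgroup.zpowers (ρ' : G) → ∃ i, e a' = DihedralGroup.r i := by
    intro a' ha'
    obtain ⟨k, hk⟩ := Subgroup.mem_zpowers_iff.mp ha'
    have h1 : a' = ρ' ^ k := by
      apply Subtype.ext
      rw [← hk]; simp
    refine ⟨(k : ZMod m), ?_⟩
    rw [h1, map_zpow, hρ', MulEquiv.apply_symm_apply, DihedralGroup.r_one_zpow]
  refine ⟨Subgroup.zpowers (ρ' : G), ?_, inferInstance, ?_, ?_, ?_⟩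
  · rw [Subgroup.zpowers_le]; exact ρ'.2
  · intro a ha haR
    cases h : e ⟨a, ha⟩ with
    | r i => exact absurd (key ⟨a, ha⟩ i h) haR
    | sr i =>
      have h1 : (⟨a, ha⟩ : P) * ⟨a, ha⟩ = 1 := by
        apply e.injective
        rw [map_mul, h, DihedralGroup.sr_mul_self, map_one]
      exact congrArg Subtype.val h1
  · intro a ha b hb haR hbR
    cases h : e ⟨a, ha⟩ with
    | r i => exact absurd (key ⟨a, ha⟩ i h) haR
    | sr i =>
      cases h' : e ⟨b, hb⟩ with
      | r j => exact absurd (key ⟨b, hb⟩ j h') hbR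
      | sr j =>
        have h1 : e ((⟨a, ha⟩ : P) * (⟨b, hb⟩ : P)⁻¹) = DihedralGroup.r (j - i) := by
          rw [map_mul, map_inv, h, h', DihedralGroup.inv_sr, DihedralGroup.sr_mul_sr]
        exact key _ _ h1
  · intro a
    exact ⟨key2 a, fun ⟨i, hi⟩ => key a i hi⟩

end Cfsg.Agent.Lib.L0
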