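import Cfsg.Agent.Lib.L0.TransferPC
import Cfsg.Agent.Lib.H10.LocalGlobalGen

/-!
# Frobenius' normal p-complement theorem (lead's library)

* `FrobHyp p G` : every `p'`-element normalizing a `p`-subgroup `Q` centralizes `Q`.
* `FrobHyp.normalizer_factor` : under `FrobHyp`, `N_G(T) = C_G(T) N_S(T)` for `T` with `N_S(T)` Sylow
  in `N_G(T)`.
* `FrobHyp.control_fusion` : a Sylow subgroup controls its own fusion.
* `FrobHyp.focal_eq` : focal subgroup of `S` is `[S,S]`.
* `hasNormalPComplement_of_frobHyp` : **Frobenius' theorem**.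
-/

set_option autoImplicit false

universe u

namespace Cfsg.Agent.Lib.L0

open scoped commutatorElement
open Cfsg.Agent.Lib.H10

/-- The Frobenius hypothesis: `p'`-elements of `N_G(Q)` centralize the `p`-subgroup `Q`. -/
def FrobHyp (p : ℕ) (G : Type*) [Group G] : Prop :=
  ∀ Q : Subgroup G, IsPGroup p Q → ∀ g ∈ Subgroup.normalizer (Q : Set G),
    Nat.Coprime (orderOf g) p → g ∈ Subgroup.centralizer (Q : Set G)

variable {G : Type*} [Group G]

/-- Under `FrobHyp`, every element of `N_G(T)` has a `p`-power lying in `C_G(T)`. -/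
theorem FrobHyp.exists_pow_mem_centralizer [Finite G] {p : ℕ} [hp : Fact p.Prime]
    (h : FrobHyp p G) (T : Subgroup G) (hT : IsPGroup p T) (x : G)
    (hx : x ∈ Subgroup.normalizer (T : Set G)) :
    ∃ k : ℕ, x ^ p ^ k ∈ Subgroup.centralizer (T : Set G) := by
  obtain ⟨k, m, hm, hkm⟩ := Nat.exists_eq_pow_mul_and_not_dvd (orderOf_pos x).ne' p hp.out.ne_one
  refine ⟨k, ?_⟩
  apply h T hT _ (Subgroup.pow_mem _ hx _)
  have hord : orderOf (x ^ p ^ k) = m := by
    rw [orderOf_pow, hkm, Nat.gcd_eq_right (Dvd.intro _ rfl)]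
    exact Nat.mul_div_cancel_left m (pow_pos hp.out.pos k)
  rw [hord]
  exact ((Nat.Prime.coprime_iff_not_dvd hp.out).mpr hm).symm

/-- Under `FrobHyp`, if `N_S(T)` has index prime to `p` in `N_G(T)`, then
`N_G(T) = N_S(T) C_G(T)`. -/
theorem FrobHyp.normalizer_factor [Finite G] {p : ℕ} [hp : Fact p.Prime] (h : FrobHyp p G)
    (S : Sylow p G) (T : Subgroup G) (hT : T ∈ sylNormFamily p (S : Subgroup G)) (x : G)
    (hx : x ∈ Subgroup.normalizer (T : Set G)) :
    ∃ u ∈ (S : Subgroup G) ⊓ Subgroup.normalizer (T : Set G),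
      ∃ c ∈ Subgroup.centralizer (T : Set G), x = u * c := by
  obtain ⟨hTS, hidx⟩ := hT
  have hTp : IsPGroup p T := S.2.to_le hTS
  set N := Subgroup.normalizer (T : Set G) with hN
  set C := Subgroup.centralizer (T : Set G) with hC
  have hCN : C ≤ N := Subgroup.centralizer_le_normalizer _
  haveI hCnorm : (C.subgroupOf N).Normal := by
    constructor
    intro c hc n
    rw [Subgroup.mem_subgroupOf] at hc ⊢
    rw [hC, Subgroup.mem_centralizer_iff] at hc ⊢
    intro t ht
    have hn : (n : G)⁻¹ * t * (n : G) ∈ T := by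
      have := (Subgroup.mem_normalizer_iff.mp (Subgroup.inv_mem _ n.2) t).mp ht
      simpa using this
    have h1 := hc _ hn
    simp only [Subgroup.coe_mul, Subgroup.coe_inv]
    calc t * ((n : G) * (c : G) * (n : G)⁻¹)
        = (n : G) * (((n : G)⁻¹ * t * (n : G)) * (c : G)) * (n : G)⁻¹ := by group
      _ = (n : G) * ((c : G) * ((n : G)⁻¹ * t * (n : G))) * (n : G)⁻¹ := by rw [h1]
      _ = (n : G) * (c : G) * (n : G)⁻¹ * t := by group
  have hquot : IsPGroup p (N ⧸ C.subgroupOf N) := by
    intro y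
    obtain ⟨n, rfl⟩ := QuotientGroup.mk_surjective y
    obtain ⟨k, hk⟩ := h.exists_pow_mem_centralizer T hTp n n.2
    refine ⟨k, ?_⟩
    rw [← QuotientGroup.mk_pow, QuotientGroup.eq_one_iff, Subgroup.mem_subgroupOf]
    simpa using hk
  set R := ((S : Subgroup G) ⊓ N).subgroupOf N with hR
  have hRidx : ¬ p ∣ R.index := hidx
  have hmapidx : (R.map (QuotientGroup.mk' (C.subgroupOf N))).index = 1 := by
    have h1 : (R.map (QuotientGroup.mk' (C.subgroupOf N))).index ∣ R.index :=
      Subgroup.index_map_dvd R (QuotientGroup.mk'_surjective _)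
    obtain ⟨n, hn⟩ := hquot.index (R.map (QuotientGroup.mk' (C.subgroupOf N)))
    rcases Nat.eq_zero_or_pos n with h0 | hpos
    · rw [hn, h0, pow_zero]
    · exfalso
      apply hRidx
      apply dvd_trans _ h1
      rw [hn]
      exact dvd_pow_self p hpos.ne'
  rw [Subgroup.index_eq_one] at hmapidx
  have hxmem : (QuotientGroup.mk' (C.subgroupOf N)) ⟨x, hx⟩
      ∈ R.map (QuotientGroup.mk' (C.subgroupOf N)) := hmapidx ▸ Subgroup.mem_top _
  obtain ⟨r, hr, hrx⟩ := hxmem
  have hrc : r⁻¹ * ⟨x, hx⟩ ∈ C.subgroupOf N := by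
    rw [← QuotientGroup.eq_one_iff, QuotientGroup.mk_mul, QuotientGroup.mk_inv]
    have : (QuotientGroup.mk' (C.subgroupOf N)) r = QuotientGroup.mk r := rfl
    rw [this] at hrx
    have h2 : (QuotientGroup.mk' (C.subgroupOf N)) ⟨x, hx⟩ = QuotientGroup.mk (⟨x, hx⟩ : N) := rfl
    rw [h2] at hrx
    rw [hrx, inv_mul_cancel]
  refine ⟨(r : G), ?_, (r : G)⁻¹ * x, ?_, by group⟩
  · have hr' : r ∈ R := hr
    rw [hR, Subgroup.mem_subgroupOf] at hr'
    exact hr'
  · rw [Subgroup.mem_subgroupOf] at hrc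
    simpa using hrc

/-- The "good" relation: conjugation by `g` on `A` is elementwise induced by `S`. -/
def GoodConj (S : Subgroup G) (A : Set G) (g : G) : Prop :=
  ∀ a ∈ A, ∃ u ∈ S, g⁻¹ * a * g = u⁻¹ * a * u

/-- Under `FrobHyp`, a Sylow `p`-subgroup controls its own fusion. -/
theorem FrobHyp.control_fusion_subgroup [Finite G] {p : ℕ} [hp : Fact p.Prime] (h : FrobHyp p G)
    (S : Sylow p G) (Q : Subgroup G) (hQ : Q ≤ (S : Subgroup G)) (g : G)
    (hg : Q.map (MulAut.conj g⁻¹).toMonoidHom ≤ (S : Subgroup G)) :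
    GoodConj (S : Subgroup G) (Q : Set G) g := by
  refine good_of_local S (GoodConj (S : Subgroup G)) (fun _ => True) ?_ ?_ ?_ ?_ ?_ ?_ Q hQ g hg
  · intro A B g hA hBA a ha
    exact hA a (hBA ha)
  · intro A g k hA hB a ha
    obtain ⟨u, hu, hua⟩ := hA a ha
    have hmem : g⁻¹ * a * g ∈ rconj g A := ⟨a, ha, rfl⟩
    obtain ⟨v, hv, hva⟩ := hB _ hmem
    refine ⟨u * v, Subgroup.mul_mem _ hu hv, ?_⟩
    calc (g * k)⁻¹ * a * (g * k) = k⁻¹ * (g⁻¹ * a * g) * k := by group
      _ = v⁻¹ * (g⁻¹ * a * g) * v := hva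
      _ = v⁻¹ * (u⁻¹ * a * u) * v := by rw [hua]
      _ = (u * v)⁻¹ * a * (u * v) := by group
  · intro A g hA b hb
    obtain ⟨a, ha, rfl⟩ := hb
    obtain ⟨u, hu, hua⟩ := hA a ha
    refine ⟨u⁻¹, Subgroup.inv_mem _ hu, ?_⟩
    show g⁻¹⁻¹ * (g⁻¹ * a * g) * g⁻¹ = u⁻¹⁻¹ * (g⁻¹ * a * g) * u⁻¹
    have e1 : g⁻¹⁻¹ * (g⁻¹ * a * g) * g⁻¹ = a := by group
    have e2 : u⁻¹⁻¹ * (g⁻¹ * a * g) * u⁻¹ = a := by rw [hua]; group
    rw [e1, e2]
  · intro x a ha
    have : a = 1 := by
      have : a ∈ (⊥ : Subgroup G) := ha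
      rwa [Subgroup.mem_bot] at this
    subst this
    exact ⟨1, Subgroup.one_mem _, by group⟩
  · intro T hT _ _ x hx a ha
    obtain ⟨u, hu, c, hc, rfl⟩ := h.normalizer_factor S T hT x hx
    refine ⟨u, hu.1, ?_⟩
    have hua : u⁻¹ * a * u ∈ T := by
      have := (Subgroup.mem_normalizer_iff.mp (Subgroup.inv_mem _ hu.2) a).mp ha
      simpa using this
    rw [Subgroup.mem_centralizer_iff] at hc
    have h1 := hc _ hua
    calc (u * c)⁻¹ * a * (u * c) = c⁻¹ * ((u⁻¹ * a * u) * c) := by group
      _ = c⁻¹ * (c * (u⁻¹ * a * u)) := by rw [h1]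
      _ = u⁻¹ * a * u := by group
  · intro _ _ _ _ _
    trivial

/-- Under `FrobHyp`, elements of a Sylow subgroup conjugate in `G` are conjugate in it. -/
theorem FrobHyp.control_fusion [Finite G] {p : ℕ} [hp : Fact p.Prime] (h : FrobHyp p G)
    (S : Sylow p G) (x : G) (hx : x ∈ (S : Subgroup G)) (g : G)
    (hg : g⁻¹ * x * g ∈ (S : Subgroup G)) :
    ∃ u ∈ (S : Subgroup G), g⁻¹ * x * g = u⁻¹ * x * u := by
  have hQ : Subgroup.zpowers x ≤ (S : Subgroup G) := by
    rw [Subgroup.zpowers_le]; exact hx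
  have hQg : (Subgroup.zpowers x).map (MulAut.conj g⁻¹).toMonoidHom ≤ (S : Subgroup G) := by
    rw [MonoidHom.map_zpowers, Subgroup.zpowers_le]
    simpa using hg
  exact h.control_fusion_subgroup S _ hQ g hQg x (Subgroup.mem_zpowers x)

/-- Under `FrobHyp`, the focal subgroup of a Sylow subgroup is its derived subgroup. -/
theorem FrobHyp.focal_eq [Finite G] {p : ℕ} [hp : Fact p.Prime] (h : FrobHyp p G)
    (S : Sylow p G) :
    Subgroup.focalSubgroup (S : Subgroup G) = ⁅(S : Subgroup G), (S : Subgroup G)⁆ := by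
  apply le_antisymm
  · rw [Subgroup.focalSubgroup_def, Subgroup.closure_le]
    rintro z ⟨hzS, x, hxS, u, rfl⟩
    have hy : u⁻¹⁻¹ * x⁻¹ * u⁻¹ ∈ (S : Subgroup G) := by
      have : u⁻¹⁻¹ * x⁻¹ * u⁻¹ = x⁻¹ * ⁅x, u⁆ := by
        rw [commutatorElement_def]; group
      rw [this]
      exact Subgroup.mul_mem _ (Subgroup.inv_mem _ hxS) hzS
    obtain ⟨v, hv, hvx⟩ := h.control_fusion S x⁻¹ (Subgroup.inv_mem _ hxS) u⁻¹ hy
    have : ⁅x, u⁆ = ⁅x, v⁻¹⁆ := by
      rw [commutatorElement_def, commutatorElement_def]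
      have h1 : x * u * x⁻¹ * u⁻¹ = x * (u⁻¹⁻¹ * x⁻¹ * u⁻¹) := by group
      have h2 : x * v⁻¹ * x⁻¹ * v⁻¹⁻¹ = x * (v⁻¹ * x⁻¹ * v) := by group
      rw [h1, h2, hvx]
    rw [SetLike.mem_coe, this]
    exact Subgroup.commutator_mem_commutator hxS (Subgroup.inv_mem _ hv)
  · exact Subgroup.commutator_le_focalSubgroup _

/-- `FrobHyp` passes to subgroups. -/
theorem FrobHyp.subgroup {p : ℕ} (h : FrobHyp p G) (K : Subgroup G) : FrobHyp p K := by
  intro Q hQ g hg hgp
  have hQ' : IsPGroup p (Q.map K.subtype) := hQ.map _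
  have hg' : (g : G) ∈ Subgroup.normalizer ((Q.map K.subtype : Subgroup G) : Set G) := by
    rw [Subgroup.mem_normalizer_iff]
    intro y
    constructor
    · rintro ⟨q, hq, rfl⟩
      exact ⟨g * q * g⁻¹, (Subgroup.mem_normalizer_iff.mp hg q).mp hq, by simp⟩
    · rintro ⟨q, hq, hqy⟩
      have hyK : y ∈ K := by
        have : y = (g : G)⁻¹ * (q : G) * (g : G) := by
          have := hqy
          simp only [Subgroup.coe_subtype] at this
          rw [this]; group
        rw [this]
        exact K.mul_mem (K.mul_mem (K.inv_mem g.2) q.2) g.2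
      refine ⟨⟨y, hyK⟩, ?_, rfl⟩
      apply (Subgroup.mem_normalizer_iff.mp hg ⟨y, hyK⟩).mpr
      have : g * ⟨y, hyK⟩ * g⁻¹ = q := by
        apply Subtype.ext
        simpa using hqy.symm
      rw [this]
      exact hq
  have hord : Nat.Coprime (orderOf (g : G)) p := by rwa [Subgroup.orderOf_coe]
  have := h _ hQ' (g : G) hg' hord
  rw [Subgroup.mem_centralizer_iff] at this ⊢
  intro q hq
  apply Subtype.ext
  exact this (q : G) ⟨q, hq, rfl⟩

/-- **Frobenius' normal p-complement theorem**, hard direction, by induction on the order. -/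
theorem hasNormalPComplement_of_frobHyp_aux {p : ℕ} [hp : Fact p.Prime] :
    ∀ (n : ℕ) (G : Type u) [Group G] [Finite G], Nat.card G = n → FrobHyp p G →
      Cfsg.HasNormalPComplement p G := by
  intro n
  induction n using Nat.strong_induction_on with
  | _ n ih =>
    intro G _ _ hn h
    by_cases hpG : p ∣ Nat.card G
    · obtain ⟨S⟩ : Nonempty (Sylow p G) := inferInstance
      -- the kernel of the transfer into S / S*
      set K := (S : Subgroup G).transferFocal.ker with hK
      have hKS : K ⊓ (S : Subgroup G) = ⁅(S : Subgroup G), (S : Subgroup G)⁆ := by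
        rw [hK, Subgroup.ker_transferFocal_inf_eq_focalSubgroup, h.focal_eq S]
      have hSne : (S : Subgroup G) ≠ ⊥ := by
        intro hbot
        have := S.card_eq_multiplicity
        rw [hbot, Subgroup.card_bot] at this
        have hpos : 0 < (Nat.card G).factorization p :=
          hp.out.factorization_pos_of_dvd Nat.card_pos.ne' hpG
        have : 1 < p ^ (Nat.card G).factorization p := Nat.one_lt_pow hpos.ne' hp.out.one_lt
        omega
      have hKne : K ≠ ⊤ := by
        intro htop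
        rw [htop, top_inf_eq] at hKS
        haveI : Nontrivial (S : Subgroup G) := (Subgroup.nontrivial_iff_ne_bot _).mpr hSne
        haveI : Group.IsNilpotent (S : Subgroup G) := S.2.isNilpotent
        have hlt := Group.IsSolvable.commutator_lt_top_of_nontrivial (S : Subgroup G)
        have : (commutator (S : Subgroup G)).map (S : Subgroup G).subtype = (S : Subgroup G) := by
          rw [Subgroup.map_subtype_commutator]
          exact hKS.symm
        have htop2 : commutator (S : Subgroup G) = ⊤ := by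
          apply Subgroup.map_injective (S : Subgroup G).subtype_injective
          rw [this, ← MonoidHom.range_eq_map, Subgroup.range_subtype]
        exact hlt.ne htop2
      have hKlt : Nat.card K < Nat.card G := by
        rcases lt_or_eq_of_le (Subgroup.card_le_card_group K) with hlt | heq
        · exact hlt
        · exact absurd ((Subgroup.card_eq_iff_eq_top K).mp heq) hKne
      have hKidx : ∃ a : ℕ, K.index = p ^ a := by
        have e := Subgroup.transferFocal.quotientKerMulEquivQuotientFocalSubroupOf S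
        have hq : IsPGroup p ((S : Subgroup G) ⧸ (S : Subgroup G).focalSubgroupOf) :=
          S.2.to_quotient _
        obtain ⟨a, ha⟩ := IsPGroup.iff_card.mp hq
        refine ⟨a, ?_⟩
        rw [Subgroup.index_eq_card, hK, Nat.card_congr e.toEquiv, ha]
      -- induction
      obtain ⟨M, hM, hpM, k, hk⟩ := HasNormalPComplement.exists_normal
        (ih (Nat.card K) (hn ▸ hKlt) K rfl (h.subgroup K))
      -- all p'-elements of K lie in M
      have hMall : ∀ y : K, Nat.Coprime (orderOf y) p → y ∈ M := by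
        intro y hy
        rw [← QuotientGroup.eq_one_iff]
        have h1 : orderOf (QuotientGroup.mk y : K ⧸ M) ∣ orderOf y :=
          orderOf_dvd_of_pow_eq_one (by rw [← QuotientGroup.mk_pow, pow_orderOf_eq_one]; rfl)
        have h2 : orderOf (QuotientGroup.mk y : K ⧸ M) ∣ p ^ k := by
          rw [← hk, Subgroup.index_eq_card]
          exact orderOf_dvd_natCard _
        have h3 : orderOf (QuotientGroup.mk y : K ⧸ M) ∣ Nat.gcd (orderOf y) (p ^ k) :=
          Nat.dvd_gcd h1 h2
        rw [(Nat.Coprime.pow_right k hy).gcd_eq_one, Nat.dvd_one] at h3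
        exact orderOf_eq_one_iff.mp h3
      have hMcop : ∀ y ∈ M, Nat.Coprime (orderOf y) p := by
        intro y hy
        have h1 : orderOf y ∣ Nat.card M := by
          have := orderOf_dvd_natCard (⟨y, hy⟩ : M)
          rwa [Subgroup.orderOf_mk] at this
        exact Nat.Coprime.coprime_dvd_left h1
          ((Nat.Prime.coprime_iff_not_dvd hp.out).mpr hpM).symm
      haveI hNnorm : (M.map K.subtype).Normal := by
        constructor
        rintro _ ⟨m, hm, rfl⟩ g
        have hgK : g * (m : G) * g⁻¹ ∈ K := by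
          have hKn : K.Normal := by rw [hK]; infer_instance
          exact hKn.conj_mem _ m.2 g
        refine ⟨⟨g * (m : G) * g⁻¹, hgK⟩, ?_, rfl⟩
        apply hMall
        have : orderOf (⟨g * (m : G) * g⁻¹, hgK⟩ : K) = orderOf m := by
          rw [← Subgroup.orderOf_coe, ← Subgroup.orderOf_coe m]
          have hsc : SemiconjBy g (m : G) (g * (m : G) * g⁻¹) := by
            unfold SemiconjBy; group
          exact (hsc.orderOf_eq).symm
        rw [this]
        exact hMcop m hm
      apply hasNormalPComplement_of_normal (M.map K.subtype)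
      · rwa [Subgroup.card_map_of_injective K.subtype_injective]
      · obtain ⟨a, ha⟩ := hKidx
        refine ⟨k + a, ?_⟩
        rw [Subgroup.index_map_subtype, hk, ha, pow_add]
    · -- p does not divide |G|
      apply hasNormalPComplement_of_normal (⊤ : Subgroup G)
      · rwa [Subgroup.card_top]
      · exact ⟨0, by rw [Subgroup.index_top, pow_zero]⟩

/-- **Frobenius' normal p-complement theorem** (hard direction). -/
theorem hasNormalPComplement_of_frobHyp {G : Type u} [Group G] [Finite G] {p : ℕ}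
    [hp : Fact p.Prime] (h : FrobHyp p G) : Cfsg.HasNormalPComplement p G :=
  hasNormalPComplement_of_frobHyp_aux (Nat.card G) G rfl h

end Cfsg.Agent.Lib.L0
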