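import Cfsg.Agent.Lib.L0.TransferBasic
import Cfsg.Agent.Lib.H22.CyclicSylow

/-!
# Normal p-complements (lead's library)
-/

set_option autoImplicit false

namespace Cfsg.Agent.Lib.L0

open scoped commutatorElement

variable {G : Type*} [Group G]

/-- Burnside's normal `p`-complement theorem in the `Cfsg.HasNormalPComplement` vocabulary. -/
theorem hasNormalPComplement_of_normalizer_le_centralizer [Finite G] {p : ℕ} [Fact p.Prime]
    (P : Sylow p G)
    (h : Subgroup.normalizer ((P : Subgroup G) : Set G) ≤ Subgroup.centralizer (P : Set G)) :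
    Cfsg.HasNormalPComplement p G :=
  ⟨P, (MonoidHom.transferSylow P h).ker, inferInstance,
    MonoidHom.ker_transferSylow_isComplement' P h⟩

/-- A normal subgroup of order prime to `p` and index a power of `p` is a complement to every
Sylow `p`-subgroup. -/
theorem isComplement'_sylow_of_normal [Finite G] {p : ℕ} [Fact p.Prime] (N : Subgroup G)
    (hN : ¬ p ∣ Nat.card N) (hidx : ∃ k, N.index = p ^ k) (P : Sylow p G) :
    N.IsComplement' (P : Subgroup G) := by
  obtain ⟨k, hk⟩ := hidx
  have hp : p.Prime := Fact.out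
  have hcop : Nat.Coprime (Nat.card N) p := ((Nat.Prime.coprime_iff_not_dvd hp).mpr hN).symm
  have h1 : (Nat.card G).factorization p = k := by
    rw [← Subgroup.index_mul_card N, hk, Nat.factorization_mul (pow_ne_zero _ hp.ne_zero)
      (Nat.card_pos.ne'), Finsupp.add_apply, Nat.factorization_eq_zero_of_not_dvd hN,
      Nat.Prime.factorization_pow hp]
    simp
  apply Subgroup.isComplement'_of_coprime
  · rw [P.card_eq_multiplicity, h1, ← Subgroup.index_mul_card N, hk, mul_comm]
  · rw [P.card_eq_multiplicity]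
    exact Nat.Coprime.pow_right _ hcop

/-- A normal subgroup of order prime to `p` and index a power of `p` gives a normal
`p`-complement. -/
theorem hasNormalPComplement_of_normal [Finite G] {p : ℕ} [Fact p.Prime] (N : Subgroup G)
    [N.Normal] (hN : ¬ p ∣ Nat.card N) (hidx : ∃ k, N.index = p ^ k) :
    Cfsg.HasNormalPComplement p G := by
  obtain ⟨P⟩ : Nonempty (Sylow p G) := inferInstance
  exact ⟨P, N, inferInstance, isComplement'_sylow_of_normal N hN hidx P⟩

theorem HasNormalPComplement.exists_normal [Finite G] {p : ℕ} [Fact p.Prime]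
    (h : Cfsg.HasNormalPComplement p G) :
    ∃ N : Subgroup G, N.Normal ∧ ¬ p ∣ Nat.card N ∧ ∃ k, N.index = p ^ k := by
  obtain ⟨P, N, hN, hc⟩ := h
  refine ⟨N, hN, ?_, ?_⟩
  · have := hc.index_eq_card
    rw [← this]
    exact P.not_dvd_index
  · rw [hc.symm.index_eq_card]
    exact P.2.exists_card_eq

theorem HasNormalPComplement.forall_sylow [Finite G] {p : ℕ} [Fact p.Prime]
    (h : Cfsg.HasNormalPComplement p G) (P : Sylow p G) :
    ∃ N : Subgroup G, N.Normal ∧ N.IsComplement' (P : Subgroup G) := by
  obtain ⟨N, hN, hpN, hidx⟩ := HasNormalPComplement.exists_normal h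
  exact ⟨N, hN, isComplement'_sylow_of_normal N hpN hidx P⟩

/-- In a group with a normal `p'`-subgroup `N` of `p`-power index, every `p'`-element lies in `N`. -/
theorem mem_of_coprime_orderOf_of_index_pow {p : ℕ} (N : Subgroup G) [N.Normal] (k : ℕ)
    (hidx : N.index = p ^ k) (g : G) (hg : Nat.Coprime (orderOf g) p) : g ∈ N := by
  by_cases hfin : N.index = 0
  · rw [hfin] at hidx
    have hp0 : p = 0 := by
      rcases Nat.eq_zero_or_pos p with h | h
      · exact h
      · exact absurd hidx.symm (pow_pos h k).ne'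
    rw [hp0, Nat.coprime_zero_right] at hg
    rw [orderOf_eq_one_iff] at hg
    rw [hg]; exact N.one_mem
  haveI : N.FiniteIndex := ⟨hfin⟩
  rw [← QuotientGroup.eq_one_iff]
  have h1 : orderOf (QuotientGroup.mk g : G ⧸ N) ∣ orderOf g :=
    orderOf_dvd_of_pow_eq_one (by rw [← QuotientGroup.mk_pow, pow_orderOf_eq_one]; rfl)
  have h2 : orderOf (QuotientGroup.mk g : G ⧸ N) ∣ p ^ k := by
    rw [← hidx, Subgroup.index_eq_card]
    exact orderOf_dvd_natCard _
  have h3 := Nat.dvd_gcd h1 h2
  rw [(Nat.Coprime.pow_right k hg).gcd_eq_one, Nat.dvd_one] at h3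
  exact orderOf_eq_one_iff.mp h3

/-- Subgroups inherit normal `p`-complements. -/
theorem HasNormalPComplement.subgroup [Finite G] {p : ℕ} [Fact p.Prime]
    (h : Cfsg.HasNormalPComplement p G) (H : Subgroup G) : Cfsg.HasNormalPComplement p H := by
  obtain ⟨N, hN, hpN, k, hk⟩ := HasNormalPComplement.exists_normal h
  haveI : (N.subgroupOf H).Normal := Subgroup.normal_subgroupOf
  apply hasNormalPComplement_of_normal (N.subgroupOf H)
  · intro hdvd
    apply hpN
    have h1 : Nat.card (N.subgroupOf H) = Nat.card (N ⊓ H : Subgroup G) := by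
      rw [← Subgroup.inf_subgroupOf_right]
      exact Nat.card_congr (Subgroup.subgroupOfEquivOfLe inf_le_right).toEquiv
    rw [h1] at hdvd
    exact hdvd.trans (Subgroup.card_dvd_of_le inf_le_left)
  · have h1 : (N.subgroupOf H).index ∣ p ^ k := by
      rw [← hk]
      exact Subgroup.relIndex_dvd_index_of_normal N H
    obtain ⟨j, _, hj⟩ := (Nat.dvd_prime_pow Fact.out).mp h1
    exact ⟨j, hj⟩

/-- Abelian Sylow `p`-subgroup `T` with `N(T) ≰ C(T)`: there is a prime `r ≠ p` dividing `|G|`
(indeed `|N(T):C(T)|`) and a proper subgroup `F < T` (the fixed points of an automorphism of order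
`r` induced by `N(T)`) with `|T| ≡ |F| (mod r)`. -/
theorem exists_prime_of_normalizer_not_le_centralizer [Finite G] {p : ℕ} [Fact p.Prime]
    (T : Sylow p G) (hT : ∀ a ∈ T, ∀ b ∈ T, a * b = b * a)
    (h : ¬ Subgroup.normalizer ((T : Subgroup G) : Set G) ≤ Subgroup.centralizer (T : Set G)) :
    ∃ r : ℕ, r.Prime ∧ r ≠ p ∧ r ∣ Nat.card G ∧ ∃ F : Subgroup (T : Subgroup G), F ≠ ⊤ ∧
      Nat.card (T : Subgroup G) ≡ Nat.card F [MOD r] := by
  classical
  have hA : (T : Subgroup G).normalizerMonoidHom.range ≠ ⊥ := by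
    intro hbot
    apply h
    intro n hn
    have h1 : (T : Subgroup G).normalizerMonoidHom ⟨n, hn⟩
        ∈ (T : Subgroup G).normalizerMonoidHom.range := ⟨_, rfl⟩
    rw [hbot, Subgroup.mem_bot] at h1
    have hk : (⟨n, hn⟩ : Subgroup.normalizer ((T : Subgroup G) : Set G))
        ∈ (T : Subgroup G).normalizerMonoidHom.ker := h1
    rw [Subgroup.normalizerMonoidHom_ker, Subgroup.mem_subgroupOf] at hk
    exact hk
  have hcardA : Nat.card (T : Subgroup G).normalizerMonoidHom.range ≠ 1 := by
    rw [Ne, Subgroup.card_eq_one]; exact hA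
  have hTC : (T : Subgroup G) ≤ Subgroup.centralizer ((T : Subgroup G) : Set G) := by
    intro a ha
    rw [Subgroup.mem_centralizer_iff]
    intro b hb
    exact hT b hb a ha
  have hpA : ¬ p ∣ Nat.card (T : Subgroup G).normalizerMonoidHom.range := by
    rw [← Subgroup.index_ker, Subgroup.normalizerMonoidHom_ker]
    intro hdvd
    have h1 : (Subgroup.centralizer ((T : Subgroup G) : Set G)).relIndex
        (Subgroup.normalizer ((T : Subgroup G) : Set G))
          ∣ (T : Subgroup G).relIndex (Subgroup.normalizer ((T : Subgroup G) : Set G)) :=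
      Subgroup.relIndex_dvd_of_le_left _ hTC
    have h2 : (T : Subgroup G).relIndex (Subgroup.normalizer ((T : Subgroup G) : Set G))
        ∣ (T : Subgroup G).index := Subgroup.relIndex_dvd_index_of_le Subgroup.le_normalizer
    exact T.not_dvd_index (hdvd.trans (h1.trans h2))
  obtain ⟨r, hr⟩ : ∃ r, r = (Nat.card (T : Subgroup G).normalizerMonoidHom.range).minFac := ⟨_, rfl⟩
  have hrp : r.Prime := hr ▸ Nat.minFac_prime hcardA
  have hrA : r ∣ Nat.card (T : Subgroup G).normalizerMonoidHom.range := hr ▸ Nat.minFac_dvd _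
  haveI : Fact r.Prime := ⟨hrp⟩
  refine ⟨r, hrp, ?_, ?_, ?_⟩
  · intro hrp'
    rw [hrp'] at hrA
    exact hpA hrA
  · exact hrA.trans ((Subgroup.card_range_dvd _).trans (Subgroup.card_subgroup_dvd_card _))
  · obtain ⟨x, hx⟩ := exists_prime_orderOf_dvd_card' r hrA
    set φ : MulAut (T : Subgroup G) := (x : MulAut (T : Subgroup G)) with hφ
    have hφord : orderOf φ = r := by rw [hφ, Subgroup.orderOf_coe]; exact hx
    have hZ : IsPGroup r (Subgroup.zpowers φ) :=
      IsPGroup.of_card (n := 1) (by rw [Nat.card_zpowers, hφord, pow_one])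
    have hmod := hZ.card_modEq_card_fixedPoints (T : Subgroup G)
    let F : Subgroup (T : Subgroup G) :=
      { carrier := {t | φ t = t}
        mul_mem' := by
          intro a b ha hb
          show φ (a * b) = a * b
          rw [map_mul, (show φ a = a from ha), (show φ b = b from hb)]
        one_mem' := map_one φ
        inv_mem' := by
          intro a ha
          show φ a⁻¹ = a⁻¹
          rw [map_inv, (show φ a = a from ha)] }
    have hFix : MulAction.fixedPoints (Subgroup.zpowers φ) (T : Subgroup G) = (F : Set _) := by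
      ext t
      constructor
      · intro ht
        exact ht ⟨φ, Subgroup.mem_zpowers φ⟩
      · intro ht ψ
        obtain ⟨ψ, hψ⟩ := ψ
        obtain ⟨k, rfl⟩ := Subgroup.mem_zpowers_iff.mp hψ
        have h1 : t ∈ MulAction.fixedBy (T : Subgroup G) φ := ht
        exact MulAction.mem_fixedBy_zpow h1 k
    refine ⟨F, ?_, ?_⟩
    · intro htop
      have hφ1 : φ = 1 := by
        ext t
        have : t ∈ F := htop ▸ Subgroup.mem_top t
        have h2 : φ t = t := this
        rw [h2]; rfl
      rw [hφ1, orderOf_one] at hφord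
      exact hrp.one_lt.ne' hφord.symm
    · rw [hFix] at hmod
      exact hmod

end Cfsg.Agent.Lib.L0
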