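import Cfsg.Agent.Lib.L0.TransferPC
import Cfsg.Agent.Lib.H14.PIrr

/-!
# Tate's theorem (lead's library)

* `exists_complement_ker_of_sylow_splitting` : a pullback/transfer (Gaschütz-type) splitting lemma.
-/

set_option autoImplicit false

namespace Cfsg.Agent.Lib.L0

open scoped commutatorElement

section splitting

variable {G E Q : Type*} [Group G] [Group E] [Group Q]

/-- The pullback of `α : G →* Q` and `β : E →* Q`. -/
def pullbackSubgroup (α : G →* Q) (β : E →* Q) : Subgroup (G × E) :=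
  (α.comp (MonoidHom.fst G E)).eqLocus (β.comp (MonoidHom.snd G E))

theorem mem_pullbackSubgroup {α : G →* Q} {β : E →* Q} {x : G × E} :
    x ∈ pullbackSubgroup α β ↔ α x.1 = β x.2 := Iff.rfl

variable (α : G →* Q) (β : E →* Q)

/-- First projection of the pullback. -/
def pbFst : pullbackSubgroup α β →* G :=
  (MonoidHom.fst G E).comp (pullbackSubgroup α β).subtype

/-- Second projection of the pullback. -/
def pbSnd : pullbackSubgroup α β →* E :=
  (MonoidHom.snd G E).comp (pullbackSubgroup α β).subtype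

theorem pb_comm (w : pullbackSubgroup α β) : α (pbFst α β w) = β (pbSnd α β w) := w.2

theorem pb_ext {w w' : pullbackSubgroup α β} (h1 : pbFst α β w = pbFst α β w')
    (h2 : pbSnd α β w = pbSnd α β w') : w = w' :=
  Subtype.ext (Prod.ext h1 h2)

/-- The element `(g, e)` of the pullback. -/
def pbMk (g : G) (e : E) (h : α g = β e) : pullbackSubgroup α β := ⟨(g, e), h⟩

@[simp] theorem pbFst_pbMk (g : G) (e : E) (h : α g = β e) : pbFst α β (pbMk α β g e h) = g := rfl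
@[simp] theorem pbSnd_pbMk (g : G) (e : E) (h : α g = β e) : pbSnd α β (pbMk α β g e h) = e := rfl

variable (P : Subgroup G) (ι : P →* E)

theorem pbPhi_aux (hι : ∀ x : P, β (ι x) = α x) (y : P.comap (pbFst α β)) :
    β (pbSnd α β y.1 * (ι ⟨pbFst α β y.1, y.2⟩)⁻¹) = 1 := by
  rw [map_mul, map_inv, hι, ← pb_comm]
  exact mul_inv_cancel _

/-- The homomorphism `(x, e) ↦ e * (ι x)⁻¹` from the preimage of `P` to the (central) kernel. -/
def pbPhi (hι : ∀ x : P, β (ι x) = α x) (hker : β.ker ≤ Subgroup.center E) :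
    P.comap (pbFst α β) →* β.ker :=
  MonoidHom.mk'
    (fun y => ⟨pbSnd α β y.1 * (ι ⟨pbFst α β y.1, y.2⟩)⁻¹,
      MonoidHom.mem_ker.mpr (pbPhi_aux α β P ι hι y)⟩)
    (by
      intro a b
      apply Subtype.ext
      have hb : pbSnd α β b.1 * (ι ⟨pbFst α β b.1, b.2⟩)⁻¹ ∈ Subgroup.center E :=
        hker (MonoidHom.mem_ker.mpr (pbPhi_aux α β P ι hι b))
      have hcomm := Subgroup.mem_center_iff.mp hb ((ι ⟨pbFst α β a.1, a.2⟩)⁻¹)
      show pbSnd α β (a * b).1 * (ι ⟨pbFst α β (a * b).1, (a * b).2⟩)⁻¹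
        = pbSnd α β a.1 * (ι ⟨pbFst α β a.1, a.2⟩)⁻¹
          * (pbSnd α β b.1 * (ι ⟨pbFst α β b.1, b.2⟩)⁻¹)
      have e1 : (⟨pbFst α β (a * b).1, (a * b).2⟩ : P)
          = ⟨pbFst α β a.1, a.2⟩ * ⟨pbFst α β b.1, b.2⟩ := by
        apply Subtype.ext
        show pbFst α β ((a * b : P.comap (pbFst α β)) : pullbackSubgroup α β) = _
        rw [Subgroup.coe_mul, map_mul]
        rfl
      rw [e1, map_mul, mul_inv_rev, Subgroup.coe_mul, map_mul]
      calc pbSnd α β a.1 * pbSnd α β b.1 * ((ι ⟨pbFst α β b.1, b.2⟩)⁻¹ * (ι ⟨pbFst α β a.1, a.2⟩)⁻¹)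
          = pbSnd α β a.1 * ((pbSnd α β b.1 * (ι ⟨pbFst α β b.1, b.2⟩)⁻¹)
              * (ι ⟨pbFst α β a.1, a.2⟩)⁻¹) := by group
        _ = pbSnd α β a.1 * ((ι ⟨pbFst α β a.1, a.2⟩)⁻¹
              * (pbSnd α β b.1 * (ι ⟨pbFst α β b.1, b.2⟩)⁻¹)) := by rw [← hcomm]
        _ = _ := by group)

theorem pbPhi_coe (hι : ∀ x : P, β (ι x) = α x) (hker : β.ker ≤ Subgroup.center E)
    (y : P.comap (pbFst α β)) :
    ((pbPhi α β P ι hι hker y : β.ker) : E)
      = pbSnd α β y.1 * (ι ⟨pbFst α β y.1, y.2⟩)⁻¹ := rfl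

theorem pbPhi_coe_of_fst_eq_one (hι : ∀ x : P, β (ι x) = α x)
    (hker : β.ker ≤ Subgroup.center E) (y : P.comap (pbFst α β)) (h1 : pbFst α β y.1 = 1) :
    ((pbPhi α β P ι hι hker y : β.ker) : E) = pbSnd α β y.1 := by
  rw [pbPhi_coe]
  have : (⟨pbFst α β y.1, y.2⟩ : P) = 1 := Subtype.ext h1
  rw [this, map_one, inv_one, mul_one]

open scoped IsMulCommutative in
/-- **Splitting lemma** (pullback + transfer). Let `α : G →* Q`, `β : E →* Q` have the same range,
`E` a `p`-group with `ker β` central, `P ≤ G` of index prime to `p` such that `α|_P` lifts to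
`ι : P →* E`, and `ker α` generated by `p'`-elements. Then `ker β` has a complement in `E`. -/
theorem exists_complement_ker_of_sylow_splitting [Finite G] [Finite E] {p : ℕ}
    [hp : Fact p.Prime] (hPidx : ¬ p ∣ P.index) (hι : ∀ x : P, β (ι x) = α x)
    (hE : IsPGroup p E) (hker : β.ker ≤ Subgroup.center E)
    (hGE : ∀ g : G, ∃ e : E, β e = α g) (hEG : ∀ e : E, ∃ g : G, α g = β e)
    (hgen : α.ker ≤ Subgroup.closure {g : G | g ∈ α.ker ∧ (orderOf g).Coprime p}) :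
    ∃ Es : Subgroup E, Es ⊔ β.ker = ⊤ ∧ Es ⊓ β.ker = ⊥ := by
  classical
  haveI : IsMulCommutative β.ker :=
    ⟨⟨fun a b => Subtype.ext (show (a.1 * b.1 : E) = b.1 * a.1 from
      Subgroup.mem_center_iff.mp (hker b.2) a.1)⟩⟩
  generalize hV' : MonoidHom.transfer (A := β.ker) (pbPhi α β P ι hι hker) = V
  have hV := hV'.symm
  clear hV'
  have hsurj : Function.Surjective (pbFst α β) := by
    intro g
    obtain ⟨e, he⟩ := hGE g
    exact ⟨pbMk α β g e he.symm, rfl⟩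
  have hidx : (P.comap (pbFst α β)).index = P.index :=
    Subgroup.index_comap_of_surjective P hsurj
  obtain ⟨m, hm⟩ : ∃ m : ℕ, m = P.index := ⟨_, rfl⟩
  have hmp : Nat.Coprime m p := by
    rw [hm]; exact ((Nat.Prime.coprime_iff_not_dvd hp.out).mpr hPidx).symm
  have hZp : IsPGroup p β.ker := hE.to_subgroup _
  -- (V1): transfer of central elements
  have hV1 : ∀ (c : β.ker) (h : α 1 = β c.1), V (pbMk α β 1 c.1 h) = c ^ m := by
    intro c h
    have hcomm : ∀ g₀ : pullbackSubgroup α β,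
        (pbMk α β 1 c.1 h) * g₀ = g₀ * (pbMk α β 1 c.1 h) := by
      intro g₀
      apply pb_ext
      · simp
      · simp only [map_mul, pbSnd_pbMk]
        exact (Subgroup.mem_center_iff.mp (hker c.2) _).symm
    have key : ∀ (k : ℕ) (g₀ : pullbackSubgroup α β),
        g₀⁻¹ * (pbMk α β 1 c.1 h) ^ k * g₀ ∈ P.comap (pbFst α β) →
        g₀⁻¹ * (pbMk α β 1 c.1 h) ^ k * g₀ = (pbMk α β 1 c.1 h) ^ k := by
      intro k g₀ _
      have hc : Commute ((pbMk α β 1 c.1 h) ^ k) g₀ := Commute.pow_left (hcomm g₀) k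
      rw [mul_assoc, hc.eq, ← mul_assoc, inv_mul_cancel, one_mul]
    rw [hV, MonoidHom.transfer_eq_pow _ _ key]
    apply Subtype.ext
    rw [pbPhi_coe_of_fst_eq_one]
    · show pbSnd α β ((pbMk α β 1 c.1 h) ^ (P.comap (pbFst α β)).index) = _
      rw [map_pow, pbSnd_pbMk, hidx, ← hm]
      simp
    · show pbFst α β ((pbMk α β 1 c.1 h) ^ (P.comap (pbFst α β)).index) = 1
      rw [map_pow, pbFst_pbMk, one_pow]
  -- (V2): `V` kills `(g, 1)` for `g ∈ ker α`
  have hα1 : ∀ g : G, g ∈ α.ker → α g = β 1 := by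
    intro g hg
    rw [map_one]; exact MonoidHom.mem_ker.mp hg
  have hV2 : ∀ g : G, g ∈ Subgroup.closure {g : G | g ∈ α.ker ∧ (orderOf g).Coprime p} →
      ∃ h : g ∈ α.ker, V (pbMk α β g 1 (hα1 g h)) = 1 := by
    intro g hg
    induction hg using Subgroup.closure_induction with
    | mem x hx =>
      obtain ⟨hxk, hxc⟩ := hx
      refine ⟨hxk, ?_⟩
      have h1 : (V (pbMk α β x 1 (hα1 x hxk))) ^ orderOf x = 1 := by
        rw [← map_pow]
        have : (pbMk α β x 1 (hα1 x hxk)) ^ orderOf x = 1 := by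
          apply pb_ext
          · rw [map_pow, pbFst_pbMk, pow_orderOf_eq_one, map_one]
          · rw [map_pow, pbSnd_pbMk, one_pow, map_one]
        rw [this, map_one]
      obtain ⟨j, hj⟩ := hZp (V (pbMk α β x 1 (hα1 x hxk)))
      have h2 : orderOf (V (pbMk α β x 1 (hα1 x hxk))) ∣ orderOf x := orderOf_dvd_of_pow_eq_one h1
      have h3 : orderOf (V (pbMk α β x 1 (hα1 x hxk))) ∣ p ^ j := orderOf_dvd_of_pow_eq_one hj
      have h4 := Nat.dvd_gcd h2 h3
      rw [(Nat.Coprime.pow_right j hxc).gcd_eq_one, Nat.dvd_one] at h4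
      exact orderOf_eq_one_iff.mp h4
    | one =>
      refine ⟨α.ker.one_mem, ?_⟩
      have : pbMk α β 1 1 (hα1 1 α.ker.one_mem) = 1 := rfl
      rw [this, map_one]
    | mul x y _ _ hx hy =>
      obtain ⟨hxk, hx1⟩ := hx
      obtain ⟨hyk, hy1⟩ := hy
      refine ⟨α.ker.mul_mem hxk hyk, ?_⟩
      have : pbMk α β (x * y) 1 (hα1 (x * y) (α.ker.mul_mem hxk hyk))
          = pbMk α β x 1 (hα1 x hxk) * pbMk α β y 1 (hα1 y hyk) := by
        apply pb_ext
        · rw [map_mul]; rfl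
        · rw [map_mul]; simp
      rw [this, map_mul, hx1, hy1, one_mul]
    | inv x _ hx =>
      obtain ⟨hxk, hx1⟩ := hx
      refine ⟨α.ker.inv_mem hxk, ?_⟩
      have : pbMk α β x⁻¹ 1 (hα1 x⁻¹ (α.ker.inv_mem hxk)) = (pbMk α β x 1 (hα1 x hxk))⁻¹ := by
        apply pb_ext
        · rw [map_inv]; rfl
        · rw [map_inv]; simp
      rw [this, map_inv, hx1, inv_one]
  refine ⟨V.ker.map (pbSnd α β), ?_, ?_⟩
  · -- supplement
    rw [eq_top_iff]
    intro e _
    obtain ⟨g, hg⟩ := hEG e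
    obtain ⟨c, hc⟩ : ∃ c : β.ker, c ^ m = V (pbMk α β g e hg) := by
      have hcop : (Nat.card β.ker).Coprime m := by
        obtain ⟨j, hj⟩ := IsPGroup.iff_card.mp hZp
        rw [hj]; exact (Nat.Coprime.pow_right j hmp).symm
      exact ⟨(powCoprime hcop).symm (V (pbMk α β g e hg)), (powCoprime hcop).apply_symm_apply _⟩
    have hc1 : α 1 = β c.1 := by
      rw [map_one]; exact (MonoidHom.mem_ker.mp c.2).symm
    have hz := hV1 c hc1
    have hmem : pbMk α β g e hg * (pbMk α β 1 c.1 hc1)⁻¹ ∈ V.ker := by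
      rw [MonoidHom.mem_ker, map_mul, map_inv, hz, hc, mul_inv_cancel]
    have h1 : e * (c.1)⁻¹ ∈ V.ker.map (pbSnd α β) :=
      ⟨_, hmem, by rw [map_mul, map_inv]; rfl⟩
    have h2 : (c.1 : E) ∈ β.ker := c.2
    have : e = e * (c.1)⁻¹ * c.1 := by group
    rw [this]
    exact Subgroup.mul_mem_sup h1 h2
  · -- trivial intersection
    rw [eq_bot_iff]
    rintro e ⟨⟨w, hw, rfl⟩, he⟩
    rw [SetLike.mem_coe, MonoidHom.mem_ker] at hw
    replace he : β (pbSnd α β w) = 1 := MonoidHom.mem_ker.mp he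
    rw [Subgroup.mem_bot]
    have hgk : pbFst α β w ∈ α.ker := by
      rw [MonoidHom.mem_ker, pb_comm, he]
    obtain ⟨_, hg1⟩ := hV2 _ (hgen hgk)
    have hc1 : α 1 = β (pbSnd α β w) := by rw [map_one, he]
    have hz := hV1 ⟨pbSnd α β w, MonoidHom.mem_ker.mpr he⟩ hc1
    have hdecomp : pbMk α β 1 (pbSnd α β w) hc1
        = (pbMk α β (pbFst α β w) 1 (hα1 _ hgk))⁻¹ * w := by
      apply pb_ext
      · rw [map_mul, map_inv]; simp
      · rw [map_mul, map_inv]; simp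
    rw [hdecomp, map_mul, map_inv, hg1, hw, inv_one, one_mul] at hz
    have hpow : (pbSnd α β w) ^ m = 1 := by
      have := congrArg (fun c : β.ker => (c.1 : E)) hz.symm
      simpa using this
    obtain ⟨j, hj⟩ := hE (pbSnd α β w)
    have h2 : orderOf (pbSnd α β w) ∣ m := orderOf_dvd_of_pow_eq_one hpow
    have h3 : orderOf (pbSnd α β w) ∣ p ^ j := orderOf_dvd_of_pow_eq_one hj
    have h4 := Nat.dvd_gcd h2 h3
    rw [(Nat.Coprime.pow_right j hmp).gcd_eq_one, Nat.dvd_one] at h4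
    exact orderOf_eq_one_iff.mp h4

end splitting

section tate

/-- In a nilpotent group a normal subgroup `N ≤ [N, G]` is trivial. -/
theorem eq_bot_of_le_commutator_top {S : Type*} [Group S] [hS : Group.IsNilpotent S]
    (N : Subgroup S) (h : N ≤ ⁅N, (⊤ : Subgroup S)⁆) : N = ⊥ := by
  have key : ∀ n : ℕ, N ≤ (⊤ : Subgroup S).lowerCentralSeries n := by
    intro n
    induction n with
    | zero => rw [Subgroup.lowerCentralSeries_zero]; exact le_top
    | succ n ih =>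
      calc N ≤ ⁅N, (⊤ : Subgroup S)⁆ := h
        _ ≤ ⁅(⊤ : Subgroup S).lowerCentralSeries n, (⊤ : Subgroup S)⁆ :=
          Subgroup.commutator_mono ih le_rfl
        _ = (⊤ : Subgroup S).lowerCentralSeries (n + 1) :=
          (Subgroup.lowerCentralSeries_succ ⊤ n).symm
  obtain ⟨n, hn⟩ := Subgroup.nilpotent_iff_lowerCentralSeries.mp hS
  rw [eq_bot_iff, ← hn]
  exact key n

theorem tate_core {G : Type*} [Group G] [Finite G] {p : ℕ} [hp : Fact p.Prime] (P : Sylow p G)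
    (K : Subgroup G) [hK : K.Normal] (hKP : K ⊔ (P : Subgroup G) = ⊤)
    (hgen : K ≤ Subgroup.closure {g : G | g ∈ K ∧ (orderOf g).Coprime p})
    (hfr : ∀ M : Subgroup (P : Subgroup G), M ⊔ K.subgroupOf (P : Subgroup G) = ⊤ → M = ⊤) :
    K ⊓ (P : Subgroup G) = ⊥ := by
  classical
  obtain ⟨D, hDdef⟩ : ∃ D : Subgroup (P : Subgroup G), D = K.subgroupOf P := ⟨_, rfl⟩
  haveI hDn : D.Normal := hDdef ▸ Subgroup.normal_subgroupOf
  have hDmem : ∀ s : (P : Subgroup G), s ∈ D ↔ s.1 ∈ K := by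
    intro s; rw [hDdef, Subgroup.mem_subgroupOf]
  obtain ⟨D₁, hD₁def⟩ : ∃ D₁ : Subgroup (P : Subgroup G), D₁ = ⁅D, (⊤ : Subgroup (P : Subgroup G))⁆ :=
    ⟨_, rfl⟩
  haveI hD₁n : D₁.Normal := hD₁def ▸ Subgroup.commutator_normal D ⊤
  have hD₁D : D₁ ≤ D := hD₁def ▸ Subgroup.commutator_le_left D ⊤
  have hD₁ker : D₁ ≤ ((QuotientGroup.mk' K).comp (P : Subgroup G).subtype).ker := by
    intro s hs
    rw [MonoidHom.mem_ker]
    show (QuotientGroup.mk' K) s.1 = 1
    rw [QuotientGroup.mk'_apply, QuotientGroup.eq_one_iff]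
    exact (hDmem s).mp (hD₁D hs)
  obtain ⟨α, hα⟩ : ∃ α : G →* G ⧸ K, α = QuotientGroup.mk' K := ⟨_, rfl⟩
  obtain ⟨β, hβ⟩ : ∃ β : (P : Subgroup G) ⧸ D₁ →* G ⧸ K,
      β = QuotientGroup.lift D₁ ((QuotientGroup.mk' K).comp (P : Subgroup G).subtype) hD₁ker :=
    ⟨_, rfl⟩
  obtain ⟨ι, hιdef⟩ : ∃ ι : (P : Subgroup G) →* (P : Subgroup G) ⧸ D₁, ι = QuotientGroup.mk' D₁ :=
    ⟨_, rfl⟩
  have hι : ∀ x : (P : Subgroup G), β (ι x) = α x := by
    intro x; rw [hβ, hιdef, hα]; rfl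
  have hιsurj : Function.Surjective ι := hιdef ▸ QuotientGroup.mk'_surjective D₁
  have hαker : ∀ g : G, α g = 1 ↔ g ∈ K := by
    intro g; rw [hα, QuotientGroup.mk'_apply, QuotientGroup.eq_one_iff]
  have hE : IsPGroup p ((P : Subgroup G) ⧸ D₁) := P.isPGroup'.to_quotient D₁
  -- elements of `ker β` come from `D`
  have hkerD : ∀ e : (P : Subgroup G) ⧸ D₁, e ∈ β.ker → ∃ d ∈ D, ι d = e := by
    intro e he
    obtain ⟨s, rfl⟩ := hιsurj e
    refine ⟨s, ?_, rfl⟩
    rw [MonoidHom.mem_ker, hι, hαker] at he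
    exact (hDmem s).mpr he
  have hker : β.ker ≤ Subgroup.center ((P : Subgroup G) ⧸ D₁) := by
    intro e he
    obtain ⟨d, hd, rfl⟩ := hkerD e he
    rw [Subgroup.mem_center_iff]
    intro g
    obtain ⟨t, rfl⟩ := hιsurj g
    rw [← map_mul, ← map_mul, hιdef, QuotientGroup.mk'_apply, QuotientGroup.mk'_apply,
      QuotientGroup.eq, hD₁def]
    have : (t * d)⁻¹ * (d * t) = ⁅d⁻¹, t⁻¹⁆ := by
      rw [commutatorElement_def]; group
    rw [this]
    exact Subgroup.commutator_mem_commutator (D.inv_mem hd) (Subgroup.mem_top _)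
  have hGE : ∀ g : G, ∃ e : (P : Subgroup G) ⧸ D₁, β e = α g := by
    intro g
    have hg : g ∈ K ⊔ (P : Subgroup G) := hKP ▸ Subgroup.mem_top g
    obtain ⟨k, hk, x, hx, rfl⟩ := Subgroup.mem_sup_of_normal_left.mp hg
    refine ⟨ι ⟨x, hx⟩, ?_⟩
    rw [hι, map_mul, (hαker k).mpr hk, one_mul]
  have hEG : ∀ e : (P : Subgroup G) ⧸ D₁, ∃ g : G, α g = β e := by
    intro e
    obtain ⟨s, rfl⟩ := hιsurj e
    exact ⟨s.1, (hι s).symm⟩
  have hαk : α.ker = K := by rw [hα, QuotientGroup.ker_mk']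
  have hgen' : α.ker ≤ Subgroup.closure {g : G | g ∈ α.ker ∧ (orderOf g).Coprime p} := by
    rw [hαk]; exact hgen
  obtain ⟨Es, hsup, hinf⟩ := exists_complement_ker_of_sylow_splitting α β (P : Subgroup G) ι
    P.not_dvd_index hι hE hker hGE hEG hgen'
  -- the subgroup `M`
  have hM := hfr (Es.comap ι) (by
    rw [eq_top_iff]
    intro s _
    have h1 : ι s ∈ Es ⊔ β.ker := hsup ▸ Subgroup.mem_top _
    obtain ⟨a, ha, b, hb, hab⟩ := Subgroup.mem_sup_of_normal_right.mp h1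
    obtain ⟨d, hd, rfl⟩ := hkerD b hb
    have ha' : s * d⁻¹ ∈ Es.comap ι := by
      rw [Subgroup.mem_comap, map_mul, map_inv, ← hab, mul_inv_cancel_right]
      exact ha
    have : s = s * d⁻¹ * d := by group
    rw [this]
    exact Subgroup.mul_mem_sup ha' (hDdef ▸ hd))
  have hEs : Es = ⊤ := by
    rw [eq_top_iff]
    intro e _
    obtain ⟨s, rfl⟩ := hιsurj e
    have : s ∈ Es.comap ι := hM ▸ Subgroup.mem_top s
    exact this
  have hkerbot : β.ker = ⊥ := by
    rw [← hinf, hEs, top_inf_eq]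
  have hDD₁ : D ≤ D₁ := by
    intro d hd
    have h1 : ι d ∈ β.ker := by
      rw [MonoidHom.mem_ker, hι, hαker]; exact (hDmem d).mp hd
    rw [hkerbot, Subgroup.mem_bot, hιdef, QuotientGroup.mk'_apply, QuotientGroup.eq_one_iff] at h1
    exact h1
  haveI : Group.IsNilpotent (P : Subgroup G) := P.isPGroup'.isNilpotent
  have hDbot : D = ⊥ := eq_bot_of_le_commutator_top D (hD₁def ▸ hDD₁)
  rw [eq_bot_iff]
  intro x hx
  have : (⟨x, hx.2⟩ : (P : Subgroup G)) ∈ D := (hDmem _).mpr hx.1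
  rw [hDbot, Subgroup.mem_bot] at this
  rw [Subgroup.mem_bot]
  exact congrArg Subtype.val this


/-- Having a normal `p`-complement is invariant under isomorphism. -/
theorem HasNormalPComplement.of_mulEquiv_tate {G H : Type*} [Group G] [Group H] [Finite G] {p : ℕ}
    [Fact p.Prime] (e : G ≃* H) (h : Cfsg.HasNormalPComplement p G) :
    Cfsg.HasNormalPComplement p H := by
  haveI : Finite H := Finite.of_equiv G e.toEquiv
  obtain ⟨N, hN, hpN, k, hk⟩ := HasNormalPComplement.exists_normal h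
  haveI : (N.map e.toMonoidHom).Normal := hN.map _ e.surjective
  apply hasNormalPComplement_of_normal (N.map e.toMonoidHom)
  · rwa [Subgroup.card_map_of_injective e.injective]
  · exact ⟨k, by rw [← hk]; exact Subgroup.index_map_equiv N e⟩

/-- **Tate's theorem**: if `N ⊴ G` and `N ∩ P ≤ Φ(P)` for a Sylow `p`-subgroup `P` of `G`, then `N`
has a normal `p`-complement. -/
theorem tate {G : Type*} [Group G] [Finite G] {p : ℕ} [hp : Fact p.Prime] (P : Sylow p G)
    (N : Subgroup G) [hN : N.Normal]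
    (h : N ⊓ (P : Subgroup G) ≤ (frattini P).map (P : Subgroup G).subtype) :
    Cfsg.HasNormalPComplement p N := by
  classical
  obtain ⟨G₀, hG₀⟩ : ∃ G₀ : Subgroup G, G₀ = N ⊔ (P : Subgroup G) := ⟨_, rfl⟩
  have hPG₀ : (P : Subgroup G) ≤ G₀ := hG₀ ▸ le_sup_right
  have hNG₀ : N ≤ G₀ := hG₀ ▸ le_sup_left
  obtain ⟨P₀, hP₀⟩ : ∃ P₀ : Sylow p G₀, P₀ = P.subtype hPG₀ := ⟨_, rfl⟩
  have hP₀mem : ∀ x : G₀, x ∈ (P₀ : Subgroup G₀) ↔ x.1 ∈ (P : Subgroup G) := by
    intro x; rw [hP₀, Sylow.coe_subtype, Subgroup.mem_subgroupOf]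
  haveI hK₀n : (Cfsg.pResidual p G₀).Normal := Cfsg.Agent.Lib.H14.pResidual_normal'
  have hsup := Cfsg.Agent.Lib.H14.pResidual_sup_sylow P₀
  haveI hN₀n : (N.subgroupOf G₀).Normal := Subgroup.normal_subgroupOf
  have hidx : ∃ k, (N.subgroupOf G₀).index = p ^ k := by
    have h1 : (N.subgroupOf G₀).index = N.relIndex (P : Subgroup G) := by
      show N.relIndex G₀ = _
      rw [hG₀, Subgroup.relIndex_sup_left]
    have h2 : N.relIndex (P : Subgroup G) ∣ Nat.card (P : Subgroup G) :=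
      Subgroup.index_dvd_card _
    obtain ⟨n, hn⟩ := P.isPGroup'.exists_card_eq
    rw [hn] at h2
    obtain ⟨k, _, hk⟩ := (Nat.dvd_prime_pow hp.out).mp h2
    exact ⟨k, h1.trans hk⟩
  have hK₀N₀ : Cfsg.pResidual p G₀ ≤ N.subgroupOf G₀ := by
    unfold Cfsg.pResidual
    rw [Subgroup.closure_le]
    intro g hg
    obtain ⟨k, hk⟩ := hidx
    exact mem_of_coprime_orderOf_of_index_pow _ k hk g hg
  have hgen : Cfsg.pResidual p G₀ ≤ Subgroup.closure
      {g : G₀ | g ∈ Cfsg.pResidual p G₀ ∧ (orderOf g).Coprime p} := by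
    conv_lhs => unfold Cfsg.pResidual
    apply Subgroup.closure_mono
    intro g hg
    exact ⟨Subgroup.subset_closure hg, hg⟩
  -- the isomorphism `P₀ ≃ P`
  have hfmem : ∀ x : (P₀ : Subgroup G₀), x.1.1 ∈ (P : Subgroup G) := fun x => (hP₀mem x.1).mp x.2
  obtain ⟨f, hf⟩ : ∃ f : (P₀ : Subgroup G₀) →* (P : Subgroup G), ∀ x, (f x).1 = x.1.1 :=
    ⟨MonoidHom.mk' (fun x => ⟨x.1.1, hfmem x⟩) (fun a b => rfl), fun x => rfl⟩
  have hfinj : Function.Injective f := by
    intro a b hab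
    apply Subtype.ext
    apply Subtype.ext
    rw [← hf a, ← hf b, hab]
  have hfsurj : Function.Surjective f := by
    intro s
    refine ⟨⟨⟨s.1, hPG₀ s.2⟩, (hP₀mem _).mpr s.2⟩, ?_⟩
    apply Subtype.ext
    rw [hf]
  have hfr : ∀ M : Subgroup (P₀ : Subgroup G₀),
      M ⊔ (Cfsg.pResidual p G₀).subgroupOf (P₀ : Subgroup G₀) = ⊤ → M = ⊤ := by
    intro M hM
    have h1 : M.map f ⊔ ((Cfsg.pResidual p G₀).subgroupOf (P₀ : Subgroup G₀)).map f = ⊤ := by
      rw [← Subgroup.map_sup, hM, Subgroup.map_top_of_surjective f hfsurj]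
    have h2 : ((Cfsg.pResidual p G₀).subgroupOf (P₀ : Subgroup G₀)).map f
        ≤ frattini (P : Subgroup G) := by
      rintro _ ⟨x, hx, rfl⟩
      have hxK : x.1 ∈ Cfsg.pResidual p G₀ := Subgroup.mem_subgroupOf.mp hx
      have hxN : x.1.1 ∈ N := Subgroup.mem_subgroupOf.mp (hK₀N₀ hxK)
      obtain ⟨φ, hφ, hφx⟩ := h ⟨hxN, hfmem x⟩
      have : φ = f x := Subtype.ext (by rw [hf]; exact hφx)
      rw [← this]; exact hφ
    have h3 : M.map f ⊔ frattini (P : Subgroup G) = ⊤ := by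
      rw [eq_top_iff, ← h1]
      exact sup_le_sup_left h2 _
    have h4 : M.map f = ⊤ := frattini_nongenerating h3
    rw [← Subgroup.map_top_of_surjective f hfsurj] at h4
    exact Subgroup.map_injective hfinj h4
  have hcore := tate_core P₀ (Cfsg.pResidual p G₀) hsup hgen hfr
  have hG₀npc : Cfsg.HasNormalPComplement p G₀ := by
    refine ⟨P₀, Cfsg.pResidual p G₀, hK₀n, ?_⟩
    apply Subgroup.isComplement'_of_disjoint_and_mul_eq_univ (disjoint_iff.mpr hcore)
    rw [← Subgroup.normal_mul, hsup]; rfl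
  have h5 := HasNormalPComplement.subgroup hG₀npc (N.subgroupOf G₀)
  exact HasNormalPComplement.of_mulEquiv_tate (Subgroup.subgroupOfEquivOfLe hNG₀) h5

end tate

end Cfsg.Agent.Lib.L0
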