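import Cfsg.Agent.S0850
import Cfsg.Agent.Lib.H23.FrobKernel
import Cfsg.Agent.Lib.H24.CharOrth
import Cfsg.Agent.Lib.H24.CharSchur
import Cfsg.Agent.Lib.H24.CharDefl

/-!
# T.I. subgroups with Frobenius normalizer (lead's library)

`K ≤ G` with `K ∩ K^g = 1` for `g ∉ N = N_G(K)`, `K < N`, and `C_G(k) ≤ K` for `1 ≠ k ∈ K`.
-/

set_option autoImplicit false

namespace Cfsg.Agent.Lib.L0

open Cfsg
open scoped ComplexConjugate

variable {G : Type*} [Group G]

/-- A T.I. subgroup whose normalizer is a Frobenius group with kernel `K`. -/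
structure FrobTI (K : Subgroup G) : Prop where
  hTI : ∀ g : G, g ∉ Subgroup.normalizer (K : Set G) → ∀ k ∈ K, g * k * g⁻¹ ∈ K → k = 1
  hC : ∀ k ∈ K, k ≠ 1 → Subgroup.centralizer ({k} : Set G) ≤ K

/-- A function on the normalizer is *relevant* when it is not constant `= χ 1` on `K`. -/
def FrobTI.Rel (K : Subgroup G) (χ : Subgroup.normalizer (K : Set G) → ℂ) : Prop :=
  ∃ k : Subgroup.normalizer (K : Set G), (k : G) ∈ K ∧ χ k ≠ χ 1

namespace FrobTI

variable {K : Subgroup G}

theorem not_rel_apply {χ : Subgroup.normalizer (K : Set G) → ℂ} (h : ¬ Rel K χ)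
    (k : Subgroup.normalizer (K : Set G)) (hk : (k : G) ∈ K) : χ k = χ 1 := by
  by_contra hne
  exact h ⟨k, hk, hne⟩

instance normal_subgroupOf : (K.subgroupOf (Subgroup.normalizer (K : Set G))).Normal :=
  Subgroup.normal_in_normalizer

theorem centralizer_le (h : FrobTI K) :
    ∀ n ∈ K.subgroupOf (Subgroup.normalizer (K : Set G)), n ≠ 1 →
      Subgroup.centralizer ({n} : Set (Subgroup.normalizer (K : Set G)))
        ≤ K.subgroupOf (Subgroup.normalizer (K : Set G)) := by
  intro n hn hn1 x hx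
  rw [Subgroup.mem_subgroupOf] at hn ⊢
  have hn1' : (n : G) ≠ 1 := fun h1 => hn1 (Subtype.ext h1)
  apply h.hC (n : G) hn hn1'
  rw [Subgroup.mem_centralizer_singleton_iff] at hx ⊢
  have := congrArg Subtype.val hx
  simpa using this

variable [Fintype G] [Fintype (Subgroup.normalizer (K : Set G))]

theorem exists_ind (h : FrobTI K) {χ : Subgroup.normalizer (K : Set G) → ℂ}
    (hχ : IsIrrCharacter (Subgroup.normalizer (K : Set G)) χ) (hrel : Rel K χ) :
    ∃ φ : K.subgroupOf (Subgroup.normalizer (K : Set G)) → ℂ,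
      IsIrrCharacter (K.subgroupOf (Subgroup.normalizer (K : Set G))) φ ∧
      χ = indFun (K.subgroupOf (Subgroup.normalizer (K : Set G))) φ := by
  obtain ⟨k, hk, hne⟩ := hrel
  exact Cfsg.Agent.Lib.H23.exists_eq_indFun_of_centralizer_le
    (K.subgroupOf (Subgroup.normalizer (K : Set G))) h.centralizer_le χ hχ
    ⟨k, Subgroup.mem_subgroupOf.mpr hk, hne⟩

theorem indFun_normal_apply_not_mem {H : Type*} [Group H] [Fintype H] (M : Subgroup H) [M.Normal]
    (φ : M → ℂ) {x : H} (hx : x ∉ M) : indFun M φ x = 0 := by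
  rw [indFun_apply]
  have : ∀ y : H, extendByZero M φ (y⁻¹ * x * y) = 0 := by
    intro y
    apply extendByZero_apply_not_mem
    intro hmem
    apply hx
    have := (inferInstance : M.Normal).conj_mem _ hmem y
    simpa [mul_assoc] using this
  simp [this]

theorem vanish (h : FrobTI K) {χ : Subgroup.normalizer (K : Set G) → ℂ}
    (hχ : IsIrrCharacter (Subgroup.normalizer (K : Set G)) χ) (hrel : Rel K χ)
    (x : Subgroup.normalizer (K : Set G)) (hx : (x : G) ∉ K) : χ x = 0 := by
  obtain ⟨φ, -, rfl⟩ := h.exists_ind hχ hrel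
  apply indFun_normal_apply_not_mem
  rw [Subgroup.mem_subgroupOf]
  exact hx

/-- A class function of `N` whose coefficients at the relevant characters are proportional to the
degrees is constant on `K ∖ {1}`. -/
theorem const_on (f : Subgroup.normalizer (K : Set G) → ℂ)
    (hf : IsClassFunction (Subgroup.normalizer (K : Set G)) f)
    (hprop : ∀ ζ ξ : IrrCharacter (Subgroup.normalizer (K : Set G)),
      Rel K (ζ : Subgroup.normalizer (K : Set G) → ℂ) → Rel K (ξ : Subgroup.normalizer (K : Set G) → ℂ) →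
      (ξ : Subgroup.normalizer (K : Set G) → ℂ) 1 * classInner f (ζ : Subgroup.normalizer (K : Set G) → ℂ)
        = (ζ : Subgroup.normalizer (K : Set G) → ℂ) 1 * classInner f (ξ : Subgroup.normalizer (K : Set G) → ℂ))
    (k k' : Subgroup.normalizer (K : Set G)) (hk : (k : G) ∈ K) (hk1 : k ≠ 1)
    (hk' : (k' : G) ∈ K) (hk'1 : k' ≠ 1) : f k = f k' := by
  classical
  have := Fintype.ofFinite (IrrCharacter (Subgroup.normalizer (K : Set G)))
  have hexp := Cfsg.Agent.Lib.H24.classFunction_expansion f hf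
  have hval : ∀ x : Subgroup.normalizer (K : Set G), f x
      = ∑ ζ : IrrCharacter (Subgroup.normalizer (K : Set G)),
        classInner f (ζ : Subgroup.normalizer (K : Set G) → ℂ)
          * (ζ : Subgroup.normalizer (K : Set G) → ℂ) x := by
    intro x
    have := congrFun hexp x
    simpa [Finset.sum_apply, Pi.smul_apply, smul_eq_mul] using this
  have hreg : ∀ x : Subgroup.normalizer (K : Set G), x ≠ 1 →
      ∑ ζ : IrrCharacter (Subgroup.normalizer (K : Set G)),
        (ζ : Subgroup.normalizer (K : Set G) → ℂ) 1 * (ζ : Subgroup.normalizer (K : Set G) → ℂ) x = 0 := by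
    intro x hx
    rw [Cfsg.Agent.Lib.H24.sum_irr_one_mul, if_neg hx]
  rw [← sub_eq_zero, hval k, hval k', ← Finset.sum_sub_distrib]
  by_cases hex : ∃ ζ₀ : IrrCharacter (Subgroup.normalizer (K : Set G)),
      Rel K (ζ₀ : Subgroup.normalizer (K : Set G) → ℂ)
  · obtain ⟨ζ₀, h0⟩ := hex
    obtain ⟨n₀, hn₀, hn₀'⟩ := Cfsg.Agent.Lib.H24.irr_one_eq ζ₀
    have hn₀c : (n₀ : ℂ) ≠ 0 := by exact_mod_cast hn₀.ne'
    set c : ℂ := classInner f (ζ₀ : Subgroup.normalizer (K : Set G) → ℂ) / n₀ with hc
    have hterm : ∀ ζ : IrrCharacter (Subgroup.normalizer (K : Set G)),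
        classInner f (ζ : Subgroup.normalizer (K : Set G) → ℂ)
            * (ζ : Subgroup.normalizer (K : Set G) → ℂ) k
          - classInner f (ζ : Subgroup.normalizer (K : Set G) → ℂ)
            * (ζ : Subgroup.normalizer (K : Set G) → ℂ) k'
          = c * ((ζ : Subgroup.normalizer (K : Set G) → ℂ) 1
              * (ζ : Subgroup.normalizer (K : Set G) → ℂ) k)
            - c * ((ζ : Subgroup.normalizer (K : Set G) → ℂ) 1
              * (ζ : Subgroup.normalizer (K : Set G) → ℂ) k') := by
      intro ζ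
      by_cases hζ : Rel K (ζ : Subgroup.normalizer (K : Set G) → ℂ)
      · have h1 := hprop ζ ζ₀ hζ h0
        rw [hn₀'] at h1
        have h2 : classInner f (ζ : Subgroup.normalizer (K : Set G) → ℂ)
            = c * (ζ : Subgroup.normalizer (K : Set G) → ℂ) 1 := by
          rw [hc]; field_simp; linear_combination h1
        rw [h2]; ring
      · rw [not_rel_apply hζ k hk, not_rel_apply hζ k' hk']; ring
    rw [Finset.sum_congr rfl (fun ζ _ => hterm ζ), Finset.sum_sub_distrib, ← Finset.mul_sum,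
      ← Finset.mul_sum, hreg k hk1, hreg k' hk'1]
    ring
  · push Not at hex
    apply Finset.sum_eq_zero
    intro ζ _
    rw [not_rel_apply (hex ζ) k hk, not_rel_apply (hex ζ) k' hk']; ring

/-- The relevant degrees: `∑ ζ(1)² = |N| - |N : K|`. -/
theorem sum_rel_sq [Fintype (IrrCharacter (Subgroup.normalizer (K : Set G)))]
    [DecidablePred (fun ζ : IrrCharacter (Subgroup.normalizer (K : Set G)) =>
      Rel K (ζ : Subgroup.normalizer (K : Set G) → ℂ))] :
    ∑ ζ ∈ Finset.univ.filter (fun ζ : IrrCharacter (Subgroup.normalizer (K : Set G)) =>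
      Rel K (ζ : Subgroup.normalizer (K : Set G) → ℂ)),
        (ζ : Subgroup.normalizer (K : Set G) → ℂ) 1 ^ 2
      = (Nat.card (Subgroup.normalizer (K : Set G)) : ℂ)
        - ((K.subgroupOf (Subgroup.normalizer (K : Set G))).index : ℂ) := by
  classical
  have hall := Cfsg.Agent.Lib.H24.sum_irr_one_sq (G := Subgroup.normalizer (K : Set G))
  have hker := Cfsg.Agent.Lib.H24.sum_sq_of_le_ker
    (K.subgroupOf (Subgroup.normalizer (K : Set G)))
  have hker' : ∑ ζ ∈ Finset.univ.filter (fun ζ : IrrCharacter (Subgroup.normalizer (K : Set G)) =>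
      ¬ Rel K (ζ : Subgroup.normalizer (K : Set G) → ℂ)),
        (ζ : Subgroup.normalizer (K : Set G) → ℂ) 1 ^ 2
      = ((K.subgroupOf (Subgroup.normalizer (K : Set G))).index : ℂ) := by
    rw [← hker]
    push_cast
    apply Finset.sum_congr
    · ext ζ
      simp only [Finset.mem_filter, Finset.mem_univ, true_and]
      constructor
      · intro hζ n hn
        exact not_rel_apply hζ n (Subgroup.mem_subgroupOf.mp hn)
      · rintro hζ ⟨k, hk, hne⟩
        exact hne (hζ k (Subgroup.mem_subgroupOf.mpr hk))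
    · intro ζ _
      rw [Cfsg.Agent.Lib.H23.apply_one_eq_charDegree _ ζ.2]
  rw [← hall, ← hker', ← Finset.sum_filter_add_sum_filter_not Finset.univ
    (fun ζ : IrrCharacter (Subgroup.normalizer (K : Set G)) =>
      Rel K (ζ : Subgroup.normalizer (K : Set G) → ℂ))]
  ring

end FrobTI

end Cfsg.Agent.Lib.L0
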