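import Cfsg.Agent.Lib.L0.CharInd
open Module
open scoped ComplexConjugate

namespace Cfsg.Agent.Lib.L0

section PermChar
variable {G : Type*} [Group G] [Fintype G]

omit [Fintype G] in
/-- Fibres of the orbit map of a transitive action all have the size of the stabilizer. -/
theorem card_fiber_orbitMap (X : Type*) [MulAction G X] [MulAction.IsPretransitive G X] (x z : X) :
    Nat.card {y : G // y • x = z} = Nat.card (MulAction.stabilizer G x) := by
  obtain ⟨y₀, hy₀⟩ := MulAction.exists_smul_eq G x z
  refine Nat.card_congr ?_
  refine ⟨fun y => ⟨y₀⁻¹ * y.1, ?_⟩, fun h => ⟨y₀ * h.1, ?_⟩, ?_, ?_⟩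
  · rw [MulAction.mem_stabilizer_iff, mul_smul, y.2, ← hy₀, inv_smul_smul]
  · rw [mul_smul, MulAction.mem_stabilizer_iff.mp h.2, hy₀]
  · intro y; simp
  · intro h; simp

/-- The permutation character of a transitive action is induced from the trivial character of a
point stabilizer. -/
theorem fixedPoints_eq_indFun (X : Type*) [MulAction G X] [Finite X] [MulAction.IsPretransitive G X]
    (x : X) :
    (fun g : G => (Nat.card (MulAction.fixedBy X g) : ℂ)) =
      Cfsg.indFun (MulAction.stabilizer G x) (fun _ => 1) := by
  classical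
  have := Fintype.ofFinite X
  funext g
  rw [indFun_apply]
  have h1 : ∀ y : G, Cfsg.extendByZero (MulAction.stabilizer G x) (fun _ => (1 : ℂ)) (y⁻¹ * g * y)
      = if y • x ∈ MulAction.fixedBy X g then 1 else 0 := by
    intro y
    have hiff : y⁻¹ * g * y ∈ MulAction.stabilizer G x ↔ y • x ∈ MulAction.fixedBy X g := by
      rw [MulAction.mem_stabilizer_iff, MulAction.mem_fixedBy, mul_smul, mul_smul, inv_smul_eq_iff]
    split_ifs with h
    · rw [extendByZero_apply_of_mem _ _ (hiff.mpr h)]
    · rw [extendByZero_apply_not_mem _ _ (fun h' => h (hiff.mp h'))]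
  rw [Finset.sum_congr rfl fun y _ => h1 y, Finset.sum_boole]
  -- count by fibres
  have h2 : (Finset.univ.filter fun y : G => y • x ∈ MulAction.fixedBy X g).card
      = ∑ z ∈ (Finset.univ.filter fun z : X => z ∈ MulAction.fixedBy X g),
          ((Finset.univ.filter fun y : G => y • x ∈ MulAction.fixedBy X g).filter
            fun y => y • x = z).card :=
    Finset.card_eq_sum_card_fiberwise (f := fun y : G => y • x) (fun y hy => by simpa using hy)
  have h3 : ∀ z ∈ (Finset.univ.filter fun z : X => z ∈ MulAction.fixedBy X g),
      ((Finset.univ.filter fun y : G => y • x ∈ MulAction.fixedBy X g).filter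
            fun y => y • x = z).card = Nat.card (MulAction.stabilizer G x) := by
    intro z hz
    rw [← card_fiber_orbitMap X x z, Nat.card_eq_fintype_card, Fintype.card_subtype]
    congr 1
    ext y
    simp only [Finset.mem_filter, Finset.mem_univ, true_and, and_iff_right_iff_imp]
    intro hy
    rw [hy]
    simpa using hz
  rw [h2, Finset.sum_congr rfl h3, Finset.sum_const, smul_eq_mul]
  have hS : (Nat.card (MulAction.stabilizer G x) : ℂ) ≠ 0 := by
    exact_mod_cast (Nat.card_pos (α := MulAction.stabilizer G x)).ne'
  have h4 : Nat.card (MulAction.fixedBy X g)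
      = (Finset.univ.filter fun z : X => z ∈ MulAction.fixedBy X g).card := by
    rw [Nat.card_eq_fintype_card, ← Fintype.card_subtype]
  rw [h4]
  push_cast
  field_simp

end PermChar

end Cfsg.Agent.Lib.L0
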