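import Cfsg.Agent.Lib.L0.TransferBasic
import Cfsg.Agent.Lib.H19.PComplement
import Cfsg.Agent.Lib.H1.SchurZassenhaus
import Cfsg.Agent.Lib.H1.Complement

/-!
# Complements of `O^p(G)` (lead's library)

* `eq_one_of_mem_sylow_of_central_in_normalizer` : abelian Sylow `Q`: `Q ∩ Z(N(Q)) ∩ G' = 1`.
* `pResidual_pResidual_eq_top` : `O^p(O^p(G)) = O^p(G)`.
* `exists_complement_pResidual_of_abelian_sylow` : if the Sylow `p`-subgroups of `O^p(G)` are abelian
  then `O^p(G)` has a complement in `G`.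
-/

set_option autoImplicit false

namespace Cfsg.Agent.Lib.L0

open scoped commutatorElement Pointwise
open Cfsg.Agent.Lib.H1 Cfsg.Agent.Lib.H19

universe u

section lemmas
variable {X : Type*} [Group X]

open scoped IsMulCommutative in
/-- For an abelian Sylow subgroup `Q`, an element of `Q ∩ Z(N(Q)) ∩ X'` is trivial. -/
theorem eq_one_of_mem_sylow_of_central_in_normalizer [Finite X] {p : ℕ} [Fact p.Prime]
    (Q : Sylow p X) (hQ : ∀ a ∈ Q, ∀ b ∈ Q, a * b = b * a) (c : X) (hc : c ∈ (Q : Subgroup X))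
    (hcz : ∀ n ∈ Subgroup.normalizer ((Q : Subgroup X) : Set X), n * c = c * n)
    (hcc : c ∈ commutator X) : c = 1 := by
  haveI : IsMulCommutative (Q : Subgroup X) :=
    ⟨⟨fun a b => Subtype.ext (hQ a.1 a.2 b.1 b.2)⟩⟩
  have key : ∀ (k : ℕ) (g₀ : X), g₀⁻¹ * c ^ k * g₀ ∈ (Q : Subgroup X) →
      g₀⁻¹ * c ^ k * g₀ = c ^ k := by
    intro k g₀ hmem
    obtain ⟨n, hn, hnx⟩ := burnside_fusion_elt Q hQ (c ^ k) (g₀⁻¹ * c ^ k * g₀)
      (Subgroup.pow_mem _ hc k) hmem g₀⁻¹ (by rw [inv_inv])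
    rw [← hnx]
    have h1 : n * c ^ k = c ^ k * n := (Commute.pow_right (show Commute n c from hcz n hn) k).eq
    rw [h1, mul_assoc, mul_inv_cancel, mul_one]
  have h1 := MonoidHom.transfer_eq_pow (MonoidHom.id (Q : Subgroup X)) c key
  have h2 : MonoidHom.transfer (MonoidHom.id (Q : Subgroup X)) c = 1 :=
    (Abelianization.commutator_subset_ker (MonoidHom.transfer (MonoidHom.id (Q : Subgroup X)))) hcc
  rw [h2] at h1
  have h3 : c ^ (Q : Subgroup X).index = 1 := (congrArg Subtype.val h1).symm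
  obtain ⟨j, hj⟩ := (IsPGroup.iff_orderOf.mp Q.2) ⟨c, hc⟩
  rw [Subgroup.orderOf_mk] at hj
  have h4 : orderOf c ∣ (Q : Subgroup X).index := orderOf_dvd_of_pow_eq_one h3
  have h5 : ¬ p ∣ (Q : Subgroup X).index := Q.not_dvd_index
  rcases Nat.eq_zero_or_pos j with rfl | hjpos
  · rw [pow_zero] at hj; exact orderOf_eq_one_iff.mp hj
  · exfalso; apply h5; rw [hj] at h4; exact (dvd_pow_self p hjpos.ne').trans h4

/-- `O^p(O^p(G)) = O^p(G)`. -/
theorem pResidual_pResidual_eq_top (p : ℕ) : Cfsg.pResidual p ↥(Cfsg.pResidual p X) = ⊤ := by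
  rw [eq_top_iff]
  intro x _
  have h := Subgroup.closure_closure_coe_preimage (k := {g : X | Nat.Coprime (orderOf g) p})
  have hx : x ∈ Subgroup.closure
      ((fun y : ↥(Cfsg.pResidual p X) => (y : X)) ⁻¹' {g : X | Nat.Coprime (orderOf g) p}) := by
    have : x ∈ (⊤ : Subgroup ↥(Subgroup.closure {g : X | Nat.Coprime (orderOf g) p})) :=
      Subgroup.mem_top _
    rw [← h] at this
    exact this
  refine Subgroup.closure_mono ?_ hx
  intro y hy
  show Nat.Coprime (orderOf y) p
  rw [← Subgroup.orderOf_coe]; exact hy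

end lemmas

section main

/-- If the Sylow `p`-subgroups of `O^p(G)` are abelian then `O^p(G)` has a complement. -/
theorem exists_complement_pResidual_of_abelian_sylow {G : Type u} [Group G] [Finite G] {p : ℕ}
    [hp : Fact p.Prime] (h : ∀ Q : Sylow p (Cfsg.pResidual p G), IsMulCommutative Q) :
    ∃ K : Subgroup G, K.IsComplement' (Cfsg.pResidual p G) := by
  classical
  haveI hK₀n : (Cfsg.pResidual p G).Normal := Cfsg.Agent.Lib.H14.pResidual_normal'
  obtain ⟨K₀, hK₀def⟩ : ∃ K₀ : Subgroup G, K₀ = Cfsg.pResidual p G := ⟨_, rfl⟩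
  obtain ⟨Q⟩ : Nonempty (Sylow p (Cfsg.pResidual p G)) := inferInstance
  have hQc : ∀ a ∈ Q, ∀ b ∈ Q, a * b = b * a := by
    intro a ha b hb
    have := (h Q).is_comm.comm ⟨a, ha⟩ ⟨b, hb⟩
    exact congrArg Subtype.val this
  obtain ⟨D, hDdef⟩ : ∃ D : Subgroup G,
      D = (Q : Subgroup (Cfsg.pResidual p G)).map (Cfsg.pResidual p G).subtype := ⟨_, rfl⟩
  have hDK : D ≤ Cfsg.pResidual p G := hDdef ▸ Subgroup.map_subtype_le _
  have hDp : IsPGroup p D := hDdef ▸ Q.2.map _
  have hDmem : ∀ (x : G) (hx : x ∈ Cfsg.pResidual p G),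
      x ∈ D ↔ (⟨x, hx⟩ : Cfsg.pResidual p G) ∈ (Q : Subgroup (Cfsg.pResidual p G)) := by
    intro x hx
    rw [hDdef]
    constructor
    · rintro ⟨q, hq, hqx⟩
      have : q = ⟨x, hx⟩ := Subtype.ext hqx
      rw [← this]; exact hq
    · intro hq; exact ⟨⟨x, hx⟩, hq, rfl⟩
  have hDcomm : ∀ a ∈ D, ∀ b ∈ D, a * b = b * a := by
    intro a ha b hb
    have ha' := (hDmem a (hDK ha)).mp ha
    have hb' := (hDmem b (hDK hb)).mp hb
    exact congrArg Subtype.val (hQc _ ha' _ hb')
  obtain ⟨P, hDP⟩ := hDp.exists_le_sylow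
  -- `P ∩ K₀ = D`
  have hPK : ∀ x : G, x ∈ (P : Subgroup G) → x ∈ Cfsg.pResidual p G → x ∈ D := by
    intro x hxP hxK
    have hpg : IsPGroup p (((P : Subgroup G) ⊓ Cfsg.pResidual p G).subgroupOf
        (Cfsg.pResidual p G)) :=
      (P.2.to_le inf_le_left).comap_subtype
    have hle : (Q : Subgroup (Cfsg.pResidual p G)) ≤
        ((P : Subgroup G) ⊓ Cfsg.pResidual p G).subgroupOf (Cfsg.pResidual p G) := by
      intro q hq
      rw [Subgroup.mem_subgroupOf]
      have : (q : G) ∈ D := (hDmem q.1 q.2).mpr hq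
      exact ⟨hDP this, q.2⟩
    have heq := Q.is_maximal' hpg hle
    have : (⟨x, hxK⟩ : Cfsg.pResidual p G) ∈
        ((P : Subgroup G) ⊓ Cfsg.pResidual p G).subgroupOf (Cfsg.pResidual p G) := by
      rw [Subgroup.mem_subgroupOf]; exact ⟨hxP, hxK⟩
    rw [heq] at this
    exact (hDmem x hxK).mpr this
  -- `P` normalizes `D`
  have hPND : (P : Subgroup G) ≤ Subgroup.normalizer (D : Set G) := by
    intro x hx
    rw [Subgroup.mem_normalizer_iff]
    intro y
    constructor
    · intro hy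
      exact hPK _ (Subgroup.mul_mem _ (Subgroup.mul_mem _ hx (hDP hy)) (Subgroup.inv_mem _ hx))
        (hK₀n.conj_mem y (hDK hy) x)
    · intro hy
      have e : y = x⁻¹ * (x * y * x⁻¹) * x⁻¹⁻¹ := by group
      rw [e]
      exact hPK _ (Subgroup.mul_mem _ (Subgroup.mul_mem _ (Subgroup.inv_mem _ hx) (hDP hy))
        (Subgroup.inv_mem _ (Subgroup.inv_mem _ hx))) (hK₀n.conj_mem _ (hDK hy) x⁻¹)
  -- Claim C
  have hC : ∀ c ∈ D, (∀ n ∈ Subgroup.normalizer (D : Set G) ⊓ Cfsg.pResidual p G, n * c = c * n) →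
      c = 1 := by
    intro c hc hcn
    have hcQ := (hDmem c (hDK hc)).mp hc
    have h1 := eq_one_of_mem_sylow_of_central_in_normalizer Q hQc ⟨c, hDK hc⟩ hcQ ?_ ?_
    · exact congrArg Subtype.val h1
    · intro n hn
      apply Subtype.ext
      apply hcn n.1
      have hnN : (n : G) ∈ Subgroup.normalizer (D : Set G) := by
        rw [Subgroup.mem_normalizer_iff] at hn ⊢
        intro y
        constructor
        · intro hy
          have := (hn ⟨y, hDK hy⟩).mp ((hDmem y (hDK hy)).mp hy)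
          exact (hDmem _ _).mpr this
        · intro hy
          have hyK : y ∈ Cfsg.pResidual p G := by
            have e : y = (n : G)⁻¹ * ((n : G) * y * (n : G)⁻¹) * (n : G) := by group
            rw [e]
            exact Subgroup.mul_mem _ (Subgroup.mul_mem _ (Subgroup.inv_mem _ n.2) (hDK hy)) n.2
          have := (hn ⟨y, hyK⟩).mpr ((hDmem _ (hDK hy)).mp hy)
          exact (hDmem y hyK).mpr this
      exact ⟨hnN, n.2⟩
    · have h2 := sylow_inf_pResidual_of_comm Q hQc
      rw [pResidual_pResidual_eq_top, inf_top_eq] at h2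
      have : (⟨c, hDK hc⟩ : Cfsg.pResidual p G) ∈ (Q : Subgroup (Cfsg.pResidual p G)) := hcQ
      rw [h2] at this
      exact this.1
  -- the complement `L` of `D` in `N_{K₀}(D)`
  obtain ⟨NK, hNKdef⟩ : ∃ NK : Subgroup G,
      NK = Subgroup.normalizer (D : Set G) ⊓ Cfsg.pResidual p G := ⟨_, rfl⟩
  have hDNK : D ≤ NK := hNKdef ▸ le_inf Subgroup.le_normalizer hDK
  have hNKN : NK ≤ Subgroup.normalizer (D : Set G) := hNKdef ▸ inf_le_left
  have hNKK : NK ≤ Cfsg.pResidual p G := hNKdef ▸ inf_le_right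
  have hcopK : (Nat.card D).Coprime (D.relIndex (Cfsg.pResidual p G)) := by
    have e : D.subgroupOf (Cfsg.pResidual p G) = (Q : Subgroup (Cfsg.pResidual p G)) := by
      ext q
      rw [Subgroup.mem_subgroupOf]
      exact hDmem q.1 q.2
    have h1 : D.relIndex (Cfsg.pResidual p G) = (Q : Subgroup (Cfsg.pResidual p G)).index := by
      show (D.subgroupOf (Cfsg.pResidual p G)).index = _
      rw [e]
    rw [h1]
    obtain ⟨a, ha⟩ := hDp.exists_card_eq
    rw [ha]
    exact Nat.Coprime.pow_left a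
      ((Nat.Prime.coprime_iff_not_dvd hp.out).mpr Q.not_dvd_index)
  have hcop : (Nat.card D).Coprime (D.relIndex NK) := by
    have hdvd : D.relIndex NK ∣ D.relIndex (Cfsg.pResidual p G) :=
      Dvd.intro _ (Subgroup.relIndex_mul_relIndex D NK (Cfsg.pResidual p G) hDNK hNKK)
    exact Nat.Coprime.coprime_dvd_right hdvd hcopK
  obtain ⟨L, hLNK, hdL, hsupL, hcardL⟩ := exists_complement_internal hDNK hNKN hcop
  have hcopL : (Nat.card D).Coprime (Nat.card L) := hcardL ▸ hcop
  have hLND : L ≤ Subgroup.normalizer (D : Set G) := hLNK.trans hNKN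
  have hDsolv : Group.IsSolvable D :=
    isSolvable_of_comm (fun a b => Subtype.ext (hDcomm a a.2 b b.2))
  -- Frattini argument
  have hfr : ∀ x ∈ (P : Subgroup G), ∃ d ∈ D, d⁻¹ * x ∈ Subgroup.normalizer (L : Set G) := by
    intro x hx
    have hxN : x ∈ Subgroup.normalizer (D : Set G) := hPND hx
    have hxD : MulAut.conj x • D = D := conj_smul_eq_iff_mem_normalizer.mpr hxN
    have hxNK : MulAut.conj x • NK = NK := by
      ext y
      rw [mem_conj_smul_iff, hNKdef, Subgroup.mem_inf, Subgroup.mem_inf]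
      constructor
      · rintro ⟨h1, h2⟩
        have e : y = x * (x⁻¹ * y * x) * x⁻¹ := by group
        constructor
        · rw [e]
          exact Subgroup.mul_mem _ (Subgroup.mul_mem _ hxN h1) (Subgroup.inv_mem _ hxN)
        · rw [e]
          exact hK₀n.conj_mem _ h2 x
      · rintro ⟨h1, h2⟩
        constructor
        · exact Subgroup.mul_mem _ (Subgroup.mul_mem _ (Subgroup.inv_mem _ hxN) h1) hxN
        · have := hK₀n.conj_mem _ h2 x⁻¹
          rwa [inv_inv] at this
    have hKN : MulAut.conj x • L ≤ Subgroup.normalizer (D : Set G) := by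
      intro y hy
      rw [mem_conj_smul_iff] at hy
      have e : y = x * (x⁻¹ * y * x) * x⁻¹ := by group
      rw [e]
      exact Subgroup.mul_mem _ (Subgroup.mul_mem _ hxN (hLND hy)) (Subgroup.inv_mem _ hxN)
    have hdx : Disjoint D (MulAut.conj x • L) := by
      rw [Subgroup.disjoint_def]
      intro y hyD hyL
      rw [mem_conj_smul_iff] at hyL
      have h1 : x⁻¹ * y * x ∈ D := by
        have := (Subgroup.mem_normalizer_iff.mp (Subgroup.inv_mem _ hxN) y).mp hyD
        rwa [inv_inv] at this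
      have h2 := (Subgroup.disjoint_def.1 hdL) h1 hyL
      calc y = x * (x⁻¹ * y * x) * x⁻¹ := by group
        _ = 1 := by rw [h2]; group
    have hsupx : D ⊔ L = D ⊔ MulAut.conj x • L := by
      have h1 : MulAut.conj x • (D ⊔ L) = MulAut.conj x • D ⊔ MulAut.conj x • L :=
        Subgroup.smul_sup _ _ _
      rw [hsupL, hxNK, hxD] at h1
      rw [hsupL, h1]
    obtain ⟨d, hd, hconj⟩ := sz_conj_internal hLND hKN hcopL hdL hdx hsupx (Or.inl hDsolv)
    refine ⟨d, hd, ?_⟩
    rw [← conj_smul_eq_iff_mem_normalizer, ← conj_smul_conj_smul, ← hconj, conj_smul_conj_smul,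
      inv_mul_cancel, map_one, one_smul]
  -- the complement
  refine ⟨(P : Subgroup G) ⊓ Subgroup.normalizer (L : Set G), ?_⟩
  apply Subgroup.IsComplement'.symm
  apply isComplement'_of_disjoint_of_forall_mul
  · rw [Subgroup.disjoint_def]
    rintro y hyK ⟨hyP, hyL⟩
    have hyD : y ∈ D := hPK y hyP hyK
    apply hC y hyD
    intro n hn
    have hn' : n ∈ D ⊔ L := by rw [hsupL, hNKdef]; exact hn
    have hle : D ⊔ L ≤ Subgroup.centralizer ({y} : Set G) := by
      apply sup_le
      · intro b hb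
        rw [Subgroup.mem_centralizer_iff]
        intro z hz
        rw [Set.mem_singleton_iff] at hz
        subst hz
        exact hDcomm z hyD b hb
      · intro l hl
        rw [Subgroup.mem_centralizer_iff]
        intro z hz
        rw [Set.mem_singleton_iff] at hz
        subst hz
        have h1 : z * l * z⁻¹ * l⁻¹ ∈ L :=
          Subgroup.mul_mem _ ((Subgroup.mem_normalizer_iff.mp hyL l).mp hl) (Subgroup.inv_mem _ hl)
        have h2 : z * l * z⁻¹ * l⁻¹ ∈ D := by
          have e : z * l * z⁻¹ * l⁻¹ = z * (l * z⁻¹ * l⁻¹) := by group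
          rw [e]
          exact Subgroup.mul_mem _ hyD
            ((Subgroup.mem_normalizer_iff.mp (hLND hl) z⁻¹).mp (Subgroup.inv_mem _ hyD))
        have h3 := (Subgroup.disjoint_def.1 hdL) h2 h1
        calc z * l = (z * l * z⁻¹ * l⁻¹) * (l * z) := by group
          _ = l * z := by rw [h3, one_mul]
    have := hle hn'
    rw [Subgroup.mem_centralizer_iff] at this
    exact (this y rfl).symm
  · intro g
    have htop := Cfsg.Agent.Lib.H14.pResidual_sup_sylow (H := G) P
    have hg : g ∈ Cfsg.pResidual p G ⊔ (P : Subgroup G) := htop ▸ Subgroup.mem_top g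
    obtain ⟨k, hk, x, hx, rfl⟩ := Subgroup.mem_sup_of_normal_left.mp hg
    obtain ⟨d, hd, hdx⟩ := hfr x hx
    refine ⟨k * d, Subgroup.mul_mem _ hk (hDK hd), d⁻¹ * x,
      ⟨Subgroup.mul_mem _ (Subgroup.inv_mem _ (hDP hd)) hx, hdx⟩, by group⟩

end main

end Cfsg.Agent.Lib.L0
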