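import Mathlib
import Cfsg.Agent.Lib.H24.RealOddIndex
import Cfsg.Agent.Lib.H8.GaloisConj

/-!
# Galois-fixed characters over a normal subgroup of odd index (lead's library)

Let `k` be prime to `|G|` with `g ^ k = g⁻¹` on elements of odd order (`GalDatum`).  A function `χ`
is *fixed* if `χ (g ^ k) = χ g`.  For `N ⊴ G` of odd index:

* `GalDatum.pow_succ_mem`: `g ^ (k + 1) ∈ N`;
* `parity_restrict_of_odd_index_gal`: for a fixed character `Θ`, `[Θ, 1_G] ≡ [Θ_N, 1_N] (mod 2)`;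
* `parity_restrict_pair_gal`, `gal_over_unique`: at most one fixed irreducible character lies over a
  given irreducible character of `N`.
-/

set_option autoImplicit false

namespace Cfsg.Agent.Lib.L0.GalOdd

open scoped ComplexConjugate
open Cfsg Cfsg.Agent.Lib.L0 Cfsg.Agent.Lib.H24

/-- The data of the Galois automorphism `g ↦ g ^ k`. -/
structure GalDatum (G : Type*) [Group G] (k e : ℕ) : Prop where
  cop : Nat.Coprime k (Nat.card G)
  pow : k ^ (2 ^ e) ≡ 1 [MOD Nat.card G]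
  inv : ∀ g : G, Odd (orderOf g) → g ^ k = g⁻¹

section Datum

variable {G : Type*} [Group G] [Finite G] {k e : ℕ}

theorem GalDatum.subgroup (h : GalDatum G k e) (H : Subgroup G) : GalDatum H k e where
  cop := Nat.Coprime.coprime_dvd_right (Subgroup.card_subgroup_dvd_card H) h.cop
  pow := Nat.ModEq.of_dvd (Subgroup.card_subgroup_dvd_card H) h.pow
  inv := by
    intro g hg
    apply Subtype.ext
    rw [Subgroup.coe_pow, Subgroup.coe_inv]
    apply h.inv
    rwa [Subgroup.orderOf_coe]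

theorem GalDatum.pow_pow_eq (h : GalDatum G k e) (g : G) : g ^ (k ^ (2 ^ e)) = g := by
  have h1 : g ^ (k ^ (2 ^ e)) = g ^ 1 := by
    rw [← pow_mod_natCard g (k ^ (2 ^ e)), ← pow_mod_natCard g 1]
    congr 1
    exact h.pow
  rw [h1, pow_one]

/-- For a normal subgroup of odd index, `g ^ (k + 1) ∈ N`. -/
theorem GalDatum.pow_succ_mem (h : GalDatum G k e) (N : Subgroup G) [N.Normal]
    (hodd : Odd N.index) (g : G) : g ^ (k + 1) ∈ N := by
  have hn0 : orderOf g ≠ 0 := (orderOf_pos g).ne'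
  obtain ⟨s, m, hm, hsm⟩ := Nat.exists_eq_two_pow_mul_odd hn0
  have hdvd : 2 ^ s ∣ orderOf g := ⟨m, hsm⟩
  have h1 : orderOf (g ^ (2 ^ s)) = m := by
    rw [orderOf_pow_of_dvd (pow_ne_zero s two_ne_zero) hdvd, hsm,
      Nat.mul_div_cancel_left _ (pow_pos two_pos s)]
  have h2 : (g ^ (2 ^ s)) ^ k = (g ^ (2 ^ s))⁻¹ := h.inv _ (by rw [h1]; exact hm)
  have h3 : g ^ (2 ^ s * (k + 1)) = 1 := by
    rw [pow_mul, pow_succ, h2, inv_mul_cancel]
  have h4 : ((g : G ⧸ N)) ^ (2 ^ s * (k + 1)) = 1 := by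
    rw [← QuotientGroup.mk_pow, h3]
    rfl
  have h5 : orderOf (g : G ⧸ N) ∣ 2 ^ s * (k + 1) := orderOf_dvd_of_pow_eq_one h4
  have h6 : orderOf (g : G ⧸ N) ∣ N.index := by
    rw [Subgroup.index_eq_card]; exact orderOf_dvd_natCard _
  have h7 : Nat.Coprime (orderOf (g : G ⧸ N)) (2 ^ s) := by
    apply Nat.Coprime.pow_right
    apply Nat.Coprime.coprime_dvd_left h6
    exact (Nat.coprime_two_right).mpr hodd
  have h8 : orderOf (g : G ⧸ N) ∣ k + 1 := h7.dvd_of_dvd_mul_left h5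
  have h9 : ((g : G ⧸ N)) ^ (k + 1) = 1 := orderOf_dvd_iff_pow_eq_one.mp h8
  rw [← QuotientGroup.eq_one_iff, QuotientGroup.mk_pow]
  exact h9

theorem GalDatum.mk_pow_eq_inv (h : GalDatum G k e) (N : Subgroup G) [N.Normal]
    (hodd : Odd N.index) (g : G) : ((g ^ k : G) : G ⧸ N) = ((g : G) : G ⧸ N)⁻¹ := by
  have h1 := h.pow_succ_mem N hodd g
  rw [← QuotientGroup.eq_one_iff, QuotientGroup.mk_pow, pow_succ] at h1
  rw [QuotientGroup.mk_pow]
  exact eq_inv_of_mul_eq_one_left h1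

end Datum

section Parity

variable {G : Type*} [Group G] [Fintype G] (N : Subgroup G) [hN : N.Normal] [Fintype N]
  {k e : ℕ}

/-- Parity of the multiplicity of the trivial character under restriction to a normal subgroup of
odd index, for characters fixed by `g ↦ g ^ k`. -/
theorem parity_restrict_of_odd_index_gal (hD : GalDatum G k e) (hodd : Odd N.index) {Θ : G → ℂ}
    (hΘ : IsCharacter G Θ)
    (hfix : ∀ g, Θ (g ^ k) = Θ g) (a d : ℕ) (ha : classInner Θ (fun _ => (1 : ℂ)) = a)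
    (hd : classInner (fun n : N => Θ n) (fun _ => (1 : ℂ)) = d) : a % 2 = d % 2 := by
  classical
  have := Fintype.ofFinite (G ⧸ N)
  have := Fintype.ofFinite (IrrCharacter (G ⧸ N))
  have hoddQ : Odd (Nat.card (G ⧸ N)) := by rwa [← Subgroup.index_eq_card]
  -- multiplicities
  have hirr : ∀ μ : IrrCharacter (G ⧸ N),
      IsIrrCharacter G ((μ : G ⧸ N → ℂ) ∘ (QuotientGroup.mk' N)) := fun μ =>
    isIrrCharacter_comp_of_surjective (QuotientGroup.mk' N) (QuotientGroup.mk'_surjective N) μ.2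
  choose c hc using fun μ : IrrCharacter (G ⧸ N) => classInner_irr_char_nat hΘ (hirr μ)
  choose deg hdeg0 hdeg using fun μ : IrrCharacter (G ⧸ N) => irr_one_eq μ
  -- d = Σ deg μ * c μ
  have hdsum : (d : ℂ) = ∑ μ : IrrCharacter (G ⧸ N), ((deg μ * c μ : ℕ) : ℂ) := by
    have h1 : classInner (indFun N (fun _ => (1 : ℂ))) Θ = (d : ℂ) := by
      rw [frobenius_reciprocity N _ Θ (isClassFunction_of_isCharacter hΘ), ← classInner_conj_symm,
        hd, Complex.conj_natCast]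
    rw [← h1, indFun_one_eq_sum, classInner_sum_left]
    refine Finset.sum_congr rfl (fun μ _ => ?_)
    rw [classInner_smul_left, hc μ, hdeg μ]
    push_cast; ring
  have hdsum' : d = ∑ μ : IrrCharacter (G ⧸ N), deg μ * c μ := by
    have : (d : ℂ) = ((∑ μ : IrrCharacter (G ⧸ N), deg μ * c μ : ℕ) : ℂ) := by
      rw [hdsum]; push_cast; rfl
    exact_mod_cast this
  -- symmetry under conjugation
  have hcconj : ∀ μ : IrrCharacter (G ⧸ N), c (irrConj μ) = c μ := by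
    intro μ
    have h1 : ((irrConj μ : IrrCharacter (G ⧸ N)) : G ⧸ N → ℂ) ∘ (QuotientGroup.mk' N) =
        fun g => ((μ : G ⧸ N → ℂ) ∘ (QuotientGroup.mk' N)) (g ^ k) := by
      funext g
      simp only [Function.comp_apply, irrConj_apply, QuotientGroup.mk'_apply]
      rw [hD.mk_pow_eq_inv N hodd g, isCharacter_apply_inv (isCharacter_of_irr μ.2)]
    have h2 := hc (irrConj μ)
    rw [h1] at h2
    have h3 : Θ = fun g => Θ (g ^ k) := by funext g; rw [hfix]
    rw [h3, Cfsg.Agent.Lib.H8.classInner_comp_pow _ _ k hD.cop, hc μ] at h2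
    exact_mod_cast h2.symm
  have hdegconj : ∀ μ : IrrCharacter (G ⧸ N), deg (irrConj μ) = deg μ := by
    intro μ
    have h1 := hdeg (irrConj μ)
    rw [irrConj_apply, hdeg μ, Complex.conj_natCast] at h1
    exact_mod_cast h1.symm
  -- the trivial term
  have htriv : deg (trivialIrr (G ⧸ N)) * c (trivialIrr (G ⧸ N)) = a := by
    have h1 : deg (trivialIrr (G ⧸ N)) = 1 := by
      have := hdeg (trivialIrr (G ⧸ N))
      rw [trivialIrr_apply] at this
      exact_mod_cast this.symm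
    have h2 : c (trivialIrr (G ⧸ N)) = a := by
      have h3 := hc (trivialIrr (G ⧸ N))
      have h4 : ((trivialIrr (G ⧸ N) : IrrCharacter (G ⧸ N)) : G ⧸ N → ℂ) ∘
          (QuotientGroup.mk' N) = fun _ => (1 : ℂ) := by
        funext g; simp
      rw [h4, ← classInner_conj_symm, ha, Complex.conj_natCast] at h3
      exact_mod_cast h3.symm
    rw [h1, h2, one_mul]
  -- parity
  have hz : ((d : ℕ) : ZMod 2) = (a : ZMod 2) := by
    rw [hdsum', ← Finset.add_sum_erase Finset.univ _ (Finset.mem_univ (trivialIrr (G ⧸ N))), htriv]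
    push_cast
    have : ∑ μ ∈ Finset.univ.erase (trivialIrr (G ⧸ N)), ((deg μ : ZMod 2) * (c μ : ZMod 2)) = 0 := by
      refine Finset.sum_involution (fun μ _ => irrConj μ) ?_ ?_ ?_ ?_
      · intro μ _
        rw [hdegconj, hcconj]
        have : (2 : ZMod 2) = 0 := rfl
        linear_combination ((deg μ : ZMod 2) * (c μ : ZMod 2)) * this
      · intro μ hμ _ heq
        have hreal' : ∀ g : G ⧸ N, ((μ : G ⧸ N → ℂ) g).im = 0 := by
          intro g
          have := congrArg (fun ψ : IrrCharacter (G ⧸ N) => (ψ : G ⧸ N → ℂ) g) heq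
          simp only [irrConj_apply] at this
          exact Complex.conj_eq_iff_im.mp this
        exact (Finset.mem_erase.mp hμ).1 (real_irr_eq_trivial_of_odd hoddQ μ hreal')
      · intro μ hμ
        rw [Finset.mem_erase]
        refine ⟨?_, Finset.mem_univ _⟩
        intro h
        apply (Finset.mem_erase.mp hμ).1
        have := congrArg irrConj h
        rw [irrConj_irrConj] at this
        rw [this]
        apply Subtype.ext
        funext g
        simp
      · intro μ _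
        exact irrConj_irrConj μ
    rw [this, add_zero]
  have := (ZMod.natCast_eq_natCast_iff' d a 2).mp hz
  exact this.symm

/-- For fixed irreducible `χ₁, χ₂`, the parity of `[(χ₁)_N, (χ₂)_N]` is that of
`[χ₁, χ₂]`, when `|G : N|` is odd. -/
theorem parity_restrict_pair_gal (hD : GalDatum G k e) (hodd : Odd N.index)
    (χ₁ χ₂ : IrrCharacter G)
    (h₁ : ∀ g, (χ₁ : G → ℂ) (g ^ k) = (χ₁ : G → ℂ) g)
    (h₂ : ∀ g, (χ₂ : G → ℂ) (g ^ k) = (χ₂ : G → ℂ) g) :
    ∃ d : ℕ, classInner (fun n : N => (χ₁ : G → ℂ) n) (fun n : N => (χ₂ : G → ℂ) n) = d ∧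
      d % 2 = if χ₁ = χ₂ then 1 else 0 := by
  classical
  have hΘ : IsCharacter G ((χ₁ : G → ℂ) * (fun g => conj ((χ₂ : G → ℂ) g))) :=
    isCharacter_mul (isCharacter_of_irr χ₁.2) (isCharacter_conj (isCharacter_of_irr χ₂.2))
  have hΘfix : ∀ g, ((χ₁ : G → ℂ) * (fun g => conj ((χ₂ : G → ℂ) g))) (g ^ k) =
      ((χ₁ : G → ℂ) * (fun g => conj ((χ₂ : G → ℂ) g))) g := by
    intro g
    simp only [Pi.mul_apply, h₁ g, h₂ g]
  have hone : IsIrrCharacter N (fun _ => (1 : ℂ)) := by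
    have := isIrrCharacter_one (G := N)
    simpa [Pi.one_def] using this
  obtain ⟨d, hd⟩ := classInner_char_irr_nat (isCharacter_restrict N hΘ) hone
  have ha : classInner ((χ₁ : G → ℂ) * (fun g => conj ((χ₂ : G → ℂ) g))) (fun _ => (1 : ℂ)) =
      ((if χ₁ = χ₂ then 1 else 0 : ℕ) : ℂ) := by
    have h3 : classInner ((χ₁ : G → ℂ) * (fun g => conj ((χ₂ : G → ℂ) g))) (fun _ => (1 : ℂ)) =
        classInner (χ₁ : G → ℂ) (χ₂ : G → ℂ) := by
      unfold classInner
      congr 1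
      refine Finset.sum_congr rfl (fun g _ => ?_)
      simp only [Pi.mul_apply, map_one, mul_one]
    rw [h3, irr_classInner_eq χ₁.2 χ₂.2]
    have : ((χ₁ : G → ℂ) = (χ₂ : G → ℂ)) ↔ χ₁ = χ₂ := Subtype.ext_iff.symm
    simp only [this]
    split_ifs <;> simp
  refine ⟨d, ?_, ?_⟩
  · rw [← hd]
    unfold classInner
    congr 1
    refine Finset.sum_congr rfl (fun n _ => ?_)
    simp only [Pi.mul_apply, map_one, mul_one]
  · have h4 := (parity_restrict_of_odd_index_gal N hD hodd hΘ hΘfix _ d ha hd).symm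
    rw [h4]
    split_ifs <;> rfl

/-- Uniqueness of the fixed character over a given character when the index is odd. -/
theorem gal_over_unique (hD : GalDatum G k e) (hodd : Odd N.index) (φ : IrrCharacter N)
    (χ₁ χ₂ : IrrCharacter G)
    (h₁ : ∀ g, (χ₁ : G → ℂ) (g ^ k) = (χ₁ : G → ℂ) g)
    (h₂ : ∀ g, (χ₂ : G → ℂ) (g ^ k) = (χ₂ : G → ℂ) g)
    (ho₁ : classInner (fun n : N => (χ₁ : G → ℂ) n) (φ : N → ℂ) ≠ 0)
    (ho₂ : classInner (fun n : N => (χ₂ : G → ℂ) n) (φ : N → ℂ) ≠ 0) : χ₁ = χ₂ := by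
  classical
  by_contra hne
  have hc₁ := Cfsg.Agent.S0174.result N hN (χ₁ : G → ℂ) χ₁.2 (φ : N → ℂ) φ.2 ho₁
  have hc₂ := Cfsg.Agent.S0174.result N hN (χ₂ : G → ℂ) χ₂.2 (φ : N → ℂ) φ.2 ho₂
  set Ω : N → ℂ := ∑ᶠ ψ ∈ {ψ : N → ℂ | ∃ g : G, ψ = fun n : N =>
    (φ : N → ℂ) ⟨g * n * g⁻¹, hN.conj_mem n n.2 g⟩}, ψ with hΩ
  obtain ⟨n₁, hn₁⟩ := classInner_char_irr_nat
    (isCharacter_restrict N (isCharacter_of_irr χ₁.2)) φ.2
  obtain ⟨n₂, hn₂⟩ := classInner_char_irr_nat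
    (isCharacter_restrict N (isCharacter_of_irr χ₂.2)) φ.2
  rw [hn₁] at hc₁
  rw [hn₂] at hc₂
  obtain ⟨d₁₁, hd₁₁, hp₁₁⟩ := parity_restrict_pair_gal N hD hodd χ₁ χ₁ h₁ h₁
  obtain ⟨d₂₂, hd₂₂, hp₂₂⟩ := parity_restrict_pair_gal N hD hodd χ₂ χ₂ h₂ h₂
  obtain ⟨d₁₂, hd₁₂, hp₁₂⟩ := parity_restrict_pair_gal N hD hodd χ₁ χ₂ h₁ h₂
  rw [if_pos rfl] at hp₁₁ hp₂₂
  rw [if_neg hne] at hp₁₂
  rw [hc₁, classInner_smul_left, classInner_smul_right, Complex.conj_natCast] at hd₁₁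
  rw [hc₂, classInner_smul_left, classInner_smul_right, Complex.conj_natCast] at hd₂₂
  rw [hc₁, hc₂, classInner_smul_left, classInner_smul_right, Complex.conj_natCast] at hd₁₂
  have hprod : ((d₁₂ * d₁₂ : ℕ) : ℂ) = ((d₁₁ * d₂₂ : ℕ) : ℂ) := by
    push_cast
    rw [← hd₁₂, ← hd₁₁, ← hd₂₂]; ring
  have hprod' : d₁₂ * d₁₂ = d₁₁ * d₂₂ := by exact_mod_cast hprod
  have h1 : (d₁₂ * d₁₂) % 2 = 0 := by
    rw [Nat.mul_mod, hp₁₂]
  have h2 : (d₁₁ * d₂₂) % 2 = 1 := by
    rw [Nat.mul_mod, hp₁₁, hp₂₂]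
  omega

end Parity

end Cfsg.Agent.Lib.L0.GalOdd
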