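import Mathlib
import Cfsg.Agent.Lib.L0.GalOddA
import Cfsg.Agent.Lib.H23.Ito
import Cfsg.Agent.Lib.H4.Feit.CountIrr

/-!
# Galois-fixed characters over a normal subgroup of odd index: existence (lead's library)

* `exists_fixed_of_odd_sum`: a self-map of `2`-power order preserving a weight of odd total has a
  fixed point of odd weight;
* `classInner_restrict_indFun_self`: `[(θ^G)_N, θ] = |I_G(θ) : N|`;
* `gal_over_exists`: a fixed irreducible character of `N ⊴ G` (odd index) lies under a fixed
  irreducible character of `G`.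
-/

set_option autoImplicit false

namespace Cfsg.Agent.Lib.L0.GalOdd

open scoped ComplexConjugate
open Cfsg Cfsg.Agent.Lib.L0 Cfsg.Agent.Lib.H24

section Comb

variable {α : Type*} [DecidableEq α] (σ : α → α) (f : α → ℕ)

theorem iterate_mem_of_stable (s : Finset α) (hs : ∀ a ∈ s, σ a ∈ s) (n : ℕ) :
    ∀ a ∈ s, σ^[n] a ∈ s := by
  induction n with
  | zero => intro a ha; exact ha
  | succ n ih =>
    intro a ha
    rw [Function.iterate_succ_apply']
    exact hs _ (ih a ha)

theorem weight_iterate (hf : ∀ a, f (σ a) = f a) (n : ℕ) (a : α) : f (σ^[n] a) = f a := by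
  induction n with
  | zero => rfl
  | succ n ih => rw [Function.iterate_succ_apply', hf, ih]

theorem exists_fixed_of_odd_sum (hf : ∀ a, f (σ a) = f a) :
    ∀ (e : ℕ) (s : Finset α), (∀ a ∈ s, σ a ∈ s) → (∀ a ∈ s, σ^[2 ^ e] a = a) →
      Odd (∑ a ∈ s, f a) → ∃ a ∈ s, σ a = a ∧ Odd (f a) := by
  intro e
  induction e with
  | zero =>
    intro s _ hfix hodd
    by_contra hcon
    push Not at hcon
    have heven : Even (∑ a ∈ s, f a) := by
      apply Finset.even_sum
      intro a ha
      have h1 : σ a = a := by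
        have := hfix a ha
        simpa using this
      exact Nat.not_odd_iff_even.mp (hcon a ha h1)
    exact (Nat.not_odd_iff_even.mpr heven) hodd
  | succ e ih =>
    intro s hs hfix hodd
    set τ : α → α := σ^[2 ^ e] with hτ
    have hττ : ∀ a ∈ s, τ (τ a) = a := by
      intro a ha
      rw [hτ, ← Function.iterate_add_apply]
      have : 2 ^ e + 2 ^ e = 2 ^ (e + 1) := by ring
      rw [this]
      exact hfix a ha
    have hτσ : ∀ a, τ (σ a) = σ (τ a) := by
      intro a
      rw [hτ, ← Function.iterate_succ_apply, Function.iterate_succ_apply']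
    have hsplit := Finset.sum_filter_add_sum_filter_not s (fun a => τ a = a) f
    have hevenpart : Even (∑ a ∈ s.filter (fun a => ¬ τ a = a), f a) := by
      rw [← ZMod.natCast_eq_zero_iff_even]
      push_cast
      refine Finset.sum_involution (fun a _ => τ a) ?_ ?_ ?_ ?_
      · intro a _
        rw [hτ, weight_iterate σ f hf]
        have : (2 : ZMod 2) = 0 := rfl
        linear_combination (f a : ZMod 2) * this
      · intro a ha _
        exact (Finset.mem_filter.mp ha).2
      · intro a ha
        rw [Finset.mem_filter] at ha ⊢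
        refine ⟨iterate_mem_of_stable σ s hs _ a ha.1, ?_⟩
        rw [hττ a ha.1]
        exact fun h => ha.2 h.symm
      · intro a ha
        exact hττ a (Finset.mem_filter.mp ha).1
    have hoddpart : Odd (∑ a ∈ s.filter (fun a => τ a = a), f a) := by
      rw [← hsplit] at hodd
      rcases Nat.even_or_odd (∑ a ∈ s.filter (fun a => τ a = a), f a) with h | h
      · exact absurd (h.add hevenpart) (Nat.not_even_iff_odd.mpr hodd)
      · exact h
    obtain ⟨a, ha, hfixa, hodda⟩ := ih (s.filter (fun a => τ a = a)) (by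
      intro a ha
      rw [Finset.mem_filter] at ha ⊢
      refine ⟨hs a ha.1, ?_⟩
      rw [hτσ, ha.2]) (by
      intro a ha
      exact (Finset.mem_filter.mp ha).2) hoddpart
    exact ⟨a, (Finset.mem_filter.mp ha).1, hfixa, hodda⟩

end Comb

section Ind

variable {G : Type*} [Group G] [Fintype G] (N : Subgroup G) [hN : N.Normal] [Fintype N]

/-- `[(θ^G)_N, θ] = |I_G(θ) : N|`. -/
theorem classInner_restrict_indFun_self (θ : N → ℂ) (hθ : IsIrrCharacter N θ) :
    classInner (fun h : N => indFun N θ (h : G)) θ =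
      (N.relIndex (Cfsg.Agent.Lib.H23.inertia N θ) : ℂ) := by
  classical
  set T := Cfsg.Agent.Lib.H23.inertia N θ with hT
  have hNT : N ≤ T :=
    Cfsg.Agent.Lib.H23.le_inertia N (isClassFunction_of_isCharacter (isCharacter_of_irr hθ))
  have hNne : (Nat.card N : ℂ) ≠ 0 := Nat.cast_ne_zero.mpr Nat.card_pos.ne'
  have hfun : (fun h : N => indFun N θ (h : G)) =
      ((Nat.card N : ℂ)⁻¹) • ∑ x : G,
        (fun n : N => θ ⟨x⁻¹ * n * x⁻¹⁻¹, hN.conj_mem (n : G) n.2 x⁻¹⟩) := by
    funext h
    simp only [Pi.smul_apply, Finset.sum_apply, smul_eq_mul]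
    rw [indFun_apply]
    congr 1
    refine Finset.sum_congr rfl (fun x _ => ?_)
    have hmem : x⁻¹ * (h : G) * x ∈ N := by
      have := hN.conj_mem (h : G) h.2 x⁻¹
      simpa using this
    rw [extendByZero_apply_of_mem N θ hmem]
    congr 1
    apply Subtype.ext
    simp
  rw [hfun, classInner_smul_left, classInner_sum_left]
  have hterm : ∀ x : G, classInner
      (fun n : N => θ ⟨x⁻¹ * n * x⁻¹⁻¹, hN.conj_mem (n : G) n.2 x⁻¹⟩) θ =
      if x ∈ T then 1 else 0 := by
    intro x
    rw [irr_classInner_eq (Cfsg.Agent.Lib.H8.isIrrCharacter_conjNormal N θ hθ x⁻¹) hθ]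
    have hiff : ((fun n : N => θ ⟨x⁻¹ * n * x⁻¹⁻¹, hN.conj_mem (n : G) n.2 x⁻¹⟩) = θ) ↔ x ∈ T := by
      rw [← inv_mem_iff (H := T), hT, Cfsg.Agent.Lib.H23.mem_inertia]
      constructor
      · intro h n; exact congrFun h n
      · intro h; funext n; exact h n
    by_cases hx : x ∈ T
    · rw [if_pos hx, if_pos (hiff.mpr hx)]
    · rw [if_neg hx, if_neg (fun h => hx (hiff.mp h))]
  simp only [hterm]
  rw [Finset.sum_boole]
  have hcard : (Finset.univ.filter (fun x : G => x ∈ T)).card = Nat.card T := by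
    rw [Nat.card_eq_fintype_card, Fintype.card_subtype]
  rw [hcard]
  have h1 : Nat.card T = Nat.card N * N.relIndex T := by
    have h2 := T.card_mul_index
    have h3 := N.card_mul_index
    have h4 := Subgroup.relIndex_mul_index hNT
    have h5 : T.index ≠ 0 := Subgroup.index_ne_zero_of_finite
    have h6 : Nat.card T * T.index = Nat.card N * N.relIndex T * T.index := by
      rw [h2, mul_assoc, h4, h3]
    exact Nat.eq_of_mul_eq_mul_right (Nat.pos_of_ne_zero h5) h6
  rw [h1]
  push_cast
  field_simp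

end Ind

section Exists

variable {G : Type*} [Group G] [Fintype G] (N : Subgroup G) [hN : N.Normal] [Fintype N]
  {k e : ℕ}

/-- The Galois conjugate of an irreducible character. -/
noncomputable def galIrr (hD : GalDatum G k e) (χ : IrrCharacter G) : IrrCharacter G :=
  ⟨fun g => (χ : G → ℂ) (g ^ k), Cfsg.Agent.Lib.H8.isIrrCharacter_galoisConj χ.2 k hD.cop⟩

theorem galIrr_apply (hD : GalDatum G k e) (χ : IrrCharacter G) (g : G) :
    (galIrr hD χ : G → ℂ) g = (χ : G → ℂ) (g ^ k) := rfl

theorem galIrr_iterate (hD : GalDatum G k e) (χ : IrrCharacter G) (n : ℕ) (g : G) :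
    (((galIrr hD)^[n] χ : IrrCharacter G) : G → ℂ) g = (χ : G → ℂ) (g ^ (k ^ n)) := by
  induction n generalizing g with
  | zero => simp
  | succ n ih =>
    rw [Function.iterate_succ_apply', galIrr_apply, ih, ← pow_mul, pow_succ, mul_comm]

/-- **Existence**: a fixed irreducible character of a normal subgroup of odd index lies under a
fixed irreducible character of `G`. -/
theorem gal_over_exists (hD : GalDatum G k e) (hodd : Odd N.index) (θ : IrrCharacter N)
    (hθ : ∀ n : N, (θ : N → ℂ) (n ^ k) = (θ : N → ℂ) n) :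
    ∃ χ : IrrCharacter G, classInner (fun n : N => (χ : G → ℂ) n) (θ : N → ℂ) ≠ 0 ∧
      ∀ g : G, (χ : G → ℂ) (g ^ k) = (χ : G → ℂ) g := by
  classical
  have := Fintype.ofFinite (IrrCharacter G)
  choose m hm using fun χ : IrrCharacter G => classInner_char_irr_nat
    (isCharacter_restrict N (isCharacter_of_irr χ.2)) θ.2
  -- invariance of the multiplicities
  have hminv : ∀ χ : IrrCharacter G, m (galIrr hD χ) = m χ := by
    intro χ
    have h4 := Cfsg.Agent.Lib.H8.classInner_comp_pow (fun n : N => (χ : G → ℂ) n) (θ : N → ℂ) k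
      (hD.subgroup N).cop
    have h1 : classInner (fun n : N => (galIrr hD χ : G → ℂ) n) (θ : N → ℂ) =
        classInner (fun n : N => (χ : G → ℂ) n) (θ : N → ℂ) := by
      rw [← h4]
      congr 1
      funext n
      rw [hθ]
    rw [hm, hm] at h1
    exact_mod_cast h1
  -- the sum of squares
  have hsum : (∑ χ : IrrCharacter G, ((m χ) ^ 2 : ℕ) : ℂ) =
      (N.relIndex (Cfsg.Agent.Lib.H23.inertia N (θ : N → ℂ)) : ℂ) := by
    have hcf : IsClassFunction G (indFun N (θ : N → ℂ)) := indFun_isClassFunction N _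
    have h1 := Cfsg.Agent.Lib.H4.Feit.classInner_self_eq_sum (indFun N (θ : N → ℂ)) hcf
    have h2 : ∀ χ : IrrCharacter G, classInner (indFun N (θ : N → ℂ)) (χ : G → ℂ) = (m χ : ℂ) := by
      intro χ
      rw [frobenius_reciprocity N _ _ (isClassFunction_of_isCharacter (isCharacter_of_irr χ.2)),
        ← classInner_conj_symm, hm χ, Complex.conj_natCast]
    have h3 : classInner (indFun N (θ : N → ℂ)) (indFun N (θ : N → ℂ)) =
        (N.relIndex (Cfsg.Agent.Lib.H23.inertia N (θ : N → ℂ)) : ℂ) := by
      rw [frobenius_reciprocity N _ _ hcf, ← classInner_conj_symm,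
        classInner_restrict_indFun_self N (θ : N → ℂ) θ.2, Complex.conj_natCast]
    rw [← h3, h1]
    push_cast
    refine Finset.sum_congr rfl (fun χ _ => ?_)
    rw [h2 χ, Complex.conj_natCast, sq]
  have hsum' : ∑ χ : IrrCharacter G, (m χ) ^ 2 =
      N.relIndex (Cfsg.Agent.Lib.H23.inertia N (θ : N → ℂ)) := by exact_mod_cast hsum
  have hoddsum : Odd (∑ χ : IrrCharacter G, (m χ) ^ 2) := by
    rw [hsum']
    have hNT : N ≤ Cfsg.Agent.Lib.H23.inertia N (θ : N → ℂ) :=
      Cfsg.Agent.Lib.H23.le_inertia N (isClassFunction_of_isCharacter (isCharacter_of_irr θ.2))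
    obtain ⟨c, hc⟩ := Subgroup.relIndex_dvd_index_of_le hNT
    rw [hc] at hodd
    exact (Nat.odd_mul.mp hodd).1
  obtain ⟨χ, -, hfix, hoddχ⟩ := exists_fixed_of_odd_sum (galIrr hD) (fun χ => (m χ) ^ 2)
    (fun χ => by simp only [hminv]) e Finset.univ (fun _ _ => Finset.mem_univ _)
    (fun χ _ => by
      apply Subtype.ext
      funext g
      rw [galIrr_iterate, hD.pow_pow_eq]) hoddsum
  refine ⟨χ, ?_, ?_⟩
  · rw [hm χ]
    intro h0
    have h0' : m χ = 0 := by exact_mod_cast h0
    simp only [h0'] at hoddχ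
    exact absurd hoddχ (by decide)
  · intro g
    have := congrArg (fun ψ : IrrCharacter G => (ψ : G → ℂ) g) hfix
    simpa [galIrr_apply] using this

end Exists

end Cfsg.Agent.Lib.L0.GalOdd
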