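import Cfsg.Agent.Lib.H23.ExtGeneral

/-!
# Gluing canonical extensions over solvable sections (lead's library)

An abstract form of the argument of Isaacs 8.15 (as formalized by helper23 in `H23/ExtGeneral`):
let `N ⊴ G`, `ϑ ∈ Irr(N)`, and let `good H hNH ψ` single out, for the subgroups `H ⊇ N`, a class of
irreducible extensions `ψ` of `ϑ` to `H` which is closed under restriction and conjugation, has at most
one member on each `H`, and is nonempty whenever `H / N` is solvable (`IsGlueFamily`).  Then the good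
extensions glue to an irreducible character of `G` extending `ϑ` (`IsGlueFamily.exists_extension`),
via Brauer's characterization of characters.
-/

set_option autoImplicit false

universe u

namespace Cfsg.Agent.Lib.L0.GlueExt

open Cfsg.Agent.Lib.L0 Cfsg.Agent.Lib.H24 Cfsg.Agent.Lib.H8 Cfsg.Agent.Lib.H23 Module
open scoped ComplexConjugate

variable {G : Type u} [Group G] [Fintype G] (N : Subgroup G) [hN : N.Normal] (ϑ : N → ℂ)

/-- A family of canonical extensions of `ϑ` to the subgroups containing `N`. -/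
structure IsGlueFamily (good : ∀ H : Subgroup G, N ≤ H → (H → ℂ) → Prop) : Prop where
  irr : ∀ {H : Subgroup G} (hNH : N ≤ H) {ψ : H → ℂ}, good H hNH ψ → Cfsg.IsIrrCharacter H ψ
  ext : ∀ {H : Subgroup G} (hNH : N ≤ H) {ψ : H → ℂ}, good H hNH ψ →
    ∀ n : N, ψ ⟨n, hNH n.2⟩ = ϑ n
  unique : ∀ {H : Subgroup G} (hNH : N ≤ H) {ψ₁ ψ₂ : H → ℂ}, good H hNH ψ₁ → good H hNH ψ₂ →
    ψ₁ = ψ₂
  exists_of_solvable : ∀ {H : Subgroup G} (hNH : N ≤ H),
    Group.IsSolvable (H ⧸ N.subgroupOf H) → ∃ ψ : H → ℂ, good H hNH ψ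
  restrict : ∀ {K H : Subgroup G} (hNK : N ≤ K) (hKH : K ≤ H) {ψ : H → ℂ},
    good H (hNK.trans hKH) ψ → good K hNK (fun k : K => ψ ⟨k, hKH k.2⟩)
  conjugate : ∀ (x : G) {H : Subgroup G} (hNH : N ≤ H) {ψ : H → ℂ}, good H hNH ψ →
    good (H.map (MulAut.conj x).toMonoidHom) (le_map_conj_of_normal x hNH)
      (ψ ∘ (H.equivMapOfInjective (MulAut.conj x).toMonoidHom (MulAut.conj x).injective).symm)

variable {N ϑ} {good : ∀ H : Subgroup G, N ≤ H → (H → ℂ) → Prop}

namespace IsGlueFamily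

/-- The candidate extension: its value at `g` is the value of any good extension defined at `g`. -/
theorem exists_candidate (hF : IsGlueFamily N ϑ good) :
    ∃ χ : G → ℂ, ∀ (H : Subgroup G) (hNH : N ≤ H) (ψ : H → ℂ), good H hNH ψ →
      ∀ (g : G) (hg : g ∈ H), χ g = ψ ⟨g, hg⟩ := by
  classical
  have hex : ∀ g : G, ∃ ψ : (Subgroup.zpowers g ⊔ N : Subgroup G) → ℂ,
      good (Subgroup.zpowers g ⊔ N) le_sup_right ψ := by
    intro g
    apply hF.exists_of_solvable
    apply isSolvable_sup_quotient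
    infer_instance
  choose Ψ hΨ using hex
  refine ⟨fun g => Ψ g ⟨g, le_sup_left (a := Subgroup.zpowers g) (Subgroup.mem_zpowers g)⟩, ?_⟩
  intro H hNH ψ hψ g hg
  have hle : Subgroup.zpowers g ⊔ N ≤ H := sup_le ((Subgroup.zpowers_le).mpr hg) hNH
  have h1 := hF.restrict (le_sup_right : N ≤ Subgroup.zpowers g ⊔ N) hle hψ
  have h2 := hF.unique le_sup_right (hΨ g) h1
  simp only
  rw [h2]

variable (χ : G → ℂ) (hχ : ∀ (H : Subgroup G) (hNH : N ≤ H) (ψ : H → ℂ), good H hNH ψ →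
      ∀ (g : G) (hg : g ∈ H), χ g = ψ ⟨g, hg⟩)

include hχ in
theorem candidate_isClassFunction (hF : IsGlueFamily N ϑ good) : Cfsg.IsClassFunction G χ := by
  intro g x
  have hsolv : Group.IsSolvable ((Subgroup.zpowers g ⊔ N : Subgroup G) ⧸
      N.subgroupOf (Subgroup.zpowers g ⊔ N)) := isSolvable_sup_quotient _ inferInstance
  obtain ⟨ψ, hψ⟩ := hF.exists_of_solvable
    (le_sup_right : N ≤ Subgroup.zpowers g ⊔ N) hsolv
  have hg : g ∈ Subgroup.zpowers g ⊔ N :=
    le_sup_left (a := Subgroup.zpowers g) (Subgroup.mem_zpowers g)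
  have h1 := hχ _ _ ψ hψ g hg
  have h2 := hF.conjugate x le_sup_right hψ
  have hmem : x * g * x⁻¹ ∈ (Subgroup.zpowers g ⊔ N).map (MulAut.conj x).toMonoidHom :=
    ⟨g, hg, rfl⟩
  have h3 := hχ _ _ _ h2 (x * g * x⁻¹) hmem
  rw [h3, h1, Function.comp_apply]
  congr 1
  rw [MulEquiv.symm_apply_eq]
  apply Subtype.ext
  rfl

include hχ in
theorem candidate_restrict (hF : IsGlueFamily N ϑ good) (n : N) : χ n = ϑ n := by
  have hsolv : Group.IsSolvable ((Subgroup.zpowers (n : G) ⊔ N : Subgroup G) ⧸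
      N.subgroupOf (Subgroup.zpowers (n : G) ⊔ N)) := isSolvable_sup_quotient _ inferInstance
  obtain ⟨ψ, hψ⟩ := hF.exists_of_solvable
    (le_sup_right : N ≤ Subgroup.zpowers (n : G) ⊔ N) hsolv
  rw [hχ _ _ ψ hψ (n : G) (le_sup_right (a := Subgroup.zpowers (n : G)) n.2)]
  exact hF.ext _ hψ n

include hχ in
theorem candidate_restrict_elementary (hF : IsGlueFamily N ϑ good) (E : Subgroup G) (p : ℕ)
    (hp : p.Prime) (hE : Cfsg.IsElementary p E) :
    Cfsg.IsGeneralizedCharacter E (fun e : E => χ e) := by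
  have hnil : Group.IsNilpotent E := isNilpotent_of_isElementary hp hE
  have hsolv : Group.IsSolvable ((E ⊔ N : Subgroup G) ⧸ N.subgroupOf (E ⊔ N)) :=
    isSolvable_sup_quotient _ inferInstance
  obtain ⟨ψ, hψ⟩ := hF.exists_of_solvable (le_sup_right : N ≤ E ⊔ N) hsolv
  apply isGeneralizedCharacter_of_isCharacter
  have h1 : (fun e : E => χ e) = ψ ∘ (Subgroup.inclusion (le_sup_left : E ≤ E ⊔ N)) := by
    funext e
    rw [hχ _ _ ψ hψ (e : G) (le_sup_left (a := E) e.2)]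
    rfl
  rw [h1]
  exact isCharacter_comp _ (isCharacter_of_irr (hF.irr _ hψ))

/-- The sum of `|ψ|²` over a coset of `N` equals `|N|`, for an irreducible extension `ψ`. -/
theorem ext_coset_sum [Fintype N] (hϑ : Cfsg.IsIrrCharacter N ϑ) {H : Subgroup G} (hNH : N ≤ H)
    {ψ : H → ℂ} (hψ : Cfsg.IsIrrCharacter H ψ) (hext : ∀ n : N, ψ ⟨n, hNH n.2⟩ = ϑ n)
    (g : G) (hg : g ∈ H) :
    ∑ n : N, ψ ⟨n * g, H.mul_mem (hNH n.2) hg⟩ * conj (ψ ⟨n * g, H.mul_mem (hNH n.2) hg⟩) =
      (Nat.card N : ℂ) := by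
  classical
  have : Fintype H := Fintype.ofFinite H
  set N' : Subgroup H := N.subgroupOf H with hN'
  have : Fintype N' := Fintype.ofFinite N'
  set e : N' ≃* N := Subgroup.subgroupOfEquivOfLe hNH with he
  have hψN' : Cfsg.IsIrrCharacter N' (fun n' : N' => ψ n') := by
    have h4 : (fun n' : N' => ψ n') = ϑ ∘ e := by
      funext n'
      exact hext (e n')
    rw [h4]
    exact isIrrCharacter_comp_of_surjective e.toMonoidHom e.surjective hϑ
  have h1 := (Cfsg.Agent.S0868.result N' ψ hψ hψN' ψ hψ _ rfl).2.2 rfl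
  have h2 := congrFun h1 ⟨g, hg⟩
  have hcard : Nat.card N' = Nat.card N := Nat.card_congr e.toEquiv
  have hne : (Nat.card N : ℂ) ≠ 0 := Nat.cast_ne_zero.mpr (Nat.card_pos (α := N)).ne'
  rw [hcard, inv_mul_eq_one₀ hne] at h2
  rw [h2]
  symm
  apply Fintype.sum_equiv e.toEquiv
  intro n'
  rfl

include hχ in
theorem candidate_norm (hF : IsGlueFamily N ϑ good) (hϑ : Cfsg.IsIrrCharacter N ϑ) :
    Cfsg.classInner χ χ = 1 := by
  classical
  have : Fintype N := Fintype.ofFinite N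
  have hcoset : ∀ g : G, ∑ n : N, χ (n * g) * conj (χ (n * g)) = (Nat.card N : ℂ) := by
    intro g
    have hsolv : Group.IsSolvable ((Subgroup.zpowers g ⊔ N : Subgroup G) ⧸
        N.subgroupOf (Subgroup.zpowers g ⊔ N)) := isSolvable_sup_quotient _ inferInstance
    obtain ⟨ψ, hψ⟩ := hF.exists_of_solvable
      (le_sup_right : N ≤ Subgroup.zpowers g ⊔ N) hsolv
    have hg : g ∈ Subgroup.zpowers g ⊔ N :=
      le_sup_left (a := Subgroup.zpowers g) (Subgroup.mem_zpowers g)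
    rw [← ext_coset_sum hϑ le_sup_right (hF.irr _ hψ) (hF.ext _ hψ) g hg]
    refine Finset.sum_congr rfl fun n _ => ?_
    rw [hχ _ _ ψ hψ (n * g) ((Subgroup.zpowers g ⊔ N).mul_mem (le_sup_right (a := Subgroup.zpowers g) n.2) hg)]
  have hshift : ∀ n : N, ∑ g : G, χ (n * g) * conj (χ (n * g)) = ∑ g : G, χ g * conj (χ g) := by
    intro n
    exact Fintype.sum_equiv (Equiv.mulLeft (n : G)) _ _ (fun g => rfl)
  have hNne : (Nat.card N : ℂ) ≠ 0 := Nat.cast_ne_zero.mpr (Nat.card_pos (α := N)).ne'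
  have hGne : (Nat.card G : ℂ) ≠ 0 := Nat.cast_ne_zero.mpr (Nat.card_pos (α := G)).ne'
  have h1 : (Nat.card N : ℂ) * ∑ g : G, χ g * conj (χ g) = (Nat.card N : ℂ) * (Nat.card G : ℂ) := by
    have h2 : ∑ n : N, ∑ g : G, χ (n * g) * conj (χ (n * g)) =
        (Nat.card N : ℂ) * ∑ g : G, χ g * conj (χ g) := by
      rw [Finset.sum_congr rfl (fun n _ => hshift n), Finset.sum_const, Finset.card_univ,
        nsmul_eq_mul, Nat.card_eq_fintype_card]
    rw [← h2, Finset.sum_comm, Finset.sum_congr rfl (fun g _ => hcoset g), Finset.sum_const,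
      Finset.card_univ, nsmul_eq_mul, Nat.card_eq_fintype_card (α := G), mul_comm]
  have h3 : ∑ g : G, χ g * conj (χ g) = (Nat.card G : ℂ) := mul_left_cancel₀ hNne h1
  unfold Cfsg.classInner
  rw [h3, inv_mul_cancel₀ hGne]

/-- **Gluing**: the good extensions glue to an irreducible character of `G` extending `ϑ`. -/
theorem exists_extension (hF : IsGlueFamily N ϑ good) (hϑ : Cfsg.IsIrrCharacter N ϑ) :
    ∃ χ : G → ℂ, Cfsg.IsIrrCharacter G χ ∧ (∀ n : N, χ n = ϑ n) ∧
      ∀ (H : Subgroup G) (hNH : N ≤ H) (ψ : H → ℂ), good H hNH ψ →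
        ∀ (g : G) (hg : g ∈ H), χ g = ψ ⟨g, hg⟩ := by
  obtain ⟨χ, hχ⟩ := exists_candidate hF
  have hcf := candidate_isClassFunction χ hχ hF
  have hres := candidate_restrict χ hχ hF
  have hgen : Cfsg.IsGeneralizedCharacter G χ :=
    brauer_characterization hcf (candidate_restrict_elementary χ hχ hF)
  have hnorm := candidate_norm χ hχ hF hϑ
  rcases genChar_norm_one hgen hnorm with h | h
  · exact ⟨χ, h, hres, hχ⟩
  · exfalso
    obtain ⟨m, hm, hm1⟩ := Cfsg.Agent.Lib.H24.irr_one_eq ⟨-χ, h⟩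
    obtain ⟨d, hd0, hd⟩ := Cfsg.Agent.Lib.H24.irr_one_eq ⟨ϑ, hϑ⟩
    have hd' : ϑ 1 = d := hd
    have h1 : χ 1 = d := by
      rw [← hd', ← hres 1]
      rfl
    simp only [Pi.neg_apply] at hm1
    rw [h1] at hm1
    have h2 : ((d + m : ℕ) : ℂ) = 0 := by
      push_cast
      rw [← hm1]
      ring
    have h3 : d + m = 0 := by exact_mod_cast h2
    omega

end IsGlueFamily

end Cfsg.Agent.Lib.L0.GlueExt
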