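import Mathlib
import Cfsg.Agent.Lib.L0.GalOddB
import Cfsg.Agent.Lib.L0.GlueExt

/-!
# Galois-fixed extensions over a normal subgroup of odd index (lead's library)

With `GalDatum G k e` and `N ⊴ G` of odd index, `ϑ ∈ Irr(N)` fixed (`ϑ (n ^ k) = ϑ n`):

* `gal_ext_of_ext`: if `ϑ` extends to `G`, it has a fixed extension;
* `gal_ext_solvable`: if `ϑ` is `G`-invariant and `G / N` is solvable, `ϑ` has a fixed extension;
* `gal_ext`: if `ϑ` is `G`-invariant, `ϑ` has a fixed extension (no Feit–Thompson: gluing via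
  Brauer's characterization of characters).
-/

set_option autoImplicit false

universe u

namespace Cfsg.Agent.Lib.L0.GalOdd

open scoped ComplexConjugate
open Cfsg Cfsg.Agent.Lib.L0 Cfsg.Agent.Lib.H24 Cfsg.Agent.Lib.H23

section ExtOfExt

variable {G : Type*} [Group G] [Fintype G] (N : Subgroup G) [hN : N.Normal] {k e : ℕ}

/-- If a fixed irreducible character of `N` extends to `G`, it has a fixed extension. -/
theorem gal_ext_of_ext (hD : GalDatum G k e) (hodd : Odd N.index) (ϑ : N → ℂ)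
    (hϑ : IsIrrCharacter N ϑ) (hfix : ∀ n : N, ϑ (n ^ k) = ϑ n) (η : G → ℂ)
    (hη : IsIrrCharacter G η) (hηN : ∀ n : N, η n = ϑ n) :
    ∃ χ : G → ℂ, IsIrrCharacter G χ ∧ (∀ n : N, χ n = ϑ n) ∧ ∀ g : G, χ (g ^ k) = χ g := by
  classical
  have hησ : IsIrrCharacter G (fun g => η (g ^ k)) :=
    Cfsg.Agent.Lib.H8.isIrrCharacter_galoisConj hη k hD.cop
  have hηNirr : IsIrrCharacter N (fun n : N => η n) := by
    rw [funext hηN]; exact hϑ
  have hres : ∀ n : N, (fun g => η (g ^ k)) n = η n := by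
    intro n
    have h1 := hηN (n ^ k)
    rw [Subgroup.coe_pow] at h1
    show η ((n : G) ^ k) = η n
    rw [h1, hfix, hηN]
  obtain ⟨β, hβN, hβ⟩ := exists_hom_of_restrict_eq N hη hησ hηNirr hres
  obtain ⟨j, hj⟩ : ∃ j, N.index + 1 = 2 * j := by
    obtain ⟨c, hc⟩ := hodd
    exact ⟨c + 1, by omega⟩
  have hβidx : ∀ g : G, (β g) ^ N.index = 1 := by
    intro g
    have := hom_pow_index_eq_one N β hβN
    have h2 := congrArg (fun f : G →* ℂˣ => f g) this
    simpa using h2
  set μ : G →* ℂˣ := β ^ j with hμ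
  have hμ2 : ∀ g : G, μ g * μ g = β g := by
    intro g
    rw [hμ, MonoidHom.pow_apply, ← pow_add, ← two_mul, ← hj, pow_succ, hβidx, one_mul]
  have hμN : ∀ n : N, μ n = 1 := by
    intro n
    rw [hμ, MonoidHom.pow_apply, hβN, one_pow]
  have hμk : ∀ g : G, μ (g ^ k) = (μ g)⁻¹ := by
    intro g
    have h1 : μ (g ^ k) * μ g = 1 := by
      rw [← map_mul, ← pow_succ]
      exact hμN ⟨g ^ (k + 1), hD.pow_succ_mem N hodd g⟩
    exact eq_inv_of_mul_eq_one_left h1
  refine ⟨fun g => η g * (μ g : ℂ), isIrrCharacter_mul_hom η hη μ, ?_, ?_⟩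
  · intro n
    simp only [hμN n, Units.val_one, mul_one, hηN]
  · intro g
    have h1 := congrFun hβ g
    simp only [Pi.mul_apply, homToFun_apply] at h1
    simp only
    rw [h1, hμk, ← hμ2 g, Units.val_mul, Units.val_inv_eq_inv_val]
    have hne : ((μ g : ℂˣ) : ℂ) ≠ 0 := Units.ne_zero _
    field_simp

end ExtOfExt

section Solvable

/-- If `G / N` is solvable (of odd order), a `G`-invariant fixed character of `N` has a fixed
extension. -/
theorem gal_ext_solvable_aux : ∀ (n : ℕ) (G : Type u) [Group G] [Fintype G]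
    (N : Subgroup G) [hN : N.Normal] (k e : ℕ),
    N.index = n → Odd N.index → GalDatum G k e → Group.IsSolvable (G ⧸ N) →
    ∀ (ϑ : N → ℂ), IsIrrCharacter N ϑ →
    (∀ (g : G) (n : N), ϑ ⟨g * n * g⁻¹, hN.conj_mem (n : G) n.2 g⟩ = ϑ n) →
    (∀ n : N, ϑ (n ^ k) = ϑ n) →
    ∃ χ : G → ℂ, IsIrrCharacter G χ ∧ (∀ n : N, χ n = ϑ n) ∧ ∀ g : G, χ (g ^ k) = χ g := by
  intro n
  induction n using Nat.strong_induction_on with
  | _ n ih =>
    intro G _ _ N hN k e hidx hodd hD hsolv ϑ hϑ hinv hfix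
    classical
    by_cases htop : N = ⊤
    · have hmem : ∀ g : G, g ∈ N := fun g => by rw [htop]; exact Subgroup.mem_top g
      let f : G →* N := MonoidHom.codRestrict (MonoidHom.id G) N hmem
      have hf : Function.Surjective f := fun x => ⟨x, Subtype.ext rfl⟩
      refine ⟨ϑ ∘ f, isIrrCharacter_comp_of_surjective f hf hϑ, fun x => ?_, fun g => ?_⟩
      · rw [Function.comp_apply]
        congr 1
      · rw [Function.comp_apply, Function.comp_apply, map_pow, hfix]
    · obtain ⟨M, hMn, hNM, hMtop, hcyc⟩ := exists_normal_cyclic_quotient N hsolv htop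
      have : Fintype M := Fintype.ofFinite M
      have hrel : N.relIndex M * M.index = N.index := Subgroup.relIndex_mul_index hNM
      have hMidx : 1 < M.index := by
        have h1 : M.index ≠ 1 := fun h => hMtop (Subgroup.index_eq_one.mp h)
        have h0 : M.index ≠ 0 := Subgroup.index_ne_zero_of_finite
        omega
      have hrel0 : 0 < N.relIndex M := by
        rcases Nat.eq_zero_or_pos (N.relIndex M) with h | h
        · rw [h, zero_mul] at hrel
          exact absurd hrel.symm Subgroup.index_ne_zero_of_finite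
        · exact h
      have hlt : N.relIndex M < n := by
        rw [← hidx, ← hrel]
        nlinarith
      have hoddrel : Odd (N.relIndex M) := by
        rw [← hrel] at hodd
        exact (Nat.odd_mul.mp hodd).1
      have hoddM : Odd M.index := by
        rw [← hrel] at hodd
        exact (Nat.odd_mul.mp hodd).2
      set N' : Subgroup M := N.subgroupOf M with hN'
      have : Fintype N' := Fintype.ofFinite N'
      set ι : N' ≃* N := Subgroup.subgroupOfEquivOfLe hNM with hι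
      have hιcoe : ∀ n' : N', ((ι n' : N) : G) = ((n' : M) : G) := fun _ => rfl
      have hinv' : ∀ (m : M) (n' : N'),
          (ϑ ∘ ι) ⟨m * n' * m⁻¹, (inferInstance : N'.Normal).conj_mem (n' : M) n'.2 m⟩ =
            (ϑ ∘ ι) n' := by
        intro m n'
        have := hinv (m : G) (ι n')
        rw [Function.comp_apply, Function.comp_apply, ← this]
        congr 1
      have hϑ' : IsIrrCharacter N' (ϑ ∘ ι) :=
        isIrrCharacter_comp_of_surjective ι.toMonoidHom ι.surjective hϑ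
      have hfix' : ∀ n' : N', (ϑ ∘ ι) (n' ^ k) = (ϑ ∘ ι) n' := by
        intro n'
        rw [Function.comp_apply, Function.comp_apply, map_pow, hfix]
      have hDM : GalDatum M k e := hD.subgroup M
      obtain ⟨ψ₀, hψ₀, hψ₀N, hψ₀fix⟩ := ih (N.relIndex M) hlt M N' k e rfl hoddrel hDM
        (isSolvable_quotient_subgroupOf N M hsolv) (ϑ ∘ ι) hϑ' hinv' hfix'
      -- ψ₀ is G-invariant, by uniqueness
      have hψinv : ∀ (g : G) (m : M), ψ₀ ⟨g * m * g⁻¹, hMn.conj_mem (m : G) m.2 g⟩ = ψ₀ m := by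
        intro g
        have hirrg := Cfsg.Agent.Lib.H8.isIrrCharacter_conjNormal M ψ₀ hψ₀ g
        have hover : ∀ (ψ : M → ℂ), (∀ n' : N', ψ n' = (ϑ ∘ ι) n') →
            classInner (fun n' : N' => ψ n') (ϑ ∘ ι) ≠ 0 := by
          intro ψ hψ
          rw [funext hψ, irr_classInner_self hϑ']
          exact one_ne_zero
        have hresg : ∀ n' : N', (fun m : M => ψ₀ ⟨g * m * g⁻¹, hMn.conj_mem (m : G) m.2 g⟩) n' =
            (ϑ ∘ ι) n' := by
          intro n'
          have hmem : g * ((n' : M) : G) * g⁻¹ ∈ N := hN.conj_mem _ (ι n').2 g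
          have h1 := hψ₀N ⟨⟨g * ((n' : M) : G) * g⁻¹, hMn.conj_mem _ (n' : M).2 g⟩,
            Subgroup.mem_subgroupOf.mpr hmem⟩
          simp only at h1 ⊢
          rw [h1, Function.comp_apply, Function.comp_apply, ← hinv g (ι n')]
          congr 1
        have hfixg : ∀ m : M, (fun m : M => ψ₀ ⟨g * m * g⁻¹, hMn.conj_mem (m : G) m.2 g⟩) (m ^ k) =
            (fun m : M => ψ₀ ⟨g * m * g⁻¹, hMn.conj_mem (m : G) m.2 g⟩) m := by
          intro m
          simp only
          rw [← hψ₀fix ⟨g * m * g⁻¹, hMn.conj_mem (m : G) m.2 g⟩]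
          congr 1
          apply Subtype.ext
          simp only [Subgroup.coe_pow, conj_pow]
        have heq := gal_over_unique (G := M) N' hDM hoddrel ⟨ϑ ∘ ι, hϑ'⟩
          ⟨_, hirrg⟩ ⟨ψ₀, hψ₀⟩ hfixg hψ₀fix (hover _ hresg) (hover _ hψ₀N)
        intro m
        exact congrFun (congrArg Subtype.val heq) m
      obtain ⟨χ₀, hχ₀, hχ₀M⟩ := exists_extension_of_cyclic M hcyc ψ₀ hψ₀ hψinv
      have hχ₀N : ∀ n : N, χ₀ n = ϑ n := by
        intro n
        have h5 := hχ₀M ⟨n, hNM n.2⟩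
        have h6 := hψ₀N (ι.symm n)
        rw [Function.comp_apply, MulEquiv.apply_symm_apply] at h6
        rw [← h6]
        exact h5
      exact gal_ext_of_ext N hD hodd ϑ hϑ hfix χ₀ hχ₀ hχ₀N

theorem gal_ext_solvable {G : Type u} [Group G] [Fintype G] (N : Subgroup G) [hN : N.Normal]
    {k e : ℕ} (hD : GalDatum G k e) (hodd : Odd N.index) (hsolv : Group.IsSolvable (G ⧸ N))
    (ϑ : N → ℂ) (hϑ : IsIrrCharacter N ϑ)
    (hinv : ∀ (g : G) (n : N), ϑ ⟨g * n * g⁻¹, hN.conj_mem (n : G) n.2 g⟩ = ϑ n)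
    (hfix : ∀ n : N, ϑ (n ^ k) = ϑ n) :
    ∃ χ : G → ℂ, IsIrrCharacter G χ ∧ (∀ n : N, χ n = ϑ n) ∧ ∀ g : G, χ (g ^ k) = χ g :=
  gal_ext_solvable_aux _ G N k e rfl hodd hD hsolv ϑ hϑ hinv hfix

end Solvable

section General

variable {G : Type u} [Group G] [Fintype G] (N : Subgroup G) [hN : N.Normal] {k e : ℕ}

/-- The fixed irreducible extensions of `ϑ`. -/
def GoodGal (ϑ : N → ℂ) (k : ℕ) (H : Subgroup G) (hNH : N ≤ H) (ψ : H → ℂ) : Prop :=
  IsIrrCharacter H ψ ∧ (∀ n : N, ψ ⟨n, hNH n.2⟩ = ϑ n) ∧ ∀ h : H, ψ (h ^ k) = ψ h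

theorem isGlueFamily_goodGal (hD : GalDatum G k e) (hodd : Odd N.index) (ϑ : N → ℂ)
    (hϑ : IsIrrCharacter N ϑ)
    (hinv : ∀ (g : G) (n : N), ϑ ⟨g * n * g⁻¹, hN.conj_mem (n : G) n.2 g⟩ = ϑ n)
    (hfix : ∀ n : N, ϑ (n ^ k) = ϑ n) :
    GlueExt.IsGlueFamily N ϑ (GoodGal N ϑ k) where
  irr := fun _ _ h => h.1
  ext := fun _ _ h => h.2.1
  unique := by
    intro H hNH ψ₁ ψ₂ h₁ h₂
    classical
    have : Fintype H := Fintype.ofFinite H
    set N' : Subgroup H := N.subgroupOf H with hN'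
    have : Fintype N' := Fintype.ofFinite N'
    set ι : N' ≃* N := Subgroup.subgroupOfEquivOfLe hNH with hι
    have hϑ' : IsIrrCharacter N' (ϑ ∘ ι) :=
      isIrrCharacter_comp_of_surjective ι.toMonoidHom ι.surjective hϑ
    have hrel : N.relIndex H * H.index = N.index := Subgroup.relIndex_mul_index hNH
    have hoddrel : Odd N'.index := by
      rw [← hrel] at hodd
      exact (Nat.odd_mul.mp hodd).1
    have hover : ∀ (ψ : H → ℂ), (∀ n : N, ψ ⟨n, hNH n.2⟩ = ϑ n) →
        classInner (fun n' : N' => ψ n') (ϑ ∘ ι) ≠ 0 := by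
      intro ψ hψ
      have h1 : (fun n' : N' => ψ n') = ϑ ∘ ι := by
        funext n'
        exact hψ (ι n')
      rw [h1, irr_classInner_self hϑ']
      exact one_ne_zero
    have heq := gal_over_unique (G := H) N' (hD.subgroup H) hoddrel ⟨ϑ ∘ ι, hϑ'⟩
      ⟨ψ₁, h₁.1⟩ ⟨ψ₂, h₂.1⟩ h₁.2.2 h₂.2.2 (hover _ h₁.2.1) (hover _ h₂.2.1)
    exact congrArg Subtype.val heq
  exists_of_solvable := by
    intro H hNH hsolv
    classical
    have : Fintype H := Fintype.ofFinite H
    set N' : Subgroup H := N.subgroupOf H with hN'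
    set ι : N' ≃* N := Subgroup.subgroupOfEquivOfLe hNH with hι
    have hϑ' : IsIrrCharacter N' (ϑ ∘ ι) :=
      isIrrCharacter_comp_of_surjective ι.toMonoidHom ι.surjective hϑ
    have hrel : N.relIndex H * H.index = N.index := Subgroup.relIndex_mul_index hNH
    have hoddrel : Odd N'.index := by
      rw [← hrel] at hodd
      exact (Nat.odd_mul.mp hodd).1
    have hinv' : ∀ (m : H) (n' : N'),
        (ϑ ∘ ι) ⟨m * n' * m⁻¹, (inferInstance : N'.Normal).conj_mem (n' : H) n'.2 m⟩ =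
          (ϑ ∘ ι) n' := by
      intro m n'
      have := hinv (m : G) (ι n')
      rw [Function.comp_apply, Function.comp_apply, ← this]
      congr 1
    have hfix' : ∀ n' : N', (ϑ ∘ ι) (n' ^ k) = (ϑ ∘ ι) n' := by
      intro n'
      rw [Function.comp_apply, Function.comp_apply, map_pow, hfix]
    obtain ⟨ψ, hψ, hψN, hψfix⟩ := gal_ext_solvable N' (hD.subgroup H) hoddrel hsolv (ϑ ∘ ι) hϑ'
      hinv' hfix'
    refine ⟨ψ, hψ, fun n => ?_, hψfix⟩
    have h2 := hψN (ι.symm n)
    rw [Function.comp_apply, MulEquiv.apply_symm_apply] at h2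
    rw [← h2]
    rfl
  restrict := by
    intro K H hNK hKH ψ h
    obtain ⟨h1, h2, h3⟩ := h
    have hψc := isCharacter_of_irr h1
    have hc : IsCharacter K (fun k : K => ψ ⟨k, hKH k.2⟩) :=
      isCharacter_comp (Subgroup.inclusion hKH) hψc
    refine ⟨?_, ?_, ?_⟩
    · apply isIrrCharacter_of_restrict_irr (N.subgroupOf K) hc
      set ι := Subgroup.subgroupOfEquivOfLe hNK with hι
      have h4 : (fun n' : N.subgroupOf K => (fun k : K => ψ ⟨k, hKH k.2⟩) n') = ϑ ∘ ι := by
        funext n'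
        exact h2 (ι n')
      rw [h4]
      exact isIrrCharacter_comp_of_surjective ι.toMonoidHom ι.surjective hϑ
    · intro n
      exact h2 n
    · intro x
      exact h3 ⟨x, hKH x.2⟩
  conjugate := by
    intro x H hNH ψ h
    obtain ⟨h1, h2, h3⟩ := h
    set iso := H.equivMapOfInjective (MulAut.conj x).toMonoidHom (MulAut.conj x).injective with hiso
    have hsymm : ∀ h' : H.map (MulAut.conj x).toMonoidHom,
        ((iso.symm h' : H) : G) = x⁻¹ * h' * x := by
      intro h'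
      have h4 : ((iso (iso.symm h') : H.map (MulAut.conj x).toMonoidHom) : G) =
          x * (iso.symm h' : H) * x⁻¹ := rfl
      rw [MulEquiv.apply_symm_apply] at h4
      rw [h4]
      group
    refine ⟨isIrrCharacter_comp_of_surjective iso.symm.toMonoidHom iso.symm.surjective h1, ?_, ?_⟩
    · intro n
      rw [Function.comp_apply]
      have hmem : x⁻¹ * (n : G) * x ∈ N := by
        have := hN.conj_mem n n.2 x⁻¹
        rwa [inv_inv] at this
      have h5 : iso.symm ⟨n, le_map_conj_of_normal x hNH n.2⟩ = ⟨x⁻¹ * n * x, hNH hmem⟩ := by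
        apply Subtype.ext
        rw [hsymm]
      rw [h5]
      have h6 := h2 ⟨x⁻¹ * n * x, hmem⟩
      rw [h6]
      have h7 := hinv x⁻¹ n
      rw [← h7]
      congr 1
      apply Subtype.ext
      simp
    · intro h'
      rw [Function.comp_apply, Function.comp_apply, map_pow, h3]

/-- **Fixed extension**: a `G`-invariant fixed irreducible character of a normal subgroup of odd
index has a fixed extension to `G`. -/
theorem gal_ext (hD : GalDatum G k e) (hodd : Odd N.index) (ϑ : N → ℂ)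
    (hϑ : IsIrrCharacter N ϑ)
    (hinv : ∀ (g : G) (n : N), ϑ ⟨g * n * g⁻¹, hN.conj_mem (n : G) n.2 g⟩ = ϑ n)
    (hfix : ∀ n : N, ϑ (n ^ k) = ϑ n) :
    ∃ χ : G → ℂ, IsIrrCharacter G χ ∧ (∀ n : N, χ n = ϑ n) ∧ ∀ g : G, χ (g ^ k) = χ g := by
  have hF := isGlueFamily_goodGal N hD hodd ϑ hϑ hinv hfix
  obtain ⟨χ, hχ, hχN, hχgood⟩ := hF.exists_extension hϑ
  refine ⟨χ, hχ, hχN, fun g => ?_⟩
  have hsolv : Group.IsSolvable ((Subgroup.zpowers g ⊔ N : Subgroup G) ⧸
      N.subgroupOf (Subgroup.zpowers g ⊔ N)) := isSolvable_sup_quotient _ inferInstance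
  obtain ⟨ψ, hψ⟩ := hF.exists_of_solvable (le_sup_right : N ≤ Subgroup.zpowers g ⊔ N) hsolv
  have hg : g ∈ Subgroup.zpowers g ⊔ N :=
    le_sup_left (a := Subgroup.zpowers g) (Subgroup.mem_zpowers g)
  have hgk : g ^ k ∈ Subgroup.zpowers g ⊔ N := Subgroup.pow_mem _ hg k
  rw [hχgood _ _ ψ hψ g hg, hχgood _ _ ψ hψ (g ^ k) hgk, ← hψ.2.2 ⟨g, hg⟩]
  rfl

end General

end Cfsg.Agent.Lib.L0.GalOdd
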