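import Cfsg.Agent.Lib.L0.TildeChar

/-!
# The Sylow-weighted degree sum of a block is prime to `p`

For a block `B = blockOf M χ₀` of a finite group, `P` a Sylow `p`-subgroup, `e` the least
`p`-adic valuation of a degree in `B`, the number
`∑_{χ ∈ B} sylowMult P χ * (χ(1) / p ^ e)` is not divisible by `p`.
(Extracted from the proof of S4491.)
-/

set_option autoImplicit false
open Cfsg

namespace Cfsg.Agent.Lib.L0.BlockSylowSum

open Cfsg.Agent.Lib.H23 Cfsg.Agent.Lib.H24 Cfsg.Agent.Lib.L0 Cfsg.Agent.Lib.L0.Tilde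
  Cfsg.Agent.Lib.L0.BlockMinMax
open scoped ComplexConjugate

variable {G : Type*} [Group G] [Fintype G]

theorem not_dvd_sum_sylowMult {p : ℕ} [Fact p.Prime] {M : Ideal Cfsg.AlgInt}
    (hM : Cfsg.IsPModular p M) [Fintype (IrrCharacter G)] (χ₀ : IrrCharacter G)
    [DecidablePred (· ∈ blockOf M (χ₀ : G → ℂ))] (P : Sylow p G) :
    ¬ p ∣ ∑ χ : IrrCharacter G, (if χ ∈ blockOf M (χ₀ : G → ℂ) then
      sylowMult P χ * (charDegree (χ : G → ℂ) / p ^ minDeg p (blockOf M (χ₀ : G → ℂ))) else 0) := by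
  classical
  haveI hP := isPrime_of_isPModular hM
  have hp : p.Prime := Fact.out
  set B := blockOf M (χ₀ : G → ℂ) with hBdef
  set a := (Nat.card G).factorization p with ha
  set e := minDeg p B with he
  have hsame : ∀ χ ψ : IrrCharacter G, χ ∈ B → ψ ∈ B →
      SameBlock M (χ : G → ℂ) (ψ : G → ℂ) := fun χ ψ hχ hψ =>
    sameBlock_trans (sameBlock_symm hχ) hψ
  have hA0' : ∀ χ ψ : IrrCharacter G, χ ∉ B → ψ ∈ B → AA p (χ : G → ℂ) (ψ : G → ℂ) = 0 := by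
    intro χ ψ hχ hψ
    refine AA_eq_zero_of_not_sameBlock hM χ ψ fun h => hχ ?_
    exact sameBlock_trans hψ (sameBlock_symm h)
  set n : IrrCharacter G → ℕ := sylowMult P with hn
  have hdeg : ∀ χ : IrrCharacter G, (χ : G → ℂ) 1 = (charDegree (χ : G → ℂ) : ℂ) :=
    fun χ => apply_one_eq_charDegree _ χ.2
  have hdvd : ∀ χ : IrrCharacter G, χ ∈ B → p ^ e ∣ charDegree (χ : G → ℂ) := by
    intro χ hχ
    have h1 : e ≤ (charDegree (χ : G → ℂ)).factorization p := minDeg_le (p := p) χ₀ hχ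
    exact (pow_dvd_pow p h1).trans (Nat.ordProj_dvd _ _)
  set t : IrrCharacter G → ℕ := fun χ => charDegree (χ : G → ℂ) / p ^ e with ht
  have hte : ∀ χ : IrrCharacter G, χ ∈ B → charDegree (χ : G → ℂ) = p ^ e * t χ := by
    intro χ hχ
    rw [ht]
    exact (Nat.mul_div_cancel' (hdvd χ hχ)).symm
  set N : ℕ := ∑ χ : IrrCharacter G, (if χ ∈ B then n χ * t χ else 0) with hN
  intro hpN0
  have hpN : p ∣ N := by
    rw [hN]
    convert hpN0
  -- a character of height zero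
  have hVne : ((fun χ : IrrCharacter G =>
      (charDegree (χ : G → ℂ)).factorization p) '' B).Nonempty :=
    ⟨_, χ₀, mem_blockOf_self χ₀, rfl⟩
  obtain ⟨ψ₀, hψ₀, hψ₀e⟩ := Nat.sInf_mem hVne
  simp only at hψ₀e
  have hψ₀e' : (charDegree (ψ₀ : G → ℂ)).factorization p = e := hψ₀e
  have hdeg0 : charDegree (ψ₀ : G → ℂ) ≠ 0 := (charDegree_pos _ ψ₀.2).ne'
  have htψ₀ : ¬ p ∣ t ψ₀ := by
    rw [ht]
    simp only
    rw [← hψ₀e']
    exact Nat.not_dvd_ordCompl hp hdeg0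
  set m' := Nat.card G / p ^ a with hm'
  have hm'p : ¬ p ∣ m' := Nat.not_dvd_ordCompl hp Nat.card_pos.ne'
  set z₀ := regElt p (ψ₀ : G → ℂ) with hz₀
  have hz₀c : z₀ ∈ Subalgebra.center ℂ (MonoidAlgebra ℂ G) :=
    regElt_mem_center p (irr_isClassFunction ψ₀)
  have hz₀i : z₀ ∈ intCoeff (G := G) M := regElt_mem_intCoeff p ψ₀
  set s := omega (ψ₀ : G → ℂ) z₀ with hs
  have hsR : MemLocalRing M s := omega_memLocalRing ψ₀ hz₀c hz₀i
  have h1 : (charDegree (ψ₀ : G → ℂ) : ℂ) * (m' : ℂ) =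
      ∑ χ : IrrCharacter G, (if χ ∈ B then
        (n χ : ℂ) * ((charDegree (χ : G → ℂ) : ℂ) * omega (χ : G → ℂ) z₀) else 0) := by
    rw [← hdeg ψ₀, ← sum_sylowMult_mul_AA P ψ₀, Finset.sum_mul]
    refine Finset.sum_congr rfl fun χ _ => ?_
    by_cases hχ : χ ∈ B
    · rw [if_pos hχ, mul_assoc, AA_mul_ordCompl hp χ, hdeg χ]
    · rw [if_neg hχ, hA0' χ ψ₀ hχ hψ₀]; ring
  have hpe : ((p ^ e : ℕ) : ℂ) ≠ 0 := by exact_mod_cast (pow_pos hp.pos e).ne'
  have h2 : (t ψ₀ : ℂ) * (m' : ℂ) =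
      ∑ χ : IrrCharacter G, (if χ ∈ B then
        (n χ : ℂ) * ((t χ : ℂ) * omega (χ : G → ℂ) z₀) else 0) := by
    apply mul_left_cancel₀ hpe
    have e1 : ((p ^ e : ℕ) : ℂ) * ((t ψ₀ : ℂ) * (m' : ℂ)) =
        (charDegree (ψ₀ : G → ℂ) : ℂ) * (m' : ℂ) := by
      rw [hte ψ₀ hψ₀]; push_cast; ring
    rw [e1, h1, Finset.mul_sum]
    refine Finset.sum_congr rfl fun χ _ => ?_
    by_cases hχ : χ ∈ B
    · rw [if_pos hχ, if_pos hχ]
      conv_lhs => rw [hte χ hχ]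
      push_cast; ring
    · rw [if_neg hχ, if_neg hχ, mul_zero]
  have h3 : MemLocalIdeal M ((t ψ₀ : ℂ) * (m' : ℂ) - s * (N : ℂ)) := by
    have e2 : (t ψ₀ : ℂ) * (m' : ℂ) - s * (N : ℂ) =
        ∑ χ : IrrCharacter G, (if χ ∈ B then
          ((n χ : ℂ) * (t χ : ℂ)) * (omega (χ : G → ℂ) z₀ - s) else 0) := by
      rw [h2, hN]
      push_cast
      rw [Finset.mul_sum, ← Finset.sum_sub_distrib]
      refine Finset.sum_congr rfl fun χ _ => ?_
      by_cases hχ : χ ∈ B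
      · rw [if_pos hχ, if_pos hχ, if_pos hχ]; ring
      · rw [if_neg hχ, if_neg hχ, if_neg hχ]; ring
    rw [e2]
    refine memLocalIdeal_sum _ _ fun χ _ => ?_
    by_cases hχ : χ ∈ B
    · rw [if_pos hχ]
      refine memLocalIdeal_mul_left ?_ (omega_sub_memLocalIdeal (hsame χ ψ₀ hχ hψ₀) hz₀c hz₀i)
      exact memLocalRing_mul (natCast_mem_localRing _) (natCast_mem_localRing _)
    · rw [if_neg hχ]; exact memLocalIdeal_zero hP.ne_top
  have h4 : MemLocalIdeal M (s * (N : ℂ)) :=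
    memLocalIdeal_mul_left hsR ((natCast_memLocalIdeal_iff hM N).mpr hpN)
  have h5 := memLocalIdeal_add h3 h4
  rw [sub_add_cancel] at h5
  have h6 : MemLocalIdeal M ((t ψ₀ * m' : ℕ) : ℂ) := by push_cast; exact h5
  have h7 := (natCast_memLocalIdeal_iff hM _).mp h6
  rcases (Nat.Prime.dvd_mul hp).mp h7 with h | h
  · exact htψ₀ h
  · exact hm'p h

end Cfsg.Agent.Lib.L0.BlockSylowSum
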