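import Mathlib
import Cfsg.Agent.Lib.L0.GalOddB
import Cfsg.Agent.Lib.H23.Isaacs1129b
import Cfsg.Agent.Lib.H23.BlockGreen
import Cfsg.Agent.Lib.H24.CharInflEquiv
import Cfsg.Agent.Lib.H24.CharConj

/-!
# Groups whose real irreducible characters have degree prime to `p`: character-theoretic input
(lead's library, towards Isaacs–Navarro)

* `RealHyp p G`: every real-valued irreducible character of `G` has degree prime to `p`;
* `realHyp_of_odd_index`: it passes to normal subgroups of odd index;
* `realHyp_quotient`: it passes to quotients;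
* `trivial_on_of_no_fixed`: if a `p`-subgroup `P` has no nontrivial fixed point on `M ⊴ G` then every
  irreducible character of degree prime to `p` is trivial on `M`;
* `not_real_of_complement`: if every real irreducible character is trivial on `M ⊴ G` and `M` has a
  complement, then `M` contains no real element other than `1`.
-/

set_option autoImplicit false

namespace Cfsg.Agent.Lib.L0.RealPDeg

open scoped ComplexConjugate
open Cfsg Cfsg.Agent.Lib.L0 Cfsg.Agent.Lib.H24 Cfsg.Agent.Lib.H23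

/-- Every real-valued irreducible character has degree prime to `p`. -/
def RealHyp (p : ℕ) (G : Type*) [Group G] : Prop :=
  ∀ χ : IrrCharacter G, (∀ g : G, ((χ : G → ℂ) g).im = 0) → ¬ p ∣ charDegree (χ : G → ℂ)

section OddIndex

variable {G : Type*} [Group G] [Fintype G]

/-- The datum of complex conjugation. -/
theorem galDatum_conj : GalOdd.GalDatum G (Nat.card G - 1) 1 where
  cop := by
    have h1 : 0 < Nat.card G := Nat.card_pos
    have h2 : Nat.Coprime (Nat.card G - 1) (Nat.card G - 1 + 1) := by simp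
    rwa [Nat.sub_add_cancel h1] at h2
  pow := by
    have h1 : 0 < Nat.card G := Nat.card_pos
    obtain ⟨n, hn⟩ : ∃ n, Nat.card G = n + 1 := ⟨Nat.card G - 1, by omega⟩
    rw [hn, Nat.add_sub_cancel]
    rcases n with _ | n
    · exact Nat.modEq_one
    · show (n + 1) ^ 2 ^ 1 % (n + 1 + 1) = 1 % (n + 1 + 1)
      have : (n + 1) ^ 2 ^ 1 = (n + 1 + 1) * n + 1 := by ring
      rw [this, Nat.mul_add_mod]
  inv := by
    intro g _
    have h1 : 0 < Nat.card G := Nat.card_pos
    have h2 : g ^ (Nat.card G - 1) * g = 1 := by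
      rw [← pow_succ, Nat.sub_add_cancel h1, pow_card_eq_one']
    exact eq_inv_of_mul_eq_one_left h2

theorem pow_card_sub_one (g : G) : g ^ (Nat.card G - 1) = g⁻¹ := by
  have h1 : 0 < Nat.card G := Nat.card_pos
  have h2 : g ^ (Nat.card G - 1) * g = 1 := by
    rw [← pow_succ, Nat.sub_add_cancel h1, pow_card_eq_one']
  exact eq_inv_of_mul_eq_one_left h2

/-- `RealHyp` passes to normal subgroups of odd index. -/
theorem realHyp_of_odd_index (p : ℕ) (N : Subgroup G) [hN : N.Normal] (hodd : Odd N.index)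
    (h : RealHyp p G) : RealHyp p N := by
  classical
  have : Fintype N := Fintype.ofFinite N
  intro θ hθreal
  have hθconj : ∀ n : N, conj ((θ : N → ℂ) n) = (θ : N → ℂ) n := fun n =>
    Complex.conj_eq_iff_im.mpr (hθreal n)
  have hθfix : ∀ n : N, (θ : N → ℂ) (n ^ (Nat.card G - 1)) = (θ : N → ℂ) n := by
    intro n
    have h1 : n ^ (Nat.card G - 1) = n⁻¹ := by
      apply Subtype.ext
      rw [Subgroup.coe_pow, Subgroup.coe_inv]
      exact pow_card_sub_one (n : G)
    rw [h1, isCharacter_apply_inv (isCharacter_of_irr θ.2), hθconj]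
  obtain ⟨χ, hχo, hχfix⟩ := GalOdd.gal_over_exists N galDatum_conj hodd θ hθfix
  have hχreal : ∀ g : G, ((χ : G → ℂ) g).im = 0 := by
    intro g
    apply Complex.conj_eq_iff_im.mp
    rw [← isCharacter_apply_inv (isCharacter_of_irr χ.2), ← pow_card_sub_one, hχfix]
  have h2 := h χ hχreal
  have h3 := charDegree_dvd_of_constituent N χ.2 θ.2 hχo
  exact fun h4 => h2 (h4.trans h3)

/-- `RealHyp` passes to quotients. -/
theorem realHyp_quotient (p : ℕ) (M : Subgroup G) [M.Normal] (h : RealHyp p G) :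
    RealHyp p (G ⧸ M) := by
  intro ψ hψ
  have h1 := h (inflIrr M ψ) (fun g => by rw [inflIrr_apply]; exact hψ _)
  rwa [charDegree_inflIrr] at h1

end OddIndex

section NoFixed

variable {G : Type*} [Group G] [Fintype G]

/-- The additive subgroup `p • 𝔸` of the complex numbers. -/
def pMulInt (p : ℕ) : AddSubgroup ℂ where
  carrier := {z | ∃ w : ℂ, IsIntegral ℤ w ∧ z = p * w}
  zero_mem' := ⟨0, isIntegral_zero, by simp⟩
  add_mem' := by
    rintro a b ⟨w, hw, rfl⟩ ⟨v, hv, rfl⟩
    exact ⟨w + v, hw.add hv, by ring⟩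
  neg_mem' := by
    rintro a ⟨w, hw, rfl⟩
    exact ⟨-w, hw.neg, by ring⟩

theorem isIrrCharacter_const_one (H : Type*) [Group H] : IsIrrCharacter H (fun _ => (1 : ℂ)) := by
  have := isIrrCharacter_one (G := H)
  simpa [Pi.one_def] using this

/-- If the `p`-subgroup `P` has no nontrivial fixed point on the normal subgroup `M`, then every
irreducible character of degree prime to `p` has `M` in its kernel. -/
theorem trivial_on_of_no_fixed (p : ℕ) [hp : Fact p.Prime] (M : Subgroup G) [hM : M.Normal]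
    (P : Subgroup G) (hP : IsPGroup p P)
    (hfix : M ⊓ Subgroup.centralizer (P : Set G) = ⊥) (χ : IrrCharacter G)
    (hdeg : ¬ p ∣ charDegree (χ : G → ℂ)) : ∀ m ∈ M, (χ : G → ℂ) m = (χ : G → ℂ) 1 := by
  classical
  have : Fintype M := Fintype.ofFinite M
  have hone := isIrrCharacter_const_one M
  obtain ⟨a, ha⟩ := classInner_char_irr_nat (isCharacter_restrict M (isCharacter_of_irr χ.2)) hone
  have hMne : (Nat.card M : ℂ) ≠ 0 := Nat.cast_ne_zero.mpr Nat.card_pos.ne'
  have hsum : ∑ m : M, (χ : G → ℂ) m = (Nat.card M : ℂ) * a := by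
    rw [← ha]
    unfold classInner
    rw [← mul_assoc, mul_inv_cancel₀ hMne, one_mul]
    refine Finset.sum_congr rfl (fun m _ => ?_)
    simp
  -- the action of P on M by conjugation
  let act : MulAction P M :=
    MulAction.compHom M ((MulAut.conjNormal (H := M)).comp P.subtype)
  have hact : ∀ (x : P) (m : M), ((x • m : M) : G) = (x : G) * m * (x : G)⁻¹ := by
    intro x m
    exact MulAut.conjNormal_apply (x : G) m
  set φ : M → ℂ := fun m => if m = 1 then 0 else (χ : G → ℂ) m with hφ
  have hcf := isClassFunction_of_isCharacter (isCharacter_of_irr χ.2)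
  have hsmul_one : ∀ (x : P) (m : M), x • m = 1 ↔ m = 1 := by
    intro x m
    constructor
    · intro h
      have h1 := congrArg (fun z : M => (z : G)) h
      simp only [hact, Subgroup.coe_one] at h1
      apply Subtype.ext
      have : (m : G) = (x : G)⁻¹ * ((x : G) * m * (x : G)⁻¹) * (x : G) := by group
      rw [this, h1]
      simp
    · intro h
      rw [h]
      apply Subtype.ext
      rw [hact]
      simp
  have hinv : ∀ (x : P) (m : M), φ (x • m) = φ m := by
    intro x m
    simp only [hφ, hsmul_one]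
    split_ifs
    · rfl
    · rw [hact]
      exact hcf m x
  have horb : ∀ m : M, (Nat.card (MulAction.orbit P m)) • φ m ∈ pMulInt p := by
    intro m
    by_cases hm : m = 1
    · simp only [hφ, hm, if_true, smul_zero]
      exact (pMulInt p).zero_mem
    · obtain ⟨j, hj⟩ := hP.card_orbit m
      have hj0 : j ≠ 0 := by
        intro h0
        rw [h0, pow_zero] at hj
        apply hm
        -- m is fixed by P
        have hsub : Subsingleton (MulAction.orbit P m) := (Nat.card_eq_one_iff_unique.mp hj).1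
        have hfixed : ∀ x : P, x • m = m := by
          intro x
          have h1 : (⟨x • m, MulAction.mem_orbit m x⟩ : MulAction.orbit P m) =
              ⟨m, MulAction.mem_orbit_self m⟩ := Subsingleton.elim _ _
          exact congrArg Subtype.val h1
        have hmem : (m : G) ∈ M ⊓ Subgroup.centralizer (P : Set G) := by
          refine Subgroup.mem_inf.mpr ⟨m.2, ?_⟩
          rw [Subgroup.mem_centralizer_iff]
          intro x hx
          have h2 := congrArg (fun z : M => (z : G)) (hfixed ⟨x, hx⟩)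
          simp only [hact] at h2
          calc x * (m : G) = (x * m * x⁻¹) * x := by group
            _ = m * x := by rw [h2]
        rw [hfix, Subgroup.mem_bot] at hmem
        exact Subtype.ext hmem
      obtain ⟨i, rfl⟩ := Nat.exists_eq_succ_of_ne_zero hj0
      rw [hj]
      simp only [hφ, hm, if_false]
      refine ⟨(p : ℂ) ^ i * (χ : G → ℂ) m, ?_, ?_⟩
      · exact ((isIntegral_natCast (R := ℤ) (B := ℂ) p).pow i).mul
          (isCharacter_isIntegral (isCharacter_of_irr χ.2) m)
      · rw [nsmul_eq_mul]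
        push_cast
        rw [pow_succ]
        ring
  have hS := Cfsg.Agent.Lib.H23.Green.sum_mem_of_orbit (Q := P) (X := M) (pMulInt p) φ hinv horb
  obtain ⟨w, hw, hwe⟩ := hS
  have hsplit : ∑ m : M, (χ : G → ℂ) m = (χ : G → ℂ) 1 + ∑ m : M, φ m := by
    have h1 : ∀ m : M, (χ : G → ℂ) m = (if m = 1 then (χ : G → ℂ) 1 else 0) + φ m := by
      intro m
      simp only [hφ]
      split_ifs with h
      · rw [h]; simp
      · simp
    rw [Finset.sum_congr rfl (fun m _ => h1 m), Finset.sum_add_distrib, Finset.sum_ite_eq']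
    simp
  have hd : (χ : G → ℂ) 1 = (charDegree (χ : G → ℂ) : ℂ) := apply_one_eq_charDegree _ χ.2
  -- a ≠ 0
  have ha0 : a ≠ 0 := by
    intro h0
    apply hdeg
    rw [hsum, h0, hwe, hd] at hsplit
    have hpne : (p : ℂ) ≠ 0 := Nat.cast_ne_zero.mpr hp.out.ne_zero
    have hw' : w = ((-(charDegree (χ : G → ℂ) : ℤ) / (p : ℤ) : ℚ) : ℂ) := by
      push_cast
      field_simp
      linear_combination -hsplit
    obtain ⟨n, hn⟩ : ∃ n : ℤ, w = n := by
      rw [hw'] at hw
      have h2 : IsIntegral ℤ ((-(charDegree (χ : G → ℂ) : ℤ) / (p : ℤ) : ℚ)) :=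
        (isIntegral_algebraMap_iff (algebraMap ℚ ℂ).injective).mp hw
      obtain ⟨n, hn⟩ := IsIntegrallyClosed.isIntegral_iff.mp h2
      exact ⟨n, by rw [hw', ← hn]; simp⟩
    rw [hn] at hsplit
    have h3 : ((charDegree (χ : G → ℂ) : ℤ) : ℂ) = ((-(p : ℤ) * n : ℤ) : ℂ) := by
      push_cast
      linear_combination -hsplit
    have h4 : (charDegree (χ : G → ℂ) : ℤ) = -(p : ℤ) * n := by exact_mod_cast h3
    have h5 : (p : ℤ) ∣ (charDegree (χ : G → ℂ) : ℤ) := ⟨-n, by rw [h4]; ring⟩
    exact Int.natCast_dvd_natCast.mp h5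
  -- Clifford
  have hcon : classInner (fun n : M => (χ : G → ℂ) n) (fun _ => (1 : ℂ)) ≠ 0 := by
    rw [ha]
    exact Nat.cast_ne_zero.mpr ha0
  have hcl := Cfsg.Agent.S0174.result M hM (χ : G → ℂ) χ.2 (fun _ => (1 : ℂ)) hone hcon
  have hset : {ψ : M → ℂ | ∃ g : G, ψ = fun n : M =>
      (fun _ : M => (1 : ℂ)) ⟨g * n * g⁻¹, hM.conj_mem n n.2 g⟩} = {fun _ => (1 : ℂ)} := by
    ext ψ
    simp only [Set.mem_setOf_eq, Set.mem_singleton_iff]
    constructor
    · rintro ⟨g, rfl⟩; rfl
    · intro h; exact ⟨1, h⟩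
  rw [hset, finsum_mem_singleton, ha] at hcl
  intro m hm
  have h1 := congrFun hcl ⟨m, hm⟩
  have h2 := congrFun hcl 1
  simp only [Pi.smul_apply, smul_eq_mul, mul_one] at h1 h2
  rw [h1]
  exact h2.symm

end NoFixed

section Complement

variable {G : Type*} [Group G] [Fintype G]

/-- The real classes. -/
abbrev RealCl (G : Type*) [Group G] : Type _ :=
  {C : ConjClasses G // ∀ g : G, ConjClasses.mk g = C → IsConj g g⁻¹}

theorem map_mk {A B : Type*} [Monoid A] [Monoid B] (f : A →* B) (a : A) :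
    ConjClasses.map f (ConjClasses.mk a) = ConjClasses.mk (f a) := rfl

theorem isConj_inv_of_isConj {H : Type*} [Group H] {g h : H} (hgh : IsConj g h) (hh : IsConj h h⁻¹) :
    IsConj g g⁻¹ := by
  have h1 : IsConj h⁻¹ g⁻¹ := by
    obtain ⟨c, hc⟩ := isConj_iff.mp hgh
    refine isConj_iff.mpr ⟨c⁻¹, ?_⟩
    rw [← hc]
    group
  exact hgh.trans (hh.trans h1)

/-- If every real irreducible character of `G` is trivial on the complemented normal subgroup `M`,
then `M` contains no nonidentity real element. -/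
theorem not_real_of_complement (M H : Subgroup G) [hM : M.Normal] (hsup : M ⊔ H = ⊤)
    (hinf : M ⊓ H = ⊥)
    (htriv : ∀ χ : IrrCharacter G, (∀ g : G, ((χ : G → ℂ) g).im = 0) →
      ∀ m ∈ M, (χ : G → ℂ) m = (χ : G → ℂ) 1)
    (m : G) (hm : m ∈ M) (hreal : IsConj m m⁻¹) : m = 1 := by
  classical
  by_contra hm1
  have := Fintype.ofFinite (G ⧸ M)
  have := Fintype.ofFinite (RealCl G)
  have := Fintype.ofFinite (RealCl (G ⧸ M))
  -- real irreducible characters of G and G/M
  have hcard1 : Nat.card {χ : IrrCharacter G // ∀ g : G, ((χ : G → ℂ) g).im = 0} =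
      Nat.card {ψ : IrrCharacter (G ⧸ M) // ∀ q : G ⧸ M, ((ψ : G ⧸ M → ℂ) q).im = 0} := by
    symm
    refine Nat.card_congr ?_
    refine Equiv.ofBijective (fun ψ => ⟨(inflEquiv M ψ.1).1, fun g => by
      rw [inflEquiv_apply]; exact ψ.2 _⟩) ⟨?_, ?_⟩
    · intro ψ ψ' h
      apply Subtype.ext
      apply (inflEquiv M).injective
      apply Subtype.ext
      exact congrArg (fun z : {χ : IrrCharacter G // ∀ g : G, ((χ : G → ℂ) g).im = 0} => z.1) h
    · intro χ
      obtain ⟨ψ, hψ⟩ := (inflEquiv M).surjective ⟨χ.1, htriv χ.1 χ.2⟩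
      refine ⟨⟨ψ, ?_⟩, ?_⟩
      · intro q
        obtain ⟨g, rfl⟩ := QuotientGroup.mk_surjective q
        have h1 := inflEquiv_apply M ψ g
        rw [hψ] at h1
        rw [← h1]
        exact χ.2 g
      · apply Subtype.ext
        simp only
        rw [hψ]
  have hc1 := card_real_irr_eq_card_real_classes (G := G)
  have hc2 := card_real_irr_eq_card_real_classes (G := G ⧸ M)
  -- the map on real classes
  have hmapreal : ∀ C : RealCl G, ∀ q : G ⧸ M,
      ConjClasses.mk q = ConjClasses.map (QuotientGroup.mk' M) C.1 → IsConj q q⁻¹ := by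
    rintro ⟨C, hC⟩ q hq
    obtain ⟨g₀, rfl⟩ := ConjClasses.mk_surjective C
    have h1 : IsConj g₀ g₀⁻¹ := hC g₀ rfl
    rw [map_mk] at hq
    have h2 : IsConj q (QuotientGroup.mk' M g₀) := ConjClasses.mk_eq_mk_iff_isConj.mp hq
    have h3 : IsConj (QuotientGroup.mk' M g₀) (QuotientGroup.mk' M g₀)⁻¹ := by
      rw [← map_inv]
      exact MonoidHom.map_isConj (QuotientGroup.mk' M) h1
    exact isConj_inv_of_isConj h2 h3
  let f : RealCl G → RealCl (G ⧸ M) := fun C =>
    ⟨ConjClasses.map (QuotientGroup.mk' M) C.1, fun q hq => hmapreal C q hq⟩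
  have hdecomp : ∀ g : G, ∃ a ∈ M, ∃ h ∈ H, g = a * h := by
    intro g
    have hg : g ∈ M ⊔ H := by rw [hsup]; exact Subgroup.mem_top g
    rw [Subgroup.mem_sup_of_normal_left] at hg
    obtain ⟨a, ha, h, hh, rfl⟩ := hg
    exact ⟨a, ha, h, hh, rfl⟩
  have hfsurj : Function.Surjective f := by
    rintro ⟨C', hC'⟩
    obtain ⟨q, rfl⟩ := ConjClasses.mk_surjective C'
    obtain ⟨g, rfl⟩ := QuotientGroup.mk_surjective q
    obtain ⟨a, ha, h, hh, rfl⟩ := hdecomp g
    have hqa : ((a * h : G) : G ⧸ M) = ((h : G) : G ⧸ M) := by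
      rw [QuotientGroup.mk_mul, (QuotientGroup.eq_one_iff a).mpr ha, one_mul]
    have h1 : IsConj ((h : G) : G ⧸ M) ((h : G) : G ⧸ M)⁻¹ := by
      rw [← hqa]
      exact hC' _ rfl
    obtain ⟨c, hc⟩ := isConj_iff.mp h1
    obtain ⟨x, rfl⟩ := QuotientGroup.mk_surjective c
    obtain ⟨b, hb, h', hh', rfl⟩ := hdecomp x
    have hqb : ((b * h' : G) : G ⧸ M) = ((h' : G) : G ⧸ M) := by
      rw [QuotientGroup.mk_mul, (QuotientGroup.eq_one_iff b).mpr hb, one_mul]
    rw [hqb] at hc
    have h2 : h' * h * h'⁻¹ * h ∈ M := by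
      rw [← QuotientGroup.eq_one_iff]
      have h3 : ((h' * h * h'⁻¹ * h : G) : G ⧸ M) =
          ((h' : G) : G ⧸ M) * ((h : G) : G ⧸ M) * ((h' : G) : G ⧸ M)⁻¹ * ((h : G) : G ⧸ M) := rfl
      rw [h3, hc, inv_mul_cancel]
    have h4 : h' * h * h'⁻¹ * h ∈ M ⊓ H :=
      ⟨h2, H.mul_mem (H.mul_mem (H.mul_mem hh' hh) (H.inv_mem hh')) hh⟩
    rw [hinf, Subgroup.mem_bot] at h4
    have h5 : IsConj h h⁻¹ := isConj_iff.mpr ⟨h', eq_inv_of_mul_eq_one_left h4⟩
    refine ⟨⟨ConjClasses.mk h, fun g' hg' => ?_⟩, ?_⟩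
    · exact isConj_inv_of_isConj (ConjClasses.mk_eq_mk_iff_isConj.mp hg') h5
    · apply Subtype.ext
      show ConjClasses.map (QuotientGroup.mk' M) (ConjClasses.mk h) = _
      rw [map_mk]
      show ConjClasses.mk (((h : G) : G ⧸ M)) = ConjClasses.mk (((a * h : G) : G ⧸ M))
      rw [hqa]
  have hfninj : ¬ Function.Injective f := by
    intro hinj
    have h1 : (⟨ConjClasses.mk m, fun g' hg' =>
        isConj_inv_of_isConj (ConjClasses.mk_eq_mk_iff_isConj.mp hg') hreal⟩ : RealCl G) =
        ⟨ConjClasses.mk 1, fun g' hg' => by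
          have h7 : g' = 1 := isConj_one_left.mp (ConjClasses.mk_eq_mk_iff_isConj.mp hg')
          rw [h7, inv_one]⟩ := by
      apply hinj
      apply Subtype.ext
      show ConjClasses.map (QuotientGroup.mk' M) (ConjClasses.mk m) =
        ConjClasses.map (QuotientGroup.mk' M) (ConjClasses.mk 1)
      rw [map_mk, map_mk, map_one]
      have : QuotientGroup.mk' M m = 1 := (QuotientGroup.eq_one_iff m).mpr hm
      rw [this]
    have h2 := congrArg Subtype.val h1
    simp only at h2
    exact hm1 (isConj_one_left.mp (ConjClasses.mk_eq_mk_iff_isConj.mp h2))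
  have hlt := Fintype.card_lt_of_surjective_not_injective f hfsurj hfninj
  rw [← Nat.card_eq_fintype_card, ← Nat.card_eq_fintype_card] at hlt
  have h6 : Nat.card (RealCl G) = Nat.card (RealCl (G ⧸ M)) := by
    rw [← hc1, ← hc2, hcard1]
  omega

end Complement

end Cfsg.Agent.Lib.L0.RealPDeg
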