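import Mathlib
import Cfsg.Agent.Lib.L0.RealPDegA
import Cfsg.Agent.Lib.H3.Wielandt

/-!
# Groups whose real irreducible characters have degree prime to `p` (lead's library)

Isaacs–Navarro: if the subgroup generated by the `p`-elements of `G` is solvable and every real
irreducible character of `G` has degree prime to `p`, then the subgroup `O^{2'}(G)` generated by the
`2`-elements has a normal Sylow `p`-subgroup (`normal_sylow_qGen_two`).
-/

set_option autoImplicit false

universe u

namespace Cfsg.Agent.Lib.L0.RealPDeg

open Cfsg Cfsg.Agent.Lib.L0 Cfsg.Agent.Lib.H3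

/-- The subgroup generated by the `q`-elements. -/
def qGen (q : ℕ) (G : Type*) [Group G] : Subgroup G :=
  Subgroup.closure {g : G | ∃ k : ℕ, orderOf g = q ^ k}

section Basic

variable {G : Type*} [Group G]

theorem closure_normal_of_conj' {s : Set G}
    (h : ∀ g x, x ∈ s → g * x * g⁻¹ ∈ s) : (Subgroup.closure s).Normal := by
  constructor
  intro n hn g
  induction hn using Subgroup.closure_induction with
  | mem x hx => exact Subgroup.subset_closure (h g x hx)
  | one => simp
  | mul a b _ _ iha ihb =>
    have : g * (a * b) * g⁻¹ = (g * a * g⁻¹) * (g * b * g⁻¹) := by group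
    rw [this]; exact Subgroup.mul_mem _ iha ihb
  | inv a _ iha =>
    have : g * a⁻¹ * g⁻¹ = (g * a * g⁻¹)⁻¹ := by group
    rw [this]; exact Subgroup.inv_mem _ iha

theorem orderOf_conj'' (g x : G) : orderOf (g * x * g⁻¹) = orderOf x := by
  have : g * x * g⁻¹ = MulAut.conj g x := by simp [MulAut.conj_apply]
  rw [this, MulEquiv.orderOf_eq]

instance qGen_normal (q : ℕ) : (qGen q G).Normal := by
  apply closure_normal_of_conj'
  rintro g x ⟨k, hk⟩
  exact ⟨k, by rw [orderOf_conj'', hk]⟩

theorem mem_qGen_of_orderOf (q : ℕ) {g : G} {k : ℕ} (h : orderOf g = q ^ k) : g ∈ qGen q G :=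
  Subgroup.subset_closure ⟨k, h⟩

theorem isPGroup_zpowers_of_orderOf (q : ℕ) {y : G} {k : ℕ} (hk : orderOf y = q ^ k) :
    IsPGroup q (Subgroup.zpowers y) := by
  rintro ⟨z, hz⟩
  obtain ⟨i, rfl⟩ := Subgroup.mem_zpowers_iff.mp hz
  refine ⟨k, Subtype.ext ?_⟩
  rw [Subgroup.coe_pow, Subgroup.coe_one]
  show (y ^ i) ^ q ^ k = 1
  rw [← zpow_natCast, ← zpow_mul, mul_comm, zpow_mul, zpow_natCast, ← hk, pow_orderOf_eq_one,
    one_zpow]

variable [Finite G]

/-- Every `q`-subgroup lies in `qGen q G`. -/
theorem le_qGen_of_isPGroup (q : ℕ) [Fact q.Prime] {Q : Subgroup G} (hQ : IsPGroup q Q) :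
    Q ≤ qGen q G := by
  intro x hx
  obtain ⟨k, hk⟩ := (IsPGroup.iff_orderOf.mp hQ) ⟨x, hx⟩
  rw [Subgroup.orderOf_mk] at hk
  exact mem_qGen_of_orderOf q hk

/-- `q`-elements of a quotient lift to `q`-elements. -/
theorem qGen_quotient_le (q : ℕ) [Fact q.Prime] (M : Subgroup G) [M.Normal] :
    qGen q (G ⧸ M) ≤ (qGen q G).map (QuotientGroup.mk' M) := by
  unfold qGen
  rw [Subgroup.closure_le]
  rintro y ⟨k, hk⟩
  have hpg : IsPGroup q (Subgroup.zpowers y) := isPGroup_zpowers_of_orderOf q hk
  obtain ⟨Qb, hQb⟩ := hpg.exists_le_sylow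
  obtain ⟨Q, rfl⟩ := Sylow.mapSurjective_surjective (QuotientGroup.mk'_surjective M) q Qb
  have hy : y ∈ (Q : Subgroup G).map (QuotientGroup.mk' M) := hQb (Subgroup.mem_zpowers y)
  obtain ⟨g, hg, rfl⟩ := hy
  exact ⟨g, le_qGen_of_isPGroup q Q.2 hg, rfl⟩

theorem map_qGen_le (q : ℕ) [Fact q.Prime] {K : Type*} [Group K] (f : G →* K) :
    (qGen q G).map f ≤ qGen q K := by
  unfold qGen
  rw [MonoidHom.map_closure, Subgroup.closure_le]
  rintro _ ⟨g, ⟨k, hk⟩, rfl⟩
  have h1 : orderOf (f g) ∣ q ^ k := by
    rw [← hk]; exact orderOf_map_dvd f g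
  obtain ⟨j, _, hj⟩ := (Nat.dvd_prime_pow Fact.out).mp h1
  exact Subgroup.subset_closure ⟨j, hj⟩

theorem qGen_quotient_eq_top (q : ℕ) [Fact q.Prime] (M : Subgroup G) [M.Normal]
    (h : qGen q G = ⊤) : qGen q (G ⧸ M) = ⊤ := by
  rw [eq_top_iff]
  have h1 := map_qGen_le q (QuotientGroup.mk' M)
  rw [h, ← MonoidHom.range_eq_map, MonoidHom.range_eq_top.mpr (QuotientGroup.mk'_surjective M)] at h1
  exact h1

theorem isSolvable_qGen_quotient (q : ℕ) [Fact q.Prime] (M : Subgroup G) [M.Normal]
    (h : Group.IsSolvable (qGen q G)) : Group.IsSolvable (qGen q (G ⧸ M)) := by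
  haveI := h
  let f : qGen q G →* G ⧸ M := (QuotientGroup.mk' M).comp (qGen q G).subtype
  haveI h1 : Group.IsSolvable f.range := Group.isSolvable_of_surjective f.rangeRestrict_surjective
  have h2 : qGen q (G ⧸ M) ≤ f.range := by
    refine (qGen_quotient_le q M).trans ?_
    rintro _ ⟨g, hg, rfl⟩
    exact ⟨⟨g, hg⟩, rfl⟩
  exact Group.isSolvable_of_isSolvable_injective (Subgroup.inclusion_injective h2)

theorem isSolvable_qGen_subgroup (q : ℕ) (K : Subgroup G) (h : Group.IsSolvable (qGen q G)) :
    Group.IsSolvable (qGen q K) := by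
  have h1 : (qGen q K).map K.subtype ≤ qGen q G := by
    unfold qGen
    rw [MonoidHom.map_closure, Subgroup.closure_le]
    rintro _ ⟨g, ⟨k, hk⟩, rfl⟩
    exact Subgroup.subset_closure ⟨k, by rw [← hk]; exact Subgroup.orderOf_coe g⟩
  let f : qGen q K →* qGen q G :=
    { toFun := fun x => ⟨((x : K) : G), h1 ⟨x, x.2, rfl⟩⟩
      map_one' := rfl
      map_mul' := fun _ _ => rfl }
  have hf : Function.Injective f := by
    intro x y hxy
    apply Subtype.ext
    apply Subtype.ext
    exact congrArg (fun z : qGen q G => (z : G)) hxy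
  haveI := h
  exact Group.isSolvable_of_isSolvable_injective hf

/-- The subgroup generated by the `q`-elements is generated by its own `q`-elements. -/
theorem qGen_qGen_eq_top (q : ℕ) : qGen q (qGen q G) = ⊤ := by
  apply Subgroup.map_injective (qGen q G).subtype_injective
  rw [← MonoidHom.range_eq_map, Subgroup.range_subtype]
  apply le_antisymm
  · exact Subgroup.map_subtype_le _
  · conv_lhs => unfold qGen
    rw [Subgroup.closure_le]
    rintro g ⟨k, hk⟩
    have hg : g ∈ qGen q G := mem_qGen_of_orderOf q hk
    refine ⟨⟨g, hg⟩, ?_, rfl⟩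
    apply Subgroup.subset_closure
    exact ⟨k, by rw [← hk]; exact (Subgroup.orderOf_coe (⟨g, hg⟩ : qGen q G)).symm⟩

/-- `qGen 2 G` has odd index. -/
theorem odd_index_qGen_two : Odd (qGen 2 G).index := by
  haveI : Fact (Nat.Prime 2) := ⟨Nat.prime_two⟩
  rw [Subgroup.index_eq_card, ← Nat.not_even_iff_odd]
  intro heven
  obtain ⟨y, hy⟩ := exists_prime_orderOf_dvd_card' 2 (even_iff_two_dvd.mp heven)
  have h1 : y ∈ qGen 2 (G ⧸ qGen 2 G) := mem_qGen_of_orderOf 2 (k := 1) (by rw [hy, pow_one])
  have h2 := qGen_quotient_le 2 (qGen 2 G) h1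
  obtain ⟨g, hg, rfl⟩ := h2
  have h3 : QuotientGroup.mk' (qGen 2 G) g = 1 := (QuotientGroup.eq_one_iff g).mpr hg
  rw [h3, orderOf_one] at hy
  omega

end Basic

section Induction

/-- The inductive core: if `G` is generated by its `2`-elements. -/
theorem normal_sylow_aux (p : ℕ) [hp : Fact p.Prime] : ∀ (n : ℕ) (G : Type u) [Group G] [Fintype G],
    Nat.card G = n → Group.IsSolvable (qGen p G) → RealHyp p G → qGen 2 G = ⊤ →
    ∀ P : Sylow p G, (P : Subgroup G).Normal := by
  intro n
  induction n using Nat.strong_induction_on with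
  | _ n ih =>
    intro G _ _ hcard hsolv hreal hgen P
    classical
    haveI : Fact (Nat.Prime 2) := ⟨Nat.prime_two⟩
    by_cases htriv : (⊤ : Subgroup G) = ⊥
    · have h1 : (P : Subgroup G) = ⊥ := by
        apply le_antisymm _ bot_le
        rw [← htriv]; exact le_top
      rw [h1]
      infer_instance
    obtain ⟨M, ⟨hMn, hM1, hMmin⟩, -⟩ := exists_isMinNormal_le (⊤ : Subgroup G) inferInstance htriv
    haveI := hMn
    have := Fintype.ofFinite (G ⧸ M)
    -- the quotient
    have hcardlt : Nat.card (G ⧸ M) < n := by
      have h1 := M.card_mul_index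
      rw [Subgroup.index_eq_card, hcard] at h1
      have h2 : 1 < Nat.card M := by
        rw [Subgroup.one_lt_card_iff_ne_bot]
        exact hM1
      have h3 : 0 < Nat.card (G ⧸ M) := Nat.card_pos
      nlinarith
    have hπ := QuotientGroup.mk'_surjective M
    have hPbar : ((P.mapSurjective hπ : Sylow p (G ⧸ M)) : Subgroup (G ⧸ M)).Normal :=
      ih _ hcardlt (G ⧸ M) rfl (isSolvable_qGen_quotient p M hsolv) (realHyp_quotient p M hreal)
        (qGen_quotient_eq_top 2 M hgen) _
    rw [Sylow.coe_mapSurjective] at hPbar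
    have hPM : ((P : Subgroup G) ⊔ M).Normal := by
      have h1 : (((P : Subgroup G).map (QuotientGroup.mk' M)).comap (QuotientGroup.mk' M)).Normal :=
        hPbar.comap _
      rwa [Subgroup.comap_map_eq, QuotientGroup.ker_mk'] at h1
    haveI := hPM
    -- Frattini
    have hfrat : Subgroup.normalizer ((P : Subgroup G) : Set G) ⊔ M = ⊤ := by
      have h1 : Subgroup.normalizer ((P : Subgroup G) : Set G) ⊔ ((P : Subgroup G) ⊔ M) = ⊤ :=
        Sylow.normalizer_sup_eq_top' (N := (P : Subgroup G) ⊔ M) P le_sup_left
      have h2 : (P : Subgroup G) ≤ Subgroup.normalizer ((P : Subgroup G) : Set G) :=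
        Subgroup.le_normalizer
      rw [← sup_assoc, sup_of_le_left h2] at h1
      exact h1
    set L : Subgroup G := qGen p G with hL
    have hPL : (P : Subgroup G) ≤ L := le_qGen_of_isPGroup p P.2
    have hLPM : L ≤ (P : Subgroup G) ⊔ M := by
      rw [hL]
      unfold qGen
      rw [Subgroup.closure_le]
      rintro x ⟨k, hk⟩
      have hpg : IsPGroup p (Subgroup.zpowers x) := isPGroup_zpowers_of_orderOf p hk
      obtain ⟨Q, hQ⟩ := hpg.exists_le_sylow
      obtain ⟨g, rfl⟩ := MulAction.exists_smul_eq G P Q
      have hx : x ∈ ((g • P : Sylow p G) : Subgroup G) := hQ (Subgroup.mem_zpowers x)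
      rw [Sylow.coe_subgroup_smul, Subgroup.mem_pointwise_smul_iff_inv_smul_mem] at hx
      have hx' : g⁻¹ * x * g⁻¹⁻¹ ∈ (P : Subgroup G) ⊔ M := by
        apply (le_sup_left : (P : Subgroup G) ≤ (P : Subgroup G) ⊔ M)
        simpa [MulAut.smul_def, MulAut.conj_apply] using hx
      have := hPM.conj_mem _ hx' g
      simpa [mul_assoc] using this
    have hML : M ⊓ L = ⊥ ∨ M ⊓ L = M :=
      hMmin (M ⊓ L) inferInstance inf_le_left
    rcases hML with hML | hML
    · -- L is a p-group, hence L = P
      have hLp : IsPGroup p L := by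
        intro x
        have hxPM : (x : G) ∈ (P : Subgroup G) ⊔ M := hLPM x.2
        have h1 : QuotientGroup.mk' M (x : G) ∈ (P : Subgroup G).map (QuotientGroup.mk' M) := by
          have : ((P : Subgroup G) ⊔ M).map (QuotientGroup.mk' M) =
              (P : Subgroup G).map (QuotientGroup.mk' M) := by
            have hMmap : M.map (QuotientGroup.mk' M) = ⊥ :=
              (Subgroup.map_eq_bot_iff M).mpr (by rw [QuotientGroup.ker_mk'])
            rw [Subgroup.map_sup, hMmap, sup_bot_eq]
          rw [← this]
          exact ⟨x, hxPM, rfl⟩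
        obtain ⟨k, hk⟩ := (P.2.map (QuotientGroup.mk' M)) ⟨_, h1⟩
        refine ⟨k, ?_⟩
        have h2 : (QuotientGroup.mk' M (x : G)) ^ p ^ k = 1 := by
          have := congrArg Subtype.val hk
          simpa using this
        rw [← map_pow, QuotientGroup.mk'_apply, QuotientGroup.eq_one_iff] at h2
        have h3 : (x : G) ^ p ^ k ∈ M ⊓ L := ⟨h2, L.pow_mem x.2 _⟩
        rw [hML, Subgroup.mem_bot] at h3
        apply Subtype.ext
        rw [Subgroup.coe_pow, h3]
        rfl
      have hLP : L = (P : Subgroup G) := P.3 hLp hPL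
      rw [← hLP]
      infer_instance
    · -- M ≤ L, so M is abelian
      have hMleL : M ≤ L := by rw [← hML]; exact inf_le_right
      haveI := hsolv
      haveI hMsolv : Group.IsSolvable M :=
        Group.isSolvable_of_isSolvable_injective (Subgroup.inclusion_injective hMleL)
      have hcomm_lt : ⁅M, M⁆ < M := by
        haveI : Nontrivial M := (Subgroup.nontrivial_iff_ne_bot M).mpr hM1
        rw [← M.range_subtype, MonoidHom.range_eq_map, ← Subgroup.map_commutator,
          Subgroup.map_subtype_lt_map_subtype]
        exact Group.IsSolvable.commutator_lt_top_of_nontrivial M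
      have hcomm_bot : ⁅M, M⁆ = ⊥ := by
        rcases hMmin ⁅M, M⁆ inferInstance hcomm_lt.le with h | h
        · exact h
        · exact absurd h hcomm_lt.ne
      have hMab : ∀ a ∈ M, ∀ b ∈ M, a * b = b * a := by
        intro a ha b hb
        have h1 := (Subgroup.commutator_eq_bot_iff_le_centralizer.mp hcomm_bot) ha
        rw [Subgroup.mem_centralizer_iff] at h1
        exact (h1 b hb).symm
      -- the p-elements of M
      let Tp : Subgroup G :=
        { carrier := {m | m ∈ M ∧ ∃ k : ℕ, m ^ p ^ k = 1}
          one_mem' := ⟨M.one_mem, 0, by simp⟩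
          mul_mem' := by
            rintro a b ⟨ha, k, hk⟩ ⟨hb, l, hl⟩
            refine ⟨M.mul_mem ha hb, k + l, ?_⟩
            have hc : Commute a b := hMab a ha b hb
            rw [hc.mul_pow, pow_add, pow_mul, hk, one_pow, mul_comm (p ^ k), pow_mul, hl, one_pow,
              one_mul]
          inv_mem' := by
            rintro a ⟨ha, k, hk⟩
            exact ⟨M.inv_mem ha, k, by rw [inv_pow, hk, inv_one]⟩ }
      have hTpn : Tp.Normal := by
        constructor
        rintro a ⟨ha, k, hk⟩ g
        refine ⟨hMn.conj_mem a ha g, k, ?_⟩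
        rw [conj_pow, hk]
        simp
      have hTple : Tp ≤ M := fun a ha => ha.1
      rcases hMmin Tp hTpn hTple with hTp | hTp
      · -- M has no nontrivial p-elements
        have hnop : ∀ m ∈ M, ∀ k : ℕ, m ^ p ^ k = 1 → m = 1 := by
          intro m hm k hk
          have : m ∈ Tp := ⟨hm, k, hk⟩
          rw [hTp, Subgroup.mem_bot] at this
          exact this
        set C : Subgroup G := M ⊓ Subgroup.centralizer ((P : Subgroup G) : Set G) with hC
        have hCeq : C = M ⊓ Subgroup.centralizer (((P : Subgroup G) ⊔ M : Subgroup G) : Set G) := by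
          apply le_antisymm
          · intro c hc
            have hc' := Subgroup.mem_inf.mp hc
            refine Subgroup.mem_inf.mpr ⟨hc'.1, ?_⟩
            have h1 : (P : Subgroup G) ⊔ M ≤ Subgroup.centralizer ({c} : Set G) := by
              apply sup_le
              · intro x hx
                rw [Subgroup.mem_centralizer_singleton_iff]
                exact (Subgroup.mem_centralizer_iff.mp hc'.2) x hx
              · intro x hx
                rw [Subgroup.mem_centralizer_singleton_iff]
                exact (hMab c hc'.1 x hx).symm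
            rw [Subgroup.mem_centralizer_iff]
            intro x hx
            have := h1 hx
            rw [Subgroup.mem_centralizer_singleton_iff] at this
            exact this
          · intro c hc
            have hc' := Subgroup.mem_inf.mp hc
            refine Subgroup.mem_inf.mpr ⟨hc'.1, ?_⟩
            exact Subgroup.centralizer_le (by
              intro x hx
              exact (le_sup_left : (P : Subgroup G) ≤ (P : Subgroup G) ⊔ M) hx) hc'.2
        have hCn : C.Normal := by
          rw [hCeq]
          infer_instance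
        rcases hMmin C hCn inf_le_left with hCbot | hCM
        · -- the contradiction
          exfalso
          have htrivM : ∀ χ : IrrCharacter G, (∀ g : G, ((χ : G → ℂ) g).im = 0) →
              ∀ m ∈ M, (χ : G → ℂ) m = (χ : G → ℂ) 1 := by
            intro χ hχ
            exact trivial_on_of_no_fixed p M (P : Subgroup G) P.2 hCbot χ (hreal χ hχ)
          set H : Subgroup G := Subgroup.normalizer ((P : Subgroup G) : Set G) with hH
          have hsup : M ⊔ H = ⊤ := by rw [sup_comm]; exact hfrat
          have hinf : M ⊓ H = ⊥ := by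
            rw [eq_bot_iff]
            intro m hm
            have hmC : m ∈ C := by
              refine Subgroup.mem_inf.mpr ⟨hm.1, ?_⟩
              rw [Subgroup.mem_centralizer_iff]
              intro x hx
              have h1 : m * x * m⁻¹ ∈ (P : Subgroup G) :=
                (Subgroup.mem_normalizer_iff.mp hm.2 x).mp hx
              have h2 : m * x * m⁻¹ * x⁻¹ ∈ (P : Subgroup G) :=
                (P : Subgroup G).mul_mem h1 ((P : Subgroup G).inv_mem hx)
              have h3 : m * x * m⁻¹ * x⁻¹ ∈ M := by
                have h4 : x * m⁻¹ * x⁻¹ ∈ M := hMn.conj_mem _ (M.inv_mem hm.1) x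
                have h5 : m * x * m⁻¹ * x⁻¹ = m * (x * m⁻¹ * x⁻¹) := by group
                rw [h5]
                exact M.mul_mem hm.1 h4
              obtain ⟨k, hk⟩ := (P.2) ⟨_, h2⟩
              have hk' : (m * x * m⁻¹ * x⁻¹) ^ p ^ k = 1 := by
                have := congrArg Subtype.val hk
                simpa using this
              have h6 := hnop _ h3 k hk'
              calc x * m = (m * x * m⁻¹ * x⁻¹)⁻¹ * (m * x) := by group
                _ = m * x := by rw [h6]; simp
            rw [hCbot] at hmC
            exact hmC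
          -- a 2-element not centralizing M
          have hnc : ¬ (⊤ : Subgroup G) ≤ Subgroup.centralizer (M : Set G) := by
            intro hle
            apply hM1
            rw [← hCbot, hC]
            apply le_antisymm _ inf_le_left
            intro m hm
            refine Subgroup.mem_inf.mpr ⟨hm, ?_⟩
            rw [Subgroup.mem_centralizer_iff]
            intro x _
            have := (Subgroup.mem_centralizer_iff.mp (hle (Subgroup.mem_top x))) m hm
            exact this.symm
          have hex : ∃ t : G, (∃ k : ℕ, orderOf t = 2 ^ k) ∧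
              t ∉ Subgroup.centralizer (M : Set G) := by
            by_contra hcon
            push Not at hcon
            apply hnc
            rw [← hgen]
            unfold qGen
            rw [Subgroup.closure_le]
            intro t ht
            exact hcon t ht
          obtain ⟨t, ⟨k, hk⟩, htc⟩ := hex
          have hfind : ∃ j : ℕ, t ^ 2 ^ j ∈ Subgroup.centralizer (M : Set G) :=
            ⟨k, by rw [← hk, pow_orderOf_eq_one]; exact Subgroup.one_mem _⟩
          have hj0 : Nat.find hfind ≠ 0 := by
            intro h0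
            have := Nat.find_spec hfind
            rw [h0, pow_zero, pow_one] at this
            exact htc this
          obtain ⟨j, hj⟩ := Nat.exists_eq_succ_of_ne_zero hj0
          set s : G := t ^ 2 ^ j with hs
          have hs2 : s * s ∈ Subgroup.centralizer (M : Set G) := by
            have := Nat.find_spec hfind
            rw [hj, pow_succ, pow_mul, ← hs, pow_two] at this
            exact this
          have hsc : s ∉ Subgroup.centralizer (M : Set G) := by
            have := Nat.find_min hfind (m := j) (by omega)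
            exact this
          rw [Subgroup.mem_centralizer_iff] at hsc
          push Not at hsc
          obtain ⟨m₀, hm₀, hne⟩ := hsc
          have hm₀' : s * m₀ * s⁻¹ ∈ M := hMn.conj_mem m₀ hm₀ s
          have hmM : m₀⁻¹ * (s * m₀ * s⁻¹) ∈ M := M.mul_mem (M.inv_mem hm₀) hm₀'
          have hm1 : m₀⁻¹ * (s * m₀ * s⁻¹) ≠ 1 := by
            intro h1
            apply hne
            have h2 : s * m₀ * s⁻¹ = m₀ := by
              have : m₀ * (m₀⁻¹ * (s * m₀ * s⁻¹)) = m₀ := by rw [h1, mul_one]
              rw [mul_inv_cancel_left] at this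
              exact this
            calc m₀ * s = (s * m₀ * s⁻¹) * s := by rw [h2]
              _ = s * m₀ := by group
          have hconj : s * (m₀⁻¹ * (s * m₀ * s⁻¹)) * s⁻¹ = (m₀⁻¹ * (s * m₀ * s⁻¹))⁻¹ := by
            have h1 : m₀ * (s * s) = s * s * m₀ := (Subgroup.mem_centralizer_iff.mp hs2) m₀ hm₀
            calc s * (m₀⁻¹ * (s * m₀ * s⁻¹)) * s⁻¹
                = (s * m₀ * s⁻¹)⁻¹ * ((s * s * m₀) * (s * s)⁻¹) := by group
              _ = (s * m₀ * s⁻¹)⁻¹ * ((m₀ * (s * s)) * (s * s)⁻¹) := by rw [h1]
              _ = (m₀⁻¹ * (s * m₀ * s⁻¹))⁻¹ := by group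
          have hreal' : IsConj (m₀⁻¹ * (s * m₀ * s⁻¹)) (m₀⁻¹ * (s * m₀ * s⁻¹))⁻¹ :=
            isConj_iff.mpr ⟨s, hconj⟩
          exact hm1 (not_real_of_complement M H hsup hinf htrivM _ hmM hreal')
        · -- M centralizes P
          have hMN : M ≤ Subgroup.normalizer ((P : Subgroup G) : Set G) := by
            intro m hm
            have hmc : m ∈ Subgroup.centralizer ((P : Subgroup G) : Set G) := by
              have : m ∈ C := by rw [hCM]; exact hm
              exact this.2
            exact Subgroup.centralizer_le_normalizer _ hmc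
          rw [sup_of_le_left hMN] at hfrat
          exact Subgroup.normalizer_eq_top_iff.mp hfrat
      · -- M is a p-group
        have hMp : IsPGroup p M := by
          intro x
          have hx : (x : G) ∈ Tp := by rw [hTp]; exact x.2
          obtain ⟨k, hk⟩ := hx.2
          exact ⟨k, Subtype.ext (by rw [Subgroup.coe_pow, hk]; rfl)⟩
        have hPMp : IsPGroup p ((P : Subgroup G) ⊔ M : Subgroup G) :=
          IsPGroup.to_sup_of_normal_right P.2 hMp
        have hPMeq : (P : Subgroup G) ⊔ M = (P : Subgroup G) := P.3 hPMp le_sup_left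
        rw [← hPMeq]
        exact hPM

end Induction

section Main

variable {G : Type u} [Group G] [Finite G]

/-- **Isaacs–Navarro**: if the `p`-elements generate a solvable subgroup and every real irreducible
character has degree prime to `p`, the subgroup generated by the `2`-elements has a normal Sylow
`p`-subgroup. -/
theorem normal_sylow_qGen_two (p : ℕ) [Fact p.Prime] (hsolv : Group.IsSolvable (qGen p G))
    (hreal : RealHyp p G) (Q : Sylow p (qGen 2 G)) : (Q : Subgroup (qGen 2 G)).Normal := by
  classical
  have := Fintype.ofFinite G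
  have := Fintype.ofFinite (qGen 2 G)
  exact normal_sylow_aux p _ (qGen 2 G) rfl (isSolvable_qGen_subgroup p (qGen 2 G) hsolv)
    (realHyp_of_odd_index p (qGen 2 G) odd_index_qGen_two hreal) (qGen_qGen_eq_top 2) Q

end Main

end Cfsg.Agent.Lib.L0.RealPDeg
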