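import Mathlib

set_option autoImplicit false

/-!
S4130 (groups all of whose conjugacy class sizes are squarefree): the common predicate.
Blueprint: tools/blueprints/S4130.md ; exact piece signatures: tools/blueprints/S4130_sigs.lean
-/

namespace Cfsg.Agent.Lib.L0.SF

/-- `SFClass G`: every conjugacy class of `G` has squarefree size (the hypothesis of S4130, verbatim). -/
def SFClass (G : Type*) [Group G] : Prop :=
  ∀ x : G, Squarefree (Subgroup.centralizer ({x} : Set G)).index

end Cfsg.Agent.Lib.L0.SF
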