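import Cfsg.Agent.Lib.L0.TransferPC
import Cfsg.Agent.Lib.H1.SchurZassenhaus
import Cfsg.Agent.Lib.H1.Complement
import Cfsg.Agent.Lib.H1.SylowSystem
import Cfsg.Agent.Lib.H19.PComplement

/-!
# Hall subgroups central in their normalizer (lead's library)

* `mem_of_coprime_orderOf_index` : an element of order prime to the index of a normal subgroup
  lies in it.
* `normal_map_subtype_of_coprime` : a normal Hall subgroup of a normal subgroup is normal.
* `index_biInf_of_prime_pow` : index of an intersection of subgroups of coprime prime-power index.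
* `frattini_sz_hall` : Frattini argument via Schur-Zassenhaus for a solvable Hall complement.
* `exists_normal_complement_of_normalizer_le_centralizer` : a Hall subgroup `H` with
  `N_G(H) ≤ C_G(H)` has a normal complement.
-/

set_option autoImplicit false

open scoped Pointwise

namespace Cfsg.Agent.Lib.L0

open Cfsg.Agent.Lib.H1 Cfsg.Agent.Lib.H19

universe u

section basic
variable {G : Type*} [Group G]

/-- An element whose order is prime to the index of a normal subgroup `N` lies in `N`. -/
theorem mem_of_coprime_orderOf_index [Finite G] (N : Subgroup G) [N.Normal] (g : G)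
    (hg : Nat.Coprime (orderOf g) N.index) : g ∈ N := by
  rw [← QuotientGroup.eq_one_iff]
  have h1 : orderOf (QuotientGroup.mk g : G ⧸ N) ∣ orderOf g :=
    orderOf_dvd_of_pow_eq_one (by rw [← QuotientGroup.mk_pow, pow_orderOf_eq_one]; rfl)
  have h2 : orderOf (QuotientGroup.mk g : G ⧸ N) ∣ N.index := by
    rw [Subgroup.index_eq_card]
    exact orderOf_dvd_natCard _
  have h3 := Nat.dvd_gcd h1 h2
  rw [hg.gcd_eq_one, Nat.dvd_one] at h3
  exact orderOf_eq_one_iff.mp h3

/-- A normal Hall subgroup `K` of a normal subgroup `C` of `G` is normal in `G`. -/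
theorem normal_map_subtype_of_coprime [Finite G] (C : Subgroup G) [hC : C.Normal]
    (K : Subgroup C) [K.Normal] (hcop : Nat.Coprime (Nat.card K) K.index) :
    (K.map C.subtype).Normal := by
  constructor
  rintro y ⟨k, hk, rfl⟩ x
  have hmem : x * (k : G) * x⁻¹ ∈ C := hC.conj_mem _ k.2 x
  have hord : orderOf (⟨x * (k : G) * x⁻¹, hmem⟩ : C) = orderOf k := by
    rw [Subgroup.orderOf_mk, ← Subgroup.orderOf_coe k]
    exact (MulAut.conj x).orderOf_eq (k : G)
  have hdvd : orderOf k ∣ Nat.card K := by
    have := orderOf_dvd_natCard (⟨k, hk⟩ : K)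
    rwa [Subgroup.orderOf_mk] at this
  have hin : (⟨x * (k : G) * x⁻¹, hmem⟩ : C) ∈ K := by
    apply mem_of_coprime_orderOf_index
    rw [hord]
    exact Nat.Coprime.coprime_dvd_left hdvd hcop
  exact ⟨⟨x * (k : G) * x⁻¹, hmem⟩, hin, rfl⟩

end basic

section index
variable {G : Type u} [Group G]

/-- The index of an intersection of subgroups whose indices are powers of distinct primes. -/
theorem index_biInf_of_prime_pow [Finite G] (T : Finset ℕ) (hT : ∀ p ∈ T, p.Prime)
    (L : ℕ → Subgroup G) (e : ℕ → ℕ) (hL : ∀ p ∈ T, (L p).index = p ^ e p) :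
    (⨅ p ∈ T, L p).index = ∏ p ∈ T, p ^ e p := by
  classical
  induction T using Finset.induction_on with
  | empty => simp
  | insert a T ha ih =>
    have ih' := ih (fun p hp => hT p (Finset.mem_insert_of_mem hp))
      (fun p hp => hL p (Finset.mem_insert_of_mem hp))
    have hc : (L a).index.Coprime (⨅ p ∈ T, L p).index := by
      rw [hL a (Finset.mem_insert_self a T), ih']
      apply Nat.Coprime.prod_right
      intro r hr
      apply Nat.coprime_pow_primes _ _ (hT a (Finset.mem_insert_self a T))
        (hT r (Finset.mem_insert_of_mem hr))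
      rintro rfl
      exact ha hr
    rw [Finset.iInf_insert, Finset.prod_insert ha, Cfsg.Agent.Lib.H1.index_inf_of_coprime hc,
      hL a (Finset.mem_insert_self a T), ih']

/-- Frattini argument via Schur–Zassenhaus: `K ⊴ G`, `K ⊔ H ⊴ G`, `K ∩ H = 1`, coprime orders and
`H` solvable: then `G = K N_G(H)`. -/
theorem frattini_sz_hall [Finite G] {K H C : Subgroup G} [hKn : K.Normal] [hCn : C.Normal]
    (hcop : (Nat.card K).Coprime (Nat.card H)) (hd : Disjoint K H) (hsup : K ⊔ H = C)
    (hsolv : Group.IsSolvable H) (x : G) :
    ∃ n ∈ K, n⁻¹ * x ∈ Subgroup.normalizer (H : Set G) := by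
  have hLN : H ≤ Subgroup.normalizer (K : Set G) := by
    rw [Subgroup.normalizer_eq_top_iff.2 hKn]; exact le_top
  have hLxN : MulAut.conj x • H ≤ Subgroup.normalizer (K : Set G) := by
    rw [Subgroup.normalizer_eq_top_iff.2 hKn]; exact le_top
  have hdx : Disjoint K (MulAut.conj x • H) := by
    rw [Subgroup.disjoint_def]
    intro y hyQ hyL
    rw [mem_conj_smul_iff] at hyL
    have h1 : x⁻¹ * y * x ∈ K := by
      have := hKn.conj_mem y hyQ x⁻¹
      rwa [inv_inv] at this
    have h2 := (Subgroup.disjoint_def.1 hd) h1 hyL
    calc y = x * (x⁻¹ * y * x) * x⁻¹ := by group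
      _ = 1 := by rw [h2]; group
  have hsupx : K ⊔ H = K ⊔ MulAut.conj x • H := by
    have h1 : MulAut.conj x • (K ⊔ H) = MulAut.conj x • K ⊔ MulAut.conj x • H :=
      Subgroup.smul_sup _ _ _
    rw [hsup, conj_smul_eq_self_of_normal (H := C), conj_smul_eq_self_of_normal (H := K)] at h1
    rw [hsup, h1]
  obtain ⟨n, hn, hconj⟩ := sz_conj_internal hLN hLxN hcop hd hdx hsupx (Or.inr hsolv)
  refine ⟨n, hn, ?_⟩
  rw [← conj_smul_eq_iff_mem_normalizer, ← conj_smul_conj_smul, ← hconj, conj_smul_conj_smul,
    inv_mul_cancel, map_one, one_smul]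

end index

section main
variable {G : Type u} [Group G]


/-- A Hall subgroup `H` such that `G` has a normal `p`-complement for every prime `p` dividing `|H|`
has a normal complement. -/
theorem exists_normal_complement_of_forall_hasNormalPComplement [Finite G] (H : Subgroup G)
    (hHall : Nat.Coprime (Nat.card H) H.index)
    (hnpc : ∀ p : ℕ, p.Prime → p ∣ Nat.card H → Cfsg.HasNormalPComplement p G) :
    ∃ N : Subgroup G, N.Normal ∧ N.IsComplement' H := by
  classical
  have hex : ∀ p : ℕ, ∃ Np : Subgroup G, Np.Normal ∧
      (p ∈ (Nat.card H).primeFactors → Np.index = p ^ (Nat.card H).factorization p) := by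
    intro p
    by_cases hp : p ∈ (Nat.card H).primeFactors
    · have hpp := Nat.prime_of_mem_primeFactors hp
      have hpd := Nat.dvd_of_mem_primeFactors hp
      haveI : Fact p.Prime := ⟨hpp⟩
      have hpidx : ¬ p ∣ H.index := by
        intro h
        exact hpp.one_lt.ne' (Nat.eq_one_of_dvd_coprimes hHall hpd h)
      obtain ⟨N, hN, hpN, k, hk⟩ := HasNormalPComplement.exists_normal (hnpc p hpp hpd)
      refine ⟨N, hN, fun _ => ?_⟩
      have h1 : (Nat.card G).factorization p = k := by
        rw [← Subgroup.index_mul_card N, hk, Nat.factorization_mul (pow_ne_zero _ hpp.ne_zero)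
          (Nat.card_pos.ne'), Finsupp.add_apply, Nat.factorization_eq_zero_of_not_dvd hpN,
          Nat.Prime.factorization_pow hpp]
        simp
      have h2 : (Nat.card G).factorization p = (Nat.card H).factorization p := by
        rw [← Subgroup.card_mul_index H, Nat.factorization_mul (Nat.card_pos.ne')
          Subgroup.index_ne_zero_of_finite, Finsupp.add_apply,
          Nat.factorization_eq_zero_of_not_dvd hpidx, add_zero]
      rw [hk, ← h1, h2]
    · exact ⟨⊤, inferInstance, fun h => absurd h hp⟩
  choose L hLn hLidx using hex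
  obtain ⟨N, hNdef⟩ : ∃ N : Subgroup G, N = ⨅ p ∈ (Nat.card H).primeFactors, L p := ⟨_, rfl⟩
  have hNn : N.Normal := by
    rw [hNdef]
    exact Subgroup.normal_iInf_normal (fun p => Subgroup.normal_iInf_normal (fun _ => hLn p))
  have hNidx : N.index = Nat.card H := by
    rw [hNdef, index_biInf_of_prime_pow _ (fun p hp => Nat.prime_of_mem_primeFactors hp) L
      (fun p => (Nat.card H).factorization p) hLidx]
    have := Nat.factorization_prod_pow_eq_self (n := Nat.card H) (Nat.card_pos.ne')
    rw [Finsupp.prod, Nat.support_factorization] at this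
    exact this
  have hmul : Nat.card N * Nat.card H = Nat.card G := by
    rw [← hNidx, mul_comm]; exact Subgroup.index_mul_card N
  have hcardN : Nat.card N = H.index := by
    have h1 : Nat.card H * H.index = Nat.card H * Nat.card N := by
      rw [Subgroup.card_mul_index, mul_comm, hmul]
    exact (Nat.eq_of_mul_eq_mul_left Nat.card_pos h1).symm
  refine ⟨N, hNn, Subgroup.isComplement'_of_coprime hmul ?_⟩
  rw [hcardN]; exact hHall.symm

/-- The Hall and `N ≤ C` hypotheses restrict to overgroups of `H`. -/
theorem hall_central_subgroupOf [Finite G] {H L : Subgroup G} (hHL : H ≤ L)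
    (hHall : Nat.Coprime (Nat.card H) H.index)
    (hNC : Subgroup.normalizer (H : Set G) ≤ Subgroup.centralizer (H : Set G)) :
    Nat.Coprime (Nat.card (H.subgroupOf L)) (H.subgroupOf L).index ∧
    Subgroup.normalizer ((H.subgroupOf L : Subgroup L) : Set L)
      ≤ Subgroup.centralizer ((H.subgroupOf L : Subgroup L) : Set L) := by
  constructor
  · rw [card_subgroupOf_of_le hHL]
    exact Nat.Coprime.coprime_dvd_right (Subgroup.relIndex_dvd_index_of_le hHL) hHall
  · intro m hm
    have h1 : (m : G) ∈ Subgroup.normalizer (H : Set G) := by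
      rw [Subgroup.mem_normalizer_iff] at hm ⊢
      intro h
      constructor
      · intro hh
        have := (hm ⟨h, hHL hh⟩).mp (Subgroup.mem_subgroupOf.mpr hh)
        exact Subgroup.mem_subgroupOf.mp this
      · intro hh
        have hhL : h ∈ L := by
          have : h = (m : G)⁻¹ * ((m : G) * h * (m : G)⁻¹) * (m : G) := by group
          rw [this]
          exact L.mul_mem (L.mul_mem (L.inv_mem m.2) (hHL hh)) m.2
        have := (hm ⟨h, hhL⟩).mpr (Subgroup.mem_subgroupOf.mpr hh)
        exact Subgroup.mem_subgroupOf.mp this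
    have h2 := hNC h1
    rw [Subgroup.mem_centralizer_iff] at h2 ⊢
    intro x hx
    exact Subtype.ext (h2 x (Subgroup.mem_subgroupOf.mp hx))

theorem exists_normal_complement_of_normalizer_le_centralizer_aux : ∀ (n : ℕ) (G : Type u)
    [Group G] [Finite G], Nat.card G = n →
    ∀ H : Subgroup G, Nat.Coprime (Nat.card H) H.index →
      Subgroup.normalizer (H : Set G) ≤ Subgroup.centralizer (H : Set G) →
      ∃ N : Subgroup G, N.Normal ∧ N.IsComplement' H := by
  intro n
  induction n using Nat.strong_induction_on with
  | _ n IH =>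
  intro G _ _ hn H hHall hNC
  classical
  -- `H` is commutative
  have hHcomm : ∀ a ∈ H, ∀ b ∈ H, a * b = b * a := by
    intro a ha b hb
    have := hNC (Subgroup.le_normalizer ha)
    rw [Subgroup.mem_centralizer_iff] at this
    exact (this b hb).symm
  have hsolv : Group.IsSolvable H :=
    isSolvable_of_comm (fun a b => Subtype.ext (hHcomm a a.2 b b.2))
  -- normal `p`-complements for each prime dividing `|H|`
  have hnpc : ∀ p : ℕ, p.Prime → p ∣ Nat.card H →
      ¬ p ∣ H.index ∧ Cfsg.HasNormalPComplement p G := by
    intro p hp hpH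
    haveI : Fact p.Prime := ⟨hp⟩
    obtain ⟨S⟩ : Nonempty (Sylow p H) := inferInstance
    obtain ⟨P, hP⟩ : ∃ P : Subgroup G, P = (S : Subgroup H).map H.subtype := ⟨_, rfl⟩
    have hPH : P ≤ H := hP ▸ Subgroup.map_subtype_le _
    have hPp : IsPGroup p P := hP ▸ S.2.map H.subtype
    have hpidx : ¬ p ∣ H.index := by
      intro h
      exact hp.one_lt.ne' (Nat.eq_one_of_dvd_coprimes hHall hpH h)
    refine ⟨hpidx, ?_⟩
    have hPidx : ¬ p ∣ P.index := by
      rw [hP, Subgroup.index_map_subtype]
      intro h
      rcases (Nat.Prime.dvd_mul hp).mp h with h | h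
      · exact S.not_dvd_index h
      · exact hpidx h
    obtain ⟨PS, hPS⟩ : ∃ PS : Sylow p G, (PS : Subgroup G) = P := ⟨hPp.toSylow hPidx, rfl⟩
    -- `H` centralizes `P`
    have hHCP : H ≤ Subgroup.centralizer (P : Set G) := by
      intro h hh
      rw [Subgroup.mem_centralizer_iff]
      intro x hx
      exact hHcomm x (hPH hx) h hh
    have hcardP : Nat.card P ∣ Nat.card H := Subgroup.card_dvd_of_le hPH
    have hclaim : Subgroup.normalizer (P : Set G) ≤ Subgroup.centralizer (P : Set G) := by
      by_cases hM : Subgroup.normalizer (P : Set G) = ⊤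
      · -- `P` is normal
        haveI hPn : P.Normal := Subgroup.normalizer_eq_top_iff.mp hM
        haveI hCn : (Subgroup.centralizer (P : Set G)).Normal := Subgroup.normal_centralizer
        by_cases hC : Subgroup.centralizer (P : Set G) = ⊤
        · rw [hC]; exact le_top
        · exfalso
          apply hC
          obtain ⟨C, hCdef⟩ : ∃ C : Subgroup G, C = Subgroup.centralizer (P : Set G) := ⟨_, rfl⟩
          rw [← hCdef] at hC hHCP hCn ⊢
          obtain ⟨hh1, hh2⟩ := hall_central_subgroupOf hHCP hHall hNC
          obtain ⟨K, hKn, hKc⟩ := IH (Nat.card C) (hn ▸ card_lt_of_ne_top hC) C rfl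
            (H.subgroupOf C) hh1 hh2
          have hKidx : K.index = Nat.card (H.subgroupOf C) := hKc.symm.index_eq_card
          have hKcard : Nat.card K = (H.subgroupOf C).index := hKc.index_eq_card.symm
          have hcopK : Nat.Coprime (Nat.card K) K.index := by
            rw [hKidx, hKcard]; exact hh1.symm
          haveI hK'n : (K.map C.subtype).Normal := normal_map_subtype_of_coprime C K hcopK
          have hcardK' : Nat.card (K.map C.subtype) = Nat.card K :=
            Subgroup.card_map_of_injective C.subtype_injective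
          have hcop' : (Nat.card (K.map C.subtype)).Coprime (Nat.card H) := by
            rw [hcardK', hKcard, ← card_subgroupOf_of_le hHCP]
            exact hh1.symm
          have hd : Disjoint (K.map C.subtype) H := Subgroup.disjoint_of_coprime_natCard hcop'
          have hsup : K.map C.subtype ⊔ H = C := by
            apply le_antisymm (sup_le (Subgroup.map_subtype_le _) hHCP)
            intro c hc
            obtain ⟨k, hk, h, hh, hkh⟩ := isComplement'_exists_mul hKc ⟨c, hc⟩
            have : c = (k : G) * (h : G) := congrArg Subtype.val hkh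
            rw [this]
            exact Subgroup.mul_mem_sup ⟨k, hk, rfl⟩ (Subgroup.mem_subgroupOf.mp hh)
          rw [eq_top_iff]
          intro x _
          obtain ⟨n', hn', hx⟩ := frattini_sz_hall hcop' hd hsup hsolv x
          have h1 : n'⁻¹ * x ∈ C := by
            rw [hCdef]
            exact Subgroup.centralizer_le (by exact_mod_cast hPH) (hNC hx)
          have h2 : n' ∈ C := Subgroup.map_subtype_le _ hn'
          have : x = n' * (n'⁻¹ * x) := by group
          rw [this]
          exact C.mul_mem h2 h1
      · -- `N_G(P)` is a proper subgroup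
        obtain ⟨M, hMdef⟩ : ∃ M : Subgroup G, M = Subgroup.normalizer (P : Set G) := ⟨_, rfl⟩
        rw [← hMdef] at hM ⊢
        have hPM : P ≤ M := hMdef ▸ Subgroup.le_normalizer
        have hHM : H ≤ M := hMdef ▸ hHCP.trans (Subgroup.centralizer_le_normalizer _)
        obtain ⟨hh1, hh2⟩ := hall_central_subgroupOf hHM hHall hNC
        obtain ⟨K, hKn, hKc⟩ := IH (Nat.card M) (hn ▸ card_lt_of_ne_top hM) M rfl
          (H.subgroupOf M) hh1 hh2
        have hKcard : Nat.card K = (H.subgroupOf M).index := hKc.index_eq_card.symm
        have hP'n : (P.subgroupOf M).Normal :=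
          (Subgroup.normal_subgroupOf_iff_le_normalizer hPM).mpr (hMdef ▸ le_rfl)
        have hdis : Disjoint K (P.subgroupOf M) := by
          apply Subgroup.disjoint_of_coprime_natCard
          rw [hKcard, card_subgroupOf_of_le hPM]
          have := hh1.symm
          rw [card_subgroupOf_of_le hHM] at this
          exact Nat.Coprime.coprime_dvd_right hcardP this
        intro m hm
        obtain ⟨k, hk, h, hh, hmk⟩ := isComplement'_exists_mul hKc ⟨m, hm⟩
        have hmk' : m = (k : G) * (h : G) := congrArg Subtype.val hmk
        rw [Subgroup.mem_centralizer_iff]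
        intro x hx
        have hxM : x ∈ M := hPM hx
        have c1 : (k : G) * x = x * (k : G) := by
          have := Subgroup.commute_of_normal_of_disjoint K (P.subgroupOf M) hKn hP'n hdis k
            ⟨x, hxM⟩ hk (Subgroup.mem_subgroupOf.mpr hx)
          exact congrArg Subtype.val this.eq
        have c2 : (h : G) * x = x * (h : G) := by
          have := hHCP (Subgroup.mem_subgroupOf.mp hh)
          rw [Subgroup.mem_centralizer_iff] at this
          exact (this x hx).symm
        rw [hmk']
        calc x * ((k : G) * (h : G)) = (x * (k : G)) * (h : G) := by group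
          _ = (k : G) * (x * (h : G)) := by rw [← c1]; group
          _ = (k : G) * (h : G) * x := by rw [← c2]; group
    have hclaim' : Subgroup.normalizer ((PS : Subgroup G) : Set G)
        ≤ Subgroup.centralizer ((PS : Subgroup G) : Set G) := by
      rw [hPS]; exact hclaim
    exact hasNormalPComplement_of_normalizer_le_centralizer PS hclaim'
  exact exists_normal_complement_of_forall_hasNormalPComplement H hHall
    (fun p hp hpH => (hnpc p hp hpH).2)

/-- A Hall subgroup `H` with `N_G(H) ≤ C_G(H)` has a normal complement. -/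
theorem exists_normal_complement_of_normalizer_le_centralizer {G : Type u} [Group G] [Finite G]
    (H : Subgroup G) (hHall : Nat.Coprime (Nat.card H) H.index)
    (h : Subgroup.normalizer (H : Set G) ≤ Subgroup.centralizer (H : Set G)) :
    ∃ N : Subgroup G, N.Normal ∧ N.IsComplement' H :=
  exists_normal_complement_of_normalizer_le_centralizer_aux _ G rfl H hHall h

end main

end Cfsg.Agent.Lib.L0
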