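import Cfsg.Agent.Lib.L0.FrobeniusPC
import Cfsg.Agent.Lib.L0.HallCentral

/-!
# Normal p-complements: closure properties (lead's library)

`NPC` below abbreviates `Cfsg.HasNormalPComplement p`.

* `HasNormalPComplement.of_surjective`, `.of_injective`, `.of_mulEquiv` : images, preimages
  under injective maps, isomorphic copies.
* `hasNormalPComplement_of_quotient` : `N ⊴ G` a `p'`-group and `G ⧸ N` NPC implies `G` NPC.
* `HasNormalPComplement.mem_centralizer` : in an NPC group, `p'`-elements centralize normal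
  `p`-subgroups.
* `hasNormalPComplement_of_isPGroup`, `hasNormalPComplement_of_not_dvd`, `hasNormalPComplement_top`.
* `exists_normalizer_not_npc` : a non-NPC group has a nontrivial `p`-subgroup whose normalizer
  is not NPC (Frobenius).
-/

set_option autoImplicit false

universe u

namespace Cfsg.Agent.Lib.L0

open scoped commutatorElement

variable {G : Type*} [Group G]

theorem card_eq_card_mul_relIndex {H K : Subgroup G} (h : H ≤ K) :
    Nat.card K = Nat.card H * H.relIndex K := by
  have h1 := Subgroup.relIndex_mul_relIndex ⊥ H K bot_le h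
  rwa [Subgroup.relIndex_bot_left, Subgroup.relIndex_bot_left, eq_comm] at h1

theorem HasNormalPComplement.of_surjective [Finite G] {G' : Type*} [Group G'] {p : ℕ}
    [Fact p.Prime] (f : G →* G') (hf : Function.Surjective f)
    (h : Cfsg.HasNormalPComplement p G) : Cfsg.HasNormalPComplement p G' := by
  have : Finite G' := Finite.of_surjective f hf
  obtain ⟨N, hN, hpN, k, hk⟩ := HasNormalPComplement.exists_normal h
  have : (N.map f).Normal := Subgroup.Normal.map hN f hf
  apply hasNormalPComplement_of_normal (N.map f)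
  · intro hdvd
    exact hpN (hdvd.trans (Subgroup.card_map_dvd N f))
  · have h1 : (N.map f).index ∣ p ^ k := by
      rw [← hk]; exact Subgroup.index_map_dvd N hf
    obtain ⟨j, _, hj⟩ := (Nat.dvd_prime_pow Fact.out).mp h1
    exact ⟨j, hj⟩

theorem HasNormalPComplement.of_mulEquiv [Finite G] {G' : Type*} [Group G'] {p : ℕ}
    [Fact p.Prime] (e : G ≃* G') (h : Cfsg.HasNormalPComplement p G) :
    Cfsg.HasNormalPComplement p G' :=
  HasNormalPComplement.of_surjective e.toMonoidHom e.surjective h

theorem HasNormalPComplement.of_injective [Finite G] {G' : Type*} [Group G'] {p : ℕ}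
    [Fact p.Prime] (f : G' →* G) (hf : Function.Injective f)
    (h : Cfsg.HasNormalPComplement p G) : Cfsg.HasNormalPComplement p G' := by
  have h1 : Cfsg.HasNormalPComplement p f.range := HasNormalPComplement.subgroup h f.range
  exact HasNormalPComplement.of_mulEquiv (MonoidHom.ofInjective hf).symm h1

/-- If `A ≤ B` then `NPC B → NPC A`. -/
theorem HasNormalPComplement.of_le [Finite G] {p : ℕ} [Fact p.Prime] {A B : Subgroup G}
    (hAB : A ≤ B) (h : Cfsg.HasNormalPComplement p B) : Cfsg.HasNormalPComplement p A :=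
  HasNormalPComplement.of_injective (Subgroup.inclusion hAB) (Subgroup.inclusion_injective hAB) h

theorem hasNormalPComplement_top_iff [Finite G] {p : ℕ} [Fact p.Prime] :
    Cfsg.HasNormalPComplement p (⊤ : Subgroup G) ↔ Cfsg.HasNormalPComplement p G :=
  ⟨fun h => HasNormalPComplement.of_mulEquiv Subgroup.topEquiv h,
    fun h => HasNormalPComplement.of_mulEquiv Subgroup.topEquiv.symm h⟩

theorem hasNormalPComplement_of_isPGroup [Finite G] {p : ℕ} [Fact p.Prime] (h : IsPGroup p G) :
    Cfsg.HasNormalPComplement p G := by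
  apply hasNormalPComplement_of_normal (⊥ : Subgroup G)
  · rw [Subgroup.card_bot]
    exact (Fact.out : p.Prime).one_lt.ne' ∘ Nat.dvd_one.mp
  · obtain ⟨k, hk⟩ := IsPGroup.iff_card.mp h
    exact ⟨k, by rw [Subgroup.index_bot, hk]⟩

theorem hasNormalPComplement_of_not_dvd [Finite G] {p : ℕ} [Fact p.Prime]
    (h : ¬ p ∣ Nat.card G) : Cfsg.HasNormalPComplement p G := by
  apply hasNormalPComplement_of_normal (⊤ : Subgroup G)
  · rwa [Subgroup.card_top]
  · exact ⟨0, by rw [Subgroup.index_top, pow_zero]⟩

/-- If `N ⊴ G` has order prime to `p` and `G ⧸ N` is NPC, so is `G`. -/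
theorem hasNormalPComplement_of_quotient [Finite G] {p : ℕ} [Fact p.Prime] (N : Subgroup G)
    [N.Normal] (hN : ¬ p ∣ Nat.card N) (h : Cfsg.HasNormalPComplement p (G ⧸ N)) :
    Cfsg.HasNormalPComplement p G := by
  obtain ⟨M, hM, hpM, k, hk⟩ := HasNormalPComplement.exists_normal h
  have hsurj : Function.Surjective (QuotientGroup.mk' N) := QuotientGroup.mk'_surjective N
  have : (M.comap (QuotientGroup.mk' N)).Normal := Subgroup.Normal.comap hM _
  apply hasNormalPComplement_of_normal (M.comap (QuotientGroup.mk' N))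
  · have hNle : N ≤ M.comap (QuotientGroup.mk' N) := by
      intro x hx
      rw [Subgroup.mem_comap, QuotientGroup.mk'_apply, (QuotientGroup.eq_one_iff x).mpr hx]
      exact M.one_mem
    have h1 : N.relIndex (M.comap (QuotientGroup.mk' N)) = Nat.card M := by
      have h2 := Subgroup.relIndex_ker (QuotientGroup.mk' N) (K := M.comap (QuotientGroup.mk' N))
      rw [Subgroup.map_comap_eq_self_of_surjective hsurj, QuotientGroup.ker_mk'] at h2
      exact h2
    have h3 : Nat.card (M.comap (QuotientGroup.mk' N)) = Nat.card M * Nat.card N := by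
      rw [← h1, mul_comm]
      exact card_eq_card_mul_relIndex hNle
    rw [h3]
    intro hdvd
    rcases (Nat.Prime.dvd_mul Fact.out).mp hdvd with h4 | h4
    · exact hpM h4
    · exact hN h4
  · exact ⟨k, by rw [Subgroup.index_comap_of_surjective _ hsurj, hk]⟩

/-- In an NPC group, elements of order prime to `p` centralize every normal `p`-subgroup. -/
theorem HasNormalPComplement.mem_centralizer [Finite G] {p : ℕ} [Fact p.Prime]
    (h : Cfsg.HasNormalPComplement p G) (H : Subgroup G) [hHn : H.Normal] (hH : IsPGroup p H)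
    (g : G) (hg : Nat.Coprime (orderOf g) p) : g ∈ Subgroup.centralizer (H : Set G) := by
  obtain ⟨N, hN, hpN, k, hk⟩ := HasNormalPComplement.exists_normal h
  have hgN : g ∈ N := mem_of_coprime_orderOf_of_index_pow N k hk g hg
  have hdisj : N ⊓ H = ⊥ := by
    apply Subgroup.inf_eq_bot_of_coprime
    obtain ⟨j, hj⟩ := IsPGroup.iff_card.mp hH
    rw [hj]
    exact Nat.Coprime.pow_right j
      ((Nat.Prime.coprime_iff_not_dvd Fact.out).mpr hpN).symm
  rw [Subgroup.mem_centralizer_iff]
  intro x hx
  have h1 : g * x * g⁻¹ * x⁻¹ ∈ N ⊓ H := by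
    refine ⟨?_, ?_⟩
    · have : g * x * g⁻¹ * x⁻¹ = g * (x * g⁻¹ * x⁻¹) := by group
      rw [this]
      exact N.mul_mem hgN (hN.conj_mem _ (N.inv_mem hgN) x)
    · exact H.mul_mem (hHn.conj_mem _ hx g) (H.inv_mem hx)
  rw [hdisj, Subgroup.mem_bot] at h1
  have h2 : g * x * g⁻¹ = x := mul_inv_eq_one.mp h1
  calc x * g = (g * x * g⁻¹) * g := by rw [h2]
    _ = g * x := by group

/-- **Frobenius**: a group which is not NPC has a nontrivial `p`-subgroup whose normalizer is
not NPC. -/
theorem exists_normalizer_not_npc {G : Type u} [Group G] [Finite G] {p : ℕ} [Fact p.Prime]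
    (h : ¬ Cfsg.HasNormalPComplement p G) :
    ∃ Q : Subgroup G, IsPGroup p Q ∧ Q ≠ ⊥ ∧
      ¬ Cfsg.HasNormalPComplement p (Subgroup.normalizer (Q : Set G)) := by
  by_contra hcon
  push Not at hcon
  apply h
  apply hasNormalPComplement_of_frobHyp
  intro Q hQ g hg hcop
  by_cases hQb : Q = ⊥
  · rw [hQb, Subgroup.mem_centralizer_iff]
    intro x hx
    rw [SetLike.mem_coe, Subgroup.mem_bot] at hx
    rw [hx, one_mul, mul_one]
  have hnpc := hcon Q hQ hQb
  have : (Q.subgroupOf (Subgroup.normalizer (Q : Set G))).Normal := Subgroup.normal_in_normalizer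
  have hQ' : IsPGroup p (Q.subgroupOf (Subgroup.normalizer (Q : Set G))) :=
    hQ.comap_subtype
  have hord : Nat.Coprime (orderOf (⟨g, hg⟩ : Subgroup.normalizer (Q : Set G))) p := by
    rwa [Subgroup.orderOf_mk]
  have h1 := HasNormalPComplement.mem_centralizer hnpc _ hQ' ⟨g, hg⟩ hord
  rw [Subgroup.mem_centralizer_iff] at h1 ⊢
  intro x hx
  have h2 := h1 ⟨x, Subgroup.le_normalizer hx⟩ (by
    show (⟨x, Subgroup.le_normalizer hx⟩ : Subgroup.normalizer (Q : Set G)) ∈
      Q.subgroupOf (Subgroup.normalizer (Q : Set G))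
    rw [Subgroup.mem_subgroupOf]; exact hx)
  exact congrArg Subtype.val h2

end Cfsg.Agent.Lib.L0
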