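import Mathlib
import Cfsg.Prelude.Def_Transfer
import Cfsg.Agent.Lib.H16.ConjSub
import Cfsg.Agent.Lib.H14.PIrr
import Cfsg.Agent.Lib.H6.PResidual2

/-!
# Basic transfer / fusion consequences (lead's library)

* `conjSet` calculus, `burnside_fusion_set` (Burnside's fusion lemma for `P`-invariant subsets).
* `burnside_fusion_elt` : abelian Sylow `P`: `G`-conjugate elements of `P` are `N_G(P)`-conjugate.
* `focalSubgroup_eq_of_comm` : abelian Sylow `P`: focal subgroup `= [P, N_G(P)]`.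
* `commutator_inf_sylow_of_comm` : `G' ⊓ P = [P, N_G(P)]`.
* `sylow_inf_pResidual_of_comm` : `P ⊓ O^p(G) = G' ⊓ P`.
-/

set_option autoImplicit false

namespace Cfsg.Agent.Lib.L0

open scoped commutatorElement

variable {G : Type*} [Group G]

/-- Conjugate of a set. -/
def conjSet (c : G) (Y : Set G) : Set G := (fun y => c * y * c⁻¹) '' Y

theorem conjSet_mul (a b : G) (Y : Set G) : conjSet (a * b) Y = conjSet a (conjSet b Y) := by
  unfold conjSet
  rw [Set.image_image]
  congr 1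
  funext y
  group

theorem conjSet_one (Y : Set G) : conjSet (1 : G) Y = Y := by
  unfold conjSet
  simp

theorem conjSet_inv_conjSet (a : G) (Y : Set G) : conjSet a⁻¹ (conjSet a Y) = Y := by
  rw [← conjSet_mul, inv_mul_cancel, conjSet_one]

/-- The stabilizer of a subset under conjugation. -/
def conjSetStab (Y : Set G) : Subgroup G where
  carrier := {c | conjSet c Y = Y}
  mul_mem' := by
    intro a b ha hb
    show conjSet (a * b) Y = Y
    rw [conjSet_mul, (show conjSet b Y = Y from hb), (show conjSet a Y = Y from ha)]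
  one_mem' := conjSet_one Y
  inv_mem' := by
    intro a ha
    show conjSet a⁻¹ Y = Y
    have h : conjSet a Y = Y := ha
    conv_lhs => rw [← h]
    exact conjSet_inv_conjSet a Y

theorem mem_conjSetStab (Y : Set G) (c : G) : c ∈ conjSetStab Y ↔ conjSet c Y = Y := Iff.rfl

/-- **Burnside's fusion lemma** for subsets invariant under a Sylow subgroup. -/
theorem burnside_fusion_set [Finite G] {p : ℕ} [Fact p.Prime] (P : Sylow p G) (X Y : Set G)
    (hX : ∀ x ∈ P, conjSet x X = X) (hY : ∀ x ∈ P, conjSet x Y = Y) (g : G)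
    (hg : conjSet g X = Y) :
    ∃ n ∈ Subgroup.normalizer ((P : Subgroup G) : Set G), conjSet n X = Y := by
  have hPK : (P : Subgroup G) ≤ conjSetStab Y := fun x hx => hY x hx
  have hginv : conjSet g⁻¹ Y = X := by rw [← hg]; exact conjSet_inv_conjSet g X
  have hQK : Cfsg.Agent.Lib.H16.cj g (P : Subgroup G) ≤ conjSetStab Y := by
    intro q hq
    rw [Cfsg.Agent.Lib.H16.mem_cj_iff] at hq
    rw [mem_conjSetStab]
    have : q = g * (g⁻¹ * q * g) * g⁻¹ := by group
    rw [this, conjSet_mul, conjSet_mul, hginv, hX _ hq, hg]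
  have hQ : IsPGroup p (Cfsg.Agent.Lib.H16.cj g (P : Subgroup G)) :=
    P.2.map _
  obtain ⟨c, hc, hcP⟩ := Cfsg.Agent.Lib.H16.exists_mem_conj_mem_sylow_of_le (conjSetStab Y) P hPK
    (Cfsg.Agent.Lib.H16.cj g (P : Subgroup G)) hQ hQK
  refine ⟨c * g, ?_, ?_⟩
  · apply Cfsg.Agent.Lib.H16.mem_normalizer_of_conj_mem
    intro x hx
    have : c * g * x * (c * g)⁻¹ = c * (g * x * g⁻¹) * c⁻¹ := by group
    rw [this]
    exact hcP _ (Cfsg.Agent.Lib.H16.conj_mem_cj g _ x hx)
  · rw [conjSet_mul, hg]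
    exact hc

/-- Abelian Sylow subgroup: elements of `P` conjugate in `G` are conjugate under `N_G(P)`. -/
theorem burnside_fusion_elt [Finite G] {p : ℕ} [Fact p.Prime] (P : Sylow p G)
    (hP : ∀ a ∈ P, ∀ b ∈ P, a * b = b * a) (x y : G) (hx : x ∈ P) (hy : y ∈ P) (g : G)
    (hg : g * x * g⁻¹ = y) :
    ∃ n ∈ Subgroup.normalizer ((P : Subgroup G) : Set G), n * x * n⁻¹ = y := by
  have hsing : ∀ z ∈ P, ∀ a ∈ P, conjSet a {z} = {z} := by
    intro z hz a ha
    unfold conjSet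
    rw [Set.image_singleton, hP a ha z hz, mul_assoc, mul_inv_cancel, mul_one]
  obtain ⟨n, hn, h⟩ := burnside_fusion_set P {x} {y} (hsing x hx) (hsing y hy) g
    (by unfold conjSet; rw [Set.image_singleton, hg])
  refine ⟨n, hn, ?_⟩
  unfold conjSet at h
  rw [Set.image_singleton] at h
  exact Set.singleton_eq_singleton_iff.mp h

/-- For an abelian Sylow subgroup the focal subgroup is `[P, N_G(P)]`. -/
theorem focalSubgroup_eq_of_comm [Finite G] {p : ℕ} [Fact p.Prime] (P : Sylow p G)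
    (hP : ∀ a ∈ P, ∀ b ∈ P, a * b = b * a) :
    Subgroup.focalSubgroup (P : Subgroup G)
      = ⁅(P : Subgroup G), Subgroup.normalizer ((P : Subgroup G) : Set G)⁆ := by
  apply le_antisymm
  · rw [Subgroup.focalSubgroup_def, Subgroup.closure_le]
    rintro z ⟨hzP, x, hxP, u, rfl⟩
    have hy : u * x⁻¹ * u⁻¹ ∈ (P : Subgroup G) := by
      have : u * x⁻¹ * u⁻¹ = x⁻¹ * ⁅x, u⁆ := by
        rw [commutatorElement_def]; group
      rw [this]
      exact (P : Subgroup G).mul_mem ((P : Subgroup G).inv_mem hxP) hzP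
    obtain ⟨n, hn, hnx⟩ := burnside_fusion_elt P hP x⁻¹ (u * x⁻¹ * u⁻¹)
      ((P : Subgroup G).inv_mem hxP) hy u rfl
    have : ⁅x, u⁆ = ⁅x, n⁆ := by
      rw [commutatorElement_def, commutatorElement_def]
      have h1 : x * u * x⁻¹ * u⁻¹ = x * (u * x⁻¹ * u⁻¹) := by group
      have h2 : x * n * x⁻¹ * n⁻¹ = x * (n * x⁻¹ * n⁻¹) := by group
      rw [h1, h2, hnx]
    rw [SetLike.mem_coe, this]
    exact Subgroup.commutator_mem_commutator hxP hn
  · rw [Subgroup.commutator_le]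
    intro x hx n hn
    apply Subgroup.subset_closure
    refine ⟨?_, x, hx, n, rfl⟩
    rw [commutatorElement_def]
    have h2 : x * n * x⁻¹ * n⁻¹ = x * (n * x⁻¹ * n⁻¹) := by group
    rw [h2]
    apply (P : Subgroup G).mul_mem hx
    exact (Subgroup.mem_normalizer_iff.mp hn x⁻¹).mp ((P : Subgroup G).inv_mem hx)

theorem commutator_inf_sylow_of_comm [Finite G] {p : ℕ} [Fact p.Prime] (P : Sylow p G)
    (hP : ∀ a ∈ P, ∀ b ∈ P, a * b = b * a) :
    commutator G ⊓ (P : Subgroup G)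
      = ⁅(P : Subgroup G), Subgroup.normalizer ((P : Subgroup G) : Set G)⁆ := by
  rw [Subgroup.commutator_inf_eq_focalSubgroup, focalSubgroup_eq_of_comm P hP]

/-- If a Sylow `p`-subgroup is abelian then `G' ≤ O^p(G)`. -/
theorem commutator_le_pResidual_of_comm [Finite G] {p : ℕ} [Fact p.Prime] (P : Sylow p G)
    (hP : ∀ a ∈ P, ∀ b ∈ P, a * b = b * a) : commutator G ≤ Cfsg.pResidual p G := by
  haveI : (Cfsg.pResidual p G).Normal := Cfsg.Agent.Lib.H14.pResidual_normal'
  rw [commutator_eq_closure, Subgroup.closure_le]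
  rintro _ ⟨a, b, rfl⟩
  have htop := Cfsg.Agent.Lib.H14.pResidual_sup_sylow (H := G) P
  have ha : a ∈ Cfsg.pResidual p G ⊔ (P : Subgroup G) := htop ▸ Subgroup.mem_top a
  have hb : b ∈ Cfsg.pResidual p G ⊔ (P : Subgroup G) := htop ▸ Subgroup.mem_top b
  rw [← SetLike.mem_coe, Subgroup.normal_mul] at ha hb
  obtain ⟨r, hr, s, hs, rfl⟩ := Set.mem_mul.mp ha
  obtain ⟨r', hr', s', hs', rfl⟩ := Set.mem_mul.mp hb
  rw [SetLike.mem_coe, ← QuotientGroup.eq_one_iff]
  have e1 : ((r * s : G) : G ⧸ Cfsg.pResidual p G) = (s : G ⧸ Cfsg.pResidual p G) := by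
    rw [QuotientGroup.mk_mul, (QuotientGroup.eq_one_iff r).mpr hr, one_mul]
  have e2 : ((r' * s' : G) : G ⧸ Cfsg.pResidual p G) = (s' : G ⧸ Cfsg.pResidual p G) := by
    rw [QuotientGroup.mk_mul, (QuotientGroup.eq_one_iff r').mpr hr', one_mul]
  rw [commutatorElement_def, QuotientGroup.mk_mul, QuotientGroup.mk_mul, QuotientGroup.mk_mul,
    QuotientGroup.mk_inv, QuotientGroup.mk_inv, e1, e2, ← QuotientGroup.mk_inv,
    ← QuotientGroup.mk_inv, ← QuotientGroup.mk_mul, ← QuotientGroup.mk_mul, ← QuotientGroup.mk_mul]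
  have : s * s' * s⁻¹ * s'⁻¹ = 1 := by
    rw [hP s hs s' hs']; group
  rw [this, QuotientGroup.mk_one]

theorem sylow_inf_pResidual_of_comm [Finite G] {p : ℕ} [Fact p.Prime] (P : Sylow p G)
    (hP : ∀ a ∈ P, ∀ b ∈ P, a * b = b * a) :
    (P : Subgroup G) ⊓ Cfsg.pResidual p G = commutator G ⊓ (P : Subgroup G) := by
  apply le_antisymm
  · rintro t ⟨htP, htR⟩
    refine ⟨?_, htP⟩
    obtain ⟨k, hk⟩ := (IsPGroup.iff_orderOf.mp P.2) ⟨t, htP⟩
    have hk' : t ^ p ^ k = 1 := by
      have := pow_orderOf_eq_one (⟨t, htP⟩ : (P : Subgroup G))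
      rw [hk] at this
      exact congrArg Subtype.val this
    exact Cfsg.Agent.Lib.H6.mem_commutator_of_mem_pResidual_sup p t k hk'
      (Subgroup.mem_sup_left htR)
  · rintro t ⟨htC, htP⟩
    exact ⟨htP, commutator_le_pResidual_of_comm P hP htC⟩

end Cfsg.Agent.Lib.L0
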