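import Mathlib
import Cfsg.Prelude.Def_Transfer
import Cfsg.Agent.Lib.H19.ModRepBasic
import Cfsg.Agent.Lib.H1.FpfAction

/-!
# Maschke for subgroups of an elementary abelian subgroup (lead, for helper8's S1421 path)

`exists_invariant_compl_elemAb`: `V` elementary abelian `p`-subgroup of a finite group, `W ≤ V`,
`H` normalizing both `V` and `W` with `|H|` prime to `p`: there is an `H`-invariant complement
of `W` in `V`.  `exists_compl_commGroup` is the type-level version (a group `Γ` acting by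
automorphisms on a commutative group `A` of exponent `p`).
-/

set_option autoImplicit false

namespace Cfsg.Agent.Lib.L0.BGSC

open Cfsg Cfsg.Agent.Lib.H19.ModRep Cfsg.Agent.Lib.H1

theorem exists_compl_commGroup {A : Type*} [CommGroup A] {p : ℕ} [Fact p.Prime]
    [Module (ZMod p) (Additive A)] {Γ : Type*} [Group Γ] [Finite Γ] (φ : Γ →* MulAut A)
    (hΓ : (Nat.card Γ).Coprime p) (B : Subgroup A) (hB : ∀ g : Γ, ∀ b ∈ B, φ g b ∈ B) :
    ∃ C : Subgroup A, (∀ g : Γ, ∀ c ∈ C, φ g c ∈ C) ∧ B ⊓ C = ⊥ ∧ B ⊔ C = ⊤ := by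
  classical
  have hp : p.Prime := Fact.out
  let f : Γ → Module.End (ZMod p) (Additive A) := fun h =>
    (MulEquiv.toAdditive (φ h)).toAddMonoidHom.toZModLinearMap p
  have hf1 : f 1 = 1 := by
    apply LinearMap.ext
    intro x
    show Additive.ofMul (φ 1 (Additive.toMul x)) = x
    rw [map_one]; rfl
  have hfm : ∀ a b : Γ, f (a * b) = f a * f b := by
    intro a b
    apply LinearMap.ext
    intro x
    show Additive.ofMul (φ (a * b) (Additive.toMul x)) =
      Additive.ofMul (φ a (φ b (Additive.toMul x)))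
    rw [map_mul]; rfl
  let ρ : Representation (ZMod p) Γ (Additive A) :=
    { toFun := f, map_one' := hf1, map_mul' := hfm }
  have hρ : ∀ (h : Γ) (x : Additive A), Additive.toMul (ρ h x) = φ h (Additive.toMul x) := by
    intro h x; rfl
  let U : Submodule (ZMod p) (Additive A) :=
    AddSubgroup.toZModSubmodule p (Subgroup.toAddSubgroup B)
  have hU : ∀ x : Additive A, x ∈ U ↔ Additive.toMul x ∈ B := by
    intro x
    show x ∈ Subgroup.toAddSubgroup B ↔ _
    exact Iff.rfl
  have hUinv : Inv ρ U := by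
    intro h u hu
    rw [hU] at hu ⊢
    rw [hρ]
    exact hB h _ hu
  haveI : NeZero (Nat.card Γ : ZMod p) := by
    refine ⟨fun h0 => ?_⟩
    rw [ZMod.natCast_eq_zero_iff] at h0
    have := Nat.Coprime.eq_one_of_dvd hΓ.symm h0
    exact hp.one_lt.ne' this
  obtain ⟨T, hTinv, hUT⟩ := exists_compl ρ U hUinv
  let T0 : Subgroup A := AddSubgroup.toSubgroup' ((AddSubgroup.toZModSubmodule p).symm T)
  have hT0 : ∀ v : A, v ∈ T0 ↔ Additive.ofMul v ∈ T := by
    intro v
    exact Iff.rfl
  refine ⟨T0, ?_, ?_, ?_⟩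
  · intro g c hc
    rw [hT0] at hc ⊢
    exact hTinv g _ hc
  · rw [eq_bot_iff]
    intro x hx
    rw [Subgroup.mem_inf] at hx
    have h2 : Additive.ofMul x ∈ U ⊓ T := ⟨(hU _).mpr hx.1, (hT0 _).mp hx.2⟩
    rw [hUT.inf_eq_bot, Submodule.mem_bot] at h2
    rw [Subgroup.mem_bot]
    exact h2
  · rw [eq_top_iff]
    intro x _
    have h1 : Additive.ofMul x ∈ U ⊔ T := by
      rw [hUT.sup_eq_top]; exact Submodule.mem_top
    obtain ⟨u, hu, t, ht, hut⟩ := Submodule.mem_sup.mp h1
    have h2 : x = Additive.toMul u * Additive.toMul t := by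
      have := congrArg (fun y : Additive A => Additive.toMul y) hut
      simpa using this.symm
    rw [h2]
    apply Subgroup.mul_mem_sup
    · exact (hU u).mp hu
    · exact (hT0 _).mpr ht

variable {G : Type*} [Group G]

/-- the commutative group structure on an elementary abelian subgroup -/
@[reducible] def eaCommGroup {p : ℕ} {V : Subgroup G} (hV : Cfsg.IsElementaryAbelian p V) :
    CommGroup ↥V :=
  { (inferInstance : Group ↥V) with mul_comm := fun a b => hV.1.is_comm.comm a b }

theorem exists_invariant_compl_elemAb [Finite G] {p : ℕ} [Fact p.Prime] {V W H : Subgroup G}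
    (hV : Cfsg.IsElementaryAbelian p V) (hWV : W ≤ V)
    (hHV : H ≤ Subgroup.normalizer (V : Set G)) (hHW : H ≤ Subgroup.normalizer (W : Set G))
    (hHp : (Nat.card H).Coprime p) :
    ∃ W' : Subgroup G, W' ≤ V ∧ H ≤ Subgroup.normalizer (W' : Set G) ∧ W ⊓ W' = ⊥ ∧
      W ⊔ W' = V := by
  classical
  letI : CommGroup ↥V := eaCommGroup hV
  have hexp : ∀ x : Additive ↥V, p • x = 0 := by
    intro x
    have h1 : (Additive.toMul x : ↥V) ^ p = 1 := by
      apply Subtype.ext
      have := hV.2 (Additive.toMul x : ↥V) (Additive.toMul x : ↥V).2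
      simpa using this
    show Additive.ofMul ((Additive.toMul x : ↥V) ^ p) = 0
    rw [h1]; rfl
  have hB : ∀ g : ↥H, ∀ b ∈ W.subgroupOf V, conjAutHom hHV g b ∈ W.subgroupOf V := by
    intro g b hb
    rw [Subgroup.mem_subgroupOf] at hb ⊢
    rw [conjAutHom_apply]
    have hn := hHW g.2
    rw [Subgroup.mem_normalizer_iff] at hn
    exact (hn _).mp hb
  obtain ⟨C, hCinv, hinf, hsup⟩ := @exists_compl_commGroup ↥V _ p _
    (AddCommGroup.zmodModule hexp) ↥H _ _ (conjAutHom hHV) hHp (W.subgroupOf V) hB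
  refine ⟨C.map V.subtype, ?_, ?_, ?_, ?_⟩
  · intro x hx
    obtain ⟨v, _, rfl⟩ := hx
    exact v.2
  · intro h hh
    have key : ∀ (k : G) (hk : k ∈ H) (x : G), x ∈ C.map V.subtype →
        k * x * k⁻¹ ∈ C.map V.subtype := by
      intro k hk x hx
      obtain ⟨v, hv, rfl⟩ := hx
      exact ⟨conjAutHom hHV ⟨k, hk⟩ v, hCinv ⟨k, hk⟩ v hv, conjAutHom_apply hHV ⟨k, hk⟩ v⟩
    rw [Subgroup.mem_normalizer_iff]
    intro x
    constructor
    · exact key h hh x
    · intro hx
      have := key h⁻¹ (H.inv_mem hh) _ hx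
      simpa [mul_assoc] using this
  · rw [eq_bot_iff]
    intro x hx
    rw [Subgroup.mem_inf] at hx
    obtain ⟨hxW, v, hv, rfl⟩ := hx
    have h2 : v ∈ W.subgroupOf V ⊓ C := ⟨Subgroup.mem_subgroupOf.mpr hxW, hv⟩
    rw [hinf, Subgroup.mem_bot] at h2
    rw [Subgroup.mem_bot, h2]; rfl
  · apply le_antisymm
    · apply sup_le hWV
      intro x hx
      obtain ⟨v, _, rfl⟩ := hx
      exact v.2
    · intro x hx
      have h1 : (⟨x, hx⟩ : ↥V) ∈ W.subgroupOf V ⊔ C := by
        rw [hsup]; exact Subgroup.mem_top _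
      obtain ⟨u, hu, t, ht, hut⟩ := Subgroup.mem_sup.mp h1
      have h2 : x = (u : G) * (t : G) := by
        have := congrArg (fun y : ↥V => (y : G)) hut
        simpa using this.symm
      rw [h2]
      apply Subgroup.mul_mem_sup
      · exact Subgroup.mem_subgroupOf.mp hu
      · exact ⟨t, ht, rfl⟩

end Cfsg.Agent.Lib.L0.BGSC
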