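import Mathlib
import Cfsg.Prelude.Def_Transfer
import Cfsg.Agent.Lib.L0.BGSC2

/-!
# Invariant cyclic subgroups of maximal order (lead, for helper8's S1421 path)

`exists_invariant_cyclic_of_abelian` (SC1 of board #1139): `S` abelian `p`-subgroup normalized by a
`p'`-group `H`, `X ≤ S` of order `p` normalized by `H`, `S` of exponent dividing `p^(e+1)` and
`y ∈ S` with `1 ≠ y^(p^e) ∈ X`: there is an `H`-invariant cyclic `T ≤ S` of order `p^(e+1)`
containing `X`.

`frattini_step` is the type-level Maschke step in `B / B^p`.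
-/

set_option autoImplicit false

namespace Cfsg.Agent.Lib.L0.BGSC

open Cfsg Cfsg.Agent.Lib.H1

section typeLevel

variable {B : Type*} [CommGroup B]

/-- the subgroup of `p`-th powers -/
def powSub (p : ℕ) : Subgroup B := (powMonoidHom p : B →* B).range

theorem mem_powSub {p : ℕ} {x : B} : x ∈ powSub (B := B) p ↔ ∃ u : B, u ^ p = x := by
  unfold powSub
  rw [MonoidHom.mem_range]
  rfl

theorem powSub_map (p : ℕ) (σ : MulAut B) :
    (powSub (B := B) p).map (σ : B →* B) = powSub p := by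
  ext x
  rw [Subgroup.mem_map]
  constructor
  · rintro ⟨z, hz, rfl⟩
    obtain ⟨u, rfl⟩ := mem_powSub.mp hz
    exact mem_powSub.mpr ⟨σ u, by simp⟩
  · intro hx
    obtain ⟨u, rfl⟩ := mem_powSub.mp hx
    exact ⟨(σ.symm u) ^ p, mem_powSub.mpr ⟨_, rfl⟩, by simp⟩

/-- the automorphism induced on `B / B^p` -/
noncomputable def quotAut (p : ℕ) (σ : MulAut B) : MulAut (B ⧸ powSub (B := B) p) :=
  QuotientGroup.congr (powSub p) (powSub p) σ (powSub_map p σ)

theorem quotAut_mk (p : ℕ) (σ : MulAut B) (b : B) :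
    quotAut p σ (QuotientGroup.mk b) = QuotientGroup.mk (σ b) :=
  QuotientGroup.congr_mk _ _ _ _ _

noncomputable def quotAutHom (p : ℕ) : MulAut B →* MulAut (B ⧸ powSub (B := B) p) where
  toFun := quotAut p
  map_one' := by
    apply MulEquiv.ext
    intro a
    induction a using QuotientGroup.induction_on with
    | H b => rw [quotAut_mk]; rfl
  map_mul' := by
    intro σ τ
    apply MulEquiv.ext
    intro a
    induction a using QuotientGroup.induction_on with
    | H b =>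
      rw [quotAut_mk, MulAut.mul_apply, MulAut.mul_apply, quotAut_mk, quotAut_mk]

theorem frattini_step [Finite B] {p : ℕ} [Fact p.Prime]
    {Γ : Type*} [Group Γ] [Finite Γ] (φ0 : Γ →* MulAut B) (hΓ : (Nat.card Γ).Coprime p)
    (K : Subgroup B) (hKinv : ∀ g : Γ, ∀ k ∈ K, φ0 g k ∈ K) (hpow : ∀ b : B, b ^ p ∈ K)
    (k0 : B) (hk0 : k0 ∈ K) (hk0' : ∀ u : B, u ^ p ≠ k0) (y : B) (hy : y ∉ K) :
    ∃ U : Subgroup B, (∀ g : Γ, ∀ u ∈ U, φ0 g u ∈ U) ∧ U ≠ ⊤ ∧ ∃ u ∈ U, u ∉ K := by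
  classical
  let Φ : Subgroup B := powSub p
  have hexp : ∀ x : Additive (B ⧸ Φ), p • x = 0 := by
    intro x
    have h1 : (Additive.toMul x : B ⧸ Φ) ^ p = 1 := by
      generalize Additive.toMul x = a
      induction a using QuotientGroup.induction_on with
      | H b =>
        rw [← QuotientGroup.mk_pow, QuotientGroup.eq_one_iff]
        exact mem_powSub.mpr ⟨b, rfl⟩
    show Additive.ofMul ((Additive.toMul x : B ⧸ Φ) ^ p) = 0
    rw [h1]; rfl
  let φ : Γ →* MulAut (B ⧸ Φ) := (quotAutHom p).comp φ0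
  have hφ : ∀ (g : Γ) (b : B), φ g (QuotientGroup.mk b) = QuotientGroup.mk (φ0 g b) := by
    intro g b
    exact quotAut_mk p (φ0 g) b
  let Kq : Subgroup (B ⧸ Φ) := K.map (QuotientGroup.mk' Φ)
  have hKq : ∀ g : Γ, ∀ a ∈ Kq, φ g a ∈ Kq := by
    intro g a ha
    obtain ⟨k, hk, rfl⟩ := ha
    exact ⟨φ0 g k, hKinv g k hk, (hφ g k).symm⟩
  have hΦK : Φ ≤ K := by
    intro x hx
    obtain ⟨u, rfl⟩ := mem_powSub.mp hx
    exact hpow u
  obtain ⟨C, hCinv, hinf, hsup⟩ := @exists_compl_commGroup (B ⧸ Φ) _ p _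
    (AddCommGroup.zmodModule hexp) Γ _ _ φ hΓ Kq hKq
  refine ⟨C.comap (QuotientGroup.mk' Φ), ?_, ?_, ?_⟩
  · intro g u hu
    rw [Subgroup.mem_comap] at hu ⊢
    have := hCinv g _ hu
    rwa [QuotientGroup.mk'_apply, hφ] at this
  · intro htop
    have hC : C = ⊤ := by
      rw [eq_top_iff]
      intro a _
      obtain ⟨b, rfl⟩ := QuotientGroup.mk_surjective a
      have : b ∈ C.comap (QuotientGroup.mk' Φ) := by rw [htop]; exact Subgroup.mem_top _
      exact this
    rw [hC, inf_top_eq] at hinf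
    have h1 : (QuotientGroup.mk k0 : B ⧸ Φ) ∈ Kq := ⟨k0, hk0, rfl⟩
    rw [hinf, Subgroup.mem_bot, QuotientGroup.eq_one_iff] at h1
    obtain ⟨u, hu⟩ := mem_powSub.mp h1
    exact hk0' u hu
  · have h1 : (QuotientGroup.mk y : B ⧸ Φ) ∈ Kq ⊔ C := by rw [hsup]; exact Subgroup.mem_top _
    obtain ⟨a, ha, c, hc, hac⟩ := Subgroup.mem_sup.mp h1
    obtain ⟨k, hk, rfl⟩ := ha
    obtain ⟨u, rfl⟩ := QuotientGroup.mk_surjective c
    refine ⟨u, hc, fun huK => hy ?_⟩
    have h2 : (QuotientGroup.mk (k * u) : B ⧸ Φ) = QuotientGroup.mk y := by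
      rw [QuotientGroup.mk_mul]; exact hac
    rw [QuotientGroup.eq] at h2
    have h3 : (k * u)⁻¹ * y ∈ K := hΦK h2
    have h4 : y = (k * u) * ((k * u)⁻¹ * y) := by group
    rw [h4]
    exact K.mul_mem (K.mul_mem hk huK) h3

end typeLevel


variable {G : Type*} [Group G]

theorem le_normalizer_of_conj {H T : Subgroup G}
    (h : ∀ k ∈ H, ∀ x ∈ T, k * x * k⁻¹ ∈ T) : H ≤ Subgroup.normalizer (T : Set G) := by
  intro g hg
  rw [Subgroup.mem_normalizer_iff]
  intro x
  constructor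
  · exact h g hg x
  · intro hx
    have := h g⁻¹ (H.inv_mem hg) _ hx
    simpa [mul_assoc] using this

theorem conj_mem_of_le_normalizer {H T : Subgroup G}
    (h : H ≤ Subgroup.normalizer (T : Set G)) {k x : G} (hk : k ∈ H) (hx : x ∈ T) :
    k * x * k⁻¹ ∈ T := by
  have hn := h hk
  rw [Subgroup.mem_normalizer_iff] at hn
  exact (hn x).mp hx

theorem le_zpowers_of_pow_decomp {S : Subgroup G} (hcomm : ∀ a ∈ S, ∀ b ∈ S, a * b = b * a)
    {p n : ℕ} (hexp : ∀ x ∈ S, x ^ p ^ n = 1) {y : G} (hy : y ∈ S)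
    (hdec : ∀ s ∈ S, ∃ c ∈ Subgroup.zpowers y, ∃ u ∈ S, s = c * u ^ p) :
    S ≤ Subgroup.zpowers y := by
  have hzS : Subgroup.zpowers y ≤ S := by
    rw [Subgroup.zpowers_le]; exact hy
  have key : ∀ m : ℕ, ∀ s ∈ S, ∃ c ∈ Subgroup.zpowers y, ∃ u ∈ S, s = c * u ^ p ^ m := by
    intro m
    induction m with
    | zero => intro s hs; exact ⟨1, Subgroup.one_mem _, s, hs, by simp⟩
    | succ m ihm =>
      intro s hs
      obtain ⟨c, hc, u, hu, rfl⟩ := ihm s hs
      obtain ⟨c', hc', u', hu', rfl⟩ := hdec u hu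
      refine ⟨c * c' ^ p ^ m, Subgroup.mul_mem _ hc (Subgroup.pow_mem _ hc' _), u', hu', ?_⟩
      have hcu : Commute c' (u' ^ p) := hcomm _ (hzS hc') _ (S.pow_mem hu' _)
      have h1 : (u' ^ p) ^ p ^ m = u' ^ p ^ (m + 1) := by
        rw [← pow_mul, ← pow_succ']
      rw [hcu.mul_pow, h1, mul_assoc]
  intro s hs
  obtain ⟨c, hc, u, hu, rfl⟩ := key n s hs
  rw [hexp u hu, mul_one]; exact hc

/-- the commutative group structure on a commutative subgroup -/
@[reducible] def commGroupOfComm {S : Subgroup G} (hSc : IsMulCommutative S) : CommGroup ↥S :=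
  { (inferInstance : Group ↥S) with mul_comm := fun a b => hSc.is_comm.comm a b }

theorem exists_invariant_cyclic_of_abelian [Finite G] {p : ℕ} [Fact p.Prime]
    {S H X : Subgroup G} (hSp : IsPGroup p S) (hSc : IsMulCommutative S)
    (hHS : H ≤ Subgroup.normalizer (S : Set G)) (hHp : (Nat.card H).Coprime p) (hXS : X ≤ S)
    (hXc : Nat.card X = p) (hHX : H ≤ Subgroup.normalizer (X : Set G)) {e : ℕ}
    (hexp : ∀ x ∈ S, x ^ p ^ (e + 1) = 1) {y : G} (hy : y ∈ S) (hyX : y ^ p ^ e ∈ X)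
    (hy1 : y ^ p ^ e ≠ 1) :
    ∃ T : Subgroup G, T ≤ S ∧ IsCyclic T ∧ Nat.card T = p ^ (e + 1) ∧ X ≤ T ∧
      H ≤ Subgroup.normalizer (T : Set G) := by
  classical
  have hp : p.Prime := Fact.out
  induction' hn : Nat.card S using Nat.strong_induction_on with n ih generalizing S y
  have hcomm : ∀ a ∈ S, ∀ b ∈ S, a * b = b * a := by
    intro a ha b hb
    have := hSc.is_comm.comm (⟨a, ha⟩ : ↥S) ⟨b, hb⟩
    exact congrArg Subtype.val this
  -- `X` is generated by any of its nontrivial elements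
  have hXgen : ∀ x ∈ X, x ≠ 1 → X ≤ Subgroup.zpowers x := by
    intro x hx hx1 z hz
    have h1 : (⟨x, hx⟩ : ↥X) ≠ 1 := fun h => hx1 (congrArg Subtype.val h)
    have h2 : (⟨z, hz⟩ : ↥X) ∈ Subgroup.zpowers (⟨x, hx⟩ : ↥X) :=
      mem_zpowers_of_prime_card hXc h1
    obtain ⟨j, hj⟩ := Subgroup.mem_zpowers_iff.mp h2
    refine Subgroup.mem_zpowers_iff.mpr ⟨j, ?_⟩
    have := congrArg Subtype.val hj
    simpa using this
  let S1 : Subgroup G :=
    { carrier := {x | x ∈ S ∧ x ^ p ^ e ∈ X}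
      mul_mem' := by
        rintro a b ⟨ha, ha'⟩ ⟨hb, hb'⟩
        refine ⟨S.mul_mem ha hb, ?_⟩
        have hc : Commute a b := hcomm a ha b hb
        rw [hc.mul_pow]
        exact X.mul_mem ha' hb'
      one_mem' := ⟨S.one_mem, by rw [one_pow]; exact X.one_mem⟩
      inv_mem' := by
        rintro a ⟨ha, ha'⟩
        refine ⟨S.inv_mem ha, ?_⟩
        rw [inv_pow]
        exact X.inv_mem ha' }
  have hS1S : S1 ≤ S := fun x hx => hx.1
  have hXS1 : X ≤ S1 := fun x hx => ⟨hXS hx, X.pow_mem hx _⟩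
  have hyS1 : y ∈ S1 := ⟨hy, hyX⟩
  have hHS1 : H ≤ Subgroup.normalizer (S1 : Set G) := by
    apply le_normalizer_of_conj
    intro k hk x hx
    refine ⟨conj_mem_of_le_normalizer hHS hk hx.1, ?_⟩
    rw [conj_pow]
    exact conj_mem_of_le_normalizer hHX hk hx.2
  by_cases hS1eq : S1 = S
  swap
  · have hlt : Nat.card S1 < n := by
      rw [← hn]
      by_contra hge
      push_neg at hge
      exact hS1eq (Subgroup.eq_of_le_of_card_ge hS1S hge)
    have hS1c : IsMulCommutative S1 :=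
      ⟨⟨fun a b => Subtype.ext (hcomm a (hS1S a.2) b (hS1S b.2))⟩⟩
    obtain ⟨T, hTS, hTc, hTcard, hXT, hHT⟩ := ih (Nat.card S1) hlt (S := S1)
      (hSp.to_le hS1S) hS1c hHS1 hXS1 (fun x hx => hexp x (hS1S hx)) hyS1 hyX hy1 rfl
    exact ⟨T, hTS.trans hS1S, hTc, hTcard, hXT, hHT⟩
  · have hall : ∀ x ∈ S, x ^ p ^ e ∈ X := by
      intro x hx
      have : x ∈ S1 := by rw [hS1eq]; exact hx
      exact this.2
    let K : Subgroup G :=
      { carrier := {x | x ∈ S ∧ x ^ p ^ e = 1}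
        mul_mem' := by
          rintro a b ⟨ha, ha'⟩ ⟨hb, hb'⟩
          refine ⟨S.mul_mem ha hb, ?_⟩
          have hc : Commute a b := hcomm a ha b hb
          show (a * b) ^ p ^ e = 1
          rw [hc.mul_pow, ha', hb', one_mul]
        one_mem' := ⟨S.one_mem, one_pow _⟩
        inv_mem' := by
          rintro a ⟨ha, ha'⟩
          refine ⟨S.inv_mem ha, ?_⟩
          show (a⁻¹) ^ p ^ e = 1
          rw [inv_pow, ha', inv_one] }
    have hKS : K ≤ S := fun x hx => hx.1
    have hyK : y ∉ K := fun h => hy1 h.2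
    have hpowK : ∀ b ∈ S, b ^ p ∈ K := by
      intro b hb
      refine ⟨S.pow_mem hb _, ?_⟩
      show (b ^ p) ^ p ^ e = 1
      rw [← pow_mul, ← pow_succ']
      exact hexp b hb
    by_cases hcase : ∀ k ∈ K, ∃ u ∈ S, u ^ p = k
    · have hdec : ∀ s ∈ S, ∃ c ∈ Subgroup.zpowers y, ∃ u ∈ S, s = c * u ^ p := by
        intro s hs
        have h1 : s ^ p ^ e ∈ Subgroup.zpowers (y ^ p ^ e) := hXgen _ hyX hy1 (hall s hs)
        obtain ⟨j, hj⟩ := Subgroup.mem_zpowers_iff.mp h1
        have hyj : y ^ j ∈ S := S.zpow_mem hy j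
        have hk : (y ^ j)⁻¹ * s ∈ K := by
          refine ⟨S.mul_mem (S.inv_mem hyj) hs, ?_⟩
          show ((y ^ j)⁻¹ * s) ^ p ^ e = 1
          have hc : Commute (y ^ j)⁻¹ s := hcomm _ (S.inv_mem hyj) _ hs
          rw [hc.mul_pow, ← hj, inv_pow]
          have h2 : (y ^ j) ^ p ^ e = (y ^ p ^ e) ^ j := by
            rw [← zpow_natCast (y ^ j), ← zpow_mul, ← zpow_natCast y, ← zpow_mul, mul_comm]
          rw [h2, inv_mul_cancel]
        obtain ⟨u, hu, hu'⟩ := hcase _ hk
        refine ⟨y ^ j, Subgroup.zpow_mem_zpowers y j, u, hu, ?_⟩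
        rw [hu']; group
      have hSle : S ≤ Subgroup.zpowers y := le_zpowers_of_pow_decomp hcomm hexp hy hdec
      have hzS : Subgroup.zpowers y ≤ S := by rw [Subgroup.zpowers_le]; exact hy
      have hSeq : S = Subgroup.zpowers y := le_antisymm hSle hzS
      refine ⟨S, le_refl _, ?_, ?_, hXS, hHS⟩
      · have : IsCyclic (Subgroup.zpowers y) := inferInstance
        rw [hSeq]; exact this
      · rw [hSeq, Nat.card_zpowers]
        exact orderOf_eq_prime_pow hy1 (hexp y hy)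
    · push_neg at hcase
      obtain ⟨k0, hk0, hk0'⟩ := hcase
      letI : CommGroup ↥S := commGroupOfComm hSc
      have hKinv : ∀ g : ↥H, ∀ k ∈ K.subgroupOf S, conjAutHom hHS g k ∈ K.subgroupOf S := by
        intro g k hk
        rw [Subgroup.mem_subgroupOf] at hk ⊢
        rw [conjAutHom_apply]
        refine ⟨conj_mem_of_le_normalizer hHS g.2 hk.1, ?_⟩
        show ((g : G) * (k : G) * (g : G)⁻¹) ^ p ^ e = 1
        rw [conj_pow, hk.2]; group
      have hpow' : ∀ b : ↥S, b ^ p ∈ K.subgroupOf S := by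
        intro b
        rw [Subgroup.mem_subgroupOf]
        have := hpowK b b.2
        simpa using this
      have hk0'' : ∀ u : ↥S, u ^ p ≠ (⟨k0, hKS hk0⟩ : ↥S) := by
        intro u hu
        have := congrArg Subtype.val hu
        exact hk0' u u.2 (by simpa using this)
      have hyK' : (⟨y, hy⟩ : ↥S) ∉ K.subgroupOf S := by
        rw [Subgroup.mem_subgroupOf]; exact hyK
      obtain ⟨U', hU'inv, hU'top, u0, hu0, hu0K⟩ := frattini_step (p := p) (conjAutHom hHS) hHp
        (K.subgroupOf S) hKinv hpow' ⟨k0, hKS hk0⟩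
        (by rw [Subgroup.mem_subgroupOf]; exact hk0) hk0'' ⟨y, hy⟩ hyK'
      let U : Subgroup G := U'.map S.subtype
      have hUS : U ≤ S := by
        intro x hx
        obtain ⟨v, _, rfl⟩ := hx
        exact v.2
      have hHU : H ≤ Subgroup.normalizer (U : Set G) := by
        apply le_normalizer_of_conj
        intro k hk x hx
        obtain ⟨v, hv, rfl⟩ := hx
        exact ⟨conjAutHom hHS ⟨k, hk⟩ v, hU'inv ⟨k, hk⟩ v hv, conjAutHom_apply hHS ⟨k, hk⟩ v⟩
      have hUne : U ≠ S := by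
        intro hUS'
        apply hU'top
        rw [eq_top_iff]
        intro s _
        have hsU : (s : G) ∈ U := by rw [hUS']; exact s.2
        obtain ⟨v, hv, hvs⟩ := hsU
        have hvs' : v = s := Subtype.ext hvs
        rw [← hvs']; exact hv
      have hlt : Nat.card U < n := by
        rw [← hn]
        by_contra hge
        push_neg at hge
        exact hUne (Subgroup.eq_of_le_of_card_ge hUS hge)
      have hu0U : (u0 : G) ∈ U := ⟨u0, hu0, rfl⟩
      have hu01 : (u0 : G) ^ p ^ e ≠ 1 := by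
        intro h
        apply hu0K
        rw [Subgroup.mem_subgroupOf]
        exact ⟨u0.2, h⟩
      have hu0X : (u0 : G) ^ p ^ e ∈ X := hall _ u0.2
      have hXU : X ≤ U := by
        intro x hx
        have h1 := hXgen _ hu0X hu01 hx
        have hle : Subgroup.zpowers ((u0 : G) ^ p ^ e) ≤ U := by
          rw [Subgroup.zpowers_le]; exact U.pow_mem hu0U _
        exact hle h1
      have hUc : IsMulCommutative U :=
        ⟨⟨fun a b => Subtype.ext (hcomm a (hUS a.2) b (hUS b.2))⟩⟩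
      obtain ⟨T, hTU, hTc, hTcard, hXT, hHT⟩ := ih (Nat.card U) hlt (S := U)
        (hSp.to_le hUS) hUc hHU hXU (fun x hx => hexp x (hUS hx)) hu0U hu0X hu01 rfl
      exact ⟨T, hTU.trans hUS, hTc, hTcard, hXT, hHT⟩

end Cfsg.Agent.Lib.L0.BGSC
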