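import Cfsg.Agent.Lib.L0.NPCStable
import Cfsg.Agent.Lib.L0.ThompsonNPC
import Cfsg.Agent.Lib.H4.ZJMap
import Cfsg.Agent.S0653

/-!
# Glauberman's normal `p`-complement theorem for `Z(J_A(P))` (lead's library)

`ZJAHyp p X T` : `N_X(Z(J(T)))` has a normal `p`-complement (abelian-version Thompson subgroup).
`zjaHyp_localHyp`, `zja_final`, `glauberman_npc`.
-/

set_option autoImplicit false

universe u

namespace Cfsg.Agent.Lib.L0

open Cfsg.Agent.Lib
open scoped commutatorElement

/-- The hypothesis of the Glauberman–Thompson theorem, abelian version. -/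
def ZJAHyp (p : ℕ) : ∀ (X : Type u) [Group X], Subgroup X → Prop := fun X _ T =>
  Cfsg.HasNormalPComplement p (Subgroup.normalizer (Cfsg.centerThompsonAOf T : Set X))

section

variable {p : ℕ} [hp : Fact p.Prime]

theorem centerThompsonAOf_le {X : Type*} [Group X] (T : Subgroup X) :
    Cfsg.centerThompsonAOf T ≤ T := by
  rw [← H4.ZJ.ZJ_abClass]; exact H4.ZJ.ZJ_le T

theorem zOf_le_centerThompsonAOf {X : Type*} [Group X] [Finite X] (T : Subgroup X) :
    zOf T ≤ Cfsg.centerThompsonAOf T := by
  rw [← H4.ZJ.ZJ_abClass]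
  apply H4.ZJ.le_ZJ_of_forall_le
  intro A hA
  have hz : ∀ y ∈ zOf T, ∀ s ∈ T, s * y = y * s := fun y hy => (mem_zOf.mp hy).2
  have hpred : (H4.ZJ.abClass X).pred (A ⊔ zOf T) := by
    apply (H4.ZJ.abClass X).sup A (zOf T) hA.2.1
    · intro x hx y hy
      exact hz y hy x (zOf_le T hx)
    · intro x hx y hy
      exact hz y hy x (hA.1 hx)
  have hcard := hA.2.2 _ (sup_le hA.1 (zOf_le T)) hpred
  have heq : A = A ⊔ zOf T := Subgroup.eq_of_le_of_card_ge le_sup_left hcard
  rw [heq]; exact le_sup_right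

theorem zjaHyp_localHyp : LocalHyp.{u} p (ZJAHyp p) where
  of_injective := by
    intro X Y _ _ _ f hf T hT
    have hinj : Set.InjOn f (T : Set X) := fun a _ b _ hab => hf hab
    unfold ZJAHyp at hT ⊢
    rw [H4.ZJ.centerThompsonAOf_map f T hinj] at hT
    have h3 := HasNormalPComplement.of_le (Subgroup.le_normalizer_map f) hT
    exact HasNormalPComplement.of_mulEquiv (Subgroup.equivMapOfInjective _ f hf).symm h3
  quotient := by
    intro X _ _ N _ hN T hT hHyp
    have hinj := injOn_mk_of_coprime N hN T hT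
    have hZp : IsPGroup p (Cfsg.centerThompsonAOf T) := hT.to_le (centerThompsonAOf_le T)
    show Cfsg.HasNormalPComplement p (Subgroup.normalizer
      ((Cfsg.centerThompsonAOf (T.map (QuotientGroup.mk' N)) : Subgroup (X ⧸ N)) : Set (X ⧸ N)))
    rw [H4.ZJ.centerThompsonAOf_map _ T hinj, ← H7.map_normalizer_of_coprime p hN hZp]
    exact HasNormalPComplement.of_surjective ((QuotientGroup.mk' N).subgroupMap _)
      ((QuotientGroup.mk' N).subgroupMap_surjective _) hHyp
  of_normalizers := by
    intro X _ _ T hT hTne hU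
    apply hU _ (centerThompsonAOf_le T)
    · intro hbot
      apply zOf_ne_bot T hT hTne
      rw [eq_bot_iff, ← hbot]
      exact zOf_le_centerThompsonAOf T
    · rw [← H4.ZJ.ZJ_abClass]
      exact H4.ZJ.normalizer_le_normalizer_ZJ T

theorem pCore_eq_of_struct {X : Type u} [Group X] {H K : Subgroup X} (hS : NPCStruct p X H K) :
    Cfsg.pCore p X = H :=
  le_antisymm (hS.hmax _ (H1.pCore_normal p X) (H1.pCore_isPGroup p X))
    (H1.le_pCore hS.hHn hS.hHp)

theorem zja_final (hp2 : p ≠ 2) (X : Type u) [Group X] [Finite X]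
    (hF : FinalConfig p (ZJAHyp p) X) : False := by
  obtain ⟨H, K, hS⟩ := hF.exists_struct
  obtain ⟨P⟩ : Nonempty (Sylow p X) := inferInstance
  have hcore := pCore_eq_of_struct hS
  have hc : Subgroup.centralizer (Cfsg.pCore p X : Set X) ≤ Cfsg.pCore p X := by
    rw [hcore]; exact hS.hcent
  have hchar := Cfsg.Agent.S0653.result hp2 hc
    (fun B _ hB => isPStableOn_of_struct hp2 hS B hB) P
  have hn : (Cfsg.centerThompsonAOf (P : Subgroup X)).Normal := inferInstance
  have hJ := hF.hyp P
  unfold ZJAHyp at hJ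
  rw [Subgroup.normalizer_eq_top_iff.mpr hn, hasNormalPComplement_top_iff] at hJ
  exact hF.not_npc hJ

/-- **Glauberman's normal `p`-complement theorem** (abelian-version `ZJ`). -/
theorem glauberman_npc (hp2 : p ≠ 2) (G : Type u) [Group G] [Finite G] (P : Sylow p G)
    (hN : Cfsg.HasNormalPComplement p
      (Subgroup.normalizer (Cfsg.centerThompsonAOf (P : Subgroup G) : Set G))) :
    Cfsg.HasNormalPComplement p G :=
  npc_of_localHyp zjaHyp_localHyp (zja_final hp2) G P hN

end

end Cfsg.Agent.Lib.L0
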