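import Mathlib
import Cfsg.Prelude.Def_BrauerPairs
import Cfsg.Agent.Lib.L0.BrauerFully

/-!
# Brauer pairs of a subgroup `H` versus Brauer pairs of `G` (lead)

For a subgroup `H ≤ G` and a subgroup `S'` of `H` with `C_G(S') ≤ H`, the centralizers `C_H(S')` and
`C_G(S')` are identified, and Brauer pairs of `H` on such subgroups are lifted to Brauer pairs of
`G` (`up`).
-/

set_option autoImplicit false

namespace Cfsg.Agent.Lib.L0.BrauerRelative

open Cfsg MonoidAlgebra Cfsg.Agent.Lib.H23 Cfsg.Agent.Lib.H24 Cfsg.Agent.Lib.L0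
  Cfsg.Agent.Lib.L0.BrauerPairHom Cfsg.Agent.Lib.L0.BrauerLam
  Cfsg.Agent.Lib.L0.BrauerNormal Cfsg.Agent.Lib.L0.BrauerSubpair Cfsg.Agent.Lib.L0.BrauerConj
  Cfsg.Agent.Lib.L0.BrauerDefect Cfsg.Agent.Lib.L0.BrauerSylow Cfsg.Agent.Lib.L0.BrauerCentric
  Cfsg.Agent.Lib.L0.BlockOrbitCover Cfsg.Agent.Lib.L0.BrauerNormalizer
  Cfsg.Agent.Lib.L0.BrauerFully
open scoped ComplexConjugate

variable {G : Type*} [Group G] (H : Subgroup G)

/-- The subgroup of `G` underlying a subgroup of `H`. -/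
abbrev upSub (S' : Subgroup H) : Subgroup G := S'.map H.subtype

theorem coe_mem_centralizer_upSub (S' : Subgroup H) {x : H}
    (hx : x ∈ Subgroup.centralizer (S' : Set H)) :
    (x : G) ∈ Subgroup.centralizer ((upSub H S' : Subgroup G) : Set G) := by
  rw [Subgroup.mem_centralizer_iff]
  rintro _ ⟨s, hs, rfl⟩
  have h1 := Subgroup.mem_centralizer_iff.1 hx s hs
  have h2 := congrArg (Subtype.val : H → G) h1
  simpa using h2

theorem mem_centralizer_of_coe_mem (S' : Subgroup H) {x : H}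
    (hx : (x : G) ∈ Subgroup.centralizer ((upSub H S' : Subgroup G) : Set G)) :
    x ∈ Subgroup.centralizer (S' : Set H) := by
  rw [Subgroup.mem_centralizer_iff]
  intro s hs
  apply Subtype.ext
  have h1 := Subgroup.mem_centralizer_iff.1 hx (s : G) ⟨s, hs, rfl⟩
  simpa using h1

/-- `C_H(S') ≃* C_G(S')` when `C_G(S') ≤ H`. -/
noncomputable def centUp (S' : Subgroup H)
    (hC : Subgroup.centralizer ((upSub H S' : Subgroup G) : Set G) ≤ H) :
    Subgroup.centralizer (S' : Set H) ≃*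
      Subgroup.centralizer ((upSub H S' : Subgroup G) : Set G) where
  toFun x := ⟨((x : H) : G), coe_mem_centralizer_upSub H S' x.2⟩
  invFun y := ⟨⟨(y : G), hC y.2⟩, mem_centralizer_of_coe_mem H S' y.2⟩
  left_inv x := rfl
  right_inv y := rfl
  map_mul' x y := rfl

theorem centUp_coe (S' : Subgroup H)
    (hC : Subgroup.centralizer ((upSub H S' : Subgroup G) : Set G) ≤ H)
    (x : Subgroup.centralizer (S' : Set H)) : ((centUp H S' hC x : _) : G) = ((x : H) : G) := rfl

theorem centUp_symm_coe (S' : Subgroup H)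
    (hC : Subgroup.centralizer ((upSub H S' : Subgroup G) : Set G) ≤ H)
    (y : Subgroup.centralizer ((upSub H S' : Subgroup G) : Set G)) :
    ((((centUp H S' hC).symm y : _) : H) : G) = (y : G) := rfl

/-- The lift of a set of irreducible characters of `C_H(S')` to `C_G(S')`. -/
def upBlock (S' : Subgroup H) (k' : Set (IrrCharacter (Subgroup.centralizer (S' : Set H)))) :
    Set (IrrCharacter (Subgroup.centralizer ((upSub H S' : Subgroup G) : Set G))) :=
  {ξ | ∃ ξ' ∈ k', ∀ (c' : Subgroup.centralizer (S' : Set H)),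
    (ξ : Subgroup.centralizer ((upSub H S' : Subgroup G) : Set G) → ℂ)
      ⟨((c' : H) : G), coe_mem_centralizer_upSub H S' c'.2⟩ =
      (ξ' : Subgroup.centralizer (S' : Set H) → ℂ) c'}

/-- The lift of a pair of `H` to a pair of `G`. -/
def up (a' : BrauerPairIdx H) : BrauerPairIdx G := ⟨upSub H a'.1, upBlock H a'.1 a'.2⟩

theorem up_fst (a' : BrauerPairIdx H) : (up H a').1 = upSub H a'.1 := rfl

theorem upBlock_eq_image (S' : Subgroup H)
    (hC : Subgroup.centralizer ((upSub H S' : Subgroup G) : Set G) ≤ H)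
    (k' : Set (IrrCharacter (Subgroup.centralizer (S' : Set H)))) :
    upBlock H S' k' = irrEquiv (centUp H S' hC).symm '' k' := by
  ext ξ
  constructor
  · rintro ⟨ξ', hξ', h⟩
    refine ⟨ξ', hξ', ?_⟩
    apply Subtype.ext
    funext y
    rw [irrEquiv_apply]
    exact (h ((centUp H S' hC).symm y)).symm
  · rintro ⟨ξ', hξ', rfl⟩
    refine ⟨ξ', hξ', fun c' => ?_⟩
    rw [irrEquiv_apply]
    congr 1

theorem brauerOmega_up (S' : Subgroup H)
    (hC : Subgroup.centralizer ((upSub H S' : Subgroup G) : Set G) ≤ H)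
    (β' : H → ℂ) (β : G → ℂ) (hβ : ∀ t : H, β (t : G) = β' t)
    (ξ₁ : IrrCharacter (Subgroup.centralizer (S' : Set H))) :
    brauerOmega (upSub H S') β (irrEquiv (centUp H S' hC).symm ξ₁ :
      Subgroup.centralizer ((upSub H S' : Subgroup G) : Set G) → ℂ) =
    brauerOmega S' β' (ξ₁ : Subgroup.centralizer (S' : Set H) → ℂ) := by
  unfold brauerOmega
  rw [← finsum_comp_equiv (centUp H S' hC).toEquiv]
  refine finsum_congr fun x' => ?_
  rw [irrEquiv_apply, irrEquiv_apply, map_one]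
  have h1 : (centUp H S' hC).symm ((centUp H S' hC).toEquiv x') = x' :=
    (centUp H S' hC).symm_apply_apply x'
  rw [h1]
  have h2 : (((centUp H S' hC).toEquiv x' : _) : G) = ((x' : H) : G) := rfl
  rw [h2, hβ]

theorem subgroupBlockCoeff_up (S' : Subgroup H)
    (hC : Subgroup.centralizer ((upSub H S' : Subgroup G) : Set G) ≤ H)
    (k' : Set (IrrCharacter (Subgroup.centralizer (S' : Set H)))) (t : H) :
    subgroupBlockCoeff (Subgroup.centralizer ((upSub H S' : Subgroup G) : Set G))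
      (upBlock H S' k') (t : G) =
    subgroupBlockCoeff (Subgroup.centralizer (S' : Set H)) k' t := by
  classical
  unfold subgroupBlockCoeff
  by_cases ht : t ∈ Subgroup.centralizer (S' : Set H)
  · rw [dif_pos ht, dif_pos (coe_mem_centralizer_upSub H S' ht), upBlock_eq_image H S' hC,
      blockCoeff_irrEquiv_image]
    rfl
  · rw [dif_neg ht, dif_neg (fun h => ht (mem_centralizer_of_coe_mem H S' h))]

variable {p : ℕ} {M : Ideal AlgInt}

theorem isPBlock_upBlock (S' : Subgroup H)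
    (hC : Subgroup.centralizer ((upSub H S' : Subgroup G) : Set G) ≤ H)
    {k' : Set (IrrCharacter (Subgroup.centralizer (S' : Set H)))} (hk : IsPBlock M k') :
    IsPBlock M (upBlock H S' k') := by
  rw [upBlock_eq_image H S' hC]
  exact isPBlock_irrEquiv_image _ hk

theorem isBrauerPair_up {S' : Subgroup H}
    (hC : Subgroup.centralizer ((upSub H S' : Subgroup G) : Set G) ≤ H)
    {k' : Set (IrrCharacter (Subgroup.centralizer (S' : Set H)))}
    (h : IsBrauerPair p M S' k') : IsBrauerPair p M (upSub H S') (upBlock H S' k') :=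
  ⟨h.1.map _, isPBlock_upBlock H S' hC h.2⟩

theorem stabilizesBlock_up {S' : Subgroup H}
    (hC : Subgroup.centralizer ((upSub H S' : Subgroup G) : Set G) ≤ H)
    {k' : Set (IrrCharacter (Subgroup.centralizer (S' : Set H)))} {x : H}
    (hx : StabilizesBlock (Subgroup.centralizer (S' : Set H)) k' x) :
    StabilizesBlock (Subgroup.centralizer ((upSub H S' : Subgroup G) : Set G))
      (upBlock H S' k') (x : G) := by
  obtain ⟨hxN, hx2⟩ := hx
  refine ⟨?_, ?_⟩
  · rw [Subgroup.mem_normalizer_iff]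
    intro g
    constructor
    · intro hg
      have h1 : (⟨g, hC hg⟩ : H) ∈ Subgroup.centralizer (S' : Set H) :=
        mem_centralizer_of_coe_mem H S' hg
      have h2 := (Subgroup.mem_normalizer_iff.1 hxN _).1 h1
      exact coe_mem_centralizer_upSub H S' h2
    · intro hg
      have hgH : g ∈ H := by
        have h1 := hC hg
        have h2 : g = (x : G)⁻¹ * ((x : G) * g * (x : G)⁻¹) * (x : G) := by group
        rw [h2]
        exact H.mul_mem (H.mul_mem (H.inv_mem x.2) h1) x.2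
      have h1 : x * (⟨g, hgH⟩ : H) * x⁻¹ ∈ Subgroup.centralizer (S' : Set H) :=
        mem_centralizer_of_coe_mem H S' hg
      have h2 := (Subgroup.mem_normalizer_iff.1 hxN _).2 h1
      exact coe_mem_centralizer_upSub H S' h2
  · rw [upBlock_eq_image H S' hC]
    rintro _ ⟨χ₁, hχ₁, rfl⟩
    obtain ⟨χ₁', hχ₁', hc⟩ := hx2 χ₁ hχ₁
    refine ⟨irrEquiv (centUp H S' hC).symm χ₁', ⟨χ₁', hχ₁', rfl⟩, ?_⟩
    intro c c' hcc
    rw [irrEquiv_apply, irrEquiv_apply]
    apply hc
    apply Subtype.ext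
    exact hcc


theorem centralizer_upSub_anti {S' R' : Subgroup H} (h : S' ≤ R') :
    Subgroup.centralizer ((upSub H R' : Subgroup G) : Set G) ≤
      Subgroup.centralizer ((upSub H S' : Subgroup G) : Set G) :=
  Subgroup.centralizer_le (Subgroup.map_mono h)

/-- Normal inclusion of pairs of `H` lifts to `G`. -/
theorem isNormalSubpair_up {Q' P' : Subgroup H}
    (hC : Subgroup.centralizer ((upSub H Q' : Subgroup G) : Set G) ≤ H)
    {f' : Set (IrrCharacter (Subgroup.centralizer (Q' : Set H)))}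
    {e' : Set (IrrCharacter (Subgroup.centralizer (P' : Set H)))}
    (h : IsNormalSubpair p M Q' f' P' e') :
    IsNormalSubpair p M (upSub H Q') (upBlock H Q' f') (upSub H P') (upBlock H P' e') := by
  obtain ⟨hQf, hPe, hQP, hPN, hst, hom⟩ := h
  have hCP : Subgroup.centralizer ((upSub H P' : Subgroup G) : Set G) ≤ H :=
    (centralizer_upSub_anti H hQP).trans hC
  refine ⟨isBrauerPair_up H hC hQf, isBrauerPair_up H hCP hPe, Subgroup.map_mono hQP,
    (Subgroup.map_mono hPN).trans (Subgroup.le_normalizer_map _), ?_, ?_⟩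
  · rintro _ ⟨x, hx, rfl⟩
    exact stabilizesBlock_up H hC (hst x hx)
  · rw [upBlock_eq_image H P' hCP]
    rintro _ ⟨ξ₁, hξ₁, rfl⟩
    rw [brauerOmega_up H P' hCP
      (subgroupBlockCoeff (Subgroup.centralizer (Q' : Set H)) f') _
      (fun t => subgroupBlockCoeff_up H Q' hC f' t) ξ₁]
    exact hom ξ₁ hξ₁

theorem normalSubpairRel_up {a' b' : BrauerPairIdx H}
    (hC : Subgroup.centralizer ((upSub H a'.1 : Subgroup G) : Set G) ≤ H)
    (h : NormalSubpairRel p M a' b') : NormalSubpairRel p M (up H a') (up H b') :=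
  isNormalSubpair_up H hC h

theorem reflTransGen_up {a' b' : BrauerPairIdx H}
    (hC : Subgroup.centralizer ((upSub H a'.1 : Subgroup G) : Set G) ≤ H)
    (h : Relation.ReflTransGen (NormalSubpairRel p M) a' b') :
    Relation.ReflTransGen (NormalSubpairRel p M) (up H a') (up H b') := by
  induction h with
  | refl => exact Relation.ReflTransGen.refl
  | @tail c' d' hac hcd ih =>
    have hle : a'.1 ≤ c'.1 := fst_le_of_reflTransGen hac
    exact Relation.ReflTransGen.tail ih
      (normalSubpairRel_up H ((centralizer_upSub_anti H hle).trans hC) hcd)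

/-- A pair of `H` lying over `(Q, f)` is a Brauer pair of the block of `H` with the idempotent of
`f`. -/
theorem isBrauerPairOf_of_up {Q : Subgroup G}
    {f : Set (IrrCharacter (Subgroup.centralizer (Q : Set G)))}
    {F' : Set (IrrCharacter H)} (hF' : IsPBlock M F')
    (hF'c : ∀ t : H, blockCoeff F' t =
      subgroupBlockCoeff (Subgroup.centralizer (Q : Set G)) f (t : G))
    {a' : BrauerPairIdx H} (ha' : IsBrauerPair p M a'.1 a'.2)
    (hC : Subgroup.centralizer ((upSub H a'.1 : Subgroup G) : Set G) ≤ H)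
    (h : IsNormalSubpair p M Q f (up H a').1 (up H a').2) :
    IsBrauerPairOf p M F' a'.1 a'.2 := by
  refine ⟨ha', hF', fun ξ₁ hξ₁ => ?_⟩
  have h1 := h.2.2.2.2.2 (irrEquiv (centUp H a'.1 hC).symm ξ₁) (by
    show _ ∈ upBlock H a'.1 a'.2
    rw [upBlock_eq_image H a'.1 hC]
    exact ⟨ξ₁, hξ₁, rfl⟩)
  have h2 := brauerOmega_up H a'.1 hC (blockCoeff F')
    (subgroupBlockCoeff (Subgroup.centralizer (Q : Set G)) f) (fun t => (hF'c t).symm) ξ₁
  show MemLocalIdeal M (brauerOmega a'.1 (blockCoeff F') _ - 1)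
  rw [← h2]
  exact h1


/-- Extension by zero of a function on `H`. -/
noncomputable def extG (φ' : H → ℂ) : G → ℂ :=
  fun g => by classical exact if h : g ∈ H then φ' ⟨g, h⟩ else 0

theorem extG_apply_mem (φ' : H → ℂ) (t : H) : extG H φ' (t : G) = φ' t := by
  unfold extG
  rw [dif_pos t.2]

theorem extG_apply_not_mem (φ' : H → ℂ) {g : G} (hg : g ∉ H) : extG H φ' g = 0 := by
  unfold extG
  rw [dif_neg hg]

theorem extZero_up (S' : Subgroup H)
    (hC : Subgroup.centralizer ((upSub H S' : Subgroup G) : Set G) ≤ H)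
    (ξ₁ : IrrCharacter (Subgroup.centralizer (S' : Set H))) :
    extZero (upSub H S') (irrEquiv (centUp H S' hC).symm ξ₁ :
      Subgroup.centralizer ((upSub H S' : Subgroup G) : Set G) → ℂ) =
    extG H (extZero S' (ξ₁ : Subgroup.centralizer (S' : Set H) → ℂ)) := by
  classical
  funext g
  by_cases hg : g ∈ Subgroup.centralizer ((upSub H S' : Subgroup G) : Set G)
  · have h1 := extZero_apply_mem (upSub H S') (irrEquiv (centUp H S' hC).symm ξ₁ :
      Subgroup.centralizer ((upSub H S' : Subgroup G) : Set G) → ℂ) ⟨g, hg⟩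
    have h2 := extG_apply_mem H (extZero S' (ξ₁ : Subgroup.centralizer (S' : Set H) → ℂ))
      ⟨g, hC hg⟩
    have h3 := extZero_apply_mem S' (ξ₁ : Subgroup.centralizer (S' : Set H) → ℂ)
      ⟨⟨g, hC hg⟩, mem_centralizer_of_coe_mem H S' hg⟩
    simp only at h1 h2 h3
    rw [h1, h2, h3, irrEquiv_apply]
    rfl
  · have h1 : extZero (upSub H S') (irrEquiv (centUp H S' hC).symm ξ₁ :
        Subgroup.centralizer ((upSub H S' : Subgroup G) : Set G) → ℂ) g = 0 := by
      unfold extZero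
      rw [dif_neg hg]
    rw [h1]
    by_cases hgH : g ∈ H
    · have h2 := extG_apply_mem H (extZero S' (ξ₁ : Subgroup.centralizer (S' : Set H) → ℂ))
        ⟨g, hgH⟩
      simp only at h2
      rw [h2]
      unfold extZero
      rw [dif_neg]
      intro h
      exact hg (coe_mem_centralizer_upSub H S' h)
    · rw [extG_apply_not_mem H _ hgH]

theorem mem_pairFuns_up (a' : BrauerPairIdx H)
    (hC : Subgroup.centralizer ((upSub H a'.1 : Subgroup G) : Set G) ≤ H) (φ : G → ℂ) :
    φ ∈ pairFuns (up H a') ↔ ∃ φ' ∈ pairFuns a', φ = extG H φ' := by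
  constructor
  · rintro ⟨ξ, hξ, rfl⟩
    have hξ' : ξ ∈ upBlock H a'.1 a'.2 := hξ
    rw [upBlock_eq_image H a'.1 hC] at hξ'
    obtain ⟨ξ₁, hξ₁, rfl⟩ := hξ'
    exact ⟨_, ⟨ξ₁, hξ₁, rfl⟩, extZero_up H a'.1 hC ξ₁⟩
  · rintro ⟨_, ⟨ξ₁, hξ₁, rfl⟩, rfl⟩
    refine ⟨irrEquiv (centUp H a'.1 hC).symm ξ₁, ?_, (extZero_up H a'.1 hC ξ₁).symm⟩
    show _ ∈ upBlock H a'.1 a'.2
    rw [upBlock_eq_image H a'.1 hC]
    exact ⟨ξ₁, hξ₁, rfl⟩

theorem upSub_map_conj (S' : Subgroup H) (t : H) :
    upSub H (S'.map (MulAut.conj t).toMonoidHom) =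
      (upSub H S').map (MulAut.conj (t : G)).toMonoidHom := by
  unfold upSub
  rw [Subgroup.map_map, Subgroup.map_map]
  congr 1

theorem up_conjPair [Finite G] [hPr : M.IsPrime] (t : H) {a' : BrauerPairIdx H}
    (ha' : IsPBlock M a'.2)
    (hC : Subgroup.centralizer ((upSub H a'.1 : Subgroup G) : Set G) ≤ H)
    (hC₂ : Subgroup.centralizer
      ((upSub H (a'.1.map (MulAut.conj t).toMonoidHom) : Subgroup G) : Set G) ≤ H) :
    up H (conjPair t a') = conjPair (t : G) (up H a') := by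
  haveI : Fintype H := Fintype.ofFinite _
  haveI : Fintype (Subgroup.centralizer (a'.1 : Set H)) := Fintype.ofFinite _
  refine pair_ext (M := M) (upSub_map_conj H a'.1 t) ?_ ?_ ?_
  · exact isPBlock_upBlock H _ hC₂ (isPBlock_conjPair t ha')
  · exact isPBlock_conjPair (t : G) (isPBlock_upBlock H _ hC ha')
  · obtain ⟨ξ₁, hξ₁⟩ := block_nonempty ha'
    set φ₁ := extZero a'.1 (ξ₁ : Subgroup.centralizer (a'.1 : Set H) → ℂ) with hφ₁
    have hφ₁a : φ₁ ∈ pairFuns a' := ⟨ξ₁, hξ₁, rfl⟩
    refine ⟨fun g => extG H φ₁ ((t : G)⁻¹ * g * (t : G)), ?_, ?_⟩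
    · rw [mem_pairFuns_up H (conjPair t a') hC₂]
      refine ⟨fun h => φ₁ (t⁻¹ * h * t), (mem_pairFuns_conjPair t a' _).2 ⟨φ₁, hφ₁a, rfl⟩, ?_⟩
      funext g
      by_cases hg : g ∈ H
      · have h1 := extG_apply_mem H (fun h => φ₁ (t⁻¹ * h * t)) ⟨g, hg⟩
        have h2 := extG_apply_mem H φ₁ (t⁻¹ * ⟨g, hg⟩ * t)
        simp only at h1
        rw [h1, ← h2]
        rfl
      · rw [extG_apply_not_mem H _ hg, extG_apply_not_mem H]
        intro h
        apply hg
        have h2 : g = (t : G) * ((t : G)⁻¹ * g * (t : G)) * (t : G)⁻¹ := by group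
        rw [h2]
        exact H.mul_mem (H.mul_mem t.2 h) (H.inv_mem t.2)
    · rw [mem_pairFuns_conjPair]
      exact ⟨extG H φ₁, (mem_pairFuns_up H a' hC _).2 ⟨φ₁, hφ₁a, rfl⟩, rfl⟩


/-- A Brauer pair of `B` whose subgroup is a defect group is maximal. -/
theorem isMaximal_of_isDefectGroup {K : Type*} [Group K] [Fintype K] (hM : IsPModular p M)
    {B : Set (IrrCharacter K)} {N : Subgroup K}
    {k : Set (IrrCharacter (Subgroup.centralizer (N : Set K)))}
    (hNk : IsBrauerPairOf p M B N k) (hD : IsDefectGroup p M B N) :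
    IsMaximalBrauerPair p M B N k := by
  refine ⟨hNk, fun R g hRg hle => ?_⟩
  obtain ⟨P, e, hmax, hle'⟩ := exists_maximal_above hM _ R g rfl hRg
  have hDP := isDefectGroup_of_maximal hM hmax
  have h1 := card_of_isDefectGroup hM hNk.2.1 hD
  have h2 := card_of_isDefectGroup hM hNk.2.1 hDP
  have hNR : N ≤ R := fst_le_of_reflTransGen (a := ⟨N, k⟩) (b := ⟨R, g⟩) hle
  have hRP : R ≤ P := fst_le_of_reflTransGen (a := ⟨R, g⟩) (b := ⟨P, e⟩) hle'
  have h3 : N = P := Subgroup.eq_of_le_of_card_ge (hNR.trans hRP) (by rw [h1, h2])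
  exact le_antisymm (h3 ▸ hRP) hNR

section Down

theorem upSub_subgroupOf {R : Subgroup G} (hRH : R ≤ H) : upSub H (R.subgroupOf H) = R :=
  Subgroup.map_subgroupOf_eq_of_le hRH

theorem coe_mem_centralizer_of_subgroupOf {R : Subgroup G} (hRH : R ≤ H) {x : H}
    (hx : x ∈ Subgroup.centralizer ((R.subgroupOf H : Subgroup H) : Set H)) :
    (x : G) ∈ Subgroup.centralizer (R : Set G) := by
  have := coe_mem_centralizer_upSub H (R.subgroupOf H) hx
  rwa [upSub_subgroupOf H hRH] at this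

theorem mem_centralizer_subgroupOf {R : Subgroup G} (hRH : R ≤ H) {x : H}
    (hx : (x : G) ∈ Subgroup.centralizer (R : Set G)) :
    x ∈ Subgroup.centralizer ((R.subgroupOf H : Subgroup H) : Set H) := by
  apply mem_centralizer_of_coe_mem H (R.subgroupOf H)
  rw [upSub_subgroupOf H hRH]
  exact hx

/-- `C_H(R) ≃* C_G(R)` for `R ≤ H` with `C_G(R) ≤ H`. -/
noncomputable def centDown {R : Subgroup G} (hRH : R ≤ H)
    (hC : Subgroup.centralizer (R : Set G) ≤ H) :
    Subgroup.centralizer ((R.subgroupOf H : Subgroup H) : Set H) ≃*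
      Subgroup.centralizer (R : Set G) where
  toFun x := ⟨((x : H) : G), coe_mem_centralizer_of_subgroupOf H hRH x.2⟩
  invFun y := ⟨⟨(y : G), hC y.2⟩, mem_centralizer_subgroupOf H hRH y.2⟩
  left_inv _ := rfl
  right_inv _ := rfl
  map_mul' _ _ := rfl

theorem centDown_apply_coe {R : Subgroup G} (hRH : R ≤ H)
    (hC : Subgroup.centralizer (R : Set G) ≤ H)
    (x : Subgroup.centralizer ((R.subgroupOf H : Subgroup H) : Set H)) :
    ((centDown H hRH hC x : _) : G) = ((x : H) : G) := rfl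

theorem extZero_down {R : Subgroup G} (hRH : R ≤ H)
    (hC : Subgroup.centralizer (R : Set G) ≤ H)
    (ξ : IrrCharacter (Subgroup.centralizer (R : Set G))) :
    extZero R (ξ : Subgroup.centralizer (R : Set G) → ℂ) =
      extG H (extZero (R.subgroupOf H) (irrEquiv (centDown H hRH hC) ξ :
        Subgroup.centralizer ((R.subgroupOf H : Subgroup H) : Set H) → ℂ)) := by
  classical
  funext g
  by_cases hg : g ∈ Subgroup.centralizer (R : Set G)
  · have hgH : g ∈ H := hC hg
    have hg' : (⟨g, hgH⟩ : H) ∈ Subgroup.centralizer ((R.subgroupOf H : Subgroup H) : Set H) :=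
      mem_centralizer_subgroupOf H hRH hg
    unfold extG
    rw [dif_pos hgH]
    unfold extZero
    rw [dif_pos hg, dif_pos hg', irrEquiv_apply]
    congr 1
  · unfold extG
    by_cases hgH : g ∈ H
    · rw [dif_pos hgH]
      unfold extZero
      rw [dif_neg hg, dif_neg]
      intro h
      exact hg (coe_mem_centralizer_of_subgroupOf H hRH h)
    · rw [dif_neg hgH]
      unfold extZero
      rw [dif_neg hg]

variable [Finite G]

/-- Every pair `(R, h)` of `G` with `R ≤ H` and `C_G(R) ≤ H` is the lift of a pair of `H`. -/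
theorem exists_up_eq [hPr : M.IsPrime] {R : Subgroup G} (hRH : R ≤ H)
    (hC : Subgroup.centralizer (R : Set G) ≤ H)
    {h : Set (IrrCharacter (Subgroup.centralizer (R : Set G)))} (hh : IsPBlock M h) :
    ∃ a' : BrauerPairIdx H, a'.1 = R.subgroupOf H ∧ IsPBlock M a'.2 ∧ up H a' = ⟨R, h⟩ := by
  classical
  have hup : upSub H (R.subgroupOf H) = R := upSub_subgroupOf H hRH
  have hC' : Subgroup.centralizer ((upSub H (R.subgroupOf H) : Subgroup G) : Set G) ≤ H := by
    rw [hup]; exact hC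
  have hblock : IsPBlock M (irrEquiv (centDown H hRH hC) '' h) :=
    isPBlock_irrEquiv_image (centDown H hRH hC) hh
  refine ⟨⟨R.subgroupOf H, irrEquiv (centDown H hRH hC) '' h⟩, rfl, hblock, ?_⟩
  haveI : Fintype (Subgroup.centralizer (R : Set G)) := Fintype.ofFinite _
  have hb1 : IsPBlock M (up H ⟨R.subgroupOf H, irrEquiv (centDown H hRH hC) '' h⟩).2 :=
    isPBlock_upBlock H _ hC' hblock
  have hb2 : IsPBlock M (⟨R, h⟩ : BrauerPairIdx G).2 := hh
  refine pair_ext (M := M) (a := up H ⟨R.subgroupOf H, irrEquiv (centDown H hRH hC) '' h⟩)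
    (b := ⟨R, h⟩) hup hb1 hb2 ?_
  obtain ⟨ξ, hξ⟩ := block_nonempty hh
  refine ⟨extZero R (ξ : Subgroup.centralizer (R : Set G) → ℂ), ?_, ⟨ξ, hξ, rfl⟩⟩
  exact (mem_pairFuns_up H ⟨R.subgroupOf H, irrEquiv (centDown H hRH hC) '' h⟩ hC' _).2
    ⟨extZero (R.subgroupOf H) (irrEquiv (centDown H hRH hC) ξ : _ → ℂ),
      ⟨irrEquiv (centDown H hRH hC) ξ, ⟨ξ, hξ, rfl⟩, rfl⟩, extZero_down H hRH hC ξ⟩

end Down


/-- **Sylow's theorem for the Brauer pairs above `(Q, f)`.** Let `Q C_G(Q) ≤ H ≤ N_G(Q, f)`, `F'` the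
block of `H` with the idempotent of `f`, `(N, k) ⊵ (Q, f)` with `N ≤ H` a defect group of `F'`.
Then every `(R, h) ⊵ (Q, f)` with `R ≤ H` is `H`-conjugate to a pair below `(N, k)`. -/
theorem exists_conj_le_relative [Fintype G] (hM : IsPModular p M) {Q : Subgroup G}
    {f : Set (IrrCharacter (Subgroup.centralizer (Q : Set G)))}
    (hCH : Subgroup.centralizer (Q : Set G) ≤ H)
    (hHN : H ≤ Subgroup.normalizer (Q : Set G))
    (F' : Set (IrrCharacter H)) (hF' : IsPBlock M F')
    (hF'c : ∀ t : H, blockCoeff F' t =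
      subgroupBlockCoeff (Subgroup.centralizer (Q : Set G)) f (t : G))
    {N R : Subgroup G} {k : Set (IrrCharacter (Subgroup.centralizer (N : Set G)))}
    {h : Set (IrrCharacter (Subgroup.centralizer (R : Set G)))}
    (hNk : IsNormalSubpair p M Q f N k) (hNH : N ≤ H)
    (hD : IsDefectGroup p M F' (N.subgroupOf H))
    (hRh : IsNormalSubpair p M Q f R h) (hRH : R ≤ H) :
    ∃ t ∈ H, Relation.ReflTransGen (NormalSubpairRel p M) (conjPair t ⟨R, h⟩) ⟨N, k⟩ := by
  classical
  haveI hPr := isPrime_of_isPModular hM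
  haveI : Fintype H := Fintype.ofFinite _
  have hQN : Q ≤ N := hNk.2.2.1
  have hQR : Q ≤ R := hRh.2.2.1
  have hCN : Subgroup.centralizer (N : Set G) ≤ H := (Subgroup.centralizer_le hQN).trans hCH
  have hCR : Subgroup.centralizer (R : Set G) ≤ H := (Subgroup.centralizer_le hQR).trans hCH
  obtain ⟨b', hb1, hb2, hb3⟩ := exists_up_eq H hNH hCN hNk.2.1.2
  obtain ⟨a', ha1, ha2, ha3⟩ := exists_up_eq H hRH hCR hRh.2.1.2
  have hCa : Subgroup.centralizer ((upSub H a'.1 : Subgroup G) : Set G) ≤ H := by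
    rw [ha1, upSub_subgroupOf H hRH]; exact hCR
  have hCb : Subgroup.centralizer ((upSub H b'.1 : Subgroup G) : Set G) ≤ H := by
    rw [hb1, upSub_subgroupOf H hNH]; exact hCN
  have ha'p : IsBrauerPair p M a'.1 a'.2 := by
    refine ⟨?_, ha2⟩
    rw [ha1]
    exact hRh.2.1.1.comap_subtype
  have hb'p : IsBrauerPair p M b'.1 b'.2 := by
    refine ⟨?_, hb2⟩
    rw [hb1]
    exact hNk.2.1.1.comap_subtype
  have ha'F : IsBrauerPairOf p M F' a'.1 a'.2 := by
    refine isBrauerPairOf_of_up H hF' hF'c ha'p hCa ?_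
    rw [ha3]
    exact hRh
  have hb'F : IsBrauerPairOf p M F' b'.1 b'.2 := by
    refine isBrauerPairOf_of_up H hF' hF'c hb'p hCb ?_
    rw [hb3]
    exact hNk
  have hmax' : IsMaximalBrauerPair p M F' b'.1 b'.2 := by
    refine isMaximal_of_isDefectGroup hM hb'F ?_
    rw [hb1]
    exact hD
  obtain ⟨t, ht⟩ := exists_conj_le_of_maximal hM hmax' ha'F
  have ht' : Relation.ReflTransGen (NormalSubpairRel p M) (conjPair t a') b' := ht
  have hupt : upSub H (a'.1.map (MulAut.conj t).toMonoidHom) =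
      R.map (MulAut.conj (t : G)).toMonoidHom := by
    rw [upSub_map_conj, ha1, upSub_subgroupOf H hRH]
  have hC₂ : Subgroup.centralizer
      ((upSub H (a'.1.map (MulAut.conj t).toMonoidHom) : Subgroup G) : Set G) ≤ H := by
    rw [hupt]
    refine (Subgroup.centralizer_le ?_).trans hCH
    intro q hq
    show q ∈ R.map (MulAut.conj (t : G)).toMonoidHom
    rw [mem_conjSub_iff]
    apply hQR
    have h1 := (Subgroup.mem_normalizer_iff.1 (hHN (H.inv_mem t.2)) q).1 hq
    simpa using h1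
  have hchain := reflTransGen_up H (a' := conjPair t a') (b' := b') hC₂ ht'
  rw [up_conjPair H t ha2 hCa hC₂, ha3, hb3] at hchain
  exact ⟨(t : G), t.2, hchain⟩


end Cfsg.Agent.Lib.L0.BrauerRelative
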