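import Mathlib
import Cfsg.Prelude.Def_BrauerPairs
import Cfsg.Agent.Lib.L0.BrauerFully

/-!
# The stabilizer of a Brauer pair as a subgroup (lead)

* `stabSub Q f`: the subgroup `N_G(Q, f)`; `mem_stabSub_iff`;
* `conjPair_eq_self_of_stab`, `stab_of_conjPair_eq_self`: `x ∈ N_G(Q, f)` iff `(Q, f)^x = (Q, f)`.
-/

set_option autoImplicit false

namespace Cfsg.Agent.Lib.L0.BrauerStab

open Cfsg MonoidAlgebra Cfsg.Agent.Lib.H23 Cfsg.Agent.Lib.H24 Cfsg.Agent.Lib.L0
  Cfsg.Agent.Lib.L0.BlockAut Cfsg.Agent.Lib.L0.PrincipalBrauerPair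
  Cfsg.Agent.Lib.L0.BrauerPairHom Cfsg.Agent.Lib.L0.BrauerLam
  Cfsg.Agent.Lib.L0.BrauerNormal Cfsg.Agent.Lib.L0.BrauerSubpair Cfsg.Agent.Lib.L0.BrauerConj
  Cfsg.Agent.Lib.L0.BrauerDefect Cfsg.Agent.Lib.L0.BrauerSylow Cfsg.Agent.Lib.L0.BrauerCentric
  Cfsg.Agent.Lib.L0.BlockOrbitCover Cfsg.Agent.Lib.L0.BrauerNormalizer
  Cfsg.Agent.Lib.L0.BrauerFully
open scoped ComplexConjugate

variable {G : Type*} [Group G] [Fintype G] {p : ℕ} {M : Ideal AlgInt}

/-- The stabilizer `N_G(Q, f)` of a pair, as a subgroup. -/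
noncomputable def stabSub (Q : Subgroup G)
    (f : Set (IrrCharacter (Subgroup.centralizer (Q : Set G)))) : Subgroup G := by
  classical
  haveI : Fintype (Subgroup.centralizer (Q : Set G)) := Fintype.ofFinite _
  haveI : Fintype (Subgroup.centralizer
    ((Subgroup.normalizer ((Subgroup.centralizer (Q : Set G) : Subgroup G) : Set G) : Subgroup G)
      : Set G)) := Fintype.ofFinite _
  letI := blockAction (Subgroup.normalizer ((Subgroup.centralizer (Q : Set G) : Subgroup G) : Set G))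
    (Subgroup.centralizer (Q : Set G)) le_rfl
  exact ((MulAction.stabilizer
    (Subgroup.normalizer ((Subgroup.centralizer (Q : Set G) : Subgroup G) : Set G)) f).map
      (Subgroup.normalizer ((Subgroup.centralizer (Q : Set G) : Subgroup G) : Set G)).subtype) ⊓
    Subgroup.normalizer (Q : Set G)

theorem mem_stabSub_iff [hPr : M.IsPrime] (Q : Subgroup G)
    {f : Set (IrrCharacter (Subgroup.centralizer (Q : Set G)))} (hf : IsPBlock M f) (y : G) :
    y ∈ stabSub Q f ↔ y ∈ Subgroup.normalizer (Q : Set G) ∧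
      StabilizesBlock (Subgroup.centralizer (Q : Set G)) f y := by
  classical
  haveI : Fintype (Subgroup.centralizer (Q : Set G)) := Fintype.ofFinite _
  unfold stabSub
  rw [Subgroup.mem_inf]
  constructor
  · rintro ⟨⟨n, hn, rfl⟩, hyN⟩
    refine ⟨hyN, ?_⟩
    show StabilizesBlock (Subgroup.centralizer (Q : Set G)) f (n : G)
    rw [stabilizesBlock_iff _ _ n.2 hf]
    exact hn
  · rintro ⟨hyN, hst⟩
    refine ⟨⟨⟨y, hst.1⟩, ?_, rfl⟩, hyN⟩
    exact (stabilizesBlock_iff _ _ hst.1 hf).1 hst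

theorem map_conj_eq_of_mem_normalizer' {Q : Subgroup G} {x : G}
    (hx : x ∈ Subgroup.normalizer (Q : Set G)) : Q.map (MulAut.conj x).toMonoidHom = Q := by
  ext g
  rw [mem_conjSub_iff]
  have h := Subgroup.mem_normalizer_iff.1 (Subgroup.inv_mem _ hx) g
  rw [inv_inv] at h
  exact h.symm

theorem mem_normalizer_of_map_conj_eq {Q : Subgroup G} {x : G}
    (h : Q.map (MulAut.conj x).toMonoidHom = Q) : x ∈ Subgroup.normalizer (Q : Set G) := by
  rw [Subgroup.mem_normalizer_iff]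
  intro g
  constructor
  · intro hg
    rw [← h]
    exact conj_mem_conjSub hg
  · intro hg
    rw [← h, mem_conjSub_iff] at hg
    have e : x⁻¹ * (x * g * x⁻¹) * x = g := by group
    rwa [e] at hg

/-- An element of `N_G(Q, f)` fixes the pair `(Q, f)`. -/
theorem conjPair_eq_self_of_stab [hPr : M.IsPrime] {Q : Subgroup G}
    {f : Set (IrrCharacter (Subgroup.centralizer (Q : Set G)))} (hf : IsPBlock M f) {x : G}
    (hxN : x ∈ Subgroup.normalizer (Q : Set G))
    (hst : StabilizesBlock (Subgroup.centralizer (Q : Set G)) f x) :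
    conjPair x (⟨Q, f⟩ : BrauerPairIdx G) = ⟨Q, f⟩ := by
  classical
  haveI : Fintype (Subgroup.centralizer (Q : Set G)) := Fintype.ofFinite _
  have hb1 : IsPBlock M (conjPair x (⟨Q, f⟩ : BrauerPairIdx G)).2 := isPBlock_conjBlock x Q hf
  have hb2 : IsPBlock M (⟨Q, f⟩ : BrauerPairIdx G).2 := hf
  refine pair_ext (M := M) (a := conjPair x ⟨Q, f⟩) (b := ⟨Q, f⟩)
    (map_conj_eq_of_mem_normalizer' hxN) hb1 hb2 ?_
  obtain ⟨ξ, hξ⟩ := block_nonempty hf
  obtain ⟨ξ', hξ', hconj⟩ := hst.2 ξ hξ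
  refine ⟨extZero Q (ξ' : Subgroup.centralizer (Q : Set G) → ℂ), ?_, ⟨ξ', hξ', rfl⟩⟩
  refine (mem_pairFuns_conjPair x ⟨Q, f⟩ _).2
    ⟨extZero Q (ξ : Subgroup.centralizer (Q : Set G) → ℂ), ⟨ξ, hξ, rfl⟩, ?_⟩
  funext g
  have hN := Subgroup.mem_normalizer_iff.1 (Subgroup.inv_mem _ hst.1) g
  rw [inv_inv] at hN
  by_cases hg : g ∈ Subgroup.centralizer (Q : Set G)
  · have hg' : x⁻¹ * g * x ∈ Subgroup.centralizer (Q : Set G) := hN.1 hg
    unfold extZero
    rw [dif_pos hg, dif_pos hg']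
    apply hconj
    show g = x * (x⁻¹ * g * x) * x⁻¹
    group
  · have hg' : x⁻¹ * g * x ∉ Subgroup.centralizer (Q : Set G) := fun h => hg (hN.2 h)
    unfold extZero
    rw [dif_neg hg, dif_neg hg']

/-- An element fixing the pair `(Q, f)` lies in `N_G(Q, f)`. -/
theorem stab_of_conjPair_eq_self {Q : Subgroup G}
    {f : Set (IrrCharacter (Subgroup.centralizer (Q : Set G)))} {x : G}
    (h : conjPair x (⟨Q, f⟩ : BrauerPairIdx G) = ⟨Q, f⟩) :
    x ∈ Subgroup.normalizer (Q : Set G) ∧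
      StabilizesBlock (Subgroup.centralizer (Q : Set G)) f x := by
  classical
  have h1 : Q.map (MulAut.conj x).toMonoidHom = Q := congrArg Sigma.fst h
  have hxN := mem_normalizer_of_map_conj_eq h1
  refine ⟨hxN, normalizer_le_normalizer_centralizer Q hxN, fun χ hχ => ?_⟩
  have h2 : (fun g => extZero Q (χ : Subgroup.centralizer (Q : Set G) → ℂ) (x⁻¹ * g * x)) ∈
      pairFuns (conjPair x (⟨Q, f⟩ : BrauerPairIdx G)) :=
    (mem_pairFuns_conjPair x ⟨Q, f⟩ _).2 ⟨_, ⟨χ, hχ, rfl⟩, rfl⟩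
  rw [h] at h2
  obtain ⟨χ', hχ', h3⟩ := h2
  refine ⟨χ', hχ', fun k k' hk => ?_⟩
  have h4 := congrFun h3 (k' : G)
  simp only at h4
  have h5 := extZero_apply_mem Q (χ' : Subgroup.centralizer (Q : Set G) → ℂ) k'
  have h6 : x⁻¹ * (k' : G) * x = (k : G) := by rw [hk]; group
  rw [h6, extZero_apply_mem] at h4
  rw [← h5, ← h4]


end Cfsg.Agent.Lib.L0.BrauerStab
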