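import Mathlib
import Cfsg.Prelude.Def_BrauerPairs
import Cfsg.Agent.Lib.L0.BrauerRelative
import Cfsg.Agent.Lib.L0.BrauerStab
import Cfsg.Agent.Lib.L0.BrauerAutomizer

/-!
# Blocks with abelian defect groups: Burnside's fusion argument for Brauer pairs (lead)

* `exists_mul_of_abelian`: `(P, e)` maximal with `P` abelian, `(Q, f) ≤ (P, e)`: every element of
  `N_G(Q, f)` is a product of an element of `N_G(P, e)` and an element of `C_G(Q)`;
* `nilpotent_iff_of_abelian` (S4687).
-/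

set_option autoImplicit false

namespace Cfsg.Agent.Lib.L0.BrauerAbelian

open Cfsg MonoidAlgebra Cfsg.Agent.Lib.H23 Cfsg.Agent.Lib.H24 Cfsg.Agent.Lib.L0
  Cfsg.Agent.Lib.L0.BrauerPairHom Cfsg.Agent.Lib.L0.BrauerLam
  Cfsg.Agent.Lib.L0.BrauerNormal Cfsg.Agent.Lib.L0.BrauerSubpair Cfsg.Agent.Lib.L0.BrauerConj
  Cfsg.Agent.Lib.L0.BrauerDefect Cfsg.Agent.Lib.L0.BrauerSylow Cfsg.Agent.Lib.L0.BrauerCentric
  Cfsg.Agent.Lib.L0.BlockOrbitCover Cfsg.Agent.Lib.L0.BrauerNormalizer
  Cfsg.Agent.Lib.L0.BrauerFully Cfsg.Agent.Lib.L0.BrauerRelative Cfsg.Agent.Lib.L0.BrauerStab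
  Cfsg.Agent.Lib.L0.BrauerAutomizer
open scoped ComplexConjugate

variable {G : Type*} [Group G] [Fintype G] {p : ℕ} {M : Ideal AlgInt}

theorem le_centralizer_of_abelian {P Q : Subgroup G} (hab : ∀ x ∈ P, ∀ y ∈ P, x * y = y * x)
    (hQP : Q ≤ P) : P ≤ Subgroup.centralizer (Q : Set G) := by
  intro x hx
  rw [Subgroup.mem_centralizer_iff]
  intro q hq
  exact hab q (hQP hq) x hx

/-- Burnside's fusion argument for Brauer pairs. -/
theorem exists_mul_of_abelian (hM : IsPModular p M) {B : Set (IrrCharacter G)} {P Q : Subgroup G}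
    {e : Set (IrrCharacter (Subgroup.centralizer (P : Set G)))}
    {f : Set (IrrCharacter (Subgroup.centralizer (Q : Set G)))}
    (hmax : IsMaximalBrauerPair p M B P e) (hab : ∀ x ∈ P, ∀ y ∈ P, x * y = y * x)
    (hf : IsPBlock M f) (hle : SubpairLE p M Q f P e) {x : G}
    (hxN : x ∈ Subgroup.normalizer (Q : Set G))
    (hxst : StabilizesBlock (Subgroup.centralizer (Q : Set G)) f x) :
    ∃ y : G, (y ∈ Subgroup.normalizer (P : Set G) ∧
      StabilizesBlock (Subgroup.centralizer (P : Set G)) e y) ∧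
      ∃ c ∈ Subgroup.centralizer (Q : Set G), x = y * c := by
  classical
  haveI hPr := isPrime_of_isPModular hM
  have hPe : IsBrauerPair p M P e := hmax.1.1
  have hQP : Q ≤ P := fst_le_of_reflTransGen (a := ⟨Q, f⟩) (b := ⟨P, e⟩) hle
  have hPC : P ≤ Subgroup.centralizer (Q : Set G) := le_centralizer_of_abelian hab hQP
  have hCN := Subgroup.centralizer_le_normalizer ((Q : Subgroup G) : Set G)
  -- `(Q, f) ⊴ (P, e)`
  have hnorm : IsNormalSubpair p M Q f P e :=
    normalSubpair_of_subpairLE hM (a := ⟨Q, f⟩) (c := ⟨P, e⟩) hle hPe (hPC.trans hCN)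
  -- `P` is a defect group of `f`
  have hloc : LocalMax p M P Q f (fun Q' => Subgroup.centralizer (Q' : Set G)) := by
    refine localMax_of_fully hM hmax hle _ map_conj_centralizer_le fun y hy => ?_
    have hyP : Q.map (MulAut.conj y).toMonoidHom ≤ P :=
      fst_le_of_reflTransGen (a := ⟨_, conjBlock Q y f⟩) (b := ⟨P, e⟩) hy
    have h1 : P ⊓ Subgroup.centralizer
        ((Q.map (MulAut.conj y).toMonoidHom : Subgroup G) : Set G) = P :=
      inf_eq_left.2 (le_centralizer_of_abelian hab hyP)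
    have h2 : P ⊓ Subgroup.centralizer (Q : Set G) = P := inf_eq_left.2 hPC
    show Nat.card ↥(P ⊓ Subgroup.centralizer
      ((Q.map (MulAut.conj y).toMonoidHom : Subgroup G) : Set G)) ≤
      Nat.card ↥(P ⊓ Subgroup.centralizer (Q : Set G))
    rw [h1, h2]
  have hD := isDefectGroup_centralizer_of_localMax hM hPe hf hle hloc
  rw [inf_eq_left.2 hPC] at hD
  -- the conjugate pair
  have hnorm' : NormalSubpairRel p M (conjPair x ⟨Q, f⟩) (conjPair x ⟨P, e⟩) :=
    isNormalSubpair_conj x hnorm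
  rw [conjPair_eq_self_of_stab hf hxN hxst] at hnorm'
  have hnorm'' : IsNormalSubpair p M Q f (P.map (MulAut.conj x).toMonoidHom) (conjBlock P x e) :=
    hnorm'
  have hxPC : P.map (MulAut.conj x).toMonoidHom ≤ Subgroup.centralizer (Q : Set G) := by
    rintro _ ⟨u, hu, rfl⟩
    have h1 := conj_mem_centralizer_conjSub (x := x) (hPC hu)
    rw [map_conj_eq_of_mem_normalizer' hxN] at h1
    simpa [MulAut.conj_apply] using h1
  have hfc : ∀ t : Subgroup.centralizer (Q : Set G), blockCoeff f t =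
      subgroupBlockCoeff (Subgroup.centralizer (Q : Set G)) f (t : G) := by
    intro t
    unfold subgroupBlockCoeff
    rw [dif_pos t.2]
  obtain ⟨t, ht, hchain⟩ := exists_conj_le_relative (Subgroup.centralizer (Q : Set G)) hM
    le_rfl hCN f hf hfc hnorm hPC hD hnorm'' hxPC
  have hmul : conjPair t (conjPair x (⟨P, e⟩ : BrauerPairIdx G)) = conjPair (t * x) ⟨P, e⟩ :=
    conjPair_mul (M := M) t x (a := (⟨P, e⟩ : BrauerPairIdx G)) hPe.2
  have hchain' : Relation.ReflTransGen (NormalSubpairRel p M)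
      (conjPair (t * x) (⟨P, e⟩ : BrauerPairIdx G)) ⟨P, e⟩ := by
    rw [← hmul]; exact hchain
  have hle2 : P.map (MulAut.conj (t * x)).toMonoidHom ≤ P :=
    fst_le_of_reflTransGen (a := conjPair (t * x) ⟨P, e⟩) (b := ⟨P, e⟩) hchain'
  have heq : P.map (MulAut.conj (t * x)).toMonoidHom = P :=
    Subgroup.eq_of_le_of_card_ge hle2
      (by rw [Subgroup.card_map_of_injective (MulAut.conj (t * x)).injective])
  have hfix : conjPair (t * x) (⟨P, e⟩ : BrauerPairIdx G) = ⟨P, e⟩ :=
    eq_of_reflTransGen_of_le hM hchain' (le_of_eq heq.symm)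
  refine ⟨t * x, stab_of_conjPair_eq_self hfix, (t * x)⁻¹ * t⁻¹ * (t * x), ?_, by group⟩
  have htxN : t * x ∈ Subgroup.normalizer
      ((Subgroup.centralizer (Q : Set G) : Subgroup G) : Set G) :=
    normalizer_le_normalizer_centralizer Q (Subgroup.mul_mem _ (hCN ht) hxN)
  have h1 := (Subgroup.mem_normalizer_iff.1 (Subgroup.inv_mem _ htxN) t⁻¹).1
    (Subgroup.inv_mem _ ht)
  rwa [inv_inv] at h1

/-- The trivial local maximality of a maximal pair. -/
theorem localMax_of_maximal (hM : IsPModular p M) {B : Set (IrrCharacter G)} {P : Subgroup G}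
    {e : Set (IrrCharacter (Subgroup.centralizer (P : Set G)))}
    (hmax : IsMaximalBrauerPair p M B P e) (Φ : Subgroup G → Subgroup G) :
    LocalMax p M P P e Φ := by
  intro R h hnorm E hER hEΦ
  have hRB := (isBrauerPairOf_iff_of_normalSubpair hM hnorm B).1 hmax.1
  have hRP : R = P := hmax.2 R h hRB (Relation.ReflTransGen.single hnorm)
  exact Subgroup.card_le_of_le (le_inf (hRP ▸ hER) hEΦ)

/-- If `B` is nilpotent with maximal pair `(P, e)`, then `N_G(P, e) = P C_G(P)`. -/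
theorem stab_maximal_of_nilpotent (hM : IsPModular p M) {B : Set (IrrCharacter G)}
    {P : Subgroup G} {e : Set (IrrCharacter (Subgroup.centralizer (P : Set G)))}
    (hmax : IsMaximalBrauerPair p M B P e) (hnil : IsNilpotentBlock p M B) {x : G}
    (hxN : x ∈ Subgroup.normalizer (P : Set G))
    (hxst : StabilizesBlock (Subgroup.centralizer (P : Set G)) e x) :
    ∃ u ∈ P, ∃ c ∈ Subgroup.centralizer (P : Set G), x = u * c := by
  classical
  haveI hPr := isPrime_of_isPModular hM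
  have hPe : IsBrauerPair p M P e := hmax.1.1
  have hT := mem_stabSub_iff (M := M) P hPe.2
  have hreg : ∀ y ∈ stabSub P e, IsPRegular p y → y ∈ Subgroup.centralizer (P : Set G) :=
    fun y hy hyr => hnil.2 P e hmax.1 y ((hT y).1 hy).1 ((hT y).1 hy).2 hyr
  obtain ⟨u, hu, c, hc, hxuc⟩ := eq_mul_of_pRegular hM hPe hPe.2
    (Relation.ReflTransGen.refl : SubpairLE p M P e P e)
    (localMax_of_maximal hM hmax _) (stabSub P e) hT hreg x ((hT x).2 ⟨hxN, hxst⟩)
  exact ⟨u, hu.1, c, hc, hxuc⟩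

/-- **S4687.** -/
theorem nilpotent_iff_of_abelian (hM : IsPModular p M) {B : Set (IrrCharacter G)}
    {P : Subgroup G} {e : Set (IrrCharacter (Subgroup.centralizer (P : Set G)))}
    (hmax : IsMaximalBrauerPair p M B P e) (hab : ∀ x ∈ P, ∀ y ∈ P, x * y = y * x) :
    IsNilpotentBlock p M B ↔ ∀ x : G, x ∈ Subgroup.normalizer (P : Set G) →
      StabilizesBlock (Subgroup.centralizer (P : Set G)) e x →
      x ∈ Subgroup.centralizer (P : Set G) := by
  classical
  haveI hPr := isPrime_of_isPModular hM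
  have hPe : IsBrauerPair p M P e := hmax.1.1
  constructor
  · intro hnil x hxN hxst
    obtain ⟨u, hu, c, hc, rfl⟩ := stab_maximal_of_nilpotent hM hmax hnil hxN hxst
    exact Subgroup.mul_mem _ (le_centralizer_of_abelian hab le_rfl hu) hc
  · intro hcent
    refine ⟨hmax.1.2.1, fun Q f hQf x hxN hxst _ => ?_⟩
    obtain ⟨y, hy⟩ := exists_conj_le_of_maximal hM hmax hQf
    have hQ₁P : Q.map (MulAut.conj y).toMonoidHom ≤ P :=
      fst_le_of_reflTransGen (a := ⟨_, conjBlock Q y f⟩) (b := ⟨P, e⟩) hy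
    have hx₁N : y * x * y⁻¹ ∈ Subgroup.normalizer
        ((Q.map (MulAut.conj y).toMonoidHom : Subgroup G) : Set G) := by
      have h1 : y * x * y⁻¹ ∈ (Subgroup.normalizer (Q : Set G)).map (MulAut.conj y).toMonoidHom :=
        ⟨x, hxN, by simp [MulAut.conj_apply]⟩
      exact Subgroup.le_normalizer_map _ h1
    have hx₁st := stabilizesBlock_conj y Q f hxst
    obtain ⟨z, ⟨hzN, hzst⟩, c, hc, hxzc⟩ := exists_mul_of_abelian hM hmax hab
      (isPBlock_conjBlock y Q hQf.1.2) hy hx₁N hx₁st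
    have hz : z ∈ Subgroup.centralizer
        ((Q.map (MulAut.conj y).toMonoidHom : Subgroup G) : Set G) :=
      Subgroup.centralizer_le hQ₁P (hcent z hzN hzst)
    have h1 : y * x * y⁻¹ ∈ Subgroup.centralizer
        ((Q.map (MulAut.conj y).toMonoidHom : Subgroup G) : Set G) := by
      rw [hxzc]; exact Subgroup.mul_mem _ hz hc
    have h2 := mem_centralizer_of_conj_mem h1
    have e1 : y⁻¹ * (y * x * y⁻¹) * y = x := by group
    rwa [e1] at h2


/-- Two pairs below a common pair with the same subgroup are equal. -/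
theorem pair_eq_of_le (hM : IsPModular p M) {a b c : BrauerPairIdx G}
    (hac : Relation.ReflTransGen (NormalSubpairRel p M) a c)
    (hbc : Relation.ReflTransGen (NormalSubpairRel p M) b c) (h1 : a.1 = b.1) : a = b := by
  obtain ⟨Q, f⟩ := a
  obtain ⟨Q', f'⟩ := b
  simp only at h1
  subst h1
  have h2 := subpairLE_unique hM hac f' hbc
  simp only at h2
  rw [h2]

/-- An element of `N_G(P, e) ∩ N_G(Q)` stabilizes the pair `(Q, f) ≤ (P, e)`. -/
theorem stab_of_stab_of_le (hM : IsPModular p M) {P Q : Subgroup G}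
    {e : Set (IrrCharacter (Subgroup.centralizer (P : Set G)))}
    {f : Set (IrrCharacter (Subgroup.centralizer (Q : Set G)))}
    (he : IsPBlock M e) (hle : SubpairLE p M Q f P e) {y : G}
    (hyP : y ∈ Subgroup.normalizer (P : Set G))
    (hyst : StabilizesBlock (Subgroup.centralizer (P : Set G)) e y)
    (hyQ : y ∈ Subgroup.normalizer (Q : Set G)) :
    StabilizesBlock (Subgroup.centralizer (Q : Set G)) f y := by
  haveI hPr := isPrime_of_isPModular hM
  have h1 : Relation.ReflTransGen (NormalSubpairRel p M) (conjPair y ⟨Q, f⟩) (conjPair y ⟨P, e⟩) :=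
    reflTransGen_conjPair y hle
  rw [conjPair_eq_self_of_stab he hyP hyst] at h1
  have h2 : conjPair y (⟨Q, f⟩ : BrauerPairIdx G) = ⟨Q, f⟩ :=
    pair_eq_of_le hM h1 hle (map_conj_eq_of_mem_normalizer' hyQ)
  exact (stab_of_conjPair_eq_self h2).2

/-- **S4682.** -/
theorem inertial_of_abelian (hM : IsPModular p M) {B : Set (IrrCharacter G)} {P Q : Subgroup G}
    {e : Set (IrrCharacter (Subgroup.centralizer (P : Set G)))}
    {f : Set (IrrCharacter (Subgroup.centralizer (Q : Set G)))}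
    (hmax : IsMaximalBrauerPair p M B P e) (hab : ∀ x ∈ P, ∀ y ∈ P, x * y = y * x)
    (hf : IsPBlock M f) (hle : SubpairLE p M Q f P e)
    (TQ : Subgroup G) (hTQ : ∀ y : G, y ∈ TQ ↔ y ∈ Subgroup.normalizer (Q : Set G) ∧
      StabilizesBlock (Subgroup.centralizer (Q : Set G)) f y)
    (TP : Subgroup G) (hTP : ∀ y : G, y ∈ TP ↔ y ∈ Subgroup.normalizer (P : Set G) ∧
      StabilizesBlock (Subgroup.centralizer (P : Set G)) e y) :
    (∀ x ∈ TQ, ∃ y ∈ TP, ∃ c ∈ Subgroup.centralizer (Q : Set G), x = y * c) ∧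
    ((Subgroup.centralizer (Q : Set G)).subgroupOf TQ).index =
      ((TP ⊓ Subgroup.centralizer (Q : Set G)).subgroupOf
        (TP ⊓ Subgroup.normalizer (Q : Set G))).index := by
  classical
  have hCN := Subgroup.centralizer_le_normalizer ((Q : Subgroup G) : Set G)
  have h1 : ∀ x ∈ TQ, ∃ y ∈ TP, ∃ c ∈ Subgroup.centralizer (Q : Set G), x = y * c := by
    intro x hx
    obtain ⟨y, hy, c, hc, hxyc⟩ := exists_mul_of_abelian hM hmax hab hf hle
      ((hTQ x).1 hx).1 ((hTQ x).1 hx).2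
    exact ⟨y, (hTP y).2 hy, c, hc, hxyc⟩
  refine ⟨h1, ?_⟩
  have hCTQ : Subgroup.centralizer (Q : Set G) ≤ TQ := fun c hc =>
    (hTQ c).2 ⟨hCN hc, stabilizesBlock_of_mem_sup _ _ (Subgroup.mem_sup_right hc)⟩
  have hATQ : TP ⊓ Subgroup.normalizer (Q : Set G) ≤ TQ := by
    intro y hy
    obtain ⟨hy1, hy2⟩ := Subgroup.mem_inf.1 hy
    exact (hTQ y).2 ⟨hy2, stab_of_stab_of_le hM hmax.1.1.2 hle ((hTP y).1 hy1).1
      ((hTP y).1 hy1).2 hy2⟩
  have hsup : (TP ⊓ Subgroup.normalizer (Q : Set G)) ⊔ Subgroup.centralizer (Q : Set G) = TQ := by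
    apply le_antisymm (sup_le hATQ hCTQ)
    intro x hx
    obtain ⟨y, hy, c, hc, rfl⟩ := h1 x hx
    refine Subgroup.mul_mem_sup (Subgroup.mem_inf.2 ⟨hy, ?_⟩) hc
    have h2 : y = y * c * c⁻¹ := by group
    rw [h2]
    exact Subgroup.mul_mem _ ((hTQ _).1 hx).1 (Subgroup.inv_mem _ (hCN hc))
  have hAN : TP ⊓ Subgroup.normalizer (Q : Set G) ≤
      Subgroup.normalizer ((Subgroup.centralizer (Q : Set G) : Subgroup G) : Set G) :=
    inf_le_right.trans (normalizer_le_normalizer_centralizer Q)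
  haveI := Subgroup.normal_subgroupOf_of_le_normalizer hAN
  haveI := Subgroup.normal_subgroupOf_sup_of_le_normalizer hAN
  have h2 : (Subgroup.centralizer (Q : Set G)).relIndex (TP ⊓ Subgroup.normalizer (Q : Set G)) =
      (Subgroup.centralizer (Q : Set G)).relIndex
        ((TP ⊓ Subgroup.normalizer (Q : Set G)) ⊔ Subgroup.centralizer (Q : Set G)) :=
    Nat.card_congr (QuotientGroup.quotientInfEquivProdNormalizerQuotient
      (TP ⊓ Subgroup.normalizer (Q : Set G)) (Subgroup.centralizer (Q : Set G)) hAN).toEquiv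
  rw [hsup] at h2
  have h3 : (Subgroup.centralizer (Q : Set G) ⊓ (TP ⊓ Subgroup.normalizer (Q : Set G))) =
      TP ⊓ Subgroup.centralizer (Q : Set G) := by
    ext g
    simp only [Subgroup.mem_inf]
    constructor
    · rintro ⟨hg1, hg2, _⟩
      exact ⟨hg2, hg1⟩
    · rintro ⟨hg1, hg2⟩
      exact ⟨hg2, hg1, hCN hg2⟩
  show (Subgroup.centralizer (Q : Set G)).relIndex TQ =
    (TP ⊓ Subgroup.centralizer (Q : Set G)).relIndex (TP ⊓ Subgroup.normalizer (Q : Set G))
  rw [← h2, ← h3, Subgroup.inf_relIndex_right]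


end Cfsg.Agent.Lib.L0.BrauerAbelian
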