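import Mathlib
import Cfsg.Prelude.Def_BrauerPairs
import Cfsg.Prelude.Def_BlockFusion
import Cfsg.Agent.Lib.L0.BrauerAbelian

/-!
# Nilpotent blocks: the fusion system is inner (lead)

* `innerOn_of_nilpotent`: in a nilpotent block with maximal pair `(P, e)`, every `g` carrying
  `(Q, f) ≤ (P, e)` to a pair below `(P, e)` acts on `Q` as an element of `P`;
* `nilpotent_iff_inner` (S4686).
-/

set_option autoImplicit false

namespace Cfsg.Agent.Lib.L0.BrauerNilpotent

open Cfsg MonoidAlgebra Cfsg.Agent.Lib.H23 Cfsg.Agent.Lib.H24 Cfsg.Agent.Lib.L0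
  Cfsg.Agent.Lib.L0.BrauerPairHom Cfsg.Agent.Lib.L0.BrauerLam
  Cfsg.Agent.Lib.L0.BrauerNormal Cfsg.Agent.Lib.L0.BrauerSubpair Cfsg.Agent.Lib.L0.BrauerConj
  Cfsg.Agent.Lib.L0.BrauerDefect Cfsg.Agent.Lib.L0.BrauerSylow Cfsg.Agent.Lib.L0.BrauerCentric
  Cfsg.Agent.Lib.L0.BlockOrbitCover Cfsg.Agent.Lib.L0.BrauerNormalizer
  Cfsg.Agent.Lib.L0.BrauerFully Cfsg.Agent.Lib.L0.BrauerRelative Cfsg.Agent.Lib.L0.BrauerStab
  Cfsg.Agent.Lib.L0.BrauerAutomizer Cfsg.Agent.Lib.L0.BrauerAbelian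
open scoped ComplexConjugate

variable {G : Type*} [Group G] [Fintype G] {p : ℕ} {M : Ideal AlgInt}

/-- A proper subgroup of a finite `p`-group is properly contained in its normalizer. -/
theorem card_lt_normalizer [Fact p.Prime] {P Q : Subgroup G} (hP : IsPGroup p P) (hQP : Q ≤ P)
    (hne : Q ≠ P) : Nat.card Q < Nat.card ↥(P ⊓ Subgroup.normalizer (Q : Set G)) := by
  haveI : Group.IsNilpotent P := hP.isNilpotent
  have h1 : Q.subgroupOf P ≠ ⊤ := by
    intro h
    exact hne (le_antisymm hQP (Subgroup.subgroupOf_eq_top.1 h))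
  have h2 := Group.normalizerCondition_of_isNilpotent (G := P) (Q.subgroupOf P) (lt_top_iff_ne_top.2 h1)
  obtain ⟨y, hyN, hyQ⟩ := SetLike.exists_of_lt h2
  have hle : Q ≤ P ⊓ Subgroup.normalizer (Q : Set G) := le_inf hQP Subgroup.le_normalizer
  refine lt_of_le_of_ne (Subgroup.card_le_of_le hle) fun h => ?_
  have h3 := Subgroup.eq_of_le_of_card_ge hle h.ge
  apply hyQ
  rw [Subgroup.mem_subgroupOf, h3, Subgroup.mem_inf]
  refine ⟨y.2, ?_⟩
  rw [Subgroup.mem_normalizer_iff]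
  intro g
  have h4 := Subgroup.mem_normalizer_iff.1 hyN
  constructor
  · intro hg
    have := (h4 ⟨g, hQP hg⟩).1 (Subgroup.mem_subgroupOf.2 hg)
    exact Subgroup.mem_subgroupOf.1 this
  · intro hg
    have hgP : g ∈ P := by
      have h5 : g = (y : G)⁻¹ * ((y : G) * g * (y : G)⁻¹) * (y : G) := by group
      rw [h5]
      exact P.mul_mem (P.mul_mem (P.inv_mem y.2) (hQP hg)) y.2
    have := (h4 ⟨g, hgP⟩).2 (Subgroup.mem_subgroupOf.2 hg)
    exact Subgroup.mem_subgroupOf.1 this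

/-- `g` acts on `Q` as an element of `P`. -/
def InnerOn (P Q : Subgroup G) (g : G) : Prop :=
  ∃ u ∈ P, u⁻¹ * g ∈ Subgroup.centralizer (Q : Set G)

/-- The step of the induction: a map onto a fully normalized pair. -/
theorem innerOn_of_fullyNormalized (hM : IsPModular p M) {B : Set (IrrCharacter G)}
    {P : Subgroup G} {e : Set (IrrCharacter (Subgroup.centralizer (P : Set G)))}
    (hmax : IsMaximalBrauerPair p M B P e) (hnil : IsNilpotentBlock p M B) {Q : Subgroup G}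
    {f : Set (IrrCharacter (Subgroup.centralizer (Q : Set G)))} {x : G}
    (hf : IsPBlock M f) (hle : SubpairLE p M Q f P e)
    (hle₂ : SubpairLE p M (Q.map (MulAut.conj x).toMonoidHom) (conjBlock Q x f) P e)
    (hloc₂ : LocalMax p M P (Q.map (MulAut.conj x).toMonoidHom) (conjBlock Q x f)
      (fun Q' => Subgroup.normalizer (Q' : Set G)))
    (hQP : Q ≠ P)
    (IH : ∀ (N : Subgroup G) (k : Set (IrrCharacter (Subgroup.centralizer (N : Set G)))) (y : G),
      Nat.card Q < Nat.card N → IsPBlock M k → SubpairLE p M N k P e →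
      SubpairLE p M (N.map (MulAut.conj y).toMonoidHom) (conjBlock N y k) P e → InnerOn P N y) :
    InnerOn P Q x := by
  classical
  haveI hPr := isPrime_of_isPModular hM
  haveI : Fact p.Prime := ⟨prime_of_isPModular hM⟩
  have hPe : IsBrauerPair p M P e := hmax.1.1
  have hQle : Q ≤ P := fst_le_of_reflTransGen (a := ⟨Q, f⟩) (b := ⟨P, e⟩) hle
  have hf₂ : IsPBlock M (conjBlock Q x f) := isPBlock_conjBlock x Q hf
  have hQ₂p : IsPGroup p (Q.map (MulAut.conj x).toMonoidHom) :=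
    (isBrauerPair_of_reflTransGen (a := ⟨_, conjBlock Q x f⟩) (b := ⟨P, e⟩) hle₂ hPe).1
  have hT₂ := mem_stabSub_iff (M := M) (Q.map (MulAut.conj x).toMonoidHom) hf₂
  have hCN₂ := Subgroup.centralizer_le_normalizer
    ((Q.map (MulAut.conj x).toMonoidHom : Subgroup G) : Set G)
  have hQT : Q.map (MulAut.conj x).toMonoidHom ≤ stabSub _ (conjBlock Q x f) := fun q hq =>
    (hT₂ q).2 ⟨Subgroup.le_normalizer hq,
      stabilizesBlock_of_mem_sup _ _ (Subgroup.mem_sup_left hq)⟩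
  have hCT : Subgroup.centralizer ((Q.map (MulAut.conj x).toMonoidHom : Subgroup G) : Set G) ≤
      stabSub _ (conjBlock Q x f) :=
    fun c hc => (hT₂ c).2 ⟨hCN₂ hc, stabilizesBlock_of_mem_sup _ _ (Subgroup.mem_sup_right hc)⟩
  have hTN : stabSub _ (conjBlock Q x f) ≤ Subgroup.normalizer
      ((Q.map (MulAut.conj x).toMonoidHom : Subgroup G) : Set G) :=
    fun y hy => ((hT₂ y).1 hy).1
  have hst : ∀ t ∈ stabSub _ (conjBlock Q x f), StabilizesBlock
      (Subgroup.centralizer ((Q.map (MulAut.conj x).toMonoidHom : Subgroup G) : Set G))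
      (conjBlock Q x f) t := fun y hy => ((hT₂ y).1 hy).2
  obtain ⟨F₂, hF₂, hF₂c⟩ := exists_block_of_stabilizer hM hQ₂p hf₂ _ hQT hCT hTN hst
  have hD₂ := isDefectGroup_normalizer_of_localMax hM hPe hf₂ hle₂ hloc₂ _ hT₂ F₂ hF₂ hF₂c
  obtain ⟨k₂, hnorm₂, hle_k₂⟩ := exists_normalSubpair_normalizer hM hPe hle₂
  have hN₂T : P ⊓ Subgroup.normalizer ((Q.map (MulAut.conj x).toMonoidHom : Subgroup G) : Set G) ≤
      stabSub _ (conjBlock Q x f) :=
    fun r hr => (hT₂ r).2 ⟨(Subgroup.mem_inf.1 hr).2, hnorm₂.2.2.2.2.1 r hr⟩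
  obtain ⟨k, hnorm, hle_k⟩ := exists_normalSubpair_normalizer hM hPe hle
  have hnormx := isNormalSubpair_conj x hnorm
  have hRT : (P ⊓ Subgroup.normalizer (Q : Set G)).map (MulAut.conj x).toMonoidHom ≤
      stabSub _ (conjBlock Q x f) :=
    fun r hr => (hT₂ r).2 ⟨hnormx.2.2.2.1 hr, hnormx.2.2.2.2.1 r hr⟩
  obtain ⟨t, ht, hchain⟩ := exists_conj_le_relative _ hM hCT hTN F₂ hF₂ hF₂c hnorm₂ hN₂T hD₂
    hnormx hRT
  have hmul : conjPair t (conjPair x (⟨P ⊓ Subgroup.normalizer (Q : Set G), k⟩ :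
      BrauerPairIdx G)) = conjPair (t * x) ⟨P ⊓ Subgroup.normalizer (Q : Set G), k⟩ :=
    conjPair_mul (M := M) t x (a := (⟨P ⊓ Subgroup.normalizer (Q : Set G), k⟩ : BrauerPairIdx G))
      hnorm.2.1.2
  have hchain2 : Relation.ReflTransGen (NormalSubpairRel p M)
      (conjPair (t * x) (⟨P ⊓ Subgroup.normalizer (Q : Set G), k⟩ : BrauerPairIdx G)) ⟨P, e⟩ := by
    rw [← hmul]
    exact Relation.ReflTransGen.trans hchain hle_k₂
  obtain ⟨u', hu', hu'c⟩ := IH _ k (t * x) (card_lt_normalizer hPe.1 hQle hQP) hnorm.2.1.2 hle_k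
    hchain2
  have hQ₂B : IsBrauerPairOf p M B (Q.map (MulAut.conj x).toMonoidHom) (conjBlock Q x f) :=
    (isBrauerPairOf_iff_of_reflTransGen hM
      (a := ⟨Q.map (MulAut.conj x).toMonoidHom, conjBlock Q x f⟩) (b := ⟨P, e⟩) hle₂ B).2 hmax.1
  have hreg : ∀ y ∈ stabSub _ (conjBlock Q x f), IsPRegular p y → y ∈ Subgroup.centralizer
      ((Q.map (MulAut.conj x).toMonoidHom : Subgroup G) : Set G) :=
    fun y hy hyr => hnil.2 _ _ hQ₂B y ((hT₂ y).1 hy).1 ((hT₂ y).1 hy).2 hyr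
  obtain ⟨u₂, hu₂, c₂, hc₂, htuc⟩ := eq_mul_of_pRegular hM hPe hf₂ hle₂ hloc₂ _ hT₂ hreg t ht
  refine ⟨u₂⁻¹ * u', P.mul_mem (P.inv_mem (Subgroup.mem_inf.1 hu₂).1) hu', ?_⟩
  have h1 : u'⁻¹ * (t * x) ∈ Subgroup.centralizer (Q : Set G) :=
    Subgroup.centralizer_le (le_inf hQle Subgroup.le_normalizer) hu'c
  have h2 : x⁻¹ * c₂ * x ∈ Subgroup.centralizer (Q : Set G) := mem_centralizer_of_conj_mem hc₂
  have h3 : (u₂⁻¹ * u')⁻¹ * x = u'⁻¹ * (t * x) * (x⁻¹ * c₂ * x)⁻¹ := by
    rw [htuc]; group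
  rw [h3]
  exact Subgroup.mul_mem _ h1 (Subgroup.inv_mem _ h2)


/-- In a nilpotent block every map of the fusion system is induced by an element of `P`. -/
theorem innerOn_of_nilpotent (hM : IsPModular p M) {B : Set (IrrCharacter G)}
    {P : Subgroup G} {e : Set (IrrCharacter (Subgroup.centralizer (P : Set G)))}
    (hmax : IsMaximalBrauerPair p M B P e) (hnil : IsNilpotentBlock p M B) :
    ∀ (n : ℕ) (Q : Subgroup G) (f : Set (IrrCharacter (Subgroup.centralizer (Q : Set G))))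
      (g : G), Nat.card P - Nat.card Q = n → IsPBlock M f → SubpairLE p M Q f P e →
      SubpairLE p M (Q.map (MulAut.conj g).toMonoidHom) (conjBlock Q g f) P e → InnerOn P Q g := by
  classical
  haveI hPr := isPrime_of_isPModular hM
  have hPe : IsBrauerPair p M P e := hmax.1.1
  intro n
  induction n using Nat.strong_induction_on with
  | _ n ih =>
    intro Q f g hn hf hle hle₂
    have hQle : Q ≤ P := fst_le_of_reflTransGen (a := ⟨Q, f⟩) (b := ⟨P, e⟩) hle
    by_cases hQP : Q = P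
    · subst hQP
      have h1 : (⟨Q, f⟩ : BrauerPairIdx G) = ⟨Q, e⟩ := eq_of_reflTransGen_of_le hM hle le_rfl
      have h2 : f = e := by simpa using h1
      subst h2
      have hle2 : Q.map (MulAut.conj g).toMonoidHom ≤ Q :=
        fst_le_of_reflTransGen (a := conjPair g ⟨Q, f⟩) (b := ⟨Q, f⟩) hle₂
      have heq : Q.map (MulAut.conj g).toMonoidHom = Q :=
        Subgroup.eq_of_le_of_card_ge hle2
          (by rw [Subgroup.card_map_of_injective (MulAut.conj g).injective])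
      have hfix : conjPair g (⟨Q, f⟩ : BrauerPairIdx G) = ⟨Q, f⟩ :=
        eq_of_reflTransGen_of_le hM hle₂ (le_of_eq heq.symm)
      obtain ⟨hgN, hgst⟩ := stab_of_conjPair_eq_self hfix
      obtain ⟨u, hu, c, hc, rfl⟩ := stab_maximal_of_nilpotent hM hmax hnil hgN hgst
      refine ⟨u, hu, ?_⟩
      have : u⁻¹ * (u * c) = c := by group
      rw [this]
      exact hc
    · obtain ⟨x, hlex, hlocx⟩ := exists_conj_of_larger hM hmax hf hle
        (fun Q' => Subgroup.normalizer (Q' : Set G)) (fun Q' y => Subgroup.le_normalizer_map _)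
      have IH' : ∀ (N : Subgroup G) (k : Set (IrrCharacter (Subgroup.centralizer (N : Set G))))
          (y : G), Nat.card Q < Nat.card N → IsPBlock M k → SubpairLE p M N k P e →
          SubpairLE p M (N.map (MulAut.conj y).toMonoidHom) (conjBlock N y k) P e →
          InnerOn P N y := by
        intro N k y hlt hk hleN hleN'
        have hNP : N ≤ P := fst_le_of_reflTransGen (a := ⟨N, k⟩) (b := ⟨P, e⟩) hleN
        have h1 := Subgroup.card_le_of_le hNP
        exact ih (Nat.card P - Nat.card N) (by omega) N k y rfl hk hleN hleN'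
      have h1 := innerOn_of_fullyNormalized hM hmax hnil hf hle hlex hlocx hQP IH'
      -- the same for `(Q, f)^g`
      have hf₁ : IsPBlock M (conjBlock Q g f) := isPBlock_conjBlock g Q hf
      have hcard₁ : Nat.card ↥(Q.map (MulAut.conj g).toMonoidHom) = Nat.card Q :=
        Subgroup.card_map_of_injective (MulAut.conj g).injective
      have hQ₁P : Q.map (MulAut.conj g).toMonoidHom ≠ P := by
        intro h
        apply hQP
        exact Subgroup.eq_of_le_of_card_ge hQle (by rw [← hcard₁, h])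
      have hsig : conjPair (x * g⁻¹) (conjPair g (⟨Q, f⟩ : BrauerPairIdx G)) =
          conjPair x ⟨Q, f⟩ := by
        rw [conjPair_mul (M := M) (x * g⁻¹) g (a := (⟨Q, f⟩ : BrauerPairIdx G)) hf]
        congr 1
        group
      have hPP : ∀ a : BrauerPairIdx G, a = conjPair x ⟨Q, f⟩ →
          Relation.ReflTransGen (NormalSubpairRel p M) a ⟨P, e⟩ ∧
          LocalMax p M P a.1 a.2 (fun Q' => Subgroup.normalizer (Q' : Set G)) := by
        rintro a rfl
        exact ⟨hlex, hlocx⟩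
      obtain ⟨hlex', hlocx'⟩ := hPP _ hsig
      have IH'' : ∀ (N : Subgroup G) (k : Set (IrrCharacter (Subgroup.centralizer (N : Set G))))
          (y : G), Nat.card ↥(Q.map (MulAut.conj g).toMonoidHom) < Nat.card N → IsPBlock M k →
          SubpairLE p M N k P e →
          SubpairLE p M (N.map (MulAut.conj y).toMonoidHom) (conjBlock N y k) P e →
          InnerOn P N y := by
        intro N k y hlt
        rw [hcard₁] at hlt
        exact IH' N k y hlt
      have h2 := innerOn_of_fullyNormalized hM hmax hnil hf₁ hle₂ hlex' hlocx' hQ₁P IH''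
      obtain ⟨u₁, hu₁, ha⟩ := h1
      obtain ⟨u₂, hu₂, hb⟩ := h2
      have hb' := mem_centralizer_of_conj_mem hb
      refine ⟨u₂⁻¹ * u₁, P.mul_mem (P.inv_mem hu₂) hu₁, ?_⟩
      have h3 : (u₂⁻¹ * u₁)⁻¹ * g = u₁⁻¹ * x * (g⁻¹ * (u₂⁻¹ * (x * g⁻¹)) * g)⁻¹ := by group
      rw [h3]
      exact Subgroup.mul_mem _ ha (Subgroup.inv_mem _ hb')


/-- A `p`-regular element normalizing `Q` and acting on `Q` as a `p`-element centralizes `Q`. -/
theorem mem_centralizer_of_pRegular_of_conj_eq [Fact p.Prime] {Q : Subgroup G} {x u : G}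
    (hxN : x ∈ Subgroup.normalizer (Q : Set G)) (hx : IsPRegular p x)
    {k : ℕ} (hu : u ^ (p ^ k) = 1)
    (h : ∀ q ∈ Q, x * q * x⁻¹ = u * q * u⁻¹) : x ∈ Subgroup.centralizer (Q : Set G) := by
  have hp : p.Prime := Fact.out
  have hpow : ∀ n : ℕ, ∀ q ∈ Q, x ^ n * q * (x ^ n)⁻¹ = u ^ n * q * (u ^ n)⁻¹ := by
    intro n
    induction n with
    | zero => intro q _; simp
    | succ n ih =>
      intro q hq
      have hq' : x ^ n * q * (x ^ n)⁻¹ ∈ Q :=
        (Subgroup.mem_normalizer_iff.1 (Subgroup.pow_mem _ hxN n) q).1 hq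
      have h1 := h _ hq'
      rw [ih q hq] at h1
      calc x ^ (n + 1) * q * (x ^ (n + 1))⁻¹ = x * (x ^ n * q * (x ^ n)⁻¹) * x⁻¹ := by
            rw [pow_succ']; group
        _ = u * (u ^ n * q * (u ^ n)⁻¹) * u⁻¹ := by rw [ih q hq]; exact h1
        _ = u ^ (n + 1) * q * (u ^ (n + 1))⁻¹ := by rw [pow_succ']; group
  have h1 : x ^ (p ^ k) ∈ Subgroup.centralizer (Q : Set G) := by
    rw [Subgroup.mem_centralizer_iff]
    intro q hq
    have h2 := hpow (p ^ k) q hq
    rw [hu] at h2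
    have h3 : x ^ (p ^ k) * q * (x ^ (p ^ k))⁻¹ = q := by rw [h2]; group
    calc q * x ^ (p ^ k) = (x ^ (p ^ k) * q * (x ^ (p ^ k))⁻¹) * x ^ (p ^ k) := by rw [h3]
      _ = x ^ (p ^ k) * q := by group
  have hcop : (p ^ k).Coprime (orderOf x) :=
    Nat.Coprime.pow_left k ((Nat.Prime.coprime_iff_not_dvd hp).2 hx)
  obtain ⟨m, hm⟩ := exists_pow_eq_self_of_coprime hcop
  rw [← hm]
  exact Subgroup.pow_mem _ h1 m

/-- **S4686.** -/
theorem nilpotent_iff_inner (hM : IsPModular p M) {B : Set (IrrCharacter G)}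
    {P : Subgroup G} {e : Set (IrrCharacter (Subgroup.centralizer (P : Set G)))}
    (hmax : IsMaximalBrauerPair p M B P e) (F : FusionSystem P)
    (hF : IsBlockFusionSystemOn p M B P e F) :
    IsNilpotentBlock p M B ↔ ∀ Q : Subgroup G, F.Hom Q = (innerFusionSystem P).Hom Q := by
  classical
  haveI hPr := isPrime_of_isPModular hM
  haveI : Fact p.Prime := ⟨prime_of_isPModular hM⟩
  have hPe : IsBrauerPair p M P e := hmax.1.1
  constructor
  · intro hnil Q
    ext φ
    constructor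
    · intro hφ
      obtain ⟨hQP, g, hg, _, f, hle, hle'⟩ := (hF.2 Q φ).1 hφ
      have hf : IsPBlock M f :=
        (isBrauerPair_of_reflTransGen (a := ⟨Q, f⟩) (b := ⟨P, e⟩) hle hPe).2
      obtain ⟨u, hu, huc⟩ := innerOn_of_nilpotent hM hmax hnil _ Q f g rfl hf hle hle'
      refine ⟨hQP, u, hu, fun q => ?_⟩
      rw [hg q]
      have h1 := Subgroup.mem_centralizer_iff.1 huc (q : G) q.2
      calc g * (q : G) * g⁻¹ = u * ((u⁻¹ * g) * (q : G)) * g⁻¹ := by group
        _ = u * ((q : G) * (u⁻¹ * g)) * g⁻¹ := by rw [h1]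
        _ = u * (q : G) * u⁻¹ := by group
    · rintro ⟨hQP, u, hu, hφ⟩
      have h1 : φ = conjHom Q u := by
        ext q
        rw [hφ q]
        rfl
      rw [h1]
      exact F.conj_mem hQP hu
  · intro hinner
    refine ⟨hmax.1.2.1, fun Q f hQf x hxN hxst hxreg => ?_⟩
    obtain ⟨y, hy⟩ := exists_conj_le_of_maximal hM hmax hQf
    have hQ₁P : Q.map (MulAut.conj y).toMonoidHom ≤ P :=
      fst_le_of_reflTransGen (a := ⟨_, conjBlock Q y f⟩) (b := ⟨P, e⟩) hy
    have hx₁N : y * x * y⁻¹ ∈ Subgroup.normalizer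
        ((Q.map (MulAut.conj y).toMonoidHom : Subgroup G) : Set G) := by
      have h1 : y * x * y⁻¹ ∈ (Subgroup.normalizer (Q : Set G)).map (MulAut.conj y).toMonoidHom :=
        ⟨x, hxN, by simp [MulAut.conj_apply]⟩
      exact Subgroup.le_normalizer_map _ h1
    have hx₁st := stabilizesBlock_conj y Q f hxst
    have hf₁ : IsPBlock M (conjBlock Q y f) := isPBlock_conjBlock y Q hQf.1.2
    have hfix := conjPair_eq_self_of_stab hf₁ hx₁N hx₁st
    have key : ∀ a : BrauerPairIdx G,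
        a = ⟨Q.map (MulAut.conj y).toMonoidHom, conjBlock Q y f⟩ →
        a.1 ≤ P ∧ Relation.ReflTransGen (NormalSubpairRel p M) a ⟨P, e⟩ := by
      rintro a rfl
      exact ⟨hQ₁P, hy⟩
    obtain ⟨hk1, hk2⟩ := key _ hfix
    have hφ : conjHom (Q.map (MulAut.conj y).toMonoidHom) (y * x * y⁻¹) ∈
        F.Hom (Q.map (MulAut.conj y).toMonoidHom) :=
      (hF.2 _ _).2 ⟨hQ₁P, y * x * y⁻¹, fun u => rfl, hk1, conjBlock Q y f, hy, hk2⟩
    rw [hinner] at hφ
    obtain ⟨_, u, hu, hφu⟩ := hφ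
    obtain ⟨k, hk⟩ := hPe.1 ⟨u, hu⟩
    have huk : u ^ (p ^ k) = 1 := by
      have := congrArg (Subtype.val : P → G) hk
      simpa using this
    have hx₁reg : IsPRegular p (y * x * y⁻¹) := by
      unfold IsPRegular
      have h1 : orderOf (y * x * y⁻¹) = orderOf x := (MulAut.conj y).orderOf_eq x
      rw [h1]
      exact hxreg
    have h1 := mem_centralizer_of_pRegular_of_conj_eq hx₁N hx₁reg huk
      (fun q hq => hφu ⟨q, hq⟩)
    have h2 := mem_centralizer_of_conj_mem h1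
    have e1 : y⁻¹ * (y * x * y⁻¹) * y = x := by group
    rwa [e1] at h2


end Cfsg.Agent.Lib.L0.BrauerNilpotent
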