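import Mathlib
import Cfsg.Prelude.Def_BrauerPairs
import Cfsg.Agent.Lib.L0.BrauerNilpotent

/-!
# Brauer pairs of `C_G(Q)` versus Brauer pairs of `G` above `(Q, f)` (lead)

For a subgroup `R'` of `C = C_G(Q)`, `C_C(R') = C_G(Q R')`; a Brauer pair `(R', h')` of the block `f`
of `C` gives the Brauer pair `(Q R', h)` of `G` with `(Q, f) ⊴ (Q R', h)`.
* `nilpotent_centralizer` (S4688).
-/

set_option autoImplicit false

namespace Cfsg.Agent.Lib.L0.BrauerCentPairs

open Cfsg MonoidAlgebra Cfsg.Agent.Lib.H23 Cfsg.Agent.Lib.H24 Cfsg.Agent.Lib.L0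
  Cfsg.Agent.Lib.L0.BrauerPairHom Cfsg.Agent.Lib.L0.BrauerLam
  Cfsg.Agent.Lib.L0.BrauerNormal Cfsg.Agent.Lib.L0.BrauerSubpair Cfsg.Agent.Lib.L0.BrauerConj
  Cfsg.Agent.Lib.L0.BrauerDefect Cfsg.Agent.Lib.L0.BrauerSylow Cfsg.Agent.Lib.L0.BrauerCentric
  Cfsg.Agent.Lib.L0.BlockOrbitCover Cfsg.Agent.Lib.L0.BrauerNormalizer
  Cfsg.Agent.Lib.L0.BrauerFully Cfsg.Agent.Lib.L0.BrauerRelative Cfsg.Agent.Lib.L0.BrauerStab
  Cfsg.Agent.Lib.L0.BrauerAutomizer Cfsg.Agent.Lib.L0.BrauerAbelian
  Cfsg.Agent.Lib.L0.BrauerNilpotent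
open scoped ComplexConjugate

variable {G : Type*} [Group G] (Q : Subgroup G)

/-- `Q R'` for a subgroup `R'` of `C_G(Q)`. -/
abbrev supSub (R' : Subgroup (Subgroup.centralizer (Q : Set G))) : Subgroup G :=
  Q ⊔ R'.map (Subgroup.centralizer (Q : Set G)).subtype

theorem mem_centralizer_iff_le (K : Subgroup G) (g : G) :
    g ∈ Subgroup.centralizer (K : Set G) ↔ K ≤ Subgroup.centralizer ({g} : Set G) := by
  constructor
  · intro h q hq
    rw [Subgroup.mem_centralizer_singleton_iff]
    exact Subgroup.mem_centralizer_iff.1 h q hq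
  · intro h
    rw [Subgroup.mem_centralizer_iff]
    intro q hq
    exact Subgroup.mem_centralizer_singleton_iff.1 (h hq)

theorem coe_mem_centralizer_supSub (R' : Subgroup (Subgroup.centralizer (Q : Set G)))
    {x : Subgroup.centralizer (Q : Set G)}
    (hx : x ∈ Subgroup.centralizer (R' : Set (Subgroup.centralizer (Q : Set G)))) :
    (x : G) ∈ Subgroup.centralizer ((supSub Q R' : Subgroup G) : Set G) := by
  rw [mem_centralizer_iff_le]
  refine sup_le ?_ ?_
  · exact (mem_centralizer_iff_le Q _).1 x.2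
  · exact (mem_centralizer_iff_le _ _).1 (coe_mem_centralizer_upSub _ R' hx)

theorem mem_centralizer_of_mem_supSub (R' : Subgroup (Subgroup.centralizer (Q : Set G))) {g : G}
    (hg : g ∈ Subgroup.centralizer ((supSub Q R' : Subgroup G) : Set G)) :
    g ∈ Subgroup.centralizer (Q : Set G) :=
  Subgroup.centralizer_le (le_sup_left : Q ≤ supSub Q R') hg

theorem mem_centralizer_of_coe_mem_supSub (R' : Subgroup (Subgroup.centralizer (Q : Set G)))
    {x : Subgroup.centralizer (Q : Set G)}
    (hx : (x : G) ∈ Subgroup.centralizer ((supSub Q R' : Subgroup G) : Set G)) :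
    x ∈ Subgroup.centralizer (R' : Set (Subgroup.centralizer (Q : Set G))) :=
  mem_centralizer_of_coe_mem _ R' (Subgroup.centralizer_le
    (le_sup_right : R'.map (Subgroup.centralizer (Q : Set G)).subtype ≤ supSub Q R') hx)

/-- `C_C(R') ≃* C_G(Q R')`. -/
noncomputable def centSup (R' : Subgroup (Subgroup.centralizer (Q : Set G))) :
    Subgroup.centralizer (R' : Set (Subgroup.centralizer (Q : Set G))) ≃*
      Subgroup.centralizer ((supSub Q R' : Subgroup G) : Set G) where
  toFun x := ⟨((x : Subgroup.centralizer (Q : Set G)) : G), coe_mem_centralizer_supSub Q R' x.2⟩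
  invFun y := ⟨⟨(y : G), mem_centralizer_of_mem_supSub Q R' y.2⟩,
    mem_centralizer_of_coe_mem_supSub Q R' y.2⟩
  left_inv _ := rfl
  right_inv _ := rfl
  map_mul' _ _ := rfl

/-- The lift of a set of characters of `C_C(R')` to `C_G(Q R')`. -/
def supBlock (R' : Subgroup (Subgroup.centralizer (Q : Set G)))
    (h' : Set (IrrCharacter (Subgroup.centralizer
      (R' : Set (Subgroup.centralizer (Q : Set G)))))) :
    Set (IrrCharacter (Subgroup.centralizer ((supSub Q R' : Subgroup G) : Set G))) :=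
  irrEquiv (centSup Q R').symm '' h'

theorem brauerOmega_sup (R' : Subgroup (Subgroup.centralizer (Q : Set G)))
    (β' : Subgroup.centralizer (Q : Set G) → ℂ) (β : G → ℂ)
    (hβ : ∀ t : Subgroup.centralizer (Q : Set G), β (t : G) = β' t)
    (ξ₁ : IrrCharacter (Subgroup.centralizer (R' : Set (Subgroup.centralizer (Q : Set G))))) :
    brauerOmega (supSub Q R') β (irrEquiv (centSup Q R').symm ξ₁ :
      Subgroup.centralizer ((supSub Q R' : Subgroup G) : Set G) → ℂ) =
    brauerOmega R' β' (ξ₁ : Subgroup.centralizer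
      (R' : Set (Subgroup.centralizer (Q : Set G))) → ℂ) := by
  unfold brauerOmega
  rw [← finsum_comp_equiv (centSup Q R').toEquiv]
  refine finsum_congr fun x' => ?_
  rw [irrEquiv_apply, irrEquiv_apply, map_one]
  have h1 : (centSup Q R').symm ((centSup Q R').toEquiv x') = x' :=
    (centSup Q R').symm_apply_apply x'
  rw [h1]
  have h2 : (((centSup Q R').toEquiv x' : _) : G) =
      ((x' : Subgroup.centralizer (Q : Set G)) : G) := rfl
  rw [h2, hβ]

variable {p : ℕ} {M : Ideal AlgInt}

theorem supSub_le_sup (R' : Subgroup (Subgroup.centralizer (Q : Set G))) :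
    supSub Q R' ≤ Q ⊔ Subgroup.centralizer (Q : Set G) :=
  sup_le_sup_left (Subgroup.map_subtype_le R') Q

/-- A Brauer pair `(R', h')` of the block `f` of `C_G(Q)` gives `(Q, f) ⊴ (Q R', h)`. -/
theorem isNormalSubpair_sup (hQ : IsPGroup p Q)
    {f : Set (IrrCharacter (Subgroup.centralizer (Q : Set G)))}
    {R' : Subgroup (Subgroup.centralizer (Q : Set G))}
    {h' : Set (IrrCharacter (Subgroup.centralizer
      (R' : Set (Subgroup.centralizer (Q : Set G)))))}
    (hpair : IsBrauerPairOf p M f R' h') :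
    IsNormalSubpair p M Q f (supSub Q R') (supBlock Q R' h') := by
  classical
  obtain ⟨⟨hR', hh'⟩, hf, hom⟩ := hpair
  have hCN := Subgroup.centralizer_le_normalizer ((Q : Subgroup G) : Set G)
  have hRN : R'.map (Subgroup.centralizer (Q : Set G)).subtype ≤ Subgroup.normalizer (Q : Set G) :=
    (Subgroup.map_subtype_le R').trans hCN
  refine ⟨⟨hQ, hf⟩, ⟨IsPGroup.to_sup_of_normal_left' hQ (hR'.map _) hRN,
    isPBlock_irrEquiv_image _ hh'⟩, le_sup_left, sup_le Subgroup.le_normalizer hRN,
    fun x hx => stabilizesBlock_of_mem_sup Q f (supSub_le_sup Q R' hx), ?_⟩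
  rintro _ ⟨ξ₁, hξ₁, rfl⟩
  rw [brauerOmega_sup Q R' (blockCoeff f) _ (fun t => by
    unfold subgroupBlockCoeff
    rw [dif_pos t.2]) ξ₁]
  exact hom ξ₁ hξ₁

theorem stabilizesBlock_sup [Fintype G] {R' : Subgroup (Subgroup.centralizer (Q : Set G))}
    {h' : Set (IrrCharacter (Subgroup.centralizer
      (R' : Set (Subgroup.centralizer (Q : Set G)))))}
    {x : Subgroup.centralizer (Q : Set G)}
    (hxN : x ∈ Subgroup.normalizer (R' : Set (Subgroup.centralizer (Q : Set G))))
    (hx : StabilizesBlock (Subgroup.centralizer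
      (R' : Set (Subgroup.centralizer (Q : Set G)))) h' x) :
    (x : G) ∈ Subgroup.normalizer ((supSub Q R' : Subgroup G) : Set G) ∧
    StabilizesBlock (Subgroup.centralizer ((supSub Q R' : Subgroup G) : Set G))
      (supBlock Q R' h') (x : G) := by
  classical
  haveI : Fintype (Subgroup.centralizer (Q : Set G)) := Fintype.ofFinite _
  have hCN := Subgroup.centralizer_le_normalizer ((Q : Subgroup G) : Set G)
  have hN : (x : G) ∈ Subgroup.normalizer ((supSub Q R' : Subgroup G) : Set G) := by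
    have h1 : (supSub Q R').map (MulAut.conj (x : G)).toMonoidHom = supSub Q R' := by
      unfold supSub
      rw [Subgroup.map_sup, map_conj_eq_of_mem_normalizer' (hCN x.2)]
      congr 1
      have h2 := map_conj_eq_of_mem_normalizer' hxN
      have h3 := upSub_map_conj (Subgroup.centralizer (Q : Set G)) R' x
      unfold upSub at h3
      rw [← h3, h2]
    exact mem_normalizer_of_map_conj_eq h1
  refine ⟨hN, normalizer_le_normalizer_centralizer _ hN, ?_⟩
  obtain ⟨_, hx2⟩ := hx
  rintro _ ⟨χ₁, hχ₁, rfl⟩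
  obtain ⟨χ₁', hχ₁', hc⟩ := hx2 χ₁ hχ₁
  refine ⟨irrEquiv (centSup Q R').symm χ₁', ⟨χ₁', hχ₁', rfl⟩, ?_⟩
  intro c c' hcc
  rw [irrEquiv_apply, irrEquiv_apply]
  apply hc
  apply Subtype.ext
  exact hcc


/-- **S4688.** -/
theorem nilpotent_centralizer [Fintype G] (hM : IsPModular p M) {B : Set (IrrCharacter G)}
    {P : Subgroup G} {e : Set (IrrCharacter (Subgroup.centralizer (P : Set G)))}
    (hmax : IsMaximalBrauerPair p M B P e) (hnil : IsNilpotentBlock p M B) {Q : Subgroup G}
    {f : Set (IrrCharacter (Subgroup.centralizer (Q : Set G)))}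
    (hQf : IsBrauerPairOf p M B Q f) :
    IsNilpotentBlock p M f ∧ (SubpairLE p M Q f P e → IsDefectGroup p M f
      ((P ⊓ Subgroup.centralizer (Q : Set G)).subgroupOf (Subgroup.centralizer (Q : Set G)))) := by
  classical
  haveI hPr := isPrime_of_isPModular hM
  have hPe : IsBrauerPair p M P e := hmax.1.1
  constructor
  · refine ⟨hQf.1.2, fun R' h' hpair x hxN hxst hxreg => ?_⟩
    have hnorm := isNormalSubpair_sup Q hQf.1.1 hpair
    have hB := (isBrauerPairOf_iff_of_normalSubpair hM hnorm B).1 hQf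
    obtain ⟨hN, hst⟩ := stabilizesBlock_sup Q hxN hxst
    have hreg : IsPRegular p (x : G) := by
      unfold IsPRegular
      rw [Subgroup.orderOf_coe]
      exact hxreg
    have h1 := hnil.2 _ _ hB (x : G) hN hst hreg
    exact mem_centralizer_of_coe_mem_supSub Q R' h1
  · intro hle
    refine isDefectGroup_centralizer_of_localMax hM hPe hQf.1.2 hle ?_
    refine localMax_of_fully hM hmax hle _ map_conj_centralizer_le fun x hx => ?_
    obtain ⟨u, hu, huc⟩ := innerOn_of_nilpotent hM hmax hnil _ Q f x rfl hQf.1.2 hle hx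
    have hmap : Q.map (MulAut.conj x).toMonoidHom = Q.map (MulAut.conj u).toMonoidHom := by
      have hconj : ∀ q ∈ Q, x * q * x⁻¹ = u * q * u⁻¹ := by
        intro q hq
        have h1 := Subgroup.mem_centralizer_iff.1 huc q hq
        calc x * q * x⁻¹ = u * ((u⁻¹ * x) * q) * x⁻¹ := by group
          _ = u * (q * (u⁻¹ * x)) * x⁻¹ := by rw [h1]
          _ = u * q * u⁻¹ := by group
      ext g
      constructor
      · rintro ⟨q, hq, rfl⟩
        exact ⟨q, hq, by simp [MulAut.conj_apply, hconj q hq]⟩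
      · rintro ⟨q, hq, rfl⟩
        exact ⟨q, hq, by simp [MulAut.conj_apply, hconj q hq]⟩
    show Nat.card ↥(P ⊓ Subgroup.centralizer
      ((Q.map (MulAut.conj x).toMonoidHom : Subgroup G) : Set G)) ≤
      Nat.card ↥(P ⊓ Subgroup.centralizer (Q : Set G))
    rw [hmap]
    have hle2 : P ⊓ Subgroup.centralizer ((Q.map (MulAut.conj u).toMonoidHom : Subgroup G) : Set G)
        ≤ (P ⊓ Subgroup.centralizer (Q : Set G)).map (MulAut.conj u).toMonoidHom := by
      intro y hy
      obtain ⟨hy1, hy2⟩ := Subgroup.mem_inf.1 hy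
      rw [mem_conjSub_iff]
      exact Subgroup.mem_inf.2 ⟨P.mul_mem (P.mul_mem (P.inv_mem hu) hy1) hu,
        mem_centralizer_of_conj_mem hy2⟩
    have h3 := Subgroup.card_le_of_le hle2
    rwa [Subgroup.card_map_of_injective (MulAut.conj u).injective] at h3


end Cfsg.Agent.Lib.L0.BrauerCentPairs
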