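import Mathlib
import Cfsg.Prelude.Def_BrauerPairs
import Cfsg.Prelude.Def_BlockLocal
import Cfsg.Agent.Lib.L0.BrauerCentPairs

/-!
# Abelian defect groups: free action of the inertial quotient and local nilpotency (lead)

* `stabilizesBlock_down`: block stabilization descends from `G` to a subgroup `H ≥ C_G(S')`;
* `inducedCentralCharIn_up`, `isInducedBlockIn_of_up`, `isInducedBlock_of_in`: block induction inside
  a subgroup (`IsInducedBlockIn`) versus block induction in the group `↥H`;
* `core`, `free_iff` (S4650).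
-/

set_option autoImplicit false

namespace Cfsg.Agent.Lib.L0.AbelianInertial

open Cfsg MonoidAlgebra Cfsg.Agent.Lib.H23 Cfsg.Agent.Lib.H24 Cfsg.Agent.Lib.L0
  Cfsg.Agent.Lib.L0.BrauerPairHom Cfsg.Agent.Lib.L0.BrauerLam
  Cfsg.Agent.Lib.L0.BrauerNormal Cfsg.Agent.Lib.L0.BrauerSubpair Cfsg.Agent.Lib.L0.BrauerConj
  Cfsg.Agent.Lib.L0.BrauerDefect Cfsg.Agent.Lib.L0.BrauerSylow Cfsg.Agent.Lib.L0.BrauerCentric
  Cfsg.Agent.Lib.L0.BlockOrbitCover Cfsg.Agent.Lib.L0.BrauerNormalizer
  Cfsg.Agent.Lib.L0.BrauerFully Cfsg.Agent.Lib.L0.BrauerRelative Cfsg.Agent.Lib.L0.BrauerStab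
  Cfsg.Agent.Lib.L0.BrauerAutomizer Cfsg.Agent.Lib.L0.BrauerAbelian
  Cfsg.Agent.Lib.L0.BrauerNilpotent
open scoped ComplexConjugate

section Transport

variable {G : Type*} [Group G] (H : Subgroup G) {p : ℕ} {M : Ideal AlgInt}

/-- Block stabilization descends from `G` to `H`. -/
theorem stabilizesBlock_down {S' : Subgroup H}
    (hC : Subgroup.centralizer ((upSub H S' : Subgroup G) : Set G) ≤ H)
    {k' : Set (IrrCharacter (Subgroup.centralizer (S' : Set H)))} {x : H}
    (hx : StabilizesBlock (Subgroup.centralizer ((upSub H S' : Subgroup G) : Set G))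
      (upBlock H S' k') (x : G)) :
    StabilizesBlock (Subgroup.centralizer (S' : Set H)) k' x := by
  obtain ⟨hxN, hx2⟩ := hx
  refine ⟨?_, ?_⟩
  · rw [Subgroup.mem_normalizer_iff]
    intro g
    have h1 := Subgroup.mem_normalizer_iff.1 hxN (g : G)
    constructor
    · intro hg
      have h2 := h1.1 (coe_mem_centralizer_upSub H S' hg)
      exact mem_centralizer_of_coe_mem H S' h2
    · intro hg
      have h2 := h1.2 (coe_mem_centralizer_upSub H S' hg)
      exact mem_centralizer_of_coe_mem H S' h2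
  · intro χ₁ hχ₁
    have hmem : irrEquiv (centUp H S' hC).symm χ₁ ∈ upBlock H S' k' := by
      rw [upBlock_eq_image H S' hC]
      exact ⟨χ₁, hχ₁, rfl⟩
    obtain ⟨χ', hχ', hc⟩ := hx2 _ hmem
    rw [upBlock_eq_image H S' hC] at hχ'
    obtain ⟨χ₁', hχ₁', rfl⟩ := hχ'
    refine ⟨χ₁', hχ₁', ?_⟩
    intro k k' hkk
    have h3 := hc (centUp H S' hC k) (centUp H S' hC k') (by
      rw [centUp_coe, centUp_coe, hkk]
      rfl)
    rw [irrEquiv_apply, irrEquiv_apply, MulEquiv.symm_apply_apply,
      MulEquiv.symm_apply_apply] at h3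
    exact h3

theorem inducedCentralCharIn_up (S' : Subgroup H)
    (hC : Subgroup.centralizer ((upSub H S' : Subgroup G) : Set G) ≤ H)
    (ξ₁ : IrrCharacter (Subgroup.centralizer (S' : Set H))) (h : H) :
    inducedCentralCharIn H (Subgroup.centralizer ((upSub H S' : Subgroup G) : Set G))
      (irrEquiv (centUp H S' hC).symm ξ₁ :
        Subgroup.centralizer ((upSub H S' : Subgroup G) : Set G) → ℂ) (h : G) =
    inducedCentralChar (Subgroup.centralizer (S' : Set H))
      (ξ₁ : Subgroup.centralizer (S' : Set H) → ℂ) h := by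
  unfold inducedCentralCharIn inducedCentralChar
  symm
  refine finsum_mem_eq_of_bijOn (centUp H S' hC) ⟨?_, ?_, ?_⟩ ?_
  · intro k₁ hk₁
    obtain ⟨c, hc⟩ := _root_.isConj_iff.1 hk₁
    refine ⟨c⁻¹, ?_⟩
    rw [centUp_coe, ← hc]
    simp [mul_assoc]
  · exact (centUp H S' hC).injective.injOn
  · intro k hk
    obtain ⟨x, hx⟩ := hk
    refine ⟨(centUp H S' hC).symm k, ?_, (centUp H S' hC).apply_symm_apply k⟩
    show IsConj h (((centUp H S' hC).symm k : _) : H)
    rw [_root_.isConj_iff]
    refine ⟨x⁻¹, ?_⟩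
    apply Subtype.ext
    rw [Subgroup.coe_mul, Subgroup.coe_mul, centUp_symm_coe, ← hx]
    simp [mul_assoc]
  · intro k₁ _
    rw [irrEquiv_apply, irrEquiv_apply, map_one, MulEquiv.symm_apply_apply]

/-- Block induction in the group `↥H` gives block induction inside `H`. -/
theorem isInducedBlockIn_of_up (S' : Subgroup H)
    (hC : Subgroup.centralizer ((upSub H S' : Subgroup G) : Set G) ≤ H)
    {k' : Set (IrrCharacter (Subgroup.centralizer (S' : Set H)))} {f : Set (IrrCharacter H)}
    (h : IsInducedBlock M (Subgroup.centralizer (S' : Set H)) k' f) :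
    IsInducedBlockIn M H (Subgroup.centralizer ((upSub H S' : Subgroup G) : Set G))
      (upBlock H S' k') f := by
  obtain ⟨hk', hf, hind⟩ := h
  refine ⟨isPBlock_upBlock H S' hC hk', hf, ?_⟩
  intro ξ hξ χ hχ t
  rw [upBlock_eq_image H S' hC] at hξ
  obtain ⟨ξ₁, hξ₁, rfl⟩ := hξ
  rw [inducedCentralCharIn_up H S' hC ξ₁ t]
  exact hind ξ₁ hξ₁ χ hχ t

/-- Block induction inside `H` gives block induction in the group `↥H`. -/
theorem isInducedBlock_of_in (S' : Subgroup H)
    (hC : Subgroup.centralizer ((upSub H S' : Subgroup G) : Set G) ≤ H)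
    {k' : Set (IrrCharacter (Subgroup.centralizer (S' : Set H)))} (hk' : IsPBlock M k')
    {f : Set (IrrCharacter H)}
    (h : IsInducedBlockIn M H (Subgroup.centralizer ((upSub H S' : Subgroup G) : Set G))
      (upBlock H S' k') f) :
    IsInducedBlock M (Subgroup.centralizer (S' : Set H)) k' f := by
  obtain ⟨_, hf, hind⟩ := h
  refine ⟨hk', hf, ?_⟩
  intro ξ₁ hξ₁ χ hχ t
  have hmem : irrEquiv (centUp H S' hC).symm ξ₁ ∈ upBlock H S' k' := by
    rw [upBlock_eq_image H S' hC]
    exact ⟨ξ₁, hξ₁, rfl⟩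
  have h1 := hind _ hmem χ hχ t
  rwa [inducedCentralCharIn_up H S' hC ξ₁ t] at h1

theorem isInducedBlockIn_congr {a b : BrauerPairIdx G} (hab : a = b) (f : Set (IrrCharacter H)) :
    IsInducedBlockIn M H (Subgroup.centralizer (a.1 : Set G)) a.2 f ↔
      IsInducedBlockIn M H (Subgroup.centralizer (b.1 : Set G)) b.2 f := by
  subst hab
  rfl

theorem stabilizesBlock_congr {a b : BrauerPairIdx G} (hab : a = b) (g : G) :
    StabilizesBlock (Subgroup.centralizer (a.1 : Set G)) a.2 g ↔
      StabilizesBlock (Subgroup.centralizer (b.1 : Set G)) b.2 g := by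
  subst hab
  rfl

end Transport

section Main

variable {G : Type*} [Group G] [Fintype G] {p : ℕ} {M : Ideal AlgInt}

/-- A pair `(P, c)` with `c^G = B` and `P` a defect group of `B` is a maximal `B`-pair. -/
theorem isMaximal_of_induced (hM : IsPModular p M) {B : Set (IrrCharacter G)} {P : Subgroup G}
    (hPD : IsDefectGroup p M B P)
    {c : Set (IrrCharacter (Subgroup.centralizer (P : Set G)))}
    (hc : IsInducedBlock M (Subgroup.centralizer (P : Set G)) c B) :
    IsMaximalBrauerPair p M B P c := by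
  classical
  haveI hPr := isPrime_of_isPModular hM
  haveI : Fintype (Subgroup.centralizer (P : Set G)) := Fintype.ofFinite _
  have hP : IsPGroup p P := isPGroup_of_isDefectGroup hPD
  obtain ⟨B₀, hB₀, _⟩ := exists_unique_block_of_brauerPair hM P c ⟨hP, hc.1⟩
  have h1 := isInducedBlock_of_pair hM hB₀
  have h2 : B₀ = B := isInducedBlock_unique _ h1 hc
  subst h2
  exact isMaximal_of_isDefectGroup hM hB₀ hPD

theorem core (hM : IsPModular p M) {B : Set (IrrCharacter G)} {P : Subgroup G}
    {c : Set (IrrCharacter (Subgroup.centralizer (P : Set G)))}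
    (hmax : IsMaximalBrauerPair p M B P c) (hab : ∀ x ∈ P, ∀ y ∈ P, x * y = y * x)
    {Q : Subgroup G} (hQP : Q ≤ P) :
    ∃ f₁ : Set (IrrCharacter (Subgroup.centralizer (Q : Set G))),
      IsInducedBlockIn M (Subgroup.centralizer (Q : Set G)) (Subgroup.centralizer (P : Set G)) c f₁ ∧
      (∀ f : Set (IrrCharacter (Subgroup.centralizer (Q : Set G))),
        IsInducedBlockIn M (Subgroup.centralizer (Q : Set G))
          (Subgroup.centralizer (P : Set G)) c f → f = f₁) ∧
      (IsNilpotentBlock p M f₁ ↔ ∀ g : G, g ∈ Subgroup.centralizer (Q : Set G) →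
        g ∈ Subgroup.normalizer (P : Set G) →
        StabilizesBlock (Subgroup.centralizer (P : Set G)) c g →
        g ∈ Subgroup.centralizer (P : Set G)) := by
  classical
  haveI hPr := isPrime_of_isPModular hM
  have hPe : IsBrauerPair p M P c := hmax.1.1
  have hPK : P ≤ Subgroup.centralizer (Q : Set G) := le_centralizer_of_abelian hab hQP
  have hCK : Subgroup.centralizer (P : Set G) ≤ Subgroup.centralizer (Q : Set G) :=
    Subgroup.centralizer_le hQP
  have hCN := Subgroup.centralizer_le_normalizer ((Q : Subgroup G) : Set G)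
  obtain ⟨f₁, ⟨hf₁, hle⟩, _⟩ := exists_unique_subpairLE hM P Q c hPe hQP
  have hnorm : IsNormalSubpair p M Q f₁ P c :=
    normalSubpair_of_subpairLE hM (a := ⟨Q, f₁⟩) (c := ⟨P, c⟩) hle hPe (hPK.trans hCN)
  -- `P` is a defect group of `f₁`
  have hloc : LocalMax p M P Q f₁ (fun Q' => Subgroup.centralizer (Q' : Set G)) := by
    refine localMax_of_fully hM hmax hle _ map_conj_centralizer_le fun y hy => ?_
    have hyP : Q.map (MulAut.conj y).toMonoidHom ≤ P :=
      fst_le_of_reflTransGen (a := ⟨_, conjBlock Q y f₁⟩) (b := ⟨P, c⟩) hy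
    have h1 : P ⊓ Subgroup.centralizer
        ((Q.map (MulAut.conj y).toMonoidHom : Subgroup G) : Set G) = P :=
      inf_eq_left.2 (le_centralizer_of_abelian hab hyP)
    have h2 : P ⊓ Subgroup.centralizer (Q : Set G) = P := inf_eq_left.2 hPK
    show Nat.card ↥(P ⊓ Subgroup.centralizer
      ((Q.map (MulAut.conj y).toMonoidHom : Subgroup G) : Set G)) ≤
      Nat.card ↥(P ⊓ Subgroup.centralizer (Q : Set G))
    rw [h1, h2]
  have hD := isDefectGroup_centralizer_of_localMax hM hPe hf₁ hle hloc
  rw [inf_eq_left.2 hPK] at hD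
  -- descend `(P, c)` to the group `C_G(Q)`
  obtain ⟨b', hb1, hb2, hb3⟩ := exists_up_eq (Subgroup.centralizer (Q : Set G)) hPK hCK hPe.2
  have hup : upSub (Subgroup.centralizer (Q : Set G)) b'.1 = P := by
    rw [hb1, upSub_subgroupOf _ hPK]
  have hCb : Subgroup.centralizer
      ((upSub (Subgroup.centralizer (Q : Set G)) b'.1 : Subgroup G) : Set G) ≤
      Subgroup.centralizer (Q : Set G) := by
    rw [hup]; exact hCK
  have hb'p : IsBrauerPair p M b'.1 b'.2 := by
    refine ⟨?_, hb2⟩
    rw [hb1]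
    exact hPe.1.comap_subtype
  have hfc : ∀ t : Subgroup.centralizer (Q : Set G), blockCoeff f₁ t =
      subgroupBlockCoeff (Subgroup.centralizer (Q : Set G)) f₁ (t : G) := by
    intro t
    unfold subgroupBlockCoeff
    rw [dif_pos t.2]
  have hb'F : IsBrauerPairOf p M f₁ b'.1 b'.2 := by
    refine isBrauerPairOf_of_up _ hf₁ hfc hb'p hCb ?_
    rw [hb3]
    exact hnorm
  have hmax' : IsMaximalBrauerPair p M f₁ b'.1 b'.2 := by
    refine isMaximal_of_isDefectGroup hM hb'F ?_
    rw [hb1]
    exact hD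
  have hab' : ∀ x ∈ b'.1, ∀ y ∈ b'.1, x * y = y * x := by
    rw [hb1]
    intro x hx y hy
    apply Subtype.ext
    exact hab _ (Subgroup.mem_subgroupOf.1 hx) _ (Subgroup.mem_subgroupOf.1 hy)
  have hnil := nilpotent_iff_of_abelian hM hmax' hab'
  haveI : Fintype (Subgroup.centralizer (b'.1 : Set (Subgroup.centralizer (Q : Set G)))) :=
    Fintype.ofFinite _
  have hind₁ := isInducedBlock_of_pair hM hb'F
  have hupP : (up (Subgroup.centralizer (Q : Set G)) b').1 = P := by rw [hb3]
  refine ⟨f₁, ?_, ?_, ?_⟩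
  · have h1 := isInducedBlockIn_of_up _ b'.1 hCb hind₁
    exact (isInducedBlockIn_congr _ hb3 f₁).1 h1
  · intro f hf
    have h1 := (isInducedBlockIn_congr _ hb3 f).2 hf
    have h2 := isInducedBlock_of_in _ b'.1 hCb hb2 h1
    exact isInducedBlock_unique _ h2 hind₁
  · rw [hnil]
    constructor
    · intro h g hgK hgN hgst
      have hxN : (⟨g, hgK⟩ : Subgroup.centralizer (Q : Set G)) ∈
          Subgroup.normalizer (b'.1 : Set (Subgroup.centralizer (Q : Set G))) := by
        rw [hb1, Subgroup.mem_normalizer_iff]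
        intro y
        rw [Subgroup.mem_subgroupOf, Subgroup.mem_subgroupOf]
        exact Subgroup.mem_normalizer_iff.1 hgN (y : G)
      have hst1 := (stabilizesBlock_congr hb3 g).2 hgst
      have hst2 := stabilizesBlock_down _ hCb (x := ⟨g, hgK⟩) hst1
      have h3 := h ⟨g, hgK⟩ hxN hst2
      have h4 := coe_mem_centralizer_upSub _ b'.1 h3
      rw [hup] at h4
      exact h4
    · intro h x hxN hxst
      have hst1 := stabilizesBlock_up _ hCb hxst
      have hst2 := (stabilizesBlock_congr hb3 (x : G)).1 hst1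
      have hN : (x : G) ∈ Subgroup.normalizer (P : Set G) := by
        rw [hb1] at hxN
        rw [Subgroup.mem_normalizer_iff]
        intro g
        constructor
        · intro hg
          have h5 := (Subgroup.mem_normalizer_iff.1 hxN ⟨g, hPK hg⟩).1
            (Subgroup.mem_subgroupOf.2 hg)
          exact Subgroup.mem_subgroupOf.1 h5
        · intro hg
          have hgK : g ∈ Subgroup.centralizer (Q : Set G) := by
            have h6 := hPK hg
            have h7 : g = (x : G)⁻¹ * ((x : G) * g * (x : G)⁻¹) * (x : G) := by group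
            rw [h7]
            exact Subgroup.mul_mem _ (Subgroup.mul_mem _ (Subgroup.inv_mem _ x.2) h6) x.2
          have h5 := (Subgroup.mem_normalizer_iff.1 hxN ⟨g, hgK⟩).2
            (Subgroup.mem_subgroupOf.2 hg)
          exact Subgroup.mem_subgroupOf.1 h5
      have h3 := h (x : G) x.2 hN hst2
      apply mem_centralizer_of_coe_mem _ b'.1
      rw [hup]
      exact h3

/-- **S4650.** -/
theorem free_iff (hM : IsPModular p M) {B : Set (IrrCharacter G)} {P : Subgroup G}
    (hPD : IsDefectGroup p M B P) (hab : ∀ x ∈ P, ∀ y ∈ P, x * y = y * x)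
    {c : Set (IrrCharacter (Subgroup.centralizer (P : Set G)))}
    (hc : IsInducedBlock M (Subgroup.centralizer (P : Set G)) c B) :
    (∀ g : G, g ∈ Subgroup.normalizer (P : Set G) →
      StabilizesBlock (Subgroup.centralizer (P : Set G)) c g →
      ∀ x ∈ P, x ≠ 1 → g * x * g⁻¹ = x → g ∈ Subgroup.centralizer (P : Set G)) ↔
    ∀ Q : Subgroup G, Q ≤ P → Q ≠ ⊥ →
      ∀ f : Set (IrrCharacter (Subgroup.centralizer (Q : Set G))),
        IsInducedBlockIn M (Subgroup.centralizer (Q : Set G))
          (Subgroup.centralizer (P : Set G)) c f → IsNilpotentBlock p M f := by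
  have hmax := isMaximal_of_induced hM hPD hc
  constructor
  · intro hfree Q hQP hQ1 f hf
    obtain ⟨f₁, _, huniq, hiff⟩ := core hM hmax hab hQP
    rw [huniq f hf, hiff]
    intro g hgK hgN hgst
    obtain ⟨⟨q, hq⟩, hq1'⟩ := (Subgroup.ne_bot_iff_exists_ne_one).1 hQ1
    have hq1 : q ≠ 1 := fun h => hq1' (Subtype.ext h)
    refine hfree g hgN hgst q (hQP hq) hq1 ?_
    have h1 := Subgroup.mem_centralizer_iff.1 hgK q hq
    rw [← h1]
    group
  · intro hnil g hgN hgst x hxP hx1 hgx
    have hQP : Subgroup.zpowers x ≤ P := (Subgroup.zpowers_le).2 hxP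
    have hQ1 : Subgroup.zpowers x ≠ ⊥ := by
      rw [Ne, Subgroup.zpowers_eq_bot]
      exact hx1
    obtain ⟨f₁, hf₁, _, hiff⟩ := core hM hmax hab hQP
    have h1 := hnil _ hQP hQ1 f₁ hf₁
    refine hiff.1 h1 g ?_ hgN hgst
    rw [Subgroup.mem_centralizer_iff]
    intro h hh
    obtain ⟨n, rfl⟩ := Subgroup.mem_zpowers_iff.1 hh
    have hcomm : Commute x g := by
      show x * g = g * x
      calc x * g = (g * x * g⁻¹) * g := by rw [hgx]
        _ = g * x := by group
    exact (hcomm.zpow_left n).eq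

end Main

end Cfsg.Agent.Lib.L0.AbelianInertial
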