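import Cfsg.Agent.Lib.L0.Tate
import Cfsg.Agent.Lib.L0.HallCentral
import Cfsg.Agent.Lib.H6.PResidual2
import Cfsg.Agent.Lib.H1.PGroupBasic
import Cfsg.Agent.Lib.H8.Nilpotent

/-!
# Control of fusion and normal complements (lead's library)

* `focalSubgroup_eq_of_control_fusion` : a Sylow subgroup controlling its own elementwise fusion
  has focal subgroup `[S, S]`.
* `hasNormalPComplement_of_control_fusion` : ... and then `G` has a normal `p`-complement
  (via Tate's theorem).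
* `exists_normal_complement_of_nilpotent_hall_control_fusion` : a nilpotent Hall subgroup controlling
  its own elementwise fusion has a normal complement.
-/

set_option autoImplicit false

namespace Cfsg.Agent.Lib.L0

open scoped commutatorElement

variable {G : Type*} [Group G]

/-- A Sylow subgroup controlling its own elementwise fusion has focal subgroup `[S, S]`. -/
theorem focalSubgroup_eq_of_control_fusion [Finite G] {p : ℕ} [hp : Fact p.Prime] (S : Sylow p G)
    (hcf : ∀ x ∈ (S : Subgroup G), ∀ g : G, g⁻¹ * x * g ∈ (S : Subgroup G) →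
      ∃ u ∈ (S : Subgroup G), g⁻¹ * x * g = u⁻¹ * x * u) :
    Subgroup.focalSubgroup (S : Subgroup G) = ⁅(S : Subgroup G), (S : Subgroup G)⁆ := by
  apply le_antisymm
  · rw [Subgroup.focalSubgroup_def, Subgroup.closure_le]
    rintro z ⟨hzS, x, hxS, u, rfl⟩
    have hy : u⁻¹⁻¹ * x⁻¹ * u⁻¹ ∈ (S : Subgroup G) := by
      have : u⁻¹⁻¹ * x⁻¹ * u⁻¹ = x⁻¹ * ⁅x, u⁆ := by
        rw [commutatorElement_def]; group
      rw [this]
      exact Subgroup.mul_mem _ (Subgroup.inv_mem _ hxS) hzS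
    obtain ⟨v, hv, hvx⟩ := hcf x⁻¹ (Subgroup.inv_mem _ hxS) u⁻¹ hy
    have : ⁅x, u⁆ = ⁅x, v⁻¹⁆ := by
      rw [commutatorElement_def, commutatorElement_def]
      have h1 : x * u * x⁻¹ * u⁻¹ = x * (u⁻¹⁻¹ * x⁻¹ * u⁻¹) := by group
      have h2 : x * v⁻¹ * x⁻¹ * v⁻¹⁻¹ = x * (v⁻¹ * x⁻¹ * v) := by group
      rw [h1, h2, hvx]
    rw [SetLike.mem_coe, this]
    exact Subgroup.commutator_mem_commutator hxS (Subgroup.inv_mem _ hv)
  · exact Subgroup.commutator_le_focalSubgroup _

/-- If a Sylow `p`-subgroup controls its own elementwise fusion then `G` has a normal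
`p`-complement. -/
theorem hasNormalPComplement_of_control_fusion [Finite G] {p : ℕ} [hp : Fact p.Prime]
    (S : Sylow p G)
    (hcf : ∀ x ∈ (S : Subgroup G), ∀ g : G, g⁻¹ * x * g ∈ (S : Subgroup G) →
      ∃ u ∈ (S : Subgroup G), g⁻¹ * x * g = u⁻¹ * x * u) :
    Cfsg.HasNormalPComplement p G := by
  classical
  haveI hKn : (Cfsg.pResidual p G).Normal := Cfsg.Agent.Lib.H14.pResidual_normal'
  have hsup := Cfsg.Agent.Lib.H14.pResidual_sup_sylow S
  have hgen : Cfsg.pResidual p G ≤ Subgroup.closure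
      {g : G | g ∈ Cfsg.pResidual p G ∧ (orderOf g).Coprime p} := by
    conv_lhs => unfold Cfsg.pResidual
    apply Subgroup.closure_mono
    intro g hg
    exact ⟨Subgroup.subset_closure hg, hg⟩
  have hfoc := focalSubgroup_eq_of_control_fusion S hcf
  have hle : (Cfsg.pResidual p G).subgroupOf (S : Subgroup G) ≤ frattini (S : Subgroup G) := by
    intro s hs
    have hsK : s.1 ∈ Cfsg.pResidual p G := Subgroup.mem_subgroupOf.mp hs
    obtain ⟨k, hk⟩ := S.isPGroup' s
    have hk' : s.1 ^ p ^ k = 1 := by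
      have := congrArg Subtype.val hk
      simpa using this
    have h1 : s.1 ∈ commutator G :=
      Cfsg.Agent.Lib.H6.mem_commutator_of_mem_pResidual_sup p s.1 k hk'
        (Subgroup.mem_sup_left hsK)
    have h2 : s.1 ∈ commutator G ⊓ (S : Subgroup G) := ⟨h1, s.2⟩
    rw [Subgroup.commutator_inf_eq_focalSubgroup, hfoc,
      ← Subgroup.map_subtype_commutator] at h2
    obtain ⟨t, ht, hts⟩ := h2
    have : t = s := Subtype.ext hts
    rw [← this]
    exact Cfsg.Agent.Lib.H1.isPGroup_commutator_le_frattini S.isPGroup' ht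
  have hfr : ∀ M : Subgroup (S : Subgroup G),
      M ⊔ (Cfsg.pResidual p G).subgroupOf (S : Subgroup G) = ⊤ → M = ⊤ := by
    intro M hM
    apply frattini_nongenerating
    rw [eq_top_iff, ← hM]
    exact sup_le_sup_left hle _
  have hcore := tate_core S (Cfsg.pResidual p G) hsup hgen hfr
  refine ⟨S, Cfsg.pResidual p G, hKn, ?_⟩
  apply Subgroup.isComplement'_of_disjoint_and_mul_eq_univ (disjoint_iff.mpr hcore)
  rw [← Subgroup.normal_mul, hsup]; rfl

/-- A nilpotent Hall subgroup which controls its own elementwise fusion has a normal complement. -/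
theorem exists_normal_complement_of_nilpotent_hall_control_fusion [Finite G] (H : Subgroup G)
    (hH : Group.IsNilpotent H) (hHall : Nat.Coprime (Nat.card H) H.index)
    (hcf : ∀ x ∈ H, ∀ y ∈ H, (∃ g : G, g * x * g⁻¹ = y) → ∃ h ∈ H, h * x * h⁻¹ = y) :
    ∃ N : Subgroup G, N.Normal ∧ N.IsComplement' H := by
  classical
  apply exists_normal_complement_of_forall_hasNormalPComplement H hHall
  intro p hp hpH
  haveI : Fact p.Prime := ⟨hp⟩
  obtain ⟨P, hPH, hPp, hPcard, hPall⟩ := Cfsg.Agent.Lib.H8.sylow_of_nilpotent H hH p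
  have hpidx : ¬ p ∣ H.index := by
    intro h
    exact hp.one_lt.ne' (Nat.eq_one_of_dvd_coprimes hHall hpH h)
  have hfac : (Nat.card G).factorization p = (Nat.card H).factorization p := by
    rw [← Subgroup.card_mul_index H, Nat.factorization_mul (Nat.card_pos.ne')
      Subgroup.index_ne_zero_of_finite, Finsupp.add_apply,
      Nat.factorization_eq_zero_of_not_dvd hpidx, add_zero]
  obtain ⟨S, hS⟩ : ∃ S : Sylow p G, (S : Subgroup G) = P :=
    ⟨Sylow.ofCard P (by rw [hPcard, hfac]), rfl⟩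
  apply hasNormalPComplement_of_control_fusion S
  rw [hS]
  intro x hx g hxg
  obtain ⟨h, hh, hhx⟩ := hcf x (hPH hx) (g⁻¹ * x * g) (hPH hxg) ⟨g⁻¹, by rw [inv_inv]⟩
  obtain ⟨c₁, c₂, hc₁, hc₂, hdec, hc₁p, hc₂p⟩ :=
    Cfsg.Agent.Lib.H8.exists_p_decomp h (orderOf_pos h).ne' p hp
  have hzH : Subgroup.zpowers h ≤ H := by
    rw [Subgroup.zpowers_le]; exact hh
  have hc₁P : c₁ ∈ P := hPall c₁ (hzH hc₁) hc₁p
  have hcomm : c₂ * x = x * c₂ := by
    apply Cfsg.Agent.Lib.H8.mul_comm_of_coprime_of_mem_nilpotent H hH (hzH hc₂) (hPH hx)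
    obtain ⟨k, hk⟩ := (IsPGroup.iff_orderOf.mp hPp) ⟨x, hx⟩
    rw [Subgroup.orderOf_mk] at hk
    rw [hk]
    exact Nat.Coprime.pow_right k hc₂p
  refine ⟨c₁⁻¹, P.inv_mem hc₁P, ?_⟩
  rw [← hhx, hdec, inv_inv]
  calc c₁ * c₂ * x * (c₁ * c₂)⁻¹ = c₁ * (c₂ * x) * c₂⁻¹ * c₁⁻¹ := by group
    _ = c₁ * (x * c₂) * c₂⁻¹ * c₁⁻¹ := by rw [hcomm]
    _ = c₁ * x * c₁⁻¹ := by group

end Cfsg.Agent.Lib.L0
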