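import Cfsg.Agent.Lib.H23.BlockMinMax
import Cfsg.Agent.Lib.H23.BlockDefect
import Cfsg.Agent.Lib.H23.BlockVanishP
import Cfsg.Agent.Lib.H23.BlockCentralDefect
import Cfsg.Agent.Lib.L0.BlockMinMax
import Cfsg.Agent.Lib.L0.BlockQuotDefect
import Cfsg.Agent.Lib.L0.CharOps

/-!
# Separated classes and blocks (lead)

Brauer-type argument: if `x₁, …, x_r` are pairwise non-conjugate elements whose centralizers have
the common Sylow `p`-subgroup `D`, and no quotient `g h⁻¹` of conjugates of the `xᵢ` is a
non-identity `p`-element, then there are `r` distinct blocks with defect group `D` whose central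
characters form a matrix invertible modulo `M` on the classes of the `xᵢ`.

* `coeff_classSum_mul_inv`: coefficients of `K_x · K_{y⁻¹}`;
* `sum_centralChar_mul_mult`: the key identity
  `Σ_χ ω_χ(x) · [χ_P, 1_P] · conj χ(y) = δ_{x ~ y} [G : P]`;
* `irr_apply_memLocalIdeal_of_lt`: `χ(g)` lies in the local ideal when the `p`-part of the
  class size of `g` is smaller than that of `χ(1)`.
-/

set_option autoImplicit false

namespace Cfsg.Agent.Lib.L0.BlockSeparated

open Cfsg Cfsg.Agent.Lib.H23 Cfsg.Agent.Lib.H24 Cfsg.Agent.Lib.L0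
open scoped ComplexConjugate

section Count

variable {G : Type*} [Group G] [Fintype G]

theorem isConj_inv_iff {a b : G} : IsConj a⁻¹ b⁻¹ ↔ IsConj a b := by
  rw [isConj_iff, isConj_iff]
  constructor
  · rintro ⟨c, hc⟩
    refine ⟨c, ?_⟩
    have := congrArg (fun t => t⁻¹) hc
    simpa [mul_assoc] using this
  · rintro ⟨c, hc⟩
    refine ⟨c, ?_⟩
    rw [← hc]
    simp [mul_assoc]

theorem centralizer_inv (y : G) :
    Subgroup.centralizer ({y⁻¹} : Set G) = Subgroup.centralizer ({y} : Set G) := by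
  ext g
  simp only [Subgroup.mem_centralizer_iff, Set.mem_singleton_iff, forall_eq]
  constructor
  · intro h
    have hc : Commute y⁻¹ g := h
    exact (Commute.inv_left_iff.mp hc).eq
  · intro h
    have hc : Commute y g := h
    exact (Commute.inv_left_iff.mpr hc).eq

/-- The coefficient of `u` in `K_x · K_{y⁻¹}` vanishes if `u` is not of the form `g h⁻¹`. -/
theorem coeff_classSum_mul_inv_eq_zero (x y u : G)
    (hsep : ∀ g h : G, IsConj x g → IsConj y h → g * h⁻¹ ≠ u) :
    (classSum x * classSum y⁻¹).coeff u = 0 := by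
  classical
  rw [coeff_mul_eq_sum]
  apply Finset.sum_eq_zero
  intro h _
  rw [coeff_classSum, coeff_classSum]
  by_cases h1 : IsConj x h
  · by_cases h2 : IsConj y⁻¹ (h⁻¹ * u)
    · exfalso
      have h3 : IsConj y (u⁻¹ * h) := by
        apply isConj_inv_iff.mp
        rw [mul_inv_rev, inv_inv]
        exact h2
      apply hsep h (u⁻¹ * h) h1 h3
      group
    · rw [if_neg h2, mul_zero]
  · rw [if_neg h1, zero_mul]

/-- The coefficient of `1` in `K_x · K_{y⁻¹}`. -/
theorem coeff_classSum_mul_inv_one (x y : G) [Decidable (IsConj x y)] :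
    (classSum x * classSum y⁻¹).coeff 1 =
      if IsConj x y then ((Subgroup.centralizer ({y} : Set G)).index : ℂ) else 0 := by
  classical
  rw [coeff_mul_eq_sum]
  have h1 : ∀ h : G, (classSum x).coeff h * (classSum y⁻¹).coeff (h⁻¹ * 1) =
      if IsConj x h ∧ IsConj y h then 1 else 0 := by
    intro h
    rw [coeff_classSum, coeff_classSum, mul_one]
    have hiff : IsConj y⁻¹ h⁻¹ ↔ IsConj y h := isConj_inv_iff
    by_cases hx : IsConj x h
    · by_cases hy : IsConj y h
      · rw [if_pos hx, if_pos (hiff.mpr hy), if_pos ⟨hx, hy⟩, mul_one]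
      · have hn1 : ¬ IsConj y⁻¹ h⁻¹ := fun hh => hy (hiff.mp hh)
        have hn2 : ¬ (IsConj x h ∧ IsConj y h) := fun hh => hy hh.2
        rw [if_neg hn1, if_neg hn2, mul_zero]
    · have hn2 : ¬ (IsConj x h ∧ IsConj y h) := fun hh => hx hh.1
      rw [if_neg hx, if_neg hn2, zero_mul]
  rw [Finset.sum_congr rfl (fun h _ => h1 h)]
  split_ifs with hxy
  · have h2 : ∀ h : G, (IsConj x h ∧ IsConj y h) ↔ h ∈ conjFinset y := by
      intro h
      rw [mem_conjFinset]
      exact ⟨fun hh => hh.2, fun hh => ⟨hxy.trans hh, hh⟩⟩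
    rw [Finset.sum_boole, ← card_conjFinset y]
    congr 2
    ext h
    simp only [Finset.mem_filter, Finset.mem_univ, true_and]
    exact h2 h
  · apply Finset.sum_eq_zero
    intro h _
    rw [if_neg]
    rintro ⟨hx, hy⟩
    exact hxy (hx.trans hy.symm)

/-- Character expansion of the coefficients of `K_x · K_{y⁻¹}`. -/
theorem coeff_classSum_mul_inv [Fintype (IrrCharacter G)] (x y u : G) :
    (classSum x * classSum y⁻¹).coeff u = (Nat.card G : ℂ)⁻¹ *
      ∑ χ : IrrCharacter G, centralChar (χ : G → ℂ) x *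
        (((Subgroup.centralizer ({y} : Set G)).index : ℂ) * conj ((χ : G → ℂ) y)) *
        conj ((χ : G → ℂ) u) := by
  have hz : classSum x * classSum y⁻¹ ∈ Subalgebra.center ℂ (MonoidAlgebra ℂ G) :=
    Subalgebra.mul_mem _ (classSum_mem_center x) (classSum_mem_center y⁻¹)
  rw [coeff_eq_sum_omega hz u]
  congr 1
  refine Finset.sum_congr rfl (fun χ _ => ?_)
  have hcf := Cfsg.Agent.Lib.H24.irr_isClassFunction χ
  rw [omega_mul χ.2 (classSum_mem_center x), omega_classSum hcf, omega_classSum hcf]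
  have h1 : (χ : G → ℂ) 1 ≠ 0 := irr_one_ne_zero' χ.2
  have h2 : centralChar (χ : G → ℂ) y⁻¹ * (χ : G → ℂ) 1 =
      ((Subgroup.centralizer ({y} : Set G)).index : ℂ) * conj ((χ : G → ℂ) y) := by
    unfold centralChar
    rw [centralizer_inv, irr_inv χ y]
    field_simp
  rw [← h2]
  ring

end Count

section Key

variable {G : Type*} [Group G] [Fintype G] {p : ℕ} [Fact p.Prime]

/-- The multiplicity of the trivial character in the restriction to `P`. -/
theorem exists_mult (P : Subgroup G) [Fintype P] (χ : IrrCharacter G) :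
    ∃ m : ℕ, ∑ u : P, conj ((χ : G → ℂ) u) = (Nat.card P : ℂ) * m := by
  obtain ⟨m, hm⟩ := classInner_char_irr_nat
    (isCharacter_restrict P (isCharacter_of_irr χ.2)) (isIrrCharacter_one (G := P))
  refine ⟨m, ?_⟩
  unfold classInner at hm
  have hP0 : (Nat.card P : ℂ) ≠ 0 := by exact_mod_cast (Nat.card_pos (α := P)).ne'
  have h1 : ∑ u : P, (χ : G → ℂ) u = (Nat.card P : ℂ) * m := by
    have h2 : ∑ u : P, (χ : G → ℂ) u * conj ((1 : P → ℂ) u) = ∑ u : P, (χ : G → ℂ) u := by
      refine Finset.sum_congr rfl (fun u _ => ?_)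
      simp
    rw [h2] at hm
    rw [← hm, ← mul_assoc, mul_inv_cancel₀ hP0, one_mul]
  have h3 : ∑ u : P, conj ((χ : G → ℂ) u) = conj (∑ u : P, (χ : G → ℂ) u) :=
    (map_sum _ _ _).symm
  rw [h3, h1, map_mul, Complex.conj_natCast, Complex.conj_natCast]

/-- **Key identity.** -/
theorem sum_centralChar_mul_mult [Fintype (IrrCharacter G)] (P : Subgroup G) [Fintype P]
    (hP : IsPGroup p P) (m : IrrCharacter G → ℕ)
    (hm : ∀ χ : IrrCharacter G, ∑ u : P, conj ((χ : G → ℂ) u) = (Nat.card P : ℂ) * m χ)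
    (x y : G) [Decidable (IsConj x y)]
    (hsep : ∀ g h : G, IsConj x g → IsConj y h → ∀ k : ℕ, 0 < k → orderOf (g * h⁻¹) ≠ p ^ k) :
    ∑ χ : IrrCharacter G, centralChar (χ : G → ℂ) x * (m χ : ℂ) * conj ((χ : G → ℂ) y) =
      if IsConj x y then (P.index : ℂ) else 0 := by
  classical
  set z := classSum x * classSum y⁻¹ with hz
  have h1 : ∑ u : P, z.coeff (u : G) = z.coeff 1 := by
    rw [Finset.sum_eq_single (1 : P)]
    · rfl
    · intro u _ hu
      apply coeff_classSum_mul_inv_eq_zero
      intro g h hg hh heq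
      obtain ⟨k, hk⟩ := (IsPGroup.iff_orderOf.mp hP) u
      have hk' : orderOf (u : G) = p ^ k := by rw [Subgroup.orderOf_coe]; exact hk
      have hk0 : 0 < k := by
        rcases Nat.eq_zero_or_pos k with h0 | h0
        · exfalso
          rw [h0, pow_zero, orderOf_eq_one_iff] at hk
          exact hu hk
        · exact h0
      exact hsep g h hg hh k hk0 (by rw [heq]; exact hk')
    · intro h; exact absurd (Finset.mem_univ _) h
  have hG0 : (Nat.card G : ℂ) ≠ 0 := by exact_mod_cast (Nat.card_pos (α := G)).ne'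
  have hP0 : (Nat.card P : ℂ) ≠ 0 := by exact_mod_cast (Nat.card_pos (α := P)).ne'
  have hidx0 : ((Subgroup.centralizer ({y} : Set G)).index : ℂ) ≠ 0 := by
    exact_mod_cast (Subgroup.index_ne_zero_of_finite (H := Subgroup.centralizer ({y} : Set G)))
  have h2 : ∑ u : P, z.coeff (u : G) = (Nat.card G : ℂ)⁻¹ *
      (((Subgroup.centralizer ({y} : Set G)).index : ℂ) * (Nat.card P : ℂ)) *
      ∑ χ : IrrCharacter G, centralChar (χ : G → ℂ) x * (m χ : ℂ) * conj ((χ : G → ℂ) y) := by
    have : ∀ u : P, z.coeff (u : G) = (Nat.card G : ℂ)⁻¹ *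
        ∑ χ : IrrCharacter G, centralChar (χ : G → ℂ) x *
          (((Subgroup.centralizer ({y} : Set G)).index : ℂ) * conj ((χ : G → ℂ) y)) *
          conj ((χ : G → ℂ) u) := fun u => coeff_classSum_mul_inv x y u
    rw [Finset.sum_congr rfl (fun u _ => this u), ← Finset.mul_sum, Finset.sum_comm, mul_assoc]
    congr 1
    rw [Finset.mul_sum]
    refine Finset.sum_congr rfl (fun χ _ => ?_)
    rw [← Finset.mul_sum, hm χ]
    ring
  have h3 := coeff_classSum_mul_inv_one x y
  rw [← hz, ← h1, h2] at h3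
  have hidx : (P.index : ℂ) * (Nat.card P : ℂ) = (Nat.card G : ℂ) := by
    exact_mod_cast P.index_mul_card
  split_ifs at h3 ⊢ with hxy
  · have h4 : (Nat.card G : ℂ)⁻¹ * (((Subgroup.centralizer ({y} : Set G)).index : ℂ) *
        (Nat.card P : ℂ)) ≠ 0 := mul_ne_zero (inv_ne_zero hG0) (mul_ne_zero hidx0 hP0)
    apply mul_left_cancel₀ h4
    rw [h3, ← hidx]
    have hPi : (P.index : ℂ) ≠ 0 := by
      intro h0
      rw [h0, zero_mul] at hidx
      exact hG0 hidx.symm
    field_simp
  · have h4 : (Nat.card G : ℂ)⁻¹ * (((Subgroup.centralizer ({y} : Set G)).index : ℂ) *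
        (Nat.card P : ℂ)) ≠ 0 := mul_ne_zero (inv_ne_zero hG0) (mul_ne_zero hidx0 hP0)
    exact (mul_eq_zero.mp h3).resolve_left h4

end Key

section Local

variable {G : Type*} [Group G] [Fintype G] {p : ℕ} [Fact p.Prime] {M : Ideal AlgInt}

/-- `χ(g)` lies in the local ideal when the `p`-part of the class size of `g` is smaller than the
`p`-part of `χ(1)`. -/
theorem irr_apply_memLocalIdeal_of_lt (hM : IsPModular p M) (χ : IrrCharacter G) (g : G)
    (h : ((Subgroup.centralizer ({g} : Set G)).index).factorization p <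
      (charDegree (χ : G → ℂ)).factorization p) :
    MemLocalIdeal M ((χ : G → ℂ) g) := by
  haveI hPr := isPrime_of_isPModular hM
  have hp : p.Prime := Fact.out
  have hn0 : charDegree (χ : G → ℂ) ≠ 0 :=
    (Cfsg.Agent.Lib.H23.charDegree_pos _ χ.2).ne'
  have hk0 : (Subgroup.centralizer ({g} : Set G)).index ≠ 0 := Subgroup.index_ne_zero_of_finite
  have h1 : (χ : G → ℂ) 1 = (charDegree (χ : G → ℂ) : ℂ) :=
    Cfsg.Agent.Lib.H23.apply_one_eq_charDegree _ χ.2
  generalize hn : charDegree (χ : G → ℂ) = n at *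
  generalize hk : (Subgroup.centralizer ({g} : Set G)).index = k at *
  have hnd : p ^ n.factorization p * (n / p ^ n.factorization p) = n :=
    Nat.ordProj_mul_ordCompl_eq_self n p
  have hkd : p ^ k.factorization p * (k / p ^ k.factorization p) = k :=
    Nat.ordProj_mul_ordCompl_eq_self k p
  have hv : ¬ p ∣ k / p ^ k.factorization p := Nat.not_dvd_ordCompl hp hk0
  have hω : MemLocalRing M (centralChar (χ : G → ℂ) g) := coe_mem_localRing (omegaInt χ g)
  have hnC : (n : ℂ) = (p : ℂ) ^ n.factorization p * ((n / p ^ n.factorization p : ℕ) : ℂ) := by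
    exact_mod_cast hnd.symm
  have hkC : (k : ℂ) = (p : ℂ) ^ k.factorization p * ((k / p ^ k.factorization p : ℕ) : ℂ) := by
    exact_mod_cast hkd.symm
  have hpt : (p : ℂ) ^ n.factorization p =
      (p : ℂ) ^ k.factorization p * (p : ℂ) ^ (n.factorization p - k.factorization p) := by
    rw [← pow_add]; congr 1; omega
  have hp0 : (p : ℂ) ≠ 0 := Nat.cast_ne_zero.2 hp.ne_zero
  have hn'0 : ((n / p ^ n.factorization p : ℕ) : ℂ) ≠ 0 := by
    intro h0
    rw [h0, mul_zero] at hnC
    exact hn0 (by exact_mod_cast hnC)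
  have hk'0 : ((k / p ^ k.factorization p : ℕ) : ℂ) ≠ 0 := by
    intro h0
    rw [h0, mul_zero] at hkC
    exact hk0 (by exact_mod_cast hkC)
  have key : (χ : G → ℂ) g = centralChar (χ : G → ℂ) g *
      (((p : ℂ) ^ (n.factorization p - k.factorization p) * ((1 : ℤ) : ℂ) *
        ((n / p ^ n.factorization p : ℕ) : ℂ)) / ((k / p ^ k.factorization p : ℕ) : ℂ)) := by
    unfold centralChar
    rw [h1, hk]
    conv_rhs => rw [hnC, hkC, hpt]
    have := pow_ne_zero (k.factorization p) hp0
    have := pow_ne_zero (n.factorization p - k.factorization p) hp0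
    field_simp
    push_cast
    ring
  rw [key]
  exact memLocalIdeal_mul_left hω (memLocalIdeal_pow_mul_div hM (by omega) 1 hv _)

end Local

end Cfsg.Agent.Lib.L0.BlockSeparated

namespace Cfsg.Agent.Lib.L0.BlockSeparated

open Cfsg Cfsg.Agent.Lib.H23 Cfsg.Agent.Lib.H24 Cfsg.Agent.Lib.L0 Cfsg.Agent.Lib.L0.BlockMinMax
open scoped ComplexConjugate

section Main

variable {G : Type*} [Group G] [Fintype G] {p : ℕ} [Fact p.Prime] {M : Ideal AlgInt}

theorem separated_blocks (hM : IsPModular p M) (D : Subgroup G) {r : ℕ} (x : Fin r → G)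
    (hx : ∀ i j : Fin r, IsConj (x i) (x j) → i = j)
    (hD : ∀ i : Fin r, ∃ S : Sylow p ↥(Subgroup.centralizer ({x i} : Set G)),
      (S : Subgroup ↥(Subgroup.centralizer ({x i} : Set G))).map
        (Subgroup.centralizer ({x i} : Set G)).subtype = D)
    (hsep : ∀ i j : Fin r, ∀ g h : G, IsConj (x i) g → IsConj (x j) h → ∀ k : ℕ, 0 < k →
      orderOf (g * h⁻¹) ≠ p ^ k) :
    ∃ B : Fin r → Set (IrrCharacter G), Function.Injective B ∧
      (∀ i : Fin r, IsPBlock M (B i) ∧ IsDefectGroup p M (B i) D) ∧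
      ∀ χ : Fin r → IrrCharacter G,
        (∀ i : Fin r, χ i ∈ B i ∧ blockHeight p (B i) (χ i : G → ℂ) = 0) →
        ¬ MemLocalIdeal M (Matrix.det (Matrix.of fun i j : Fin r => (χ i : G → ℂ) (x j))) := by
  classical
  haveI hPr := isPrime_of_isPModular hM
  haveI hmax : M.IsMaximal := hM.2.1
  haveI := Fintype.ofFinite (IrrCharacter G)
  have hp : p.Prime := Fact.out
  letI : Field (AlgInt ⧸ M) := Ideal.Quotient.field M
  obtain ⟨P⟩ : Nonempty (Sylow p G) := inferInstance
  haveI : Fintype (P : Subgroup G) := Fintype.ofFinite _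
  choose m hm using fun χ : IrrCharacter G => exists_mult (P : Subgroup G) χ
  have hkey : ∀ i j : Fin r, ∑ χ : IrrCharacter G,
      centralChar (χ : G → ℂ) (x i) * (m χ : ℂ) * conj ((χ : G → ℂ) (x j)) =
      if i = j then ((P : Subgroup G).index : ℂ) else 0 := by
    intro i j
    rw [sum_centralChar_mul_mult (P : Subgroup G) P.isPGroup' m hm (x i) (x j) (hsep i j)]
    by_cases hij : i = j
    · subst hij; rw [if_pos (IsConj.refl _), if_pos rfl]
    · rw [if_neg (fun h => hij (hx i j h)), if_neg hij]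
  set a := (Nat.card G).factorization p with ha
  set d := (Nat.card D).factorization p with hd
  have hcent : ∀ i, (Nat.card (Subgroup.centralizer ({x i} : Set G))).factorization p = d := by
    intro i
    obtain ⟨S, hS⟩ := hD i
    have h1 : Nat.card D = Nat.card (S : Subgroup (Subgroup.centralizer ({x i} : Set G))) := by
      rw [← hS, Subgroup.card_map_of_injective (Subgroup.subtype_injective _)]
    rw [hd, h1, S.card_eq_multiplicity, hp.factorization_pow, Finsupp.single_eq_same]
  have hDcard : ∀ i : Fin r, Nat.card D = p ^ d := by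
    intro i
    obtain ⟨S, hS⟩ := hD i
    have h1 : Nat.card D = Nat.card (S : Subgroup (Subgroup.centralizer ({x i} : Set G))) := by
      rw [← hS, Subgroup.card_map_of_injective (Subgroup.subtype_injective _)]
    rw [h1, S.card_eq_multiplicity, hcent i]
  have hidx : ∀ i, ((Subgroup.centralizer ({x i} : Set G)).index).factorization p + d = a := by
    intro i
    have := factorization_card_eq (p := p) (x i)
    rw [hcent i] at this
    omega
  -- integral versions
  let cInt : IrrCharacter G → Fin r → AlgInt := fun χ j =>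
    ⟨conj ((χ : G → ℂ) (x j)), isIntegral_conj (irr_isIntegral χ (x j))⟩
  have hkeyInt : ∀ i j : Fin r, ∑ χ : IrrCharacter G,
      omegaInt χ (x i) * (m χ : AlgInt) * cInt χ j =
      if i = j then (((P : Subgroup G).index : ℕ) : AlgInt) else 0 := by
    intro i j
    apply Subtype.val_injective
    have h1 := hkey i j
    have h2 : ((∑ χ : IrrCharacter G, omegaInt χ (x i) * (m χ : AlgInt) * cInt χ j : AlgInt) : ℂ) =
        ∑ χ : IrrCharacter G,
          centralChar (χ : G → ℂ) (x i) * (m χ : ℂ) * conj ((χ : G → ℂ) (x j)) := by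
      push_cast
      rfl
    rw [h2, h1]
    split_ifs <;> simp
  let mk : AlgInt →+* (AlgInt ⧸ M) := Ideal.Quotient.mk M
  let v : IrrCharacter G → (Fin r → AlgInt ⧸ M) := fun χ i => mk (omegaInt χ (x i))
  let c : IrrCharacter G → Fin r → AlgInt ⧸ M := fun χ j => mk ((m χ : AlgInt) * cInt χ j)
  set gbar : AlgInt ⧸ M := mk (((P : Subgroup G).index : ℕ) : AlgInt) with hgbar
  have hgbar0 : gbar ≠ 0 := by
    rw [hgbar]
    intro h0
    rw [Ideal.Quotient.eq_zero_iff_mem, ← memLocalIdeal_coe_iff] at h0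
    have h1 : MemLocalIdeal M (((P : Subgroup G).index : ℕ) : ℂ) := by
      simpa using h0
    exact P.not_dvd_index ((natCast_memLocalIdeal_iff hM _).mp h1)
  have hkeyF : ∀ i j : Fin r, ∑ χ : IrrCharacter G, v χ i * c χ j =
      if i = j then gbar else 0 := by
    intro i j
    have h1 := congrArg mk (hkeyInt i j)
    rw [map_sum] at h1
    have h2 : ∀ χ : IrrCharacter G, mk (omegaInt χ (x i) * (m χ : AlgInt) * cInt χ j) =
        v χ i * c χ j := by
      intro χ
      show _ = mk _ * mk _
      rw [← map_mul, mul_assoc]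
    rw [Finset.sum_congr rfl (fun χ _ => h2 χ)] at h1
    rw [h1]
    split_ifs
    · rfl
    · exact map_zero mk
  have hv_same : ∀ χ ψ : IrrCharacter G, ψ ∈ blockOf M (χ : G → ℂ) → v χ = v ψ := by
    intro χ ψ h
    funext i
    exact (Ideal.Quotient.eq).mpr ((sameBlock_iff_omegaInt χ ψ).1 h (x i))
  let X : Set (IrrCharacter G) := {χ | (charDegree (χ : G → ℂ)).factorization p + d ≤ a}
  have hcX : ∀ χ : IrrCharacter G, χ ∉ X → ∀ j, c χ j = 0 := by
    intro χ hχ j
    have hlt : ((Subgroup.centralizer ({(x j)⁻¹} : Set G)).index).factorization p <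
        (charDegree (χ : G → ℂ)).factorization p := by
      rw [centralizer_inv]
      have h1 := hidx j
      have h2 : ¬ ((charDegree (χ : G → ℂ)).factorization p + d ≤ a) := hχ
      omega
    have h1 := irr_apply_memLocalIdeal_of_lt hM χ (x j)⁻¹ hlt
    rw [irr_inv χ (x j)] at h1
    have h2 : cInt χ j ∈ M := (memLocalIdeal_coe_iff (cInt χ j)).mp h1
    show mk _ = 0
    rw [Ideal.Quotient.eq_zero_iff_mem]
    exact M.mul_mem_left _ h2
  have hspan : Submodule.span (AlgInt ⧸ M) (v '' X) = ⊤ := by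
    rw [eq_top_iff, ← (Pi.basisFun (AlgInt ⧸ M) (Fin r)).span_eq, Submodule.span_le]
    rintro _ ⟨j, rfl⟩
    have hsum : gbar • (Pi.basisFun (AlgInt ⧸ M) (Fin r) j) =
        ∑ χ : IrrCharacter G, c χ j • v χ := by
      funext i
      rw [Finset.sum_apply]
      simp only [Pi.basisFun_apply, Pi.smul_apply, smul_eq_mul, Pi.single_apply]
      rw [Finset.sum_congr rfl (fun χ _ => mul_comm (c χ j) (v χ i)), hkeyF i j]
      split_ifs <;> simp
    have hmem : ∑ χ : IrrCharacter G, c χ j • v χ ∈ Submodule.span (AlgInt ⧸ M) (v '' X) := by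
      apply Submodule.sum_mem
      intro χ _
      by_cases hχ : χ ∈ X
      · exact Submodule.smul_mem _ _ (Submodule.subset_span ⟨χ, hχ, rfl⟩)
      · rw [hcX χ hχ j, zero_smul]; exact Submodule.zero_mem _
    have h3 : Pi.basisFun (AlgInt ⧸ M) (Fin r) j =
        gbar⁻¹ • (gbar • Pi.basisFun (AlgInt ⧸ M) (Fin r) j) := by
      rw [smul_smul, inv_mul_cancel₀ hgbar0, one_smul]
    rw [SetLike.mem_coe, h3, hsum]
    exact Submodule.smul_mem _ _ hmem
  obtain ⟨b, hbX, hbspan, hbli⟩ := exists_linearIndependent (AlgInt ⧸ M) (v '' X)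
  have hbtop : ⊤ ≤ Submodule.span (AlgInt ⧸ M)
      (Set.range ((↑) : b → Fin r → AlgInt ⧸ M)) := by
    rw [Subtype.range_coe, hbspan, hspan]
  let bas : Module.Basis b (AlgInt ⧸ M) (Fin r → AlgInt ⧸ M) := Module.Basis.mk hbli hbtop
  let e : b ≃ Fin r := bas.indexEquiv (Pi.basisFun (AlgInt ⧸ M) (Fin r))
  have hsel : ∀ s : Fin r, ∃ χ : IrrCharacter G, χ ∈ X ∧
      v χ = ((e.symm s : b) : Fin r → AlgInt ⧸ M) := by
    intro s
    obtain ⟨χ, hχ, hv⟩ := hbX (e.symm s).2
    exact ⟨χ, hχ, hv⟩
  choose χs hχsX hχsv using hsel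
  have hli : LinearIndependent (AlgInt ⧸ M) (fun s => v (χs s)) := by
    have h1 : (fun s => v (χs s)) = ((↑) : b → Fin r → AlgInt ⧸ M) ∘ e.symm := funext hχsv
    rw [h1]
    exact hbli.comp _ e.symm.injective
  have hdetA : (Matrix.of fun s i => v (χs s) i).det ≠ 0 := by
    have h1 : LinearIndependent (AlgInt ⧸ M) (Matrix.of fun s i => v (χs s) i).row := hli
    have h2 := Matrix.linearIndependent_rows_iff_isUnit.mp h1
    exact ((Matrix.isUnit_iff_isUnit_det _).mp h2).ne_zero
  -- defect groups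
  have hdef : ∀ s, IsDefectGroup p M (blockOf M (χs s : G → ℂ)) D ∧
      blockDefect p (blockOf M (χs s : G → ℂ)) = d := by
    intro s
    have hne : v (χs s) ≠ 0 := hli.ne_zero s
    obtain ⟨i, hi⟩ : ∃ i, v (χs s) i ≠ 0 := by
      by_contra hcon
      push Not at hcon
      exact hne (funext hcon)
    have hω : ¬ MemLocalIdeal M (centralChar (χs s : G → ℂ) (x i)) := by
      intro hmem
      apply hi
      show mk (omegaInt (χs s) (x i)) = 0
      rw [Ideal.Quotient.eq_zero_iff_mem, ← memLocalIdeal_coe_iff]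
      exact hmem
    obtain ⟨E, hE⟩ := exists_isDefectGroup hM (χs s)
    have hEcard := card_defectGroup hM (χs s) E hE
    have hE' := hE
    obtain ⟨k, hk, R, hER⟩ := hE'
    have hEk : E ≤ Subgroup.centralizer ({k} : Set G) := by
      rw [hER]; exact Subgroup.map_subtype_le _
    have hEp : IsPGroup p E := by
      rw [hER]; exact R.isPGroup'.map _
    obtain ⟨y, hy, hEy⟩ := exists_conj_centralized hM (χs s) k (x i) hk.2.1 (χs s)
      (mem_blockOf_self _) hω E hEp hEk
    obtain ⟨c₁, R', hER'⟩ := exists_sylow_centralizer_conj E hEp hy hEy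
    obtain ⟨S, hS⟩ := hD i
    obtain ⟨c₂, hc₂⟩ := sylow_map_conj (Subgroup.centralizer ({x i} : Set G)) S R'
    rw [hc₂, hS, map_conj_map_conj] at hER'
    have hdge : d ≤ blockDefect p (blockOf M (χs s : G → ℂ)) := by
      have h1 := minDeg_le (p := p) (χs s) (mem_blockOf_self (M := M) (χs s))
      have h2 : (charDegree (χs s : G → ℂ)).factorization p + d ≤ a := hχsX s
      have h3 := minDeg_eq_sub_blockDefect (p := p) (M := M) (χs s)
      have h4 : blockDefect p (blockOf M (χs s : G → ℂ)) ≤ a := by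
        unfold blockDefect; exact Nat.sub_le _ _
      omega
    have hcardle : Nat.card (D.map (MulAut.conj (c₁ * c₂)).toMonoidHom) ≤ Nat.card E := by
      rw [Subgroup.card_map_of_injective (MulAut.conj (c₁ * c₂)).injective, hDcard i, hEcard]
      exact Nat.pow_le_pow_right hp.pos hdge
    have hEeq : E = D.map (MulAut.conj (c₁ * c₂)).toMonoidHom :=
      Subgroup.eq_of_le_of_card_ge hER' hcardle
    have hDE : D = E.map (MulAut.conj (c₁ * c₂)⁻¹).toMonoidHom := by
      rw [hEeq, map_conj_map_conj, inv_mul_cancel]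
      ext g
      simp
    constructor
    · rw [hDE]
      exact Cfsg.Agent.Lib.L0.BlockQuotDefect.isDefectGroup_map_conj hE _
    · have h1 : p ^ blockDefect p (blockOf M (χs s : G → ℂ)) = p ^ d := by
        rw [← hEcard, hEeq, Subgroup.card_map_of_injective (MulAut.conj (c₁ * c₂)).injective,
          hDcard i]
      exact Nat.pow_right_injective hp.two_le h1
  refine ⟨fun s => blockOf M (χs s : G → ℂ), ?_, fun s => ⟨⟨χs s, rfl⟩, (hdef s).1⟩, ?_⟩
  · intro s t hst
    have hmem : χs t ∈ blockOf M (χs s : G → ℂ) := by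
      have h1 : χs t ∈ blockOf M (χs t : G → ℂ) := mem_blockOf_self _
      have h2 : blockOf M (χs s : G → ℂ) = blockOf M (χs t : G → ℂ) := hst
      rw [h2]
      exact h1
    exact hli.injective (hv_same _ _ hmem)
  · intro χ' hχ'
    have hv' : ∀ s, v (χ' s) = v (χs s) := fun s => (hv_same _ _ (hχ' s).1).symm
    have hdeg : ∀ s, (charDegree (χ' s : G → ℂ)).factorization p + d = a := by
      intro s
      obtain ⟨hmem, hht⟩ := hχ' s
      have h1 := minDeg_le (p := p) (χs s) hmem
      have h2 := minDeg_eq_sub_blockDefect (p := p) (M := M) (χs s)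
      rw [(hdef s).2] at h2
      have h3 : (charDegree (χ' s : G → ℂ)).factorization p -
          minDeg p (blockOf M (χs s : G → ℂ)) = 0 := hht
      have h4 : blockDefect p (blockOf M (χs s : G → ℂ)) ≤ a := by
        unfold blockDefect; exact Nat.sub_le _ _
      rw [(hdef s).2] at h4
      omega
    -- p'-parts
    have hu : ∀ s, ∃ u : ℕ, charDegree (χ' s : G → ℂ) = p ^ (a - d) * u ∧ ¬ p ∣ u := by
      intro s
      have h0 : charDegree (χ' s : G → ℂ) ≠ 0 :=
        (Cfsg.Agent.Lib.H23.charDegree_pos _ (χ' s).2).ne'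
      refine ⟨charDegree (χ' s : G → ℂ) / p ^ (a - d), ?_, ?_⟩
      · have h1 := Nat.ordProj_mul_ordCompl_eq_self (charDegree (χ' s : G → ℂ)) p
        have h2 : (charDegree (χ' s : G → ℂ)).factorization p = a - d := by
          have := hdeg s; omega
        rw [h2] at h1
        exact h1.symm
      · have h2 : (charDegree (χ' s : G → ℂ)).factorization p = a - d := by
          have := hdeg s; omega
        rw [← h2]
        exact Nat.not_dvd_ordCompl hp h0
    have hn : ∀ j, ∃ n : ℕ, (Subgroup.centralizer ({x j} : Set G)).index = p ^ (a - d) * n ∧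
        ¬ p ∣ n := by
      intro j
      have h0 : (Subgroup.centralizer ({x j} : Set G)).index ≠ 0 :=
        Subgroup.index_ne_zero_of_finite
      have h2 : ((Subgroup.centralizer ({x j} : Set G)).index).factorization p = a - d := by
        have := hidx j; omega
      refine ⟨(Subgroup.centralizer ({x j} : Set G)).index / p ^ (a - d), ?_, ?_⟩
      · have h1 := Nat.ordProj_mul_ordCompl_eq_self (Subgroup.centralizer ({x j} : Set G)).index p
        rw [h2] at h1
        exact h1.symm
      · rw [← h2]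
        exact Nat.not_dvd_ordCompl hp h0
    choose u hu1 hu2 using hu
    choose n hn1 hn2 using hn
    let Ω' : Matrix (Fin r) (Fin r) AlgInt := Matrix.of fun s j => omegaInt (χ' s) (x j)
    have hp0 : ((p : ℂ) ^ (a - d)) ≠ 0 := pow_ne_zero _ (Nat.cast_ne_zero.2 hp.ne_zero)
    have hmat : Matrix.diagonal (fun s => (u s : ℂ)) * (AlgInt.val.mapMatrix Ω') =
        (Matrix.of fun i j : Fin r => (χ' i : G → ℂ) (x j)) *
          Matrix.diagonal (fun j => (n j : ℂ)) := by
      ext s j
      rw [Matrix.diagonal_mul, Matrix.mul_diagonal]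
      show (u s : ℂ) * centralChar (χ' s : G → ℂ) (x j) = (χ' s : G → ℂ) (x j) * (n j : ℂ)
      unfold centralChar
      rw [Cfsg.Agent.Lib.H23.apply_one_eq_charDegree _ (χ' s).2, hu1 s, hn1 j]
      have hus : (u s : ℂ) ≠ 0 := by
        intro h0
        have : u s = 0 := by exact_mod_cast h0
        exact hu2 s (by rw [this]; exact dvd_zero p)
      push_cast
      field_simp
    have hdet := congrArg Matrix.det hmat
    rw [Matrix.det_mul, Matrix.det_mul, Matrix.det_diagonal, Matrix.det_diagonal] at hdet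
    intro hmem
    have hnR : MemLocalRing M (∏ j, (n j : ℂ)) :=
      memLocalRing_prod _ _ (fun j _ => natCast_mem_localRing (n j))
    have h1 : MemLocalIdeal M ((Matrix.of fun i j : Fin r => (χ' i : G → ℂ) (x j)).det *
        ∏ j, (n j : ℂ)) := memLocalIdeal_mul_right hmem hnR
    rw [← hdet] at h1
    have huR : MemLocalRing M (∏ s, (u s : ℂ)) :=
      memLocalRing_prod _ _ (fun s _ => natCast_mem_localRing (u s))
    have h2 : ¬ MemLocalIdeal M (∏ s, (u s : ℂ)) := by
      rw [← Nat.cast_prod, natCast_memLocalIdeal_iff hM]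
      intro hdvd
      obtain ⟨s, -, hs⟩ := (Prime.dvd_finsetProd_iff hp.prime _).mp hdvd
      exact hu2 s hs
    have h3 := memLocalIdeal_of_mul huR h2 h1
    have h4 : (AlgInt.val.mapMatrix Ω').det = ((Ω'.det : AlgInt) : ℂ) :=
      (AlgHom.map_det AlgInt.val Ω').symm
    rw [h4, memLocalIdeal_coe_iff] at h3
    have h5 : mk Ω'.det = 0 := Ideal.Quotient.eq_zero_iff_mem.mpr h3
    rw [RingHom.map_det] at h5
    have h6 : mk.mapMatrix Ω' = Matrix.of fun s i => v (χs s) i := by
      ext s i
      exact congrFun (hv' s) i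
    rw [h6] at h5
    exact hdetA h5

end Main

end Cfsg.Agent.Lib.L0.BlockSeparated
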