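import Cfsg.Agent.Lib.L0.DihedralFusion
import Cfsg.Agent.Lib.H16.ThompsonTransfer

/-!
# Involutions in groups with dihedral Sylow 2-subgroups (lead's library)

* `klein_three` : if `3 ∣ |N(U) : C(U)|` for a Klein four subgroup `U`, then `N(U)` is transitive on
  the involutions of `U`.
* `relIndex_of_dihedral_rotation` : the rotation subgroup has index two.
-/

set_option autoImplicit false

universe u

namespace Cfsg.Agent.Lib.L0

variable {G : Type*} [Group G]

/-- If `3` divides `|N(U) : C(U)|` for a Klein four subgroup `U`, then `N(U)` acts transitively on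
the three involutions of `U`. -/
theorem klein_three (U : Subgroup G) (hU : IsKleinFour U)
    (h3 : 3 ∣ (Subgroup.centralizer (U : Set G)).relIndex (Subgroup.normalizer (U : Set G))) :
    ∀ a ∈ U, ∀ b ∈ U, a ≠ 1 → b ≠ 1 →
      ∃ g ∈ Subgroup.normalizer (U : Set G), g * a * g⁻¹ = b := by
  classical
  have hfin : Finite U := Nat.finite_of_card_ne_zero (by rw [hU.card_four]; norm_num)
  have hp3 : Fact (Nat.Prime 3) := ⟨Nat.prime_three⟩
  set φ := U.normalizerMonoidHom with hφ
  have hidx : (Subgroup.centralizer (U : Set G)).relIndex (Subgroup.normalizer (U : Set G)) =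
      Nat.card φ.range := by
    rw [← Subgroup.index_ker, hφ, Subgroup.normalizerMonoidHom_ker]; rfl
  rw [hidx] at h3
  obtain ⟨⟨α, hα⟩, hord⟩ := exists_prime_orderOf_dvd_card' 3 h3
  rw [Subgroup.orderOf_mk] at hord
  obtain ⟨n, rfl⟩ := hα
  set α := φ n with hαdef
  have hα3 : α ^ 3 = 1 := by rw [← hord]; exact pow_orderOf_eq_one α
  have hα1 : α ≠ 1 := by
    intro h; rw [h, orderOf_one] at hord; omega
  -- an element moved by α
  have hex : ∃ a₀ : U, α a₀ ≠ a₀ := by
    by_contra hcon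
    push Not at hcon
    exact hα1 (MulEquiv.ext hcon)
  obtain ⟨a₀, ha₀⟩ := hex
  have hcube : ∀ u : U, α (α (α u)) = u := by
    intro u
    have : (α ^ 3) u = u := by rw [hα3]; rfl
    simpa [pow_succ, MulAut.mul_apply] using this
  set b₀ := α a₀ with hb₀
  set c₀ := α b₀ with hc₀
  have hαc : α c₀ = a₀ := hcube a₀
  have ha1 : a₀ ≠ 1 := by
    intro h; apply ha₀; rw [hb₀, h, map_one]
  have hb1 : b₀ ≠ 1 := by
    intro h; apply ha1
    have : α a₀ = α 1 := by rw [map_one]; exact h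
    exact α.injective this
  have hab : a₀ ≠ b₀ := fun h => ha₀ h.symm
  have hc1 : c₀ ≠ 1 := by
    intro h; apply hb1
    have : α b₀ = α 1 := by rw [map_one]; exact h
    exact α.injective this
  have hcb : c₀ ≠ b₀ := by
    intro h
    exact hab (α.injective h).symm
  have hca : c₀ ≠ a₀ := by
    intro h
    apply ha₀
    have h1 : α c₀ = α a₀ := by rw [h]
    rw [hαc] at h1
    exact h1.symm
  have hcmul : c₀ = a₀ * b₀ :=
    IsKleinFour.eq_mul_of_ne_all ha1 hb1 hab hc1 hca hcb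
  -- every non-identity element is one of a₀, b₀, c₀
  have hall : ∀ u : U, u ≠ 1 → u = a₀ ∨ u = b₀ ∨ u = c₀ := by
    intro u hu
    by_contra hcon
    push Not at hcon
    have := IsKleinFour.eq_mul_of_ne_all ha1 hb1 hab hu hcon.1 hcon.2.1
    exact hcon.2.2 (this.trans hcmul.symm)
  -- powers of `n` realize powers of α
  have hpow : ∀ (k : ℕ) (u : U), (((α ^ k) u : U) : G) = (n ^ k : G) * u * ((n ^ k : G))⁻¹ := by
    intro k u
    have : α ^ k = φ (n ^ k) := by rw [map_pow]
    rw [this]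
    rfl
  have hmain : ∀ u v : U, u ≠ 1 → v ≠ 1 → ∃ k : ℕ, (α ^ k) u = v := by
    intro u v hu hv
    have e1 : (α ^ 1) a₀ = b₀ := by simp [hb₀]
    have e2 : (α ^ 2) a₀ = c₀ := by simp [pow_succ, MulAut.mul_apply, hc₀, hb₀]
    have e3 : (α ^ 1) b₀ = c₀ := by simp [hc₀]
    have e4 : (α ^ 2) b₀ = a₀ := by
      simp only [pow_succ, pow_zero, one_mul, MulAut.mul_apply]
      exact hαc
    have e5 : (α ^ 1) c₀ = a₀ := by simpa using hαc
    have e6 : (α ^ 2) c₀ = b₀ := by
      simp only [pow_succ, pow_zero, one_mul, MulAut.mul_apply]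
      rw [hαc]
    rcases hall u hu with rfl | rfl | rfl <;> rcases hall v hv with rfl | rfl | rfl
    · exact ⟨0, by simp⟩
    · exact ⟨1, e1⟩
    · exact ⟨2, e2⟩
    · exact ⟨2, e4⟩
    · exact ⟨0, by simp⟩
    · exact ⟨1, e3⟩
    · exact ⟨1, e5⟩
    · exact ⟨2, e6⟩
    · exact ⟨0, by simp⟩
  intro a ha b hb ha1' hb1'
  have hu : (⟨a, ha⟩ : U) ≠ 1 := fun h => ha1' (congrArg Subtype.val h)
  have hv : (⟨b, hb⟩ : U) ≠ 1 := fun h => hb1' (congrArg Subtype.val h)
  obtain ⟨k, hk⟩ := hmain ⟨a, ha⟩ ⟨b, hb⟩ hu hv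
  refine ⟨(n ^ k : G), Subgroup.pow_mem _ n.2 k, ?_⟩
  have := hpow k ⟨a, ha⟩
  rw [hk] at this
  exact this.symm

/-- The rotation subgroup has index two. -/
theorem relIndex_of_dihedral_rotation (P R₀ : Subgroup G) (m : ℕ) (e : P ≃* DihedralGroup m)
    (hmem : ∀ a : P, (a : G) ∈ R₀ ↔ ∃ i, e a = DihedralGroup.r i) : R₀.relIndex P = 2 := by
  show (R₀.subgroupOf P).index = 2
  rw [Subgroup.index_eq_two_iff]
  refine ⟨e.symm (DihedralGroup.sr 0), fun b => ?_⟩
  rw [Subgroup.mem_subgroupOf, Subgroup.mem_subgroupOf, hmem, hmem, map_mul,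
    MulEquiv.apply_symm_apply]
  cases h : e b with
  | r j =>
    rw [DihedralGroup.r_mul_sr]
    refine Or.inr ⟨⟨j, rfl⟩, ?_⟩
    rintro ⟨i, hi⟩
    cases hi
  | sr j =>
    rw [DihedralGroup.sr_mul_sr]
    refine Or.inl ⟨⟨_, rfl⟩, ?_⟩
    rintro ⟨i, hi⟩
    cases hi

/-- An odd-order element normalizing a Klein four group and fixing one of its involutions
centralizes it. -/
theorem klein_fix (U : Subgroup G) (hU : IsKleinFour U) (t : G) (htU : t ∈ U) (ht1 : t ≠ 1)
    (g : G) (hg : g ∈ Subgroup.normalizer (U : Set G)) (hgt : g * t * g⁻¹ = t)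
    (hodd : (orderOf g).Coprime 2) : g ∈ Subgroup.centralizer (U : Set G) := by
  apply mem_centralizer_of_normalizerMonoidHom_pow U hg 2 hodd
  set α := U.normalizerMonoidHom ⟨g, hg⟩ with hα
  set t' : U := ⟨t, htU⟩ with ht'
  have hαt : α t' = t' := Subtype.ext hgt
  have ht'1 : t' ≠ 1 := fun h => ht1 (congrArg Subtype.val h)
  apply MulEquiv.ext
  intro u
  show (α ^ 2) u = u
  rw [pow_two, MulAut.mul_apply]
  by_cases hu1 : u = 1
  · rw [hu1, map_one, map_one]
  by_cases hut : u = t'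
  · rw [hut, hαt, hαt]
  by_cases hcu : α u = u
  · rw [hcu, hcu]
  have hc1 : α u ≠ 1 := by
    intro h; apply hu1
    have : α u = α 1 := by rw [map_one]; exact h
    exact α.injective this
  have hct : α u ≠ t' := by
    intro h; apply hut
    have : α u = α t' := by rw [hαt]; exact h
    exact α.injective this
  have hmul : α u = t' * u :=
    IsKleinFour.eq_mul_of_ne_all ht'1 hu1 (fun h => hut h.symm) hc1 hct hcu
  rw [hmul, map_mul, hαt, hmul, ← mul_assoc, IsKleinFour.mul_self, one_mul]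

end Cfsg.Agent.Lib.L0
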