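import Mathlib

/-!
# Klein four subgroups and involutions of `DihedralGroup m`, `m` even (lead's library)
-/

set_option autoImplicit false

namespace Cfsg.Agent.Lib.L0.Dih

open DihedralGroup

variable {m : ℕ}

/-- Half of `m`, in `ZMod m`. -/
def hf (m : ℕ) : ZMod m := ((m / 2 : ℕ) : ZMod m)

theorem hf_add_self (hm : 2 ∣ m) : hf m + hf m = 0 := by
  unfold hf
  rw [← Nat.cast_add, ← two_mul, Nat.mul_div_cancel' hm, ZMod.natCast_self]

theorem neg_hf (hm : 2 ∣ m) : - hf m = hf m :=
  neg_eq_of_add_eq_zero_left (hf_add_self hm)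

theorem hf_ne_zero [NeZero m] (hm : 2 ∣ m) : hf m ≠ 0 := by
  unfold hf
  rw [Ne, ZMod.natCast_eq_zero_iff]
  intro h
  have hpos : 0 < m := Nat.pos_of_ne_zero (NeZero.ne m)
  have h1 : m / 2 < m := Nat.div_lt_self hpos (by norm_num)
  have h2 : 0 < m / 2 := Nat.div_pos (Nat.le_of_dvd hpos hm) (by norm_num)
  exact absurd (Nat.le_of_dvd h2 h) (by omega)

theorem eq_zero_or_eq_hf [NeZero m] (hm : 2 ∣ m) {i : ZMod m} (h : i + i = 0) :
    i = 0 ∨ i = hf m := by
  have hi : ((i.val + i.val : ℕ) : ZMod m) = 0 := by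
    rw [Nat.cast_add, ZMod.natCast_zmod_val]; exact h
  rw [ZMod.natCast_eq_zero_iff] at hi
  have hlt := ZMod.val_lt i
  obtain ⟨c, hc⟩ := hi
  have hc01 : c = 0 ∨ c = 1 := by
    rcases c with _ | _ | c
    · left; rfl
    · right; rfl
    · exfalso; nlinarith
  rcases hc01 with rfl | rfl
  · left
    have : i.val = 0 := by omega
    exact (ZMod.val_eq_zero i).mp this
  · right
    have : i.val = m / 2 := by omega
    unfold hf
    rw [← this, ZMod.natCast_zmod_val]

/-- The Klein four subgroup `{1, r (m/2), sr i, sr (i + m/2)}`. -/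
def kleinD (hm : 2 ∣ m) (i : ZMod m) : Subgroup (DihedralGroup m) where
  carrier := {x | x = r 0 ∨ x = r (hf m) ∨ x = sr i ∨ x = sr (i + hf m)}
  one_mem' := Or.inl rfl
  mul_mem' := by
    have h1 := hf_add_self hm
    have h2 := neg_hf hm
    rintro a b (rfl | rfl | rfl | rfl) (rfl | rfl | rfl | rfl) <;>
      simp only [r_mul_r, r_mul_sr, sr_mul_r, sr_mul_sr, Set.mem_setOf_eq, r.injEq, sr.injEq,
        reduceCtorEq, false_or, or_false, add_zero, zero_add, sub_zero, h1, sub_self,
        add_sub_cancel_right, add_sub_cancel_left, sub_add_cancel_left, h2, zero_sub,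
        sub_eq_add_neg, add_assoc, true_or, or_true, add_neg_cancel, add_neg_cancel_left,
        neg_add_cancel_left, add_neg_cancel_comm_assoc, neg_zero, neg_add]
  inv_mem' := by
    have h2 := neg_hf hm
    rintro a (rfl | rfl | rfl | rfl) <;>
      simp [h2]

theorem mem_kleinD (hm : 2 ∣ m) (i : ZMod m) (x : DihedralGroup m) :
    x ∈ kleinD hm i ↔ x = r 0 ∨ x = r (hf m) ∨ x = sr i ∨ x = sr (i + hf m) := Iff.rfl

/-- A subgroup all of whose elements are one of two given elements has at most two elements. -/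
theorem card_le_two_of_forall_mem {G : Type*} [Group G] (V : Subgroup G) (a b : G)
    (h : ∀ x ∈ V, x = a ∨ x = b) : Nat.card V ≤ 2 := by
  have hsub : (V : Set G) ⊆ {a, b} := by
    intro x hx
    rcases h x hx with rfl | rfl <;> simp
  have h1 : Set.ncard (V : Set G) ≤ Set.ncard ({a, b} : Set G) :=
    Set.ncard_le_ncard hsub (Set.toFinite _)
  have h2 : Set.ncard ({a, b} : Set G) ≤ 2 := by
    have := Set.ncard_insert_le a ({b} : Set G)
    rw [Set.ncard_singleton] at this
    exact this
  have h3 : Set.ncard (V : Set G) = Nat.card V := (Nat.card_coe_set_eq _).symm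
  omega

/-- A group of order four in which every element squares to one is a Klein four group. -/
theorem isKleinFour_of_card_of_mul_self {K : Type*} [Group K] (hc : Nat.card K = 4)
    (h : ∀ x : K, x * x = 1) : IsKleinFour K := by
  refine ⟨hc, ?_⟩
  have hdvd : Monoid.exponent K ∣ 2 := by
    apply Monoid.exponent_dvd_of_forall_pow_eq_one
    intro q
    rw [pow_two]; exact h q
  have hne : Monoid.exponent K ≠ 1 := by
    intro h1
    have : Subsingleton K := Monoid.exp_eq_one_iff.mp h1
    have : Nat.card K = 1 := Nat.card_unique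
    omega
  have hle := Nat.le_of_dvd (by norm_num) hdvd
  have hpos : Monoid.exponent K ≠ 0 := by
    intro h0
    rw [h0] at hdvd
    simp at hdvd
  omega

theorem isKleinFour_of_mulEquiv {G H : Type*} [Group G] [Group H] (e : G ≃* H)
    (hG : IsKleinFour G) : IsKleinFour H :=
  ⟨by rw [← Nat.card_congr e.toEquiv]; exact hG.card_four,
   by rw [← Monoid.exponent_eq_of_mulEquiv e]; exact hG.exponent_two⟩

theorem card_kleinD [NeZero m] (hm : 2 ∣ m) (i : ZMod m) : Nat.card (kleinD hm i) = 4 := by
  classical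
  have h0 := hf_ne_zero hm
  have h01 : (1 : DihedralGroup m) ≠ r (hf m) := by
    rw [one_def]; intro h; exact h0 (r.inj h).symm
  have h02 : ∀ j : ZMod m, (1 : DihedralGroup m) ≠ sr j := by
    intro j h; rw [one_def] at h; cases h
  have hset : ((kleinD hm i : Subgroup _) : Set (DihedralGroup m)) =
      (({1, r (hf m), sr i, sr (i + hf m)} : Finset (DihedralGroup m)) : Set _) := by
    ext x
    simp [mem_kleinD]
  rw [← SetLike.coe_sort_coe, Nat.card_coe_set_eq, hset, Set.ncard_coe_finset]
  rw [Finset.card_insert_of_notMem, Finset.card_insert_of_notMem, Finset.card_insert_of_notMem,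
    Finset.card_singleton]
  · simp [h0]
  · simp
  · simp [h01, h02]

theorem isKleinFour_kleinD [NeZero m] (hm : 2 ∣ m) (i : ZMod m) : IsKleinFour (kleinD hm i) := by
  apply isKleinFour_of_card_of_mul_self (card_kleinD hm i)
  rintro ⟨x, hx⟩
  apply Subtype.ext
  show x * x = 1
  have h1 := hf_add_self hm
  rcases hx with rfl | rfl | rfl | rfl
  · rw [r_mul_r, add_zero]; rfl
  · rw [r_mul_r, h1]; rfl
  · exact sr_mul_self i
  · exact sr_mul_self _

theorem eq_kleinD_of_isKleinFour [NeZero m] (hm : 2 ∣ m) (V : Subgroup (DihedralGroup m))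
    (hV : IsKleinFour V) : ∃ i, V = kleinD hm i := by
  have hsq : ∀ x ∈ V, x * x = 1 := fun x hx => by
    have := IsKleinFour.mul_self (⟨x, hx⟩ : V)
    exact congrArg Subtype.val this
  have hcard : Nat.card V = 4 := hV.card_four
  have hrot : ∀ j : ZMod m, r j ∈ V → j = 0 ∨ j = hf m := by
    intro j hj
    have := hsq _ hj
    rw [r_mul_r, one_def, r.injEq] at this
    exact eq_zero_or_eq_hf hm this
  -- Step 1 : `V` contains a reflection
  have h1 : ∃ i, sr i ∈ V := by
    by_contra hcon
    push Not at hcon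
    have : Nat.card V ≤ 2 := by
      apply card_le_two_of_forall_mem V (r 0) (r (hf m))
      intro x hx
      cases x with
      | r j =>
        rcases hrot j hx with rfl | rfl
        · left; rfl
        · right; rfl
      | sr j => exact absurd hx (hcon j)
    omega
  obtain ⟨i, hi⟩ := h1
  -- Step 2 : `V` contains `r (hf m)`
  have h2 : r (hf m) ∈ V := by
    have hex : ∃ y ∈ V, y ≠ r 0 ∧ y ≠ sr i := by
      by_contra hcon
      push Not at hcon
      have : Nat.card V ≤ 2 := by
        apply card_le_two_of_forall_mem V (r 0) (sr i)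
        intro x hx
        by_cases hx0 : x = r 0
        · left; exact hx0
        · right; exact hcon x hx hx0
      omega
    obtain ⟨y, hyV, hy0, hyi⟩ := hex
    cases y with
    | r j =>
      rcases hrot j hyV with rfl | rfl
      · exact absurd rfl hy0
      · exact hyV
    | sr j =>
      have hji : j ≠ i := fun h => hyi (by rw [h])
      have hmem : r (j - i) ∈ V := by
        have := V.mul_mem hi hyV
        rwa [sr_mul_sr] at this
      rcases hrot _ hmem with h0 | h0
      · exact absurd (sub_eq_zero.mp h0) hji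
      · rwa [h0] at hmem
  refine ⟨i, ?_⟩
  symm
  apply Subgroup.eq_of_le_of_card_ge
  · intro x hx
    rcases hx with rfl | rfl | rfl | rfl
    · exact V.one_mem
    · exact h2
    · exact hi
    · have := V.mul_mem hi h2
      rwa [sr_mul_r] at this
  · rw [hcard, card_kleinD]

/-! ### Conjugation -/

theorem conj_r_sr (k i : ZMod m) : r k * sr i * (r k)⁻¹ = sr (i - k - k) := by
  rw [r_mul_sr, inv_r, sr_mul_r, sub_eq_add_neg (i - k) k]

theorem conj_sr_sr (k i : ZMod m) : sr k * sr i * (sr k)⁻¹ = sr (k + k - i) := by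
  rw [sr_mul_sr, inv_sr, r_mul_sr]
  congr 1; ring

theorem conj_r_r (k i : ZMod m) : r k * r i * (r k)⁻¹ = r i := by
  rw [r_mul_r, inv_r, r_mul_r]
  congr 1; ring

theorem conj_sr_r (k i : ZMod m) : sr k * r i * (sr k)⁻¹ = r (-i) := by
  rw [sr_mul_r, inv_sr, sr_mul_sr]
  congr 1; ring

/-- Finite criterion for a conjugate of a subgroup to equal another subgroup. -/
theorem map_conj_eq_of_forall_mem {G : Type*} [Group G] [Finite G] {K L : Subgroup G} (g : G)
    (h : ∀ x ∈ K, g * x * g⁻¹ ∈ L) (hc : Nat.card L ≤ Nat.card K) :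
    K.map (MulAut.conj g).toMonoidHom = L := by
  apply Subgroup.eq_of_le_of_card_ge
  · rintro _ ⟨x, hx, rfl⟩
    exact h x hx
  · rw [Subgroup.card_map_of_injective (MulAut.conj g).injective]
    exact hc

theorem map_conj_r_kleinD [NeZero m] (hm : 2 ∣ m) (k i : ZMod m) :
    (kleinD hm i).map (MulAut.conj (r k)).toMonoidHom = kleinD hm (i - k - k) := by
  apply map_conj_eq_of_forall_mem
  · rintro x (rfl | rfl | rfl | rfl)
    · rw [conj_r_r]; exact Or.inl rfl
    · rw [conj_r_r]; exact Or.inr (Or.inl rfl)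
    · rw [conj_r_sr]; exact Or.inr (Or.inr (Or.inl rfl))
    · rw [conj_r_sr]
      refine Or.inr (Or.inr (Or.inr ?_))
      congr 1; ring
  · rw [card_kleinD, card_kleinD]

theorem exists_half [NeZero m] (i : ZMod m) : ∃ k : ZMod m, i = k + k ∨ i = k + k + 1 := by
  refine ⟨((i.val / 2 : ℕ) : ZMod m), ?_⟩
  rcases Nat.mod_two_eq_zero_or_one i.val with h | h
  · left
    have : i.val = i.val / 2 + i.val / 2 := by omega
    conv_lhs => rw [← ZMod.natCast_zmod_val i, this]
    push_cast; rfl
  · right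
    have : i.val = i.val / 2 + i.val / 2 + 1 := by omega
    conv_lhs => rw [← ZMod.natCast_zmod_val i, this]
    push_cast; rfl

/-- Every Klein four subgroup is conjugate (by a rotation) to `kleinD 0` or `kleinD 1`. -/
theorem exists_conj_kleinD [NeZero m] (hm : 2 ∣ m) (i : ZMod m) :
    ∃ k : ZMod m, (kleinD hm i).map (MulAut.conj (r k)).toMonoidHom = kleinD hm 0 ∨
      (kleinD hm i).map (MulAut.conj (r k)).toMonoidHom = kleinD hm 1 := by
  obtain ⟨k, hk | hk⟩ := exists_half i
  · refine ⟨k, Or.inl ?_⟩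
    rw [map_conj_r_kleinD, hk]
    congr 1; ring
  · refine ⟨k, Or.inr ?_⟩
    rw [map_conj_r_kleinD, hk]
    congr 1; ring

/-- Parity: the ring hom `ZMod m → ZMod 2` for even `m`. -/
noncomputable def par (hm : 2 ∣ m) : ZMod m →+* ZMod 2 := ZMod.castHom hm (ZMod 2)

theorem par_hf (hm4 : 4 ∣ m) : par (Dvd.dvd.trans (by norm_num : 2 ∣ 4) hm4) (hf m) = 0 := by
  unfold par hf
  rw [map_natCast, ZMod.natCast_eq_zero_iff]
  obtain ⟨c, rfl⟩ := hm4
  exact ⟨c, by omega⟩

theorem par_add_self (hm : 2 ∣ m) (k : ZMod m) : par hm (k + k) = 0 := by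
  rw [map_add]
  exact CharTwo.add_self_eq_zero _

/-- `kleinD 0` and `kleinD 1` are not conjugate in `DihedralGroup m` when `4 ∣ m`. -/
theorem kleinD_zero_not_conj_one [NeZero m] (hm4 : 4 ∣ m) (u : DihedralGroup m) :
    (kleinD (Dvd.dvd.trans (by norm_num : 2 ∣ 4) hm4) 0).map (MulAut.conj u).toMonoidHom ≠
      kleinD (Dvd.dvd.trans (by norm_num : 2 ∣ 4) hm4) 1 := by
  intro h
  have hm : 2 ∣ m := Dvd.dvd.trans (by norm_num : 2 ∣ 4) hm4
  have hmem : u * sr 0 * u⁻¹ ∈ kleinD hm 1 := by
    rw [← h]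
    exact ⟨sr 0, Or.inr (Or.inr (Or.inl rfl)), rfl⟩
  have h1 : par hm 1 = 1 := map_one _
  have hne : (0 : ZMod 2) ≠ 1 := by decide
  cases u with
  | r k =>
    rw [conj_r_sr] at hmem
    rcases hmem with h0 | h0 | h0 | h0
    · cases h0
    · cases h0
    · rw [sr.injEq] at h0
      have := congrArg (par hm) h0
      rw [zero_sub, h1, sub_eq_add_neg, ← neg_add, map_neg, par_add_self, neg_zero] at this
      exact hne this
    · rw [sr.injEq] at h0
      have := congrArg (par hm) h0
      rw [zero_sub, sub_eq_add_neg, ← neg_add, map_neg, par_add_self, neg_zero, map_add, h1,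
        par_hf hm4, add_zero] at this
      exact hne this
  | sr k =>
    rw [conj_sr_sr] at hmem
    rcases hmem with h0 | h0 | h0 | h0
    · cases h0
    · cases h0
    · rw [sr.injEq] at h0
      have := congrArg (par hm) h0
      rw [sub_zero, par_add_self, h1] at this
      exact hne this
    · rw [sr.injEq] at h0
      have := congrArg (par hm) h0
      rw [sub_zero, par_add_self, map_add, h1, par_hf hm4, add_zero] at this
      exact hne this

/-! ### Involutions -/

theorem orderOf_r_hf [NeZero m] (hm : 2 ∣ m) : orderOf (r (hf m) : DihedralGroup m) = 2 := by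
  apply orderOf_eq_prime
  · rw [pow_two, r_mul_r, hf_add_self hm, one_def]
  · rw [one_def, Ne, r.injEq]
    exact hf_ne_zero hm

theorem involution_cases [NeZero m] (hm : 2 ∣ m) (x : DihedralGroup m) (hx : orderOf x = 2) :
    x = r (hf m) ∨ ∃ i, x = sr i := by
  cases x with
  | r j =>
    left
    have h1 : (r j : DihedralGroup m) ^ 2 = 1 := by rw [← hx]; exact pow_orderOf_eq_one _
    rw [pow_two, r_mul_r, one_def, r.injEq] at h1
    rcases eq_zero_or_eq_hf hm h1 with rfl | rfl
    · exfalso
      have : orderOf (r 0 : DihedralGroup m) = 1 := by rw [← one_def]; exact orderOf_one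
      omega
    · rfl
  | sr j => exact Or.inr ⟨j, rfl⟩

theorem r_hf_comm (hm : 2 ∣ m) (x : DihedralGroup m) : r (hf m) * x = x * r (hf m) := by
  have h2 := neg_hf hm
  cases x with
  | r j => rw [r_mul_r, r_mul_r, add_comm]
  | sr j => rw [r_mul_sr, sr_mul_r, sub_eq_add_neg, h2]

/-- Every reflection is conjugate (by a rotation) to `sr 0` or `sr 1`. -/
theorem exists_conj_sr [NeZero m] (i : ZMod m) :
    ∃ k : ZMod m, r k * sr i * (r k)⁻¹ = sr 0 ∨ r k * sr i * (r k)⁻¹ = sr 1 := by
  obtain ⟨k, hk | hk⟩ := exists_half i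
  · refine ⟨k, Or.inl ?_⟩
    rw [conj_r_sr, hk]; congr 1; ring
  · refine ⟨k, Or.inr ?_⟩
    rw [conj_r_sr, hk]; congr 1; ring

end Cfsg.Agent.Lib.L0.Dih
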