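import Mathlib
import Cfsg.Agent.Lib.H23.PPart
import Cfsg.Agent.Lib.H23.PPart2
import Cfsg.Agent.Lib.H24.CharBasic

/-!
# Summation over `p`-sections (lead)

For a class function `f` on the finite group `G` and a set `X` of representatives of the classes of
`p`-elements:
`|G|⁻¹ ∑_g f(g) = ∑_{x ∈ X} |C_G(x)|⁻¹ ∑_{s ∈ C_G(x) p-regular} f(x s)`.

* `secSum p f z`: the sum of `f` over the elements with `p`-part `z`;
* `sum_eq_sum_secSum`, `secSum_conj`, `secSum_eq_zero`, `secSum_eq`, `section_sum`.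
-/

set_option autoImplicit false

namespace Cfsg.Agent.Lib.L0.SectionSum

open Cfsg Cfsg.Agent.Lib.H23 Cfsg.Agent.Lib.H24

open scoped Classical

variable {G : Type*} [Group G] [Fintype G] {p : ℕ}

/-- The sum of `f` over the elements with `p`-part `z`. -/
noncomputable def secSum (p : ℕ) (f : G → ℂ) (z : G) : ℂ :=
  ∑ g : G, if IsPPart p g z then f g else 0

theorem sum_eq_sum_secSum (hp : p.Prime) (f : G → ℂ) :
    ∑ g : G, f g = ∑ z : G, secSum p f z := by
  unfold secSum
  rw [Finset.sum_comm]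
  refine Finset.sum_congr rfl fun g _ => ?_
  obtain ⟨z₀, hz₀⟩ := exists_isPPart hp g (isOfFinOrder_of_finite g)
  rw [Finset.sum_eq_single z₀]
  · rw [if_pos hz₀]
  · intro z _ hz
    rw [if_neg]
    intro h
    exact hz (IsPPart.unique hp h hz₀)
  · intro h
    exact absurd (Finset.mem_univ _) h

theorem isPPart_conj_iff {g z : G} (t : G) :
    IsPPart p (t * g * t⁻¹) (t * z * t⁻¹) ↔ IsPPart p g z := by
  constructor
  · intro h
    have h1 := IsPPart.conj h t⁻¹
    have e1 : t⁻¹ * (t * g * t⁻¹) * t⁻¹⁻¹ = g := by group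
    have e2 : t⁻¹ * (t * z * t⁻¹) * t⁻¹⁻¹ = z := by group
    rwa [e1, e2] at h1
  · intro h
    exact IsPPart.conj h t

theorem secSum_conj {f : G → ℂ} (hf : IsClassFunction G f) (z t : G) :
    secSum p f (t * z * t⁻¹) = secSum p f z := by
  unfold secSum
  symm
  refine Fintype.sum_equiv (MulAut.conj t).toEquiv _ _ fun g => ?_
  show (if IsPPart p g z then f g else 0) =
    if IsPPart p (t * g * t⁻¹) (t * z * t⁻¹) then f (t * g * t⁻¹) else 0
  rw [hf g t]
  by_cases h : IsPPart p g z
  · rw [if_pos h, if_pos ((isPPart_conj_iff t).2 h)]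
  · rw [if_neg h, if_neg (fun h' => h ((isPPart_conj_iff t).1 h'))]

theorem secSum_eq_zero (f : G → ℂ) {z : G} (hz : ¬ ∃ k : ℕ, orderOf z = p ^ k) :
    secSum p f z = 0 := by
  unfold secSum
  refine Finset.sum_eq_zero fun g _ => ?_
  rw [if_neg]
  rintro ⟨y, _, _, h, _⟩
  exact hz h

theorem secSum_eq (f : G → ℂ) {x : G} (hx : ∃ k : ℕ, orderOf x = p ^ k)
    [Fintype (Subgroup.centralizer ({x} : Set G))] :
    secSum p f x = ∑ s : Subgroup.centralizer ({x} : Set G),
      if p ∣ orderOf s then 0 else f (x * (s : G)) := by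
  unfold secSum
  have h1 : ∑ s : Subgroup.centralizer ({x} : Set G),
      (if p ∣ orderOf s then 0 else f (x * (s : G))) =
      ∑ s ∈ Finset.univ.filter (fun s : Subgroup.centralizer ({x} : Set G) => ¬ p ∣ orderOf s),
        f (x * (s : G)) := by
    rw [Finset.sum_filter]
    refine Finset.sum_congr rfl fun s _ => ?_
    rw [ite_not]
  rw [h1, ← Finset.sum_filter]
  symm
  refine Finset.sum_bij (fun s _ => x * (s : G)) ?_ ?_ ?_ ?_
  · intro s hs
    rw [Finset.mem_filter] at hs ⊢
    refine ⟨Finset.mem_univ _, ?_⟩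
    have hsG : ¬ p ∣ orderOf (s : G) := by
      rw [Subgroup.orderOf_coe]; exact hs.2
    have hcomm : Commute x (s : G) := (Subgroup.mem_centralizer_singleton_iff.1 s.2).symm
    exact isPPart_mul hcomm hx hsG
  · intro s _ s' _ h
    exact Subtype.ext (mul_left_cancel h)
  · intro g hg
    rw [Finset.mem_filter] at hg
    obtain ⟨y, hy1, hy2, _, hy4⟩ := hg.2
    have hyC : y ∈ Subgroup.centralizer ({x} : Set G) :=
      Subgroup.mem_centralizer_singleton_iff.2 hy2.eq.symm
    refine ⟨⟨y, hyC⟩, ?_, hy1⟩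
    rw [Finset.mem_filter]
    refine ⟨Finset.mem_univ _, ?_⟩
    rw [← Subgroup.orderOf_coe]
    exact hy4
  · intro s _
    rfl

theorem card_isConj_mul_card_centralizer (x : G) :
    ((Finset.univ.filter (fun z : G => IsConj z x)).card : ℂ) *
      (Nat.card (Subgroup.centralizer ({x} : Set G)) : ℂ) = (Nat.card G : ℂ) := by
  have h1 := index_centralizer_eq_card_conj x
  have h2 := Subgroup.index_mul_card (Subgroup.centralizer ({x} : Set G))
  have h3 : Nat.card {h : G // IsConj x h} = (Finset.univ.filter (fun z : G => IsConj z x)).card := by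
    rw [Nat.card_eq_fintype_card, Fintype.card_subtype]
    congr 1
    ext z
    simp only [Finset.mem_filter, Finset.mem_univ, true_and]
    exact isConj_comm
  rw [← h3, ← h1]
  exact_mod_cast h2

/-- Summation over `p`-sections. -/
theorem section_sum (hp : p.Prime) (X : Finset G)
    (hX : ∀ x ∈ X, ∃ k : ℕ, orderOf x = p ^ k)
    (hXrep : ∀ g : G, (∃ k : ℕ, orderOf g = p ^ k) → ∃! x, x ∈ X ∧ IsConj g x)
    {f : G → ℂ} (hf : IsClassFunction G f) :
    (Nat.card G : ℂ)⁻¹ * ∑ g : G, f g =
      ∑ x ∈ X, (Nat.card (Subgroup.centralizer ({x} : Set G)) : ℂ)⁻¹ * secSum p f x := by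
  have hG : (Nat.card G : ℂ) ≠ 0 := by exact_mod_cast (Nat.card_pos (α := G)).ne'
  have hFconj : ∀ z x : G, IsConj z x → secSum p f z = secSum p f x := by
    intro z x h
    obtain ⟨t, ht⟩ := isConj_iff.1 h
    rw [← ht, secSum_conj hf]
  have h1 : ∀ z : G, secSum p f z = ∑ x ∈ X, if IsConj z x then secSum p f x else 0 := by
    intro z
    by_cases hz : ∃ k : ℕ, orderOf z = p ^ k
    · obtain ⟨x₀, ⟨hx₀X, hx₀⟩, huniq⟩ := hXrep z hz
      rw [Finset.sum_eq_single x₀]
      · rw [if_pos hx₀, hFconj z x₀ hx₀]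
      · intro x hxX hne
        rw [if_neg]
        intro h
        exact hne (huniq x ⟨hxX, h⟩)
      · intro h
        exact absurd hx₀X h
    · rw [secSum_eq_zero f hz]
      symm
      refine Finset.sum_eq_zero fun x hxX => ?_
      rw [if_neg]
      intro h
      apply hz
      obtain ⟨k, hk⟩ := hX x hxX
      obtain ⟨t, ht⟩ := isConj_iff.1 h
      refine ⟨k, ?_⟩
      rw [← hk, ← ht]
      exact ((MulAut.conj t).orderOf_eq z).symm
  rw [sum_eq_sum_secSum hp f, Finset.sum_congr rfl fun z _ => h1 z, Finset.sum_comm, Finset.mul_sum]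
  refine Finset.sum_congr rfl fun x _ => ?_
  rw [← Finset.sum_filter, Finset.sum_const, nsmul_eq_mul]
  have hC : (Nat.card (Subgroup.centralizer ({x} : Set G)) : ℂ) ≠ 0 := by
    exact_mod_cast (Nat.card_pos (α := Subgroup.centralizer ({x} : Set G))).ne'
  have hcard : ((Finset.univ.filter (fun z : G => IsConj z x)).card : ℂ) ≠ 0 := by
    intro h0
    have := card_isConj_mul_card_centralizer x
    rw [h0, zero_mul] at this
    exact hG this.symm
  rw [← card_isConj_mul_card_centralizer x]
  field_simp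

end Cfsg.Agent.Lib.L0.SectionSum
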