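import Mathlib
import Cfsg.Agent.Lib.H23.ExtDet
import Cfsg.Agent.Lib.H23.ExtendCyclic
import Cfsg.Agent.Lib.H8.GaloisConj

/-!
# Galois-fixed extensions over a cyclic `p`-quotient, I (lead's library)

* `detChar_galoisConj`: the determinant of a Galois conjugate `g ↦ χ (g ^ k)` is the Galois
  conjugate of the determinant;
* `hom_eq_of_mul_eq`: Gallagher uniqueness: `χ β = χ β'` with `χ_N` irreducible and `β, β'` linear
  characters trivial on `N` forces `β = β'`;
* `hom_ext_of_generator`: homs trivial on `N` agreeing at a generator of `G/N` are equal;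
* `exists_hom_apply_generator`: homs of `G/N` cyclic with prescribed value at a generator.
-/

set_option autoImplicit false

namespace Cfsg.Agent.Lib.L0.SigmaRes

open Cfsg Cfsg.Agent.Lib.L0 Cfsg.Agent.Lib.H23 Cfsg.Agent.Lib.H24

section Det

variable {G : Type*} [Group G] [Finite G]

/-- The determinantal character commutes with Galois conjugation. -/
theorem detChar_galoisConj {χ : G → ℂ} (hχ : IsCharacter G χ) (k : ℕ)
    (hk : k.Coprime (Nat.card G)) (g : G) :
    detChar (fun x => χ (x ^ k)) g = detChar χ (g ^ k) := by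
  have hσ : IsCharacter G (fun x => χ (x ^ k)) :=
    Cfsg.Agent.Lib.H8.isCharacter_galoisConj hχ k hk
  let φ : Subgroup.zpowers g →* Subgroup.zpowers g :=
    { toFun := fun c => c ^ k
      map_one' := one_pow k
      map_mul' := fun a b => by
        have hc : Commute a b := mul_comm' a b
        exact hc.mul_pow k }
  have h1 := congrFun (detChar_restrict (Subgroup.zpowers g) hσ) ⟨g, Subgroup.mem_zpowers g⟩
  have h2 : (fun h : Subgroup.zpowers g => (fun x => χ (x ^ k)) (h : G)) =
      (fun h : Subgroup.zpowers g => χ h) ∘ φ := by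
    funext c
    rfl
  have h3 := detChar_comp φ (isCharacter_restrict (Subgroup.zpowers g) hχ)
  have h4 := detChar_restrict (Subgroup.zpowers g) hχ
  simp only at h1
  rw [← h1, h2, h3, Function.comp_apply, h4]
  rfl

end Det

section Gallagher

variable {G : Type*} [Group G] [Fintype G] (N : Subgroup G) [hN : N.Normal]

/-- A linear character trivial on `N` is a constituent of `(1_N)^G`. -/
theorem classInner_indFun_one_hom (β : G →* ℂˣ) (hβ : ∀ n : N, β n = 1) :
    classInner (indFun N (1 : N → ℂ)) (homToFun G β) ≠ 0 := by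
  classical
  have := Fintype.ofFinite N
  have hβirr : IsIrrCharacter G (homToFun G β) := isIrrCharacter_of_hom β
  rw [frobenius_reciprocity N (1 : N → ℂ) (homToFun G β)
    (isClassFunction_of_isCharacter (isCharacter_of_irr hβirr))]
  have h1 : (fun n : N => homToFun G β n) = (1 : N → ℂ) := by
    funext n
    rw [homToFun_apply, hβ n]
    rfl
  rw [h1, irr_classInner_self (L0.isIrrCharacter_one)]
  exact one_ne_zero

/-- Gallagher uniqueness. -/
theorem hom_eq_of_mul_eq {χ : G → ℂ} (hχ : IsIrrCharacter G χ)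
    (hχN : IsIrrCharacter N (fun n : N => χ n)) (β β' : G →* ℂˣ) (hβ : ∀ n : N, β n = 1)
    (hβ' : ∀ n : N, β' n = 1) (h : χ * homToFun G β = χ * homToFun G β') : β = β' := by
  classical
  have := Fintype.ofFinite N
  have hone : IsIrrCharacter N (1 : N → ℂ) := L0.isIrrCharacter_one
  have hχcf := isClassFunction_of_isCharacter (isCharacter_of_irr hχ)
  have hprod : IsIrrCharacter N ((1 : N → ℂ) * fun n : N => χ n) := by rw [one_mul]; exact hχN
  have h1 := gallagher_orthonormal N (1 : N → ℂ) (fun n : N => χ n) hone (fun _ _ => rfl)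
    (fun g n => hχcf n g) hprod χ hχ (fun _ => rfl)
    ⟨homToFun G β, isIrrCharacter_of_hom β⟩ ⟨homToFun G β', isIrrCharacter_of_hom β'⟩
    (classInner_indFun_one_hom N β hβ) (classInner_indFun_one_hom N β' hβ')
  have h2 : IsIrrCharacter G (homToFun G β * χ) := by
    rw [mul_comm]
    exact isIrrCharacter_mul_hom χ hχ β
  have h3 : classInner (homToFun G β * χ) (homToFun G β' * χ) = 1 := by
    rw [mul_comm (homToFun G β') χ, ← h, mul_comm χ]
    exact irr_classInner_self h2
  simp only at h1
  rw [h3] at h1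
  by_contra hne
  rw [if_neg] at h1
  · exact one_ne_zero h1
  · intro heq
    apply hne
    apply homToFun_injective
    exact congrArg Subtype.val heq

end Gallagher

section Generator

variable {G : Type*} [Group G] (N : Subgroup G) [hN : N.Normal]

/-- Homomorphisms trivial on `N` that agree at a generator of `G/N` are equal. -/
theorem hom_ext_of_generator {A : Type*} [Group A] (x : G)
    (hx : ∀ q : G ⧸ N, q ∈ Subgroup.zpowers (QuotientGroup.mk' N x)) (β β' : G →* A)
    (hβ : ∀ n : N, β n = 1) (hβ' : ∀ n : N, β' n = 1) (h : β x = β' x) : β = β' := by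
  ext g
  obtain ⟨i, hi⟩ := Subgroup.mem_zpowers_iff.mp (hx (QuotientGroup.mk' N g))
  have h1 : (x ^ i)⁻¹ * g ∈ N := by
    rw [← QuotientGroup.eq_one_iff, QuotientGroup.mk_mul, QuotientGroup.mk_inv,
      QuotientGroup.mk_zpow]
    have : ((x : G) : G ⧸ N) ^ i = ((g : G) : G ⧸ N) := hi
    rw [this, inv_mul_cancel]
  have e1 : β ((x ^ i)⁻¹ * g) = 1 := hβ ⟨_, h1⟩
  have e2 : β' ((x ^ i)⁻¹ * g) = 1 := hβ' ⟨_, h1⟩
  have hb : ∀ γ : G →* A, γ ((x ^ i)⁻¹ * g) = 1 → γ g = γ x ^ i := by
    intro γ hγ
    have h2 : γ g = γ (x ^ i) * γ ((x ^ i)⁻¹ * g) := by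
      rw [← map_mul]
      congr 1
      group
    rw [h2, hγ, mul_one, map_zpow]
  rw [hb β e1, hb β' e2, h]

/-- Homomorphisms of a cyclic quotient with prescribed value at a generator. -/
theorem exists_hom_apply_generator {A : Type*} [Group A] (x : G)
    (hx : ∀ q : G ⧸ N, q ∈ Subgroup.zpowers (QuotientGroup.mk' N x)) (ζ : A)
    (hζ : orderOf ζ ∣ orderOf (QuotientGroup.mk' N x)) :
    ∃ β : G →* A, (∀ n : N, β n = 1) ∧ β x = ζ := by
  refine ⟨(monoidHomOfForallMemZpowers hx hζ).comp (QuotientGroup.mk' N), ?_, ?_⟩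
  · intro n
    rw [MonoidHom.comp_apply]
    have : QuotientGroup.mk' N (n : G) = 1 := (QuotientGroup.eq_one_iff _).mpr n.2
    rw [this, map_one]
  · rw [MonoidHom.comp_apply]
    exact monoidHomOfForallMemZpowers_apply_gen hx hζ

end Generator

end Cfsg.Agent.Lib.L0.SigmaRes
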