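import Cfsg.Agent.Lib.L0.BlockNormal
import Cfsg.Agent.Lib.H23.BlockIdem
import Cfsg.Agent.Lib.H24.CharComplete

/-!
# Support of block idempotents

Let `C` be a normal subgroup of `G` such that all central characters lie in the local ideal at
every element outside `C`.  Then:
* `orthogonal_of_regular`: characters in different blocks have orthogonal restrictions to `C`;
* `blockCoeff_eq_zero_of_regular`: every block idempotent is supported on `C`.
-/

set_option autoImplicit false
open Cfsg

namespace Cfsg.Agent.Lib.L0.BlockSupport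

open Cfsg.Agent.Lib.H23 Cfsg.Agent.Lib.H24 Cfsg.Agent.Lib.L0 Cfsg.Agent.Lib.L0.BlockNormal
open scoped ComplexConjugate

variable {G : Type*} [Group G] [Fintype G] {p : ℕ} {M : Ideal AlgInt}

/-- The regular character. -/
theorem sum_irr_one_mul [Fintype (IrrCharacter G)] [DecidableEq G] (g : G) :
    ∑ χ : IrrCharacter G, (χ : G → ℂ) 1 * (χ : G → ℂ) g =
      if g = 1 then (Nat.card G : ℂ) else 0 := by
  classical
  have h := second_orthogonality g (1 : G)
  have h1 : ∀ χ : IrrCharacter G, conj ((χ : G → ℂ) 1) = (χ : G → ℂ) 1 := by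
    intro χ
    have := irr_inv χ (1 : G)
    rw [inv_one] at this
    exact this.symm
  simp only [h1] at h
  have h2 : ∑ χ : IrrCharacter G, (χ : G → ℂ) 1 * (χ : G → ℂ) g =
      ∑ χ : IrrCharacter G, (χ : G → ℂ) g * (χ : G → ℂ) 1 :=
    Finset.sum_congr rfl fun χ _ => mul_comm _ _
  rw [h2, h]
  by_cases hg : g = 1
  · subst hg
    rw [if_pos rfl, if_pos (IsConj.refl _)]
    congr 1
    have : Subgroup.centralizer ({(1 : G)} : Set G) = ⊤ := by
      ext x; simp [Subgroup.mem_centralizer_iff]
    rw [this, Subgroup.card_top]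
  · rw [if_neg hg, if_neg]
    intro hc
    exact hg (isConj_one_left.mp hc)

variable (hM : IsPModular p M) (C : Subgroup G) [C.Normal] [Fintype C]

include hM in
theorem orthogonal_of_regular
    (hC : ∀ g : G, g ∉ C → ∀ χ : IrrCharacter G, MemLocalIdeal M (centralChar (χ : G → ℂ) g))
    (χ₀ : IrrCharacter G) {χ ψ : IrrCharacter G}
    (hχ : χ ∈ blockOf M (χ₀ : G → ℂ)) (hψ : ψ ∉ blockOf M (χ₀ : G → ℂ)) :
    classInner (fun c : C => (χ : G → ℂ) c) (fun c : C => (ψ : G → ℂ) c) = 0 := by
  classical
  haveI := Fintype.ofFinite (ConjClasses G)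
  haveI hPr := isPrime_of_isPModular hM
  set B := blockOf M (χ₀ : G → ℂ) with hB
  by_contra hne
  -- the two parts of the block idempotent
  set zC : MonoidAlgebra ℂ G := ofFun (fun g => if g ∈ C then blockCoeff B g else 0) with hzC
  set zO : MonoidAlgebra ℂ G := ofFun (fun g => if g ∈ C then 0 else blockCoeff B g) with hzO
  have hconjC : ∀ g h : G, h * g * h⁻¹ ∈ C ↔ g ∈ C := by
    intro g h
    constructor
    · intro h1
      have := (inferInstance : C.Normal).conj_mem _ h1 h⁻¹
      simpa [mul_assoc] using this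
    · intro h1; exact (inferInstance : C.Normal).conj_mem _ h1 h
  have hzCc : zC ∈ Subalgebra.center ℂ (MonoidAlgebra ℂ G) := by
    refine mem_center_of_classFunction fun g h => ?_
    simp only [hzC, coeff_ofFun, hconjC, blockCoeff_conj]
  have hzOc : zO ∈ Subalgebra.center ℂ (MonoidAlgebra ℂ G) := by
    refine mem_center_of_classFunction fun g h => ?_
    simp only [hzO, coeff_ofFun, hconjC, blockCoeff_conj]
  have hsum : blockIdem B = zC + zO := by
    apply MonoidAlgebra.ext
    ext g
    simp only [hzC, hzO, MonoidAlgebra.coeff_add, Finsupp.coe_add, Pi.add_apply, coeff_ofFun,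
      coeff_blockIdem]
    split_ifs <;> simp
  have hzO_ideal : ∀ φ : IrrCharacter G, MemLocalIdeal M (omega (φ : G → ℂ) zO) := by
    intro φ
    rw [omega_eq_sum_centralChar (irr_isClassFunction φ) hzOc]
    refine memLocalIdeal_sum _ _ fun c _ => ?_
    simp only [hzO, coeff_ofFun]
    by_cases hc : classRep c ∈ C
    · rw [if_pos hc, zero_mul]; exact memLocalIdeal_zero hPr.ne_top
    · rw [if_neg hc]
      exact memLocalIdeal_mul_left (memLocalRing_blockCoeff hM χ₀ _) (hC _ hc φ)
  have hsupp : ∀ g : G, g ∉ C → zC.coeff g = 0 := by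
    intro g hg
    simp only [hzC, coeff_ofFun, if_neg hg]
  have heq := omega_eq_of_common_constituent C χ ψ hne hzCc hsupp
  have h1 : omega (χ : G → ℂ) zC = 1 - omega (χ : G → ℂ) zO := by
    have := omega_blockIdem B χ
    rw [if_pos hχ, hsum, omega_add] at this
    rw [← this]; ring
  have h2 : omega (ψ : G → ℂ) zC = 0 - omega (ψ : G → ℂ) zO := by
    have := omega_blockIdem B ψ
    rw [if_neg hψ, hsum, omega_add] at this
    rw [← this]; ring
  rw [h1, h2] at heq
  have h3 : (1 : ℂ) = omega (χ : G → ℂ) zO - omega (ψ : G → ℂ) zO := by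
    have : (1 : ℂ) - omega (χ : G → ℂ) zO + omega (χ : G → ℂ) zO =
      0 - omega (ψ : G → ℂ) zO + omega (χ : G → ℂ) zO := by rw [heq]
    rw [sub_add_cancel] at this
    rw [this]; ring
  exact not_memLocalIdeal_one (M := M) (h3 ▸ memLocalIdeal_sub (hzO_ideal χ) (hzO_ideal ψ))

include hM in
theorem blockCoeff_eq_zero_of_regular
    (hC : ∀ g : G, g ∉ C → ∀ χ : IrrCharacter G, MemLocalIdeal M (centralChar (χ : G → ℂ) g))
    (χ₀ : IrrCharacter G) {g : G} (hg : g ∉ C) :
    blockCoeff (blockOf M (χ₀ : G → ℂ)) g = 0 := by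
  classical
  haveI := Fintype.ofFinite (IrrCharacter G)
  haveI hPr := isPrime_of_isPModular hM
  set B := blockOf M (χ₀ : G → ℂ) with hB
  have hGne : (Nat.card G : ℂ) ≠ 0 := by exact_mod_cast (Nat.card_pos (α := G)).ne'
  have hCne : (Nat.card C : ℂ) ≠ 0 := by exact_mod_cast (Nat.card_pos (α := C)).ne'
  -- the restricted inner products
  set I : IrrCharacter G → IrrCharacter G → ℂ :=
    fun χ ψ => ∑ c : C, (χ : G → ℂ) c * conj ((ψ : G → ℂ) c) with hI
  have hI0 : ∀ χ ψ : IrrCharacter G, χ ∈ B → ψ ∉ B → I χ ψ = 0 := by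
    intro χ ψ hχ hψ
    have := orthogonal_of_regular hM C hC χ₀ hχ hψ
    rw [classInner] at this
    rcases mul_eq_zero.mp this with h | h
    · exact absurd (inv_eq_zero.mp h) hCne
    · exact h
  have hI0' : ∀ χ ψ : IrrCharacter G, χ ∉ B → ψ ∈ B → I χ ψ = 0 := by
    intro χ ψ hχ hψ
    have h := hI0 ψ χ hψ hχ
    have : I χ ψ = conj (I ψ χ) := by
      simp only [hI, map_sum, map_mul, Complex.conj_conj]
      exact Finset.sum_congr rfl fun c _ => mul_comm _ _
    rw [this, h, map_zero]
  -- the functions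
  set Φ : G → ℂ := fun x => ∑ χ : IrrCharacter G,
    (if χ ∈ B then (χ : G → ℂ) 1 * (χ : G → ℂ) x else 0) with hΦ
  set D : G → ℂ := fun x => if x ∈ C then 0 else Φ x with hD
  have hconjC : ∀ x h : G, h * x * h⁻¹ ∈ C ↔ x ∈ C := by
    intro x h
    constructor
    · intro h1
      have := (inferInstance : C.Normal).conj_mem _ h1 h⁻¹
      simpa [mul_assoc] using this
    · intro h1; exact (inferInstance : C.Normal).conj_mem _ h1 h
  have hΦc : IsClassFunction G Φ := by
    intro x h
    simp only [hΦ, irr_conj]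
  have hDc : IsClassFunction G D := by
    intro x h
    simp only [hD, hconjC, hΦc x h]
  have hreal : ∀ χ : IrrCharacter G, conj ((χ : G → ℂ) 1) = (χ : G → ℂ) 1 := by
    intro χ
    have := irr_inv χ (1 : G)
    rw [inv_one] at this
    exact this.symm
  have hD0 : D = 0 := by
    apply eq_zero_of_forall_classInner_irr_eq_zero D hDc
    intro ψ
    -- ⟨Φ, ψ⟩
    have h1 : classInner Φ (ψ : G → ℂ) = if ψ ∈ B then (ψ : G → ℂ) 1 else 0 := by
      have : Φ = ∑ χ : IrrCharacter G,
          (if χ ∈ B then (χ : G → ℂ) 1 else 0) • (χ : G → ℂ) := by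
        funext x
        simp only [hΦ, Finset.sum_apply, Pi.smul_apply, smul_eq_mul]
        refine Finset.sum_congr rfl fun χ _ => ?_
        split_ifs <;> simp
      rw [this, classInner_sum_left]
      simp only [classInner_smul_left, irr_orthonormal]
      rw [Finset.sum_eq_single ψ]
      · rw [if_pos rfl, mul_one]
      · intro χ _ hne; rw [if_neg hne, mul_zero]
      · intro h; exact absurd (Finset.mem_univ ψ) h
    -- ⟨Φ 1_C, ψ⟩
    have h2 : (Nat.card G : ℂ)⁻¹ * ∑ x : G, (if x ∈ C then Φ x else 0) * conj ((ψ : G → ℂ) x) =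
        if ψ ∈ B then (ψ : G → ℂ) 1 else 0 := by
      have e1 : ∑ x : G, (if x ∈ C then Φ x else 0) * conj ((ψ : G → ℂ) x) =
          ∑ c : C, Φ c * conj ((ψ : G → ℂ) c) := by
        simp only [ite_mul, zero_mul]
        rw [← Finset.sum_filter]
        rw [Finset.sum_subtype (Finset.univ.filter (fun h : G => h ∈ C)) (p := fun h => h ∈ C)
          (by simp) (fun x => Φ x * conj ((ψ : G → ℂ) x))]
      have e2 : ∑ c : C, Φ c * conj ((ψ : G → ℂ) c) =
          ∑ χ : IrrCharacter G, (if χ ∈ B then (χ : G → ℂ) 1 * I χ ψ else 0) := by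
        simp only [hΦ, hI, Finset.sum_mul]
        rw [Finset.sum_comm]
        refine Finset.sum_congr rfl fun χ _ => ?_
        split_ifs
        · rw [Finset.mul_sum]
          exact Finset.sum_congr rfl fun c _ => by ring
        · simp
      rw [e1, e2]
      by_cases hψ : ψ ∈ B
      · rw [if_pos hψ]
        have e3 : ∑ χ : IrrCharacter G, (if χ ∈ B then (χ : G → ℂ) 1 * I χ ψ else 0) =
            ∑ χ : IrrCharacter G, (χ : G → ℂ) 1 * I χ ψ := by
          refine Finset.sum_congr rfl fun χ _ => ?_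
          by_cases hχ : χ ∈ B
          · rw [if_pos hχ]
          · rw [if_neg hχ, hI0' χ ψ hχ hψ, mul_zero]
        have e4 : ∑ χ : IrrCharacter G, (χ : G → ℂ) 1 * I χ ψ =
            ∑ c : C, (∑ χ : IrrCharacter G, (χ : G → ℂ) 1 * (χ : G → ℂ) c) *
              conj ((ψ : G → ℂ) c) := by
          simp only [hI, Finset.mul_sum, Finset.sum_mul]
          rw [Finset.sum_comm]
          exact Finset.sum_congr rfl fun c _ => Finset.sum_congr rfl fun χ _ => by ring
        rw [e3, e4]
        simp only [sum_irr_one_mul]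
        rw [Finset.sum_eq_single (1 : C)]
        · rw [if_pos (by simp)]
          rw [Subgroup.coe_one, hreal ψ, ← mul_assoc, inv_mul_cancel₀ hGne, one_mul]
        · intro c _ hc
          rw [if_neg, zero_mul]
          intro h
          exact hc (Subtype.ext h)
        · intro h; exact absurd (Finset.mem_univ _) h
      · rw [if_neg hψ]
        have : ∑ χ : IrrCharacter G, (if χ ∈ B then (χ : G → ℂ) 1 * I χ ψ else 0) = 0 := by
          refine Finset.sum_eq_zero fun χ _ => ?_
          by_cases hχ : χ ∈ B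
          · rw [if_pos hχ, hI0 χ ψ hχ hψ, mul_zero]
          · rw [if_neg hχ]
        rw [this, mul_zero]
    -- combine
    have h3 : classInner D (ψ : G → ℂ) = classInner Φ (ψ : G → ℂ) -
        (Nat.card G : ℂ)⁻¹ * ∑ x : G, (if x ∈ C then Φ x else 0) * conj ((ψ : G → ℂ) x) := by
      rw [classInner, classInner, ← mul_sub, ← Finset.sum_sub_distrib]
      congr 1
      refine Finset.sum_congr rfl fun x _ => ?_
      simp only [hD]
      split_ifs <;> ring
    rw [h3, h1, h2, sub_self]
  have hΦg : Φ g = 0 := by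
    have := congrFun hD0 g
    simp only [hD, if_neg hg, Pi.zero_apply] at this
    exact this
  -- conclude
  unfold blockCoeff
  rw [finsum_mem_eq_sum_ite]
  have : ∑ χ : IrrCharacter G, (if χ ∈ B then (χ : G → ℂ) 1 * conj ((χ : G → ℂ) g) else 0) =
      conj (Φ g) := by
    simp only [hΦ, map_sum]
    refine Finset.sum_congr rfl fun χ _ => ?_
    split_ifs
    · rw [map_mul, hreal]
    · rw [map_zero]
  rw [this, hΦg, map_zero, mul_zero]

end Cfsg.Agent.Lib.L0.BlockSupport
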