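import Mathlib
import Cfsg.Agent.Lib.L0.RealPDegB

/-!
# Groups whose real irreducible characters have degree prime to `p`, II (lead's library)

Isaacs–Navarro: under the same hypotheses as in `RealPDegB`, if `O^{2'}(G)` has `p`-power index in
`G`, then `G` has a normal Sylow `p`-subgroup (`normal_sylow_of_index_qGen_two`).
-/

set_option autoImplicit false

universe u

namespace Cfsg.Agent.Lib.L0.RealPDeg

open Cfsg Cfsg.Agent.Lib.L0 Cfsg.Agent.Lib.H3

section Reduce

variable {G : Type*} [Group G] [Finite G]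

/-- Elements of `P ⊔ M` have a `p`-power power in `M`. -/
theorem exists_pow_mem_of_mem_sup (p : ℕ) [Fact p.Prime] (P : Sylow p G) (M : Subgroup G)
    [M.Normal] {x : G} (hx : x ∈ (P : Subgroup G) ⊔ M) : ∃ k : ℕ, x ^ p ^ k ∈ M := by
  have h1 : QuotientGroup.mk' M x ∈ (P : Subgroup G).map (QuotientGroup.mk' M) := by
    have : ((P : Subgroup G) ⊔ M).map (QuotientGroup.mk' M) =
        (P : Subgroup G).map (QuotientGroup.mk' M) := by
      have hMmap : M.map (QuotientGroup.mk' M) = ⊥ :=
        (Subgroup.map_eq_bot_iff M).mpr (by rw [QuotientGroup.ker_mk'])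
      rw [Subgroup.map_sup, hMmap, sup_bot_eq]
    rw [← this]
    exact ⟨x, hx, rfl⟩
  obtain ⟨k, hk⟩ := (P.2.map (QuotientGroup.mk' M)) ⟨_, h1⟩
  refine ⟨k, ?_⟩
  have h2 : (QuotientGroup.mk' M x) ^ p ^ k = 1 := by
    have := congrArg Subtype.val hk
    simpa using this
  rwa [← map_pow, QuotientGroup.mk'_apply, QuotientGroup.eq_one_iff] at h2

/-- The reduction step common to the inductions: `M` minimal normal, `PM ⊴ G`. -/
theorem reduce_minNormal (p : ℕ) [hp : Fact p.Prime] (hsolv : Group.IsSolvable (qGen p G))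
    (P : Sylow p G) (M : Subgroup G) (hMmin : IsMinNormal M)
    (hPM : ((P : Subgroup G) ⊔ M).Normal) :
    (P : Subgroup G).Normal ∨
      ((∀ a ∈ M, ∀ b ∈ M, a * b = b * a) ∧ (∀ m ∈ M, ∀ k : ℕ, m ^ p ^ k = 1 → m = 1) ∧
        M ⊓ Subgroup.centralizer ((P : Subgroup G) : Set G) = ⊥ ∧
        M ⊔ Subgroup.normalizer ((P : Subgroup G) : Set G) = ⊤ ∧
        M ⊓ Subgroup.normalizer ((P : Subgroup G) : Set G) = ⊥) := by
  classical
  obtain ⟨hMn, hM1, hMmin⟩ := hMmin
  haveI := hMn
  haveI := hPM
  -- Frattini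
  have hfrat : Subgroup.normalizer ((P : Subgroup G) : Set G) ⊔ M = ⊤ := by
    have h1 : Subgroup.normalizer ((P : Subgroup G) : Set G) ⊔ ((P : Subgroup G) ⊔ M) = ⊤ :=
      Sylow.normalizer_sup_eq_top' (N := (P : Subgroup G) ⊔ M) P le_sup_left
    have h2 : (P : Subgroup G) ≤ Subgroup.normalizer ((P : Subgroup G) : Set G) :=
      Subgroup.le_normalizer
    rw [← sup_assoc, sup_of_le_left h2] at h1
    exact h1
  set L : Subgroup G := qGen p G with hL
  have hPL : (P : Subgroup G) ≤ L := le_qGen_of_isPGroup p P.2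
  have hLPM : L ≤ (P : Subgroup G) ⊔ M := by
    rw [hL]
    unfold qGen
    rw [Subgroup.closure_le]
    rintro x ⟨k, hk⟩
    have hpg : IsPGroup p (Subgroup.zpowers x) := isPGroup_zpowers_of_orderOf p hk
    obtain ⟨Q, hQ⟩ := hpg.exists_le_sylow
    obtain ⟨g, rfl⟩ := MulAction.exists_smul_eq G P Q
    have hx : x ∈ ((g • P : Sylow p G) : Subgroup G) := hQ (Subgroup.mem_zpowers x)
    rw [Sylow.coe_subgroup_smul, Subgroup.mem_pointwise_smul_iff_inv_smul_mem] at hx
    have hx' : g⁻¹ * x * g⁻¹⁻¹ ∈ (P : Subgroup G) ⊔ M := by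
      apply (le_sup_left : (P : Subgroup G) ≤ (P : Subgroup G) ⊔ M)
      simpa [MulAut.smul_def, MulAut.conj_apply] using hx
    have := hPM.conj_mem _ hx' g
    simpa [mul_assoc] using this
  have hML : M ⊓ L = ⊥ ∨ M ⊓ L = M :=
    hMmin (M ⊓ L) inferInstance inf_le_left
  rcases hML with hML | hML
  · -- L is a p-group, hence L = P
    left
    have hLp : IsPGroup p L := by
      intro x
      have hxPM : (x : G) ∈ (P : Subgroup G) ⊔ M := hLPM x.2
      obtain ⟨k, h2⟩ := exists_pow_mem_of_mem_sup p P M hxPM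
      refine ⟨k, ?_⟩
      have h3 : (x : G) ^ p ^ k ∈ M ⊓ L := ⟨h2, L.pow_mem x.2 _⟩
      rw [hML, Subgroup.mem_bot] at h3
      apply Subtype.ext
      rw [Subgroup.coe_pow, h3]
      rfl
    have hLP : L = (P : Subgroup G) := P.3 hLp hPL
    rw [← hLP]
    infer_instance
  · -- M ≤ L, so M is abelian
    have hMleL : M ≤ L := by rw [← hML]; exact inf_le_right
    haveI := hsolv
    haveI hMsolv : Group.IsSolvable M :=
      Group.isSolvable_of_isSolvable_injective (Subgroup.inclusion_injective hMleL)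
    have hcomm_lt : ⁅M, M⁆ < M := by
      haveI : Nontrivial M := (Subgroup.nontrivial_iff_ne_bot M).mpr hM1
      rw [← M.range_subtype, MonoidHom.range_eq_map, ← Subgroup.map_commutator,
        Subgroup.map_subtype_lt_map_subtype]
      exact Group.IsSolvable.commutator_lt_top_of_nontrivial M
    have hcomm_bot : ⁅M, M⁆ = ⊥ := by
      rcases hMmin ⁅M, M⁆ inferInstance hcomm_lt.le with h | h
      · exact h
      · exact absurd h hcomm_lt.ne
    have hMab : ∀ a ∈ M, ∀ b ∈ M, a * b = b * a := by
      intro a ha b hb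
      have h1 := (Subgroup.commutator_eq_bot_iff_le_centralizer.mp hcomm_bot) ha
      rw [Subgroup.mem_centralizer_iff] at h1
      exact (h1 b hb).symm
    -- the p-elements of M
    let Tp : Subgroup G :=
      { carrier := {m | m ∈ M ∧ ∃ k : ℕ, m ^ p ^ k = 1}
        one_mem' := ⟨M.one_mem, 0, by simp⟩
        mul_mem' := by
          rintro a b ⟨ha, k, hk⟩ ⟨hb, l, hl⟩
          refine ⟨M.mul_mem ha hb, k + l, ?_⟩
          have hc : Commute a b := hMab a ha b hb
          rw [hc.mul_pow, pow_add, pow_mul, hk, one_pow, mul_comm (p ^ k), pow_mul, hl, one_pow,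
            one_mul]
        inv_mem' := by
          rintro a ⟨ha, k, hk⟩
          exact ⟨M.inv_mem ha, k, by rw [inv_pow, hk, inv_one]⟩ }
    have hTpn : Tp.Normal := by
      constructor
      rintro a ⟨ha, k, hk⟩ g
      refine ⟨hMn.conj_mem a ha g, k, ?_⟩
      rw [conj_pow, hk]
      simp
    have hTple : Tp ≤ M := fun a ha => ha.1
    rcases hMmin Tp hTpn hTple with hTp | hTp
    · -- M has no nontrivial p-elements
      have hnop : ∀ m ∈ M, ∀ k : ℕ, m ^ p ^ k = 1 → m = 1 := by
        intro m hm k hk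
        have : m ∈ Tp := ⟨hm, k, hk⟩
        rw [hTp, Subgroup.mem_bot] at this
        exact this
      set C : Subgroup G := M ⊓ Subgroup.centralizer ((P : Subgroup G) : Set G) with hC
      have hCeq : C = M ⊓ Subgroup.centralizer (((P : Subgroup G) ⊔ M : Subgroup G) : Set G) := by
        apply le_antisymm
        · intro c hc
          have hc' := Subgroup.mem_inf.mp hc
          refine Subgroup.mem_inf.mpr ⟨hc'.1, ?_⟩
          have h1 : (P : Subgroup G) ⊔ M ≤ Subgroup.centralizer ({c} : Set G) := by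
            apply sup_le
            · intro x hx
              rw [Subgroup.mem_centralizer_singleton_iff]
              exact (Subgroup.mem_centralizer_iff.mp hc'.2) x hx
            · intro x hx
              rw [Subgroup.mem_centralizer_singleton_iff]
              exact (hMab c hc'.1 x hx).symm
          rw [Subgroup.mem_centralizer_iff]
          intro x hx
          have := h1 hx
          rw [Subgroup.mem_centralizer_singleton_iff] at this
          exact this
        · intro c hc
          have hc' := Subgroup.mem_inf.mp hc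
          refine Subgroup.mem_inf.mpr ⟨hc'.1, ?_⟩
          exact Subgroup.centralizer_le (by
            intro x hx
            exact (le_sup_left : (P : Subgroup G) ≤ (P : Subgroup G) ⊔ M) hx) hc'.2
      have hCn : C.Normal := by
        rw [hCeq]
        infer_instance
      rcases hMmin C hCn inf_le_left with hCbot | hCM
      · right
        refine ⟨hMab, hnop, hCbot, by rw [sup_comm]; exact hfrat, ?_⟩
        rw [eq_bot_iff]
        intro m hm
        have hmC : m ∈ C := by
          refine Subgroup.mem_inf.mpr ⟨hm.1, ?_⟩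
          rw [Subgroup.mem_centralizer_iff]
          intro x hx
          have h1 : m * x * m⁻¹ ∈ (P : Subgroup G) :=
            (Subgroup.mem_normalizer_iff.mp hm.2 x).mp hx
          have h2 : m * x * m⁻¹ * x⁻¹ ∈ (P : Subgroup G) :=
            (P : Subgroup G).mul_mem h1 ((P : Subgroup G).inv_mem hx)
          have h3 : m * x * m⁻¹ * x⁻¹ ∈ M := by
            have h4 : x * m⁻¹ * x⁻¹ ∈ M := hMn.conj_mem _ (M.inv_mem hm.1) x
            have h5 : m * x * m⁻¹ * x⁻¹ = m * (x * m⁻¹ * x⁻¹) := by group
            rw [h5]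
            exact M.mul_mem hm.1 h4
          obtain ⟨k, hk⟩ := (P.2) ⟨_, h2⟩
          have hk' : (m * x * m⁻¹ * x⁻¹) ^ p ^ k = 1 := by
            have := congrArg Subtype.val hk
            simpa using this
          have h6 := hnop _ h3 k hk'
          calc x * m = (m * x * m⁻¹ * x⁻¹)⁻¹ * (m * x) := by group
            _ = m * x := by rw [h6]; simp
        rw [hCbot] at hmC
        exact hmC
      · -- M centralizes P
        left
        have hMN : M ≤ Subgroup.normalizer ((P : Subgroup G) : Set G) := by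
          intro m hm
          have hmc : m ∈ Subgroup.centralizer ((P : Subgroup G) : Set G) := by
            have : m ∈ C := by rw [hCM]; exact hm
            exact this.2
          exact Subgroup.centralizer_le_normalizer _ hmc
        rw [sup_of_le_left hMN] at hfrat
        exact Subgroup.normalizer_eq_top_iff.mp hfrat
    · -- M is a p-group
      left
      have hMp : IsPGroup p M := by
        intro x
        have hx : (x : G) ∈ Tp := by rw [hTp]; exact x.2
        obtain ⟨k, hk⟩ := hx.2
        exact ⟨k, Subtype.ext (by rw [Subgroup.coe_pow, hk]; rfl)⟩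
      have hPMp : IsPGroup p ((P : Subgroup G) ⊔ M : Subgroup G) :=
        IsPGroup.to_sup_of_normal_right P.2 hMp
      have hPMeq : (P : Subgroup G) ⊔ M = (P : Subgroup G) := P.3 hPMp le_sup_left
      rw [← hPMeq]
      exact hPM

omit [Finite G] in
/-- A `2`-element not centralizing the normal subgroup `M` produces a nonidentity real element of
`M`. -/
theorem real_elt_of_two_elt (M : Subgroup G) [hMn : M.Normal] (t : G) (k : ℕ)
    (hk : orderOf t = 2 ^ k) (htc : t ∉ Subgroup.centralizer (M : Set G)) :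
    ∃ m ∈ M, m ≠ 1 ∧ IsConj m m⁻¹ := by
  classical
  have hfind : ∃ j : ℕ, t ^ 2 ^ j ∈ Subgroup.centralizer (M : Set G) :=
    ⟨k, by rw [← hk, pow_orderOf_eq_one]; exact Subgroup.one_mem _⟩
  have hj0 : Nat.find hfind ≠ 0 := by
    intro h0
    have := Nat.find_spec hfind
    rw [h0, pow_zero, pow_one] at this
    exact htc this
  obtain ⟨j, hj⟩ := Nat.exists_eq_succ_of_ne_zero hj0
  set s : G := t ^ 2 ^ j with hs
  have hs2 : s * s ∈ Subgroup.centralizer (M : Set G) := by
    have := Nat.find_spec hfind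
    rw [hj, pow_succ, pow_mul, ← hs, pow_two] at this
    exact this
  have hsc : s ∉ Subgroup.centralizer (M : Set G) := by
    have := Nat.find_min hfind (m := j) (by omega)
    exact this
  rw [Subgroup.mem_centralizer_iff] at hsc
  push Not at hsc
  obtain ⟨m₀, hm₀, hne⟩ := hsc
  have hm₀' : s * m₀ * s⁻¹ ∈ M := hMn.conj_mem m₀ hm₀ s
  have hmM : m₀⁻¹ * (s * m₀ * s⁻¹) ∈ M := M.mul_mem (M.inv_mem hm₀) hm₀'
  have hm1 : m₀⁻¹ * (s * m₀ * s⁻¹) ≠ 1 := by
    intro h1
    apply hne
    have h2 : s * m₀ * s⁻¹ = m₀ := by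
      have : m₀ * (m₀⁻¹ * (s * m₀ * s⁻¹)) = m₀ := by rw [h1, mul_one]
      rw [mul_inv_cancel_left] at this
      exact this
    calc m₀ * s = (s * m₀ * s⁻¹) * s := by rw [h2]
      _ = s * m₀ := by group
  have hconj : s * (m₀⁻¹ * (s * m₀ * s⁻¹)) * s⁻¹ = (m₀⁻¹ * (s * m₀ * s⁻¹))⁻¹ := by
    have h1 : m₀ * (s * s) = s * s * m₀ := (Subgroup.mem_centralizer_iff.mp hs2) m₀ hm₀
    calc s * (m₀⁻¹ * (s * m₀ * s⁻¹)) * s⁻¹
        = (s * m₀ * s⁻¹)⁻¹ * ((s * s * m₀) * (s * s)⁻¹) := by group
      _ = (s * m₀ * s⁻¹)⁻¹ * ((m₀ * (s * s)) * (s * s)⁻¹) := by rw [h1]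
      _ = (m₀⁻¹ * (s * m₀ * s⁻¹))⁻¹ := by group
  exact ⟨_, hmM, hm1, isConj_iff.mpr ⟨s, hconj⟩⟩

/-- The index condition passes to quotients. -/
theorem index_qGen_quotient (p : ℕ) [hp : Fact p.Prime] (M : Subgroup G) [M.Normal]
    (h : ∃ a : ℕ, (qGen 2 G).index = p ^ a) : ∃ b : ℕ, (qGen 2 (G ⧸ M)).index = p ^ b := by
  haveI : Fact (Nat.Prime 2) := ⟨Nat.prime_two⟩
  obtain ⟨a, ha⟩ := h
  have h1 : qGen 2 (G ⧸ M) = (qGen 2 G).map (QuotientGroup.mk' M) :=
    le_antisymm (qGen_quotient_le 2 M) (map_qGen_le 2 _)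
  have h2 : ((qGen 2 G).map (QuotientGroup.mk' M)).index ∣ (qGen 2 G).index :=
    Subgroup.index_map_dvd _ (QuotientGroup.mk'_surjective M)
  rw [← h1, ha] at h2
  obtain ⟨b, _, hb⟩ := (Nat.dvd_prime_pow hp.out).mp h2
  exact ⟨b, hb⟩

end Reduce

section Induction

/-- The inductive core: `O^{2'}(G)` of `p`-power index. -/
theorem normal_sylow_aux2 (p : ℕ) [hp : Fact p.Prime] : ∀ (n : ℕ) (G : Type u) [Group G] [Fintype G],
    Nat.card G = n → Group.IsSolvable (qGen p G) → RealHyp p G →
    (∃ a : ℕ, (qGen 2 G).index = p ^ a) →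
    ∀ P : Sylow p G, (P : Subgroup G).Normal := by
  intro n
  induction n using Nat.strong_induction_on with
  | _ n ih =>
    intro G _ _ hcard hsolv hreal hidx P
    classical
    haveI : Fact (Nat.Prime 2) := ⟨Nat.prime_two⟩
    by_cases htriv : (⊤ : Subgroup G) = ⊥
    · have h1 : (P : Subgroup G) = ⊥ := by
        apply le_antisymm _ bot_le
        rw [← htriv]; exact le_top
      rw [h1]
      infer_instance
    set K : Subgroup G := qGen 2 G with hK
    -- the Sylow p-subgroup of K
    let Q₀ : Sylow p K := default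
    have hQ₀n : (Q₀ : Subgroup K).Normal := normal_sylow_qGen_two p hsolv hreal Q₀
    haveI hQ₀c : (Q₀ : Subgroup K).Characteristic := Sylow.characteristic_of_normal Q₀ hQ₀n
    set Q : Subgroup G := (Q₀ : Subgroup K).map K.subtype with hQ
    haveI hQn : Q.Normal := ConjAct.normal_of_characteristic_of_normal
    have hQp : IsPGroup p Q := Q₀.2.map K.subtype
    by_cases hQbot : Q = ⊥
    swap
    · -- pass to G/Q
      have := Fintype.ofFinite (G ⧸ Q)
      have hcardlt : Nat.card (G ⧸ Q) < n := by
        have h1 := Q.card_mul_index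
        rw [Subgroup.index_eq_card, hcard] at h1
        have h2 : 1 < Nat.card Q := by
          rw [Subgroup.one_lt_card_iff_ne_bot]
          exact hQbot
        have h3 : 0 < Nat.card (G ⧸ Q) := Nat.card_pos
        nlinarith
      have hπ := QuotientGroup.mk'_surjective Q
      have hPbar : ((P.mapSurjective hπ : Sylow p (G ⧸ Q)) : Subgroup (G ⧸ Q)).Normal :=
        ih _ hcardlt (G ⧸ Q) rfl (isSolvable_qGen_quotient p Q hsolv) (realHyp_quotient p Q hreal)
          (index_qGen_quotient p Q hidx) _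
      rw [Sylow.coe_mapSurjective] at hPbar
      have hPQ : ((P : Subgroup G) ⊔ Q).Normal := by
        have h1 : (((P : Subgroup G).map (QuotientGroup.mk' Q)).comap (QuotientGroup.mk' Q)).Normal :=
          hPbar.comap _
        rwa [Subgroup.comap_map_eq, QuotientGroup.ker_mk'] at h1
      have hPQp : IsPGroup p ((P : Subgroup G) ⊔ Q : Subgroup G) :=
        IsPGroup.to_sup_of_normal_right P.2 hQp
      have hPQeq : (P : Subgroup G) ⊔ Q = (P : Subgroup G) := P.3 hPQp le_sup_left
      rw [← hPQeq]
      exact hPQ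
    -- now K is a p'-group
    have hpK : ¬ p ∣ Nat.card K := by
      intro hdvd
      have h1 := Q₀.ne_bot_of_dvd_card hdvd
      apply h1
      exact (Subgroup.map_eq_bot_iff_of_injective _ K.subtype_injective).mp hQbot
    obtain ⟨M, hMmin, -⟩ := exists_isMinNormal_le (⊤ : Subgroup G) inferInstance htriv
    obtain ⟨hMn, hM1, -⟩ := id hMmin
    haveI := hMn
    have := Fintype.ofFinite (G ⧸ M)
    have hcardlt : Nat.card (G ⧸ M) < n := by
      have h1 := M.card_mul_index
      rw [Subgroup.index_eq_card, hcard] at h1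
      have h2 : 1 < Nat.card M := by
        rw [Subgroup.one_lt_card_iff_ne_bot]
        exact hM1
      have h3 : 0 < Nat.card (G ⧸ M) := Nat.card_pos
      nlinarith
    have hπ := QuotientGroup.mk'_surjective M
    have hPbar : ((P.mapSurjective hπ : Sylow p (G ⧸ M)) : Subgroup (G ⧸ M)).Normal :=
      ih _ hcardlt (G ⧸ M) rfl (isSolvable_qGen_quotient p M hsolv) (realHyp_quotient p M hreal)
        (index_qGen_quotient p M hidx) _
    rw [Sylow.coe_mapSurjective] at hPbar
    have hPM : ((P : Subgroup G) ⊔ M).Normal := by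
      have h1 : (((P : Subgroup G).map (QuotientGroup.mk' M)).comap (QuotientGroup.mk' M)).Normal :=
        hPbar.comap _
      rwa [Subgroup.comap_map_eq, QuotientGroup.ker_mk'] at h1
    rcases reduce_minNormal p hsolv P M hMmin hPM with hPn | ⟨hMab, hnop, hCbot, hsup, hinf⟩
    · exact hPn
    have htrivM : ∀ χ : IrrCharacter G, (∀ g : G, ((χ : G → ℂ) g).im = 0) →
        ∀ m ∈ M, (χ : G → ℂ) m = (χ : G → ℂ) 1 := by
      intro χ hχ
      exact trivial_on_of_no_fixed p M (P : Subgroup G) P.2 hCbot χ (hreal χ hχ)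
    have hnoreal : ∀ m ∈ M, IsConj m m⁻¹ → m = 1 := fun m hm hr =>
      not_real_of_complement M _ hsup hinf htrivM m hm hr
    by_cases hKM : K ≤ Subgroup.centralizer (M : Set G)
    swap
    · exfalso
      have hex : ∃ t : G, (∃ k : ℕ, orderOf t = 2 ^ k) ∧
          t ∉ Subgroup.centralizer (M : Set G) := by
        by_contra hcon
        push Not at hcon
        apply hKM
        rw [hK]
        unfold qGen
        rw [Subgroup.closure_le]
        intro t ht
        exact hcon t ht
      obtain ⟨t, ⟨k, hk⟩, htc⟩ := hex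
      obtain ⟨m, hmM, hm1, hmr⟩ := real_elt_of_two_elt M t k hk htc
      exact hm1 (hnoreal m hmM hmr)
    -- all 2-elements centralize M
    have hinv2 : ∀ m ∈ M, m * m = 1 → m = 1 := by
      intro m hm hmm
      apply hnoreal m hm
      have : m⁻¹ = m := inv_eq_of_mul_eq_one_left hmm
      rw [this]
    have hno2 : ∀ j : ℕ, ∀ z ∈ M, z ^ 2 ^ j = 1 → z = 1 := by
      intro j
      induction j with
      | zero => intro z _ hz; simpa using hz
      | succ j ihj =>
        intro z hz hzj
        apply ihj z hz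
        apply hinv2 _ (M.pow_mem hz _)
        rw [← pow_two, ← pow_mul, ← pow_succ]
        exact hzj
    have hKPM : ∀ y ∈ K, y ∈ (P : Subgroup G) ⊔ M → y ∈ M := by
      intro y hyK hyPM
      obtain ⟨k, hk⟩ := exists_pow_mem_of_mem_sup p P M hyPM
      have h1 : orderOf y ∣ Nat.card K := by
        have := orderOf_dvd_natCard (⟨y, hyK⟩ : K)
        rwa [Subgroup.orderOf_mk] at this
      have h2 : Nat.Coprime p (Nat.card K) := (Nat.Prime.coprime_iff_not_dvd hp.out).mpr hpK
      have hcop : Nat.Coprime (p ^ k) (orderOf y) :=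
        Nat.Coprime.coprime_dvd_right h1 (Nat.Coprime.pow_left k h2)
      obtain ⟨e, he⟩ := exists_pow_eq_self_of_coprime hcop
      rw [← he]
      exact M.pow_mem hk e
    have hKP : K ≤ Subgroup.centralizer ((P : Subgroup G) : Set G) := by
      rw [hK]
      unfold qGen
      rw [Subgroup.closure_le]
      rintro t ⟨j, hj⟩
      rw [SetLike.mem_coe, Subgroup.mem_centralizer_iff]
      intro x hx
      have htK : t ∈ K := mem_qGen_of_orderOf 2 hj
      have htM : ∀ m ∈ M, m * t = t * m := fun m hm =>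
        (Subgroup.mem_centralizer_iff.mp (hKM htK)) m hm
      set z := t * x * t⁻¹ * x⁻¹ with hz
      have hzK : z ∈ K := by
        have h1 : x * t⁻¹ * x⁻¹ ∈ K := (qGen_normal 2).conj_mem _ (K.inv_mem htK) x
        have : z = t * (x * t⁻¹ * x⁻¹) := by rw [hz]; group
        rw [this]
        exact K.mul_mem htK h1
      have hzPM : z ∈ (P : Subgroup G) ⊔ M := by
        have hxPM : x ∈ (P : Subgroup G) ⊔ M := (le_sup_left : (P : Subgroup G) ≤ _) hx
        have h1 := hPM.conj_mem x hxPM t
        exact Subgroup.mul_mem _ h1 (Subgroup.inv_mem _ hxPM)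
      have hzM : z ∈ M := hKPM z hzK hzPM
      have hc : Commute t z := (htM z hzM).symm
      have hpow : ∀ i : ℕ, t ^ i * x * (t ^ i)⁻¹ * x⁻¹ = z ^ i := by
        intro i
        induction i with
        | zero => simp
        | succ i ihi =>
          have h1 : t ^ (i + 1) * x * (t ^ (i + 1))⁻¹ * x⁻¹ =
              t * (t ^ i * x * (t ^ i)⁻¹ * x⁻¹) * t⁻¹ * (t * x * t⁻¹ * x⁻¹) := by
            rw [pow_succ']; group
          rw [h1, ihi, ← hz]
          have hc' : Commute t (z ^ i) := hc.pow_right i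
          calc t * z ^ i * t⁻¹ * z = z ^ i * t * t⁻¹ * z := by rw [hc'.eq]
            _ = z ^ (i + 1) := by rw [mul_inv_cancel_right, pow_succ]
      have hz2 : z ^ 2 ^ j = 1 := by
        rw [← hpow, ← hj, pow_orderOf_eq_one]
        group
      have hz1 : z = 1 := hno2 j z hzM hz2
      calc x * t = (t * x * t⁻¹ * x⁻¹)⁻¹ * (t * x) := by group
        _ = t * x := by rw [← hz, hz1]; simp
    -- P K = G
    obtain ⟨a, ha⟩ := hidx
    have hidx1 : ((P : Subgroup G) ⊔ K).index = 1 := by
      have h1 : ((P : Subgroup G) ⊔ K).index ∣ K.index := Subgroup.index_dvd_of_le le_sup_right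
      have h2 : ((P : Subgroup G) ⊔ K).index ∣ (P : Subgroup G).index :=
        Subgroup.index_dvd_of_le le_sup_left
      rw [ha] at h1
      obtain ⟨b, _, hb⟩ := (Nat.dvd_prime_pow hp.out).mp h1
      rcases Nat.eq_zero_or_pos b with hb0 | hb0
      · rw [hb, hb0, pow_zero]
      · exfalso
        apply P.not_dvd_index
        refine dvd_trans ?_ h2
        rw [hb]
        exact dvd_pow_self p hb0.ne'
    have htop : (P : Subgroup G) ⊔ K = ⊤ := Subgroup.index_eq_one.mp hidx1
    have hle : (P : Subgroup G) ⊔ K ≤ Subgroup.normalizer ((P : Subgroup G) : Set G) :=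
      sup_le Subgroup.le_normalizer (hKP.trans (Subgroup.centralizer_le_normalizer _))
    rw [htop] at hle
    exact Subgroup.normalizer_eq_top_iff.mp (top_le_iff.mp hle)

end Induction

section Main

variable {G : Type u} [Group G] [Finite G]

/-- **Isaacs–Navarro**: if moreover `O^{2'}(G)` has `p`-power index, then `G` has a normal Sylow
`p`-subgroup. -/
theorem normal_sylow_of_index_qGen_two (p : ℕ) [Fact p.Prime] (hsolv : Group.IsSolvable (qGen p G))
    (hreal : RealHyp p G) (hidx : ∃ a : ℕ, (qGen 2 G).index = p ^ a) (P : Sylow p G) :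
    (P : Subgroup G).Normal := by
  classical
  have := Fintype.ofFinite G
  exact normal_sylow_aux2 p _ G rfl hsolv hreal hidx P

end Main

end Cfsg.Agent.Lib.L0.RealPDeg
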