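import Mathlib
import Cfsg.Agent.Lib.L0.RealPDegC
import Cfsg.Agent.Lib.H24.CoprimeAbove

/-!
# Groups whose real irreducible characters have degree prime to `p`, III (lead's library)

* `exists_linear_constituent`: a character of degree prime to `p` of a `p`-group has a linear
  constituent;
* `trivial_on_derived_sylow`: irreducible characters of degree prime to `p` are trivial on normal
  subgroups contained in the derived subgroup of a Sylow `p`-subgroup;
* `exists_real_in_coset`, `not_real_of_odd`: if every real irreducible character of `G` is trivial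
  on the normal subgroup `M` of odd order, then `M` has no nonidentity real element;
* `qGen_two_le_centralizer`: Isaacs–Navarro's centralizing statement.
-/

set_option autoImplicit false

universe u

namespace Cfsg.Agent.Lib.L0.RealPDeg

open Cfsg Cfsg.Agent.Lib.L0 Cfsg.Agent.Lib.H3 Cfsg.Agent.Lib.H23 Cfsg.Agent.Lib.H24

section Clifford

variable {G : Type*} [Group G] [Fintype G]

/-- If the restriction of `χ ∈ Irr(G)` to `M ⊴ G` contains the trivial character then `χ` is trivial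
on `M`. -/
theorem trivial_on_of_classInner_ne_zero (M : Subgroup G) [hM : M.Normal] [Fintype M]
    (χ : IrrCharacter G)
    (hcon : classInner (fun n : M => (χ : G → ℂ) n) (fun _ => (1 : ℂ)) ≠ 0) :
    ∀ m ∈ M, (χ : G → ℂ) m = (χ : G → ℂ) 1 := by
  classical
  have hone := isIrrCharacter_const_one M
  have hcl := Cfsg.Agent.S0174.result M hM (χ : G → ℂ) χ.2 (fun _ => (1 : ℂ)) hone hcon
  have hset : {ψ : M → ℂ | ∃ g : G, ψ = fun n : M =>
      (fun _ : M => (1 : ℂ)) ⟨g * n * g⁻¹, hM.conj_mem n n.2 g⟩} = {fun _ => (1 : ℂ)} := by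
    ext ψ
    simp only [Set.mem_setOf_eq, Set.mem_singleton_iff]
    constructor
    · rintro ⟨g, rfl⟩; rfl
    · intro h; exact ⟨1, h⟩
  rw [hset, finsum_mem_singleton] at hcl
  intro m hm
  have h1 := congrFun hcl ⟨m, hm⟩
  have h2 := congrFun hcl 1
  simp only [Pi.smul_apply, smul_eq_mul, mul_one] at h1 h2
  rw [h1]
  exact h2.symm

end Clifford

section Linear

theorem list_sum_apply_one_dvd {H : Type*} [Group H] [Finite H] (p : ℕ) :
    ∀ l : List (H → ℂ), (∀ ψ ∈ l, IsIrrCharacter H ψ) → (∀ ψ ∈ l, p ∣ charDegree ψ) →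
      ∃ n : ℕ, l.sum 1 = (n : ℂ) ∧ p ∣ n := by
  intro l
  induction l with
  | nil => intro _ _; exact ⟨0, by simp, dvd_zero p⟩
  | cons ψ l ih =>
    intro hl hd
    obtain ⟨n, hn, hpn⟩ := ih (fun φ hφ => hl φ (List.mem_cons_of_mem _ hφ))
      (fun φ hφ => hd φ (List.mem_cons_of_mem _ hφ))
    refine ⟨charDegree ψ + n, ?_, dvd_add (hd ψ List.mem_cons_self) hpn⟩
    rw [List.sum_cons, Pi.add_apply, hn, apply_one_eq_charDegree ψ (hl ψ List.mem_cons_self)]
    push_cast
    rfl

/-- A character of degree prime to `p` of a `p`-group has a linear constituent. -/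
theorem exists_linear_constituent {H : Type*} [Group H] [Fintype H] (p : ℕ) [hp : Fact p.Prime]
    (hH : IsPGroup p H) (χ : H → ℂ) (hχ : IsCharacter H χ) (d : ℕ) (hd : χ 1 = d)
    (hpd : ¬ p ∣ d) :
    ∃ lam : H → ℂ, IsIrrCharacter H lam ∧ lam 1 = 1 ∧ classInner χ lam ≠ 0 := by
  classical
  obtain ⟨l, hl, rfl⟩ := isCharacter_exists_irr_decomp hχ
  have hex : ∃ ψ ∈ l, ¬ p ∣ charDegree ψ := by
    by_contra hcon
    push Not at hcon
    obtain ⟨n, hn, hpn⟩ := list_sum_apply_one_dvd p l hl hcon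
    rw [hd] at hn
    have : d = n := by exact_mod_cast hn
    exact hpd (this ▸ hpn)
  obtain ⟨ψ, hψl, hψd⟩ := hex
  have hψ := hl ψ hψl
  obtain ⟨k, hk⟩ := IsPGroup.iff_card.mp hH
  have h1 : charDegree ψ ∣ p ^ k := by rw [← hk]; exact charDegree_dvd_card ψ hψ
  obtain ⟨j, _, hj⟩ := (Nat.dvd_prime_pow hp.out).mp h1
  have hj0 : j = 0 := by
    by_contra hne
    apply hψd
    rw [hj]
    exact dvd_pow_self p hne
  refine ⟨ψ, hψ, ?_, ?_⟩
  · rw [apply_one_eq_charDegree ψ hψ, hj, hj0]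
    simp
  · rw [classInner_irr_list_sum hl hψ]
    exact Nat.cast_ne_zero.mpr (List.count_pos_iff.mpr hψl).ne'

variable {G : Type*} [Group G] [Fintype G]

/-- Irreducible characters of degree prime to `p` are trivial on normal subgroups contained in the
derived subgroup of a Sylow `p`-subgroup. -/
theorem trivial_on_derived_sylow (p : ℕ) [hp : Fact p.Prime] (P : Sylow p G) (M : Subgroup G)
    [hM : M.Normal] (hMP : M ≤ ⁅(P : Subgroup G), (P : Subgroup G)⁆) (χ : IrrCharacter G)
    (hdeg : ¬ p ∣ charDegree (χ : G → ℂ)) : ∀ m ∈ M, (χ : G → ℂ) m = (χ : G → ℂ) 1 := by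
  classical
  have : Fintype M := Fintype.ofFinite M
  have : Fintype (P : Subgroup G) := Fintype.ofFinite _
  have : Fintype (M.subgroupOf (P : Subgroup G)) := Fintype.ofFinite _
  have hMleP : M ≤ (P : Subgroup G) := hMP.trans (Subgroup.commutator_le_self _)
  have hχc := isCharacter_of_irr χ.2
  have hχP : IsCharacter (P : Subgroup G) (fun x : (P : Subgroup G) => (χ : G → ℂ) x) :=
    isCharacter_restrict (P : Subgroup G) hχc
  have hd : (fun x : (P : Subgroup G) => (χ : G → ℂ) x) 1 = (charDegree (χ : G → ℂ) : ℂ) := by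
    show (χ : G → ℂ) ((1 : (P : Subgroup G)) : G) = _
    rw [Subgroup.coe_one]
    exact apply_one_eq_charDegree _ χ.2
  obtain ⟨lam, hlam, hlam1, hne⟩ := exists_linear_constituent p P.2 _ hχP _ hd hdeg
  -- lam is trivial on M
  have hker : ∀ x : (P : Subgroup G), (x : G) ∈ M → lam x = 1 := by
    intro x hx
    have h1 : (x : G) ∈ (_root_.commutator (P : Subgroup G)).map (P : Subgroup G).subtype := by
      rw [Subgroup.map_subtype_commutator]
      exact hMP hx
    obtain ⟨y, hy, hyx⟩ := h1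
    have hyx' : y = x := Subtype.ext hyx
    have h2 : linearCharHom (isCharacter_of_irr hlam) hlam1 y = 1 :=
      MonoidHom.mem_ker.mp (Abelianization.commutator_subset_ker _ hy)
    rw [← hyx']
    have h3 := congrArg (fun u : ℂˣ => (u : ℂ)) h2
    simp only [linearCharHom_apply, Units.val_one] at h3
    exact h3
  have hone := isIrrCharacter_const_one M
  have h2 : classInner (fun n : M.subgroupOf (P : Subgroup G) => lam n)
      ((fun _ : M => (1 : ℂ)) ∘ (Subgroup.subgroupOfEquivOfLe hMleP)) ≠ 0 := by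
    have e1 : (fun n : M.subgroupOf (P : Subgroup G) => lam n) = fun _ => (1 : ℂ) := by
      funext n
      exact hker n.1 (Subgroup.mem_subgroupOf.mp n.2)
    have e2 : ((fun _ : M => (1 : ℂ)) ∘ (Subgroup.subgroupOfEquivOfLe hMleP)) =
        fun _ => (1 : ℂ) := rfl
    rw [e1, e2, irr_classInner_self (isIrrCharacter_const_one _)]
    exact one_ne_zero
  have hcon := constituent_trans M (P : Subgroup G) hMleP (χ : G → ℂ) hχc lam hlam
    (fun _ => 1) hone hne h2
  exact trivial_on_of_classInner_ne_zero M χ hcon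

end Linear

section Coset

variable {G : Type*} [Group G] [Finite G]

/-- If `g` inverts the coset `xM` of the normal subgroup `M` of odd order, then `xM` contains a real
element. -/
theorem exists_real_in_coset (M : Subgroup G) [hM : M.Normal] (hodd : Odd (Nat.card M)) (x g : G)
    (hg : g * x * g⁻¹ * x ∈ M) : ∃ y : G, x⁻¹ * y ∈ M ∧ IsConj y y⁻¹ := by
  classical
  haveI : Fact (Nat.Prime 2) := ⟨Nat.prime_two⟩
  have := Fintype.ofFinite {y : G // x⁻¹ * y ∈ M}
  have hcardX : Fintype.card {y : G // x⁻¹ * y ∈ M} = Nat.card M := by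
    rw [← Nat.card_eq_fintype_card]
    refine Nat.card_congr ?_
    exact
      { toFun := fun y => ⟨x⁻¹ * y.1, y.2⟩
        invFun := fun m => ⟨x * m.1, by rw [inv_mul_cancel_left]; exact m.2⟩
        left_inv := fun y => Subtype.ext (by simp)
        right_inv := fun m => Subtype.ext (by simp) }
  have hmap : ∀ y : G, x⁻¹ * y ∈ M → x⁻¹ * (g * y⁻¹ * g⁻¹) ∈ M := by
    intro y hy
    have h1 : y⁻¹ * x ∈ M := by
      have := M.inv_mem hy
      rwa [mul_inv_rev, inv_inv] at this
    have h2 : g * (y⁻¹ * x) * g⁻¹ ∈ M := hM.conj_mem _ h1 g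
    have h3 : x⁻¹ * (g * (y⁻¹ * x) * g⁻¹) * x⁻¹⁻¹ ∈ M := hM.conj_mem _ h2 x⁻¹
    have h4 : (g * x * g⁻¹ * x)⁻¹ ∈ M := M.inv_mem hg
    have h5 : x⁻¹ * (g * y⁻¹ * g⁻¹) =
        (x⁻¹ * (g * (y⁻¹ * x) * g⁻¹) * x⁻¹⁻¹) * (g * x * g⁻¹ * x)⁻¹ := by group
    rw [h5]
    exact M.mul_mem h3 h4
  let f : {y : G // x⁻¹ * y ∈ M} → {y : G // x⁻¹ * y ∈ M} := fun y =>
    ⟨g * y.1⁻¹ * g⁻¹, hmap y.1 y.2⟩
  have hfinj : Function.Injective f := by
    intro y y' h
    have h1 : g * y.1⁻¹ * g⁻¹ = g * y'.1⁻¹ * g⁻¹ := congrArg Subtype.val h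
    apply Subtype.ext
    have h2 : y.1⁻¹ = y'.1⁻¹ := by
      have := mul_right_cancel h1
      exact mul_left_cancel this
    exact inv_injective h2
  let σ : Equiv.Perm {y : G // x⁻¹ * y ∈ M} :=
    Equiv.ofBijective f (Finite.injective_iff_bijective.mp hfinj)
  have hσ : ∀ y, (σ y).1 = g * y.1⁻¹ * g⁻¹ := fun y => rfl
  have heven : ∀ (k : ℕ) (y : {y : G // x⁻¹ * y ∈ M}),
      ((σ ^ (2 * k)) y).1 = g ^ (2 * k) * y.1 * (g ^ (2 * k))⁻¹ := by
    intro k
    induction k with
    | zero => intro y; simp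
    | succ k ih =>
      intro y
      have h1 : σ ^ (2 * (k + 1)) = σ ^ (2 * k) * (σ * σ) := by
        rw [show 2 * (k + 1) = 2 * k + 2 by ring, pow_add, pow_two]
      rw [h1, Equiv.Perm.mul_apply, Equiv.Perm.mul_apply, ih, hσ, hσ]
      rw [show 2 * (k + 1) = 2 * k + 2 by ring, pow_add, pow_two]
      group
  have ho : orderOf g ≠ 0 := (orderOf_pos g).ne'
  have h2o : 2 * orderOf g ≠ 0 := by omega
  obtain ⟨b, m, hm, hbm⟩ := Nat.exists_eq_two_pow_mul_odd h2o
  have hσ2o : σ ^ (2 * orderOf g) = 1 := by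
    ext y
    rw [heven, Equiv.Perm.one_apply, mul_comm 2, pow_mul, pow_orderOf_eq_one]
    simp
  have hτ : (σ ^ m) ^ 2 ^ b = 1 := by
    rw [← pow_mul, mul_comm, ← hbm, hσ2o]
  have hnd : ¬ 2 ∣ Fintype.card {y : G // x⁻¹ * y ∈ M} := by
    rw [hcardX]
    intro h
    exact (Nat.not_even_iff_odd.mpr hodd) (even_iff_two_dvd.mpr h)
  obtain ⟨y, hy⟩ := Equiv.Perm.exists_fixed_point_of_prime hnd hτ
  obtain ⟨k, rfl⟩ := hm
  refine ⟨y.1, y.2, ?_⟩
  have h1 : (σ ^ (2 * k + 1)) y = σ ((σ ^ (2 * k)) y) := by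
    rw [pow_succ', Equiv.Perm.mul_apply]
  have h2 := congrArg Subtype.val hy
  rw [h1, hσ, heven] at h2
  refine isConj_iff.mpr ⟨g * g ^ (2 * k), ?_⟩
  have h3 : g * g ^ (2 * k) * y.1 * (g * g ^ (2 * k))⁻¹ =
      (g * (g ^ (2 * k) * y.1 * (g ^ (2 * k))⁻¹)⁻¹ * g⁻¹)⁻¹ := by group
  rw [h3, h2]

end Coset

section Odd

variable {G : Type*} [Group G] [Fintype G]

/-- If every real irreducible character of `G` is trivial on the normal subgroup `M` of odd order,
then `M` contains no nonidentity real element. -/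
theorem not_real_of_odd (M : Subgroup G) [hM : M.Normal] (hodd : Odd (Nat.card M))
    (htriv : ∀ χ : IrrCharacter G, (∀ g : G, ((χ : G → ℂ) g).im = 0) →
      ∀ m ∈ M, (χ : G → ℂ) m = (χ : G → ℂ) 1)
    (m : G) (hm : m ∈ M) (hreal : IsConj m m⁻¹) : m = 1 := by
  classical
  by_contra hm1
  have := Fintype.ofFinite (G ⧸ M)
  have := Fintype.ofFinite (RealCl G)
  have := Fintype.ofFinite (RealCl (G ⧸ M))
  -- real irreducible characters of G and G/M
  have hcard1 : Nat.card {χ : IrrCharacter G // ∀ g : G, ((χ : G → ℂ) g).im = 0} =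
      Nat.card {ψ : IrrCharacter (G ⧸ M) // ∀ q : G ⧸ M, ((ψ : G ⧸ M → ℂ) q).im = 0} := by
    symm
    refine Nat.card_congr ?_
    refine Equiv.ofBijective (fun ψ => ⟨(inflEquiv M ψ.1).1, fun g => by
      rw [inflEquiv_apply]; exact ψ.2 _⟩) ⟨?_, ?_⟩
    · intro ψ ψ' h
      apply Subtype.ext
      apply (inflEquiv M).injective
      apply Subtype.ext
      exact congrArg (fun z : {χ : IrrCharacter G // ∀ g : G, ((χ : G → ℂ) g).im = 0} => z.1) h
    · intro χ
      obtain ⟨ψ, hψ⟩ := (inflEquiv M).surjective ⟨χ.1, htriv χ.1 χ.2⟩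
      refine ⟨⟨ψ, ?_⟩, ?_⟩
      · intro q
        obtain ⟨g, rfl⟩ := QuotientGroup.mk_surjective q
        have h1 := inflEquiv_apply M ψ g
        rw [hψ] at h1
        rw [← h1]
        exact χ.2 g
      · apply Subtype.ext
        simp only
        rw [hψ]
  have hc1 := card_real_irr_eq_card_real_classes (G := G)
  have hc2 := card_real_irr_eq_card_real_classes (G := G ⧸ M)
  -- the map on real classes
  have hmapreal : ∀ C : RealCl G, ∀ q : G ⧸ M,
      ConjClasses.mk q = ConjClasses.map (QuotientGroup.mk' M) C.1 → IsConj q q⁻¹ := by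
    rintro ⟨C, hC⟩ q hq
    obtain ⟨g₀, rfl⟩ := ConjClasses.mk_surjective C
    have h1 : IsConj g₀ g₀⁻¹ := hC g₀ rfl
    rw [map_mk] at hq
    have h2 : IsConj q (QuotientGroup.mk' M g₀) := ConjClasses.mk_eq_mk_iff_isConj.mp hq
    have h3 : IsConj (QuotientGroup.mk' M g₀) (QuotientGroup.mk' M g₀)⁻¹ := by
      rw [← map_inv]
      exact MonoidHom.map_isConj (QuotientGroup.mk' M) h1
    exact isConj_inv_of_isConj h2 h3
  let f : RealCl G → RealCl (G ⧸ M) := fun C =>
    ⟨ConjClasses.map (QuotientGroup.mk' M) C.1, fun q hq => hmapreal C q hq⟩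
  have hfsurj : Function.Surjective f := by
    rintro ⟨C', hC'⟩
    obtain ⟨q, rfl⟩ := ConjClasses.mk_surjective C'
    obtain ⟨g, rfl⟩ := QuotientGroup.mk_surjective q
    have h1 : IsConj ((g : G) : G ⧸ M) ((g : G) : G ⧸ M)⁻¹ := hC' _ rfl
    obtain ⟨c, hc⟩ := isConj_iff.mp h1
    obtain ⟨x, rfl⟩ := QuotientGroup.mk_surjective c
    have h2 : x * g * x⁻¹ * g ∈ M := by
      rw [← QuotientGroup.eq_one_iff]
      have h3 : ((x * g * x⁻¹ * g : G) : G ⧸ M) =
          ((x : G) : G ⧸ M) * ((g : G) : G ⧸ M) * ((x : G) : G ⧸ M)⁻¹ * ((g : G) : G ⧸ M) := rfl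
      rw [h3, hc, inv_mul_cancel]
    obtain ⟨y, hyM, hyr⟩ := exists_real_in_coset M hodd g x h2
    refine ⟨⟨ConjClasses.mk y, fun g' hg' => ?_⟩, ?_⟩
    · exact isConj_inv_of_isConj (ConjClasses.mk_eq_mk_iff_isConj.mp hg') hyr
    · apply Subtype.ext
      show ConjClasses.map (QuotientGroup.mk' M) (ConjClasses.mk y) = _
      rw [map_mk]
      show ConjClasses.mk (((y : G) : G ⧸ M)) = ConjClasses.mk (((g : G) : G ⧸ M))
      have : ((g : G) : G ⧸ M) = ((y : G) : G ⧸ M) := QuotientGroup.eq.mpr hyM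
      rw [this]
  have hfninj : ¬ Function.Injective f := by
    intro hinj
    have h1 : (⟨ConjClasses.mk m, fun g' hg' =>
        isConj_inv_of_isConj (ConjClasses.mk_eq_mk_iff_isConj.mp hg') hreal⟩ : RealCl G) =
        ⟨ConjClasses.mk 1, fun g' hg' => by
          have h7 : g' = 1 := isConj_one_left.mp (ConjClasses.mk_eq_mk_iff_isConj.mp hg')
          rw [h7, inv_one]⟩ := by
      apply hinj
      apply Subtype.ext
      show ConjClasses.map (QuotientGroup.mk' M) (ConjClasses.mk m) =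
        ConjClasses.map (QuotientGroup.mk' M) (ConjClasses.mk 1)
      rw [map_mk, map_mk, map_one]
      have : QuotientGroup.mk' M m = 1 := (QuotientGroup.eq_one_iff m).mpr hm
      rw [this]
    have h2 := congrArg Subtype.val h1
    simp only at h2
    exact hm1 (isConj_one_left.mp (ConjClasses.mk_eq_mk_iff_isConj.mp h2))
  have hlt := Fintype.card_lt_of_surjective_not_injective f hfsurj hfninj
  rw [← Nat.card_eq_fintype_card, ← Nat.card_eq_fintype_card] at hlt
  have h6 : Nat.card (RealCl G) = Nat.card (RealCl (G ⧸ M)) := by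
    rw [← hc1, ← hc2, hcard1]
  omega

/-- **Isaacs–Navarro**: for odd `p`, a normal subgroup contained in the derived subgroup of a Sylow
`p`-subgroup is centralized by every `2`-element. -/
theorem qGen_two_le_centralizer (p : ℕ) [hp : Fact p.Prime] (hp2 : p ≠ 2) (hreal : RealHyp p G)
    (P : Sylow p G) (M : Subgroup G) [hM : M.Normal]
    (hMP : M ≤ ⁅(P : Subgroup G), (P : Subgroup G)⁆) :
    qGen 2 G ≤ Subgroup.centralizer (M : Set G) := by
  classical
  have hMleP : M ≤ (P : Subgroup G) := hMP.trans (Subgroup.commutator_le_self _)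
  have hMp : IsPGroup p M := P.2.to_le hMleP
  have hodd : Odd (Nat.card M) := by
    obtain ⟨k, hk⟩ := IsPGroup.iff_card.mp hMp
    rw [hk]
    exact Odd.pow (hp.out.odd_of_ne_two hp2)
  have htriv : ∀ χ : IrrCharacter G, (∀ g : G, ((χ : G → ℂ) g).im = 0) →
      ∀ m ∈ M, (χ : G → ℂ) m = (χ : G → ℂ) 1 := fun χ hχ =>
    trivial_on_derived_sylow p P M hMP χ (hreal χ hχ)
  unfold qGen
  rw [Subgroup.closure_le]
  rintro t ⟨k, hk⟩
  by_contra htc
  obtain ⟨m, hmM, hm1, hmr⟩ := real_elt_of_two_elt M t k hk htc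
  exact hm1 (not_real_of_odd M hodd htriv m hmM hmr)

end Odd

end Cfsg.Agent.Lib.L0.RealPDeg
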