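import Cfsg.Agent.Lib.L0.DihedralSylow
import Cfsg.Agent.Lib.L0.DihedralKlein

/-!
# Fusion of Klein four subgroups in groups with dihedral Sylow 2-subgroups (lead's library)

* `normalizer_factor_of_local` : local version of `FrobHyp.normalizer_factor`.
* `klein_conj_in_sylow` : in a group with dihedral-like Sylow 2-subgroup `S`, two Klein four
  subgroups of `S` which are conjugate in `G` are conjugate in `S`.
-/

set_option autoImplicit false

universe u

namespace Cfsg.Agent.Lib.L0

open Cfsg.Agent.Lib.H10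

variable {G : Type*} [Group G]

theorem exists_pow_mem_centralizer_of_local [Finite G] {p : ℕ} [hp : Fact p.Prime]
    (T : Subgroup G)
    (hloc : ∀ g ∈ Subgroup.normalizer (T : Set G), Nat.Coprime (orderOf g) p →
      g ∈ Subgroup.centralizer (T : Set G)) (x : G)
    (hx : x ∈ Subgroup.normalizer (T : Set G)) :
    ∃ k : ℕ, x ^ p ^ k ∈ Subgroup.centralizer (T : Set G) := by
  obtain ⟨k, m, hm, hkm⟩ := Nat.exists_eq_pow_mul_and_not_dvd (orderOf_pos x).ne' p hp.out.ne_one
  refine ⟨k, ?_⟩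
  apply hloc _ (Subgroup.pow_mem _ hx _)
  have hord : orderOf (x ^ p ^ k) = m := by
    rw [orderOf_pow, hkm, Nat.gcd_eq_right (Dvd.intro _ rfl)]
    exact Nat.mul_div_cancel_left m (pow_pos hp.out.pos k)
  rw [hord]
  exact ((Nat.Prime.coprime_iff_not_dvd hp.out).mpr hm).symm

/-- Local version of `FrobHyp.normalizer_factor`: if the `p'`-elements of `N_G(T)` centralize `T`
and `N_S(T)` has index prime to `p` in `N_G(T)`, then `N_G(T) = N_S(T) C_G(T)`. -/
theorem normalizer_factor_of_local [Finite G] {p : ℕ} [hp : Fact p.Prime]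
    (S : Sylow p G) (T : Subgroup G) (hT : T ∈ sylNormFamily p (S : Subgroup G))
    (hloc : ∀ g ∈ Subgroup.normalizer (T : Set G), Nat.Coprime (orderOf g) p →
      g ∈ Subgroup.centralizer (T : Set G)) (x : G)
    (hx : x ∈ Subgroup.normalizer (T : Set G)) :
    ∃ u ∈ (S : Subgroup G) ⊓ Subgroup.normalizer (T : Set G),
      ∃ c ∈ Subgroup.centralizer (T : Set G), x = u * c := by
  obtain ⟨hTS, hidx⟩ := hT
  have hTp : IsPGroup p T := S.2.to_le hTS
  set N := Subgroup.normalizer (T : Set G) with hN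
  set C := Subgroup.centralizer (T : Set G) with hC
  have hCN : C ≤ N := Subgroup.centralizer_le_normalizer _
  haveI hCnorm : (C.subgroupOf N).Normal := by
    constructor
    intro c hc n
    rw [Subgroup.mem_subgroupOf] at hc ⊢
    rw [hC, Subgroup.mem_centralizer_iff] at hc ⊢
    intro t ht
    have hn : (n : G)⁻¹ * t * (n : G) ∈ T := by
      have := (Subgroup.mem_normalizer_iff.mp (Subgroup.inv_mem _ n.2) t).mp ht
      simpa using this
    have h1 := hc _ hn
    simp only [Subgroup.coe_mul, Subgroup.coe_inv]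
    calc t * ((n : G) * (c : G) * (n : G)⁻¹)
        = (n : G) * (((n : G)⁻¹ * t * (n : G)) * (c : G)) * (n : G)⁻¹ := by group
      _ = (n : G) * ((c : G) * ((n : G)⁻¹ * t * (n : G))) * (n : G)⁻¹ := by rw [h1]
      _ = (n : G) * (c : G) * (n : G)⁻¹ * t := by group
  have hquot : IsPGroup p (N ⧸ C.subgroupOf N) := by
    intro y
    obtain ⟨n, rfl⟩ := QuotientGroup.mk_surjective y
    obtain ⟨k, hk⟩ := exists_pow_mem_centralizer_of_local T hloc (n : G) n.2
    refine ⟨k, ?_⟩
    rw [← QuotientGroup.mk_pow, QuotientGroup.eq_one_iff, Subgroup.mem_subgroupOf]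
    simpa using hk
  set R := ((S : Subgroup G) ⊓ N).subgroupOf N with hR
  have hRidx : ¬ p ∣ R.index := hidx
  have hmapidx : (R.map (QuotientGroup.mk' (C.subgroupOf N))).index = 1 := by
    have h1 : (R.map (QuotientGroup.mk' (C.subgroupOf N))).index ∣ R.index :=
      Subgroup.index_map_dvd R (QuotientGroup.mk'_surjective _)
    obtain ⟨n, hn⟩ := hquot.index (R.map (QuotientGroup.mk' (C.subgroupOf N)))
    rcases Nat.eq_zero_or_pos n with h0 | hpos
    · rw [hn, h0, pow_zero]
    · exfalso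
      apply hRidx
      apply dvd_trans _ h1
      rw [hn]
      exact dvd_pow_self p hpos.ne'
  rw [Subgroup.index_eq_one] at hmapidx
  have hxmem : (QuotientGroup.mk' (C.subgroupOf N)) ⟨x, hx⟩
      ∈ R.map (QuotientGroup.mk' (C.subgroupOf N)) := hmapidx ▸ Subgroup.mem_top _
  obtain ⟨r, hr, hrx⟩ := hxmem
  have hrc : r⁻¹ * ⟨x, hx⟩ ∈ C.subgroupOf N := by
    rw [← QuotientGroup.eq_one_iff, QuotientGroup.mk_mul, QuotientGroup.mk_inv]
    have : (QuotientGroup.mk' (C.subgroupOf N)) r = QuotientGroup.mk r := rfl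
    rw [this] at hrx
    have h2 : (QuotientGroup.mk' (C.subgroupOf N)) ⟨x, hx⟩ = QuotientGroup.mk (⟨x, hx⟩ : N) := rfl
    rw [h2] at hrx
    rw [hrx, inv_mul_cancel]
  refine ⟨(r : G), ?_, (r : G)⁻¹ * x, ?_, by group⟩
  · have hr' : r ∈ R := hr
    rw [hR, Subgroup.mem_subgroupOf] at hr'
    exact hr'
  · rw [Subgroup.mem_subgroupOf] at hrc
    simpa using hrc


theorem isKleinFour_map_conj (W : Subgroup G) (hW : IsKleinFour W) (g : G) :
    IsKleinFour (W.map (MulAut.conj g).toMonoidHom) :=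
  Dih.isKleinFour_of_mulEquiv ((MulAut.conj g).subgroupMap W) hW

/-- In a group with a dihedral-like Sylow `2`-subgroup `S`, conjugation of a Klein four subgroup of
`S` into `S` is induced by an element of `S`. -/
theorem klein_conj_in_sylow [Finite G] (S : Sylow 2 G) (R₀ : Subgroup G)
    (hcyc : IsCyclic R₀)
    (h2 : ∀ a ∈ (S : Subgroup G), a ∉ R₀ → a * a = 1)
    (h3 : ∀ a ∈ (S : Subgroup G), ∀ b ∈ (S : Subgroup G), a ∉ R₀ → b ∉ R₀ → a * b⁻¹ ∈ R₀)
    (V : Subgroup G) (hVS : V ≤ S) (hV : IsKleinFour V) (g : G)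
    (hg : V.map (MulAut.conj g⁻¹).toMonoidHom ≤ (S : Subgroup G)) :
    ∃ u ∈ (S : Subgroup G),
      V.map (MulAut.conj g⁻¹).toMonoidHom = V.map (MulAut.conj u⁻¹).toMonoidHom := by
  have hp2 : Fact (Nat.Prime 2) := ⟨Nat.prime_two⟩
  let Good : Set G → G → Prop := fun A g => ∀ W : Subgroup G, IsKleinFour W → (W : Set G) ⊆ A →
    ∃ u ∈ (S : Subgroup G),
      W.map (MulAut.conj g⁻¹).toMonoidHom = W.map (MulAut.conj u⁻¹).toMonoidHom
  have key : ∀ Q : Subgroup G, Q ≤ (S : Subgroup G) → ∀ g : G,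
      Q.map (MulAut.conj g⁻¹).toMonoidHom ≤ (S : Subgroup G) → Good (Q : Set G) g := by
    refine good_of_local S Good (fun _ => True) ?_ ?_ ?_ ?_ ?_ ?_
    · -- restriction
      intro A B g hA hBA W hW hWB
      exact hA W hW (hWB.trans hBA)
    · -- composition
      intro A g k hA hB W hW hWA
      obtain ⟨u, hu, hWu⟩ := hA W hW hWA
      have hW₁K : IsKleinFour (W.map (MulAut.conj g⁻¹).toMonoidHom) := isKleinFour_map_conj W hW _
      have hsub : ((W.map (MulAut.conj g⁻¹).toMonoidHom : Subgroup G) : Set G) ⊆ rconj g A := by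
        rw [← rconj_coe]; exact rconj_mono g hWA
      obtain ⟨v, hv, hWv⟩ := hB _ hW₁K hsub
      refine ⟨u * v, Subgroup.mul_mem _ hu hv, ?_⟩
      have e1 : (g * k)⁻¹ = k⁻¹ * g⁻¹ := mul_inv_rev g k
      have e2 : (u * v)⁻¹ = v⁻¹ * u⁻¹ := mul_inv_rev u v
      rw [e1, e2, ← map_conj_map_conj, ← map_conj_map_conj, hWv, hWu]
    · -- inverses
      intro A g hA W hW hWA
      set W₀ := W.map (MulAut.conj g).toMonoidHom with hW₀
      have hW₀A : (W₀ : Set G) ⊆ A := by
        rintro _ ⟨w, hw, rfl⟩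
        obtain ⟨a, ha, haw⟩ := hWA hw
        have : (MulAut.conj g).toMonoidHom w = a := by
          rw [← haw]; simp [mul_assoc]
        rw [this]; exact ha
      obtain ⟨u, hu, hWu⟩ := hA W₀ (isKleinFour_map_conj W hW g) hW₀A
      refine ⟨u⁻¹, Subgroup.inv_mem _ hu, ?_⟩
      rw [inv_inv, inv_inv]
      have e1 : W₀.map (MulAut.conj g⁻¹).toMonoidHom = W := by
        rw [hW₀, map_conj_map_conj, inv_mul_cancel, map_conj_one]
      rw [e1] at hWu
      have e2 : W.map (MulAut.conj u).toMonoidHom = W₀ := by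
        rw [hWu, map_conj_map_conj, mul_inv_cancel, map_conj_one]
      rw [e2]
    · -- bottom
      intro x W hW hWbot
      exfalso
      have hle : W ≤ ⊥ := hWbot
      have : W = ⊥ := le_bot_iff.mp hle
      have h4 := hW.card_four
      rw [this, Subgroup.card_bot] at h4
      omega
    · -- local condition
      intro T hT _ _ x hx W hW hWT
      have hWT' : W ≤ T := hWT
      by_cases hT4 : IsKleinFour T
      · have hWT'' : W = T := by
          apply Subgroup.eq_of_le_of_card_ge hWT'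
          rw [hW.card_four, hT4.card_four]
        refine ⟨1, Subgroup.one_mem _, ?_⟩
        have hx' : x⁻¹ ∈ Subgroup.normalizer (W : Set G) := by
          rw [hWT'']; exact Subgroup.inv_mem _ hx
        rw [mem_normalizer_iff_map_conj.mp hx', inv_one, map_conj_one]
      · have hloc : ∀ g ∈ Subgroup.normalizer (T : Set G), Nat.Coprime (orderOf g) 2 →
            g ∈ Subgroup.centralizer (T : Set G) := fun g hg hodd =>
          mem_centralizer_of_dihedralLike (S : Subgroup G) R₀ S.2 hcyc h2 h3 T hT.1 g hg hodd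
            (fun hK => absurd hK hT4)
        obtain ⟨u, hu, c, hc, rfl⟩ := normalizer_factor_of_local S T hT hloc x hx
        refine ⟨u, hu.1, ?_⟩
        have hkey : ∀ w ∈ W, (MulAut.conj (u * c)⁻¹).toMonoidHom w =
            (MulAut.conj u⁻¹).toMonoidHom w := by
          intro w hw
          have huw : u⁻¹ * w * u ∈ T := by
            have := (Subgroup.mem_normalizer_iff.mp (Subgroup.inv_mem _ hu.2) w).mp (hWT' hw)
            simpa using this
          have h1 := (Subgroup.mem_centralizer_iff.mp hc) _ huw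
          show (MulAut.conj (u * c)⁻¹) w = (MulAut.conj u⁻¹) w
          rw [MulAut.conj_apply, MulAut.conj_apply]
          calc (u * c)⁻¹ * w * (u * c)⁻¹⁻¹ = c⁻¹ * ((u⁻¹ * w * u) * c) := by group
            _ = c⁻¹ * (c * (u⁻¹ * w * u)) := by rw [h1]
            _ = u⁻¹ * w * u⁻¹⁻¹ := by group
        apply le_antisymm
        · rintro _ ⟨w, hw, rfl⟩
          exact ⟨w, hw, (hkey w hw).symm⟩
        · rintro _ ⟨w, hw, rfl⟩
          exact ⟨w, hw, hkey w hw⟩
    · intro _ _ _ _ _
      trivial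
  exact key V hVS g hg V hV subset_rfl

end Cfsg.Agent.Lib.L0
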