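import Mathlib
import Cfsg.Agent.Lib.L0.BrauerFeit

/-!
# The Brauer–Feit inequalities (lead)

For a block `B = blockOf M χ₁` of defect `d`:
* `exists_height_zero`;
* `sum_weights_le`: `∑_{ψ ∈ S} w ψ ≤ p^a m_{χχ} - m_{χχ}²` when `w ψ ≤ m_{χψ}²` and `χ ∉ S`;
* `four_mul_sum_le`: `4 ∑_{ψ ∈ S} p^{2 ht ψ} ≤ p^{2d}` for `S ⊆ B ∖ {χ₀}`, `χ₀` of height zero;
* `blockOf_eq_singleton_of_AAz_self_eq`;
* `height_add_two_le`: a positive height `h` satisfies `h + 2 ≤ d`;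
* `four_mul_card_height_zero_le`: if `B` has a character of positive height then the number of
  height-zero characters is at most `p^{2d-2}/4`.
-/

set_option autoImplicit false

namespace Cfsg.Agent.Lib.L0.BrauerFeit

open Cfsg Cfsg.Agent.Lib.H23 Cfsg.Agent.Lib.H24 Cfsg.Agent.Lib.L0 Cfsg.Agent.Lib.L0.Tilde
  Cfsg.Agent.Lib.L0.BlockMinMax Cfsg.Agent.Lib.H8
open scoped ComplexConjugate

variable {G : Type*} [Group G] [Fintype G] {p : ℕ} {M : Ideal AlgInt}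

theorem exists_height_zero [M.IsPrime] (χ₁ : IrrCharacter G) :
    ∃ χ₀ ∈ blockOf M (χ₁ : G → ℂ),
      (charDegree (χ₀ : G → ℂ)).factorization p = minDeg p (blockOf M (χ₁ : G → ℂ)) := by
  have hne : ((fun χ : IrrCharacter G => (charDegree (χ : G → ℂ)).factorization p) ''
      blockOf M (χ₁ : G → ℂ)).Nonempty := ⟨_, Set.mem_image_of_mem _ (mem_blockOf_self χ₁)⟩
  obtain ⟨χ₀, h1, h2⟩ := Nat.sInf_mem hne
  exact ⟨χ₀, h1, h2⟩

theorem sum_weights_le [Fintype (IrrCharacter G)] (hp : p.Prime) (χ : IrrCharacter G)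
    (S : Finset (IrrCharacter G)) (hχS : χ ∉ S) (w : IrrCharacter G → ℤ)
    (hw : ∀ ψ ∈ S, w ψ ≤ AAz hp χ ψ ^ 2) :
    ∑ ψ ∈ S, w ψ ≤ (p : ℤ) ^ (Nat.card G).factorization p * AAz hp χ χ - AAz hp χ χ ^ 2 := by
  classical
  have h := sum_AAz_sq hp χ
  have h1 : ∑ ψ ∈ S, w ψ + AAz hp χ χ ^ 2 ≤ ∑ ψ : IrrCharacter G, AAz hp χ ψ ^ 2 := by
    calc ∑ ψ ∈ S, w ψ + AAz hp χ χ ^ 2
        ≤ ∑ ψ ∈ S, AAz hp χ ψ ^ 2 + AAz hp χ χ ^ 2 :=
          add_le_add_left (Finset.sum_le_sum hw) _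
      _ = ∑ ψ ∈ insert χ S, AAz hp χ ψ ^ 2 := by rw [Finset.sum_insert hχS, add_comm]
      _ ≤ ∑ ψ : IrrCharacter G, AAz hp χ ψ ^ 2 :=
          Finset.sum_le_sum_of_subset_of_nonneg (Finset.subset_univ _)
            (fun _ _ _ => sq_nonneg _)
  linarith

/-- A nonzero integer divisible by `p^k` has square at least `p^{2k}`. -/
theorem pow_le_sq_of_dvd {n : ℤ} {k : ℕ} (hp : p.Prime) (hd : (p : ℤ) ^ k ∣ n) (hn : n ≠ 0) :
    (p : ℤ) ^ (2 * k) ≤ n ^ 2 := by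
  obtain ⟨u, rfl⟩ := hd
  have hu : u ≠ 0 := by
    rintro rfl
    exact hn (mul_zero _)
  have hu2 : 1 ≤ u ^ 2 := by
    have : 0 < u ^ 2 := by positivity
    omega
  have hpk : (0 : ℤ) ≤ ((p : ℤ) ^ k) ^ 2 := sq_nonneg _
  calc (p : ℤ) ^ (2 * k) = ((p : ℤ) ^ k) ^ 2 * 1 := by rw [mul_one, ← pow_mul, mul_comm]
    _ ≤ ((p : ℤ) ^ k) ^ 2 * u ^ 2 := mul_le_mul_of_nonneg_left hu2 hpk
    _ = ((p : ℤ) ^ k * u) ^ 2 := by ring

theorem blockHeight_eq [M.IsPrime] (χ₁ : IrrCharacter G) (ψ : IrrCharacter G) :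
    blockHeight p (blockOf M (χ₁ : G → ℂ)) (ψ : G → ℂ) =
      (charDegree (ψ : G → ℂ)).factorization p - minDeg p (blockOf M (χ₁ : G → ℂ)) := rfl

section Main

variable [Fact p.Prime]

/-- `a = e + d`. -/
theorem card_factorization_eq [M.IsPrime] (χ₁ : IrrCharacter G) :
    (Nat.card G).factorization p =
      minDeg p (blockOf M (χ₁ : G → ℂ)) + blockDefect p (blockOf M (χ₁ : G → ℂ)) := by
  have h1 := minDeg_le_card (p := p) (M := M) χ₁
  have h2 := minDeg_eq_sub_blockDefect (p := p) (M := M) χ₁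
  have h3 : blockDefect p (blockOf M (χ₁ : G → ℂ)) ≤ (Nat.card G).factorization p := by
    rw [blockDefect]; omega
  omega

theorem four_mul_sum_le [Fintype (IrrCharacter G)] (hM : IsPModular p M)
    (χ₁ χ₀ : IrrCharacter G) (hχ₀ : χ₀ ∈ blockOf M (χ₁ : G → ℂ))
    (h0 : (charDegree (χ₀ : G → ℂ)).factorization p = minDeg p (blockOf M (χ₁ : G → ℂ)))
    (S : Finset (IrrCharacter G)) (hS : ∀ ψ ∈ S, ψ ∈ blockOf M (χ₁ : G → ℂ)) (hχ₀S : χ₀ ∉ S) :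
    4 * ∑ ψ ∈ S, p ^ (2 * blockHeight p (blockOf M (χ₁ : G → ℂ)) (ψ : G → ℂ)) ≤
      p ^ (2 * blockDefect p (blockOf M (χ₁ : G → ℂ))) := by
  classical
  haveI hPr := isPrime_of_isPModular hM
  have hp : p.Prime := hM.1
  set B := blockOf M (χ₁ : G → ℂ) with hB
  set e := minDeg p B with he
  set d := blockDefect p B with hd
  set a := (Nat.card G).factorization p with ha
  have had : a = e + d := card_factorization_eq χ₁
  have hmin : ∀ ψ : IrrCharacter G, SameBlock M (χ₀ : G → ℂ) (ψ : G → ℂ) →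
      (charDegree (χ₀ : G → ℂ)).factorization p ≤ (charDegree (ψ : G → ℂ)).factorization p := by
    intro ψ hs
    rw [h0]
    exact minDeg_le χ₁ (sameBlock_trans hχ₀ hs)
  have hpZ : (0 : ℤ) < (p : ℤ) := by exact_mod_cast hp.pos
  -- X = p^e x
  obtain ⟨x, hx⟩ : (p : ℤ) ^ e ∣ AAz hp χ₀ χ₀ := h0 ▸ pow_dvd_AAz_left hp χ₀ χ₀
  have hXpos := AAz_self_pos hp χ₀
  have hw : ∀ ψ ∈ S, (p : ℤ) ^ (2 * e) *
      ((p ^ (2 * blockHeight p B (ψ : G → ℂ)) : ℕ) : ℤ) ≤ AAz hp χ₀ ψ ^ 2 := by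
    intro ψ hψ
    have hψB := hS ψ hψ
    have hs : SameBlock M (χ₀ : G → ℂ) (ψ : G → ℂ) := sameBlock_trans (sameBlock_symm hχ₀) hψB
    have hne := AAz_ne_zero hM χ₀ hmin ψ hs
    have hdv := pow_dvd_AAz_right hp χ₀ ψ
    have hle : e ≤ (charDegree (ψ : G → ℂ)).factorization p := minDeg_le χ₁ hψB
    have hh : (charDegree (ψ : G → ℂ)).factorization p = e + blockHeight p B (ψ : G → ℂ) := by
      have hrfl : blockHeight p B (ψ : G → ℂ) =
          (charDegree (ψ : G → ℂ)).factorization p - e := rfl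
      omega
    have := pow_le_sq_of_dvd hp hdv hne
    rw [hh] at this
    calc (p : ℤ) ^ (2 * e) * ((p ^ (2 * blockHeight p B (ψ : G → ℂ)) : ℕ) : ℤ)
        = (p : ℤ) ^ (2 * (e + blockHeight p B (ψ : G → ℂ))) := by
          push_cast; rw [← pow_add]; congr 1; ring
      _ ≤ _ := this
  have hmain := sum_weights_le hp χ₀ S hχ₀S _ hw
  rw [← Finset.mul_sum] at hmain
  set T : ℤ := ∑ ψ ∈ S, ((p ^ (2 * blockHeight p B (ψ : G → ℂ)) : ℕ) : ℤ) with hT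
  have hrhs : (p : ℤ) ^ a * AAz hp χ₀ χ₀ - AAz hp χ₀ χ₀ ^ 2 =
      (p : ℤ) ^ (2 * e) * ((p : ℤ) ^ d * x - x ^ 2) := by
    rw [hx, had]; ring
  rw [hrhs] at hmain
  have hpe : (0 : ℤ) < (p : ℤ) ^ (2 * e) := pow_pos hpZ _
  have hT1 : T ≤ (p : ℤ) ^ d * x - x ^ 2 := le_of_mul_le_mul_left hmain hpe
  have hT2 : 4 * T ≤ ((p : ℤ) ^ d) ^ 2 := by
    nlinarith [sq_nonneg ((p : ℤ) ^ d - 2 * x)]
  have hT3 : ((4 * ∑ ψ ∈ S, p ^ (2 * blockHeight p B (ψ : G → ℂ)) : ℕ) : ℤ) ≤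
      ((p ^ (2 * d) : ℕ) : ℤ) := by
    push_cast
    rw [hT] at hT2
    push_cast at hT2
    calc _ ≤ ((p : ℤ) ^ d) ^ 2 := hT2
      _ = (p : ℤ) ^ (2 * d) := by rw [← pow_mul, mul_comm]
  exact_mod_cast hT3

/-- If `[χ̃, χ] = p^a` then the block of `χ` is `{χ}`. -/
theorem blockOf_eq_singleton_of_AAz_self_eq (hM : IsPModular p M) (χ : IrrCharacter G)
    (heq : AAz hM.1 χ χ = (p : ℤ) ^ (Nat.card G).factorization p) :
    blockOf M (χ : G → ℂ) = {χ} := by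
  have hp : p.Prime := hM.1
  set a := (Nat.card G).factorization p with ha
  have hχ0 : charDegree (χ : G → ℂ) ≠ 0 := (charDegree_pos _ χ.2).ne'
  have hvan := vanish_of_AAz_self_eq hM.1 χ heq
  obtain ⟨k, hk⟩ := exists_int_apply_one_of_vanish hp
    (isGeneralizedCharacter_of_isCharacter (isCharacter_of_irr χ.2)) hvan
  rw [apply_one_eq_charDegree _ χ.2] at hk
  have hk' : (charDegree (χ : G → ℂ) : ℤ) = k * ((p ^ a : ℕ) : ℤ) := by exact_mod_cast hk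
  have hdvd : p ^ a ∣ charDegree (χ : G → ℂ) := by
    have : ((p ^ a : ℕ) : ℤ) ∣ (charDegree (χ : G → ℂ) : ℤ) := ⟨k, by rw [hk', mul_comm]⟩
    exact_mod_cast this
  have h3 : a ≤ (charDegree (χ : G → ℂ)).factorization p :=
    (hp.pow_dvd_iff_le_factorization hχ0).mp hdvd
  rw [← not_dvd_iff_blockOf_eq_singleton hM χ]
  obtain ⟨q, hq⟩ := charDegree_dvd_card (χ : G → ℂ) χ.2
  have hq' : Nat.card G / charDegree (χ : G → ℂ) = q := by
    rw [hq]; exact Nat.mul_div_cancel_left q (charDegree_pos _ χ.2)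
  rw [hq']
  intro hpq
  have hq0 : q ≠ 0 := by
    rintro rfl
    rw [mul_zero] at hq
    exact Nat.card_pos.ne' hq
  have hfac : a = (charDegree (χ : G → ℂ)).factorization p + q.factorization p := by
    rw [ha, hq, Nat.factorization_mul hχ0 hq0]; rfl
  have : 1 ≤ q.factorization p := (hp.dvd_iff_one_le_factorization hq0).mp hpq
  omega

/-- The Brauer–Feit bound, weighted form: `∑_{ψ ∈ B} p^{2 ht ψ} ≤ p^{2d}/4 + 1`. -/
theorem sum_pow_height_le [Fintype (IrrCharacter G)] (hM : IsPModular p M)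
    (χ₁ : IrrCharacter G) [DecidablePred (· ∈ blockOf M (χ₁ : G → ℂ))] :
    ∑ ψ ∈ Finset.univ.filter (· ∈ blockOf M (χ₁ : G → ℂ)),
      p ^ (2 * blockHeight p (blockOf M (χ₁ : G → ℂ)) (ψ : G → ℂ)) ≤
      p ^ (2 * blockDefect p (blockOf M (χ₁ : G → ℂ))) / 4 + 1 := by
  haveI hPr := isPrime_of_isPModular hM
  obtain ⟨χ₀, hχ₀, h0⟩ := exists_height_zero (p := p) (M := M) χ₁
  have hmem : χ₀ ∈ Finset.univ.filter (· ∈ blockOf M (χ₁ : G → ℂ)) := by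
    rw [Finset.mem_filter]; exact ⟨Finset.mem_univ _, hχ₀⟩
  have h4 := four_mul_sum_le hM χ₁ χ₀ hχ₀ h0
    ((Finset.univ.filter (· ∈ blockOf M (χ₁ : G → ℂ))).erase χ₀)
    (fun ψ hψ => (Finset.mem_filter.mp (Finset.mem_of_mem_erase hψ)).2)
    (Finset.notMem_erase χ₀ _)
  have hh0 : blockHeight p (blockOf M (χ₁ : G → ℂ)) (χ₀ : G → ℂ) = 0 := by
    have hrfl : blockHeight p (blockOf M (χ₁ : G → ℂ)) (χ₀ : G → ℂ) =
        (charDegree (χ₀ : G → ℂ)).factorization p - minDeg p (blockOf M (χ₁ : G → ℂ)) := rfl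
    rw [hrfl, h0]; exact Nat.sub_self _
  rw [← Finset.add_sum_erase _ _ hmem, hh0, mul_zero, pow_zero, add_comm]
  refine Nat.add_le_add_right ?_ 1
  rw [Nat.le_div_iff_mul_le (by norm_num), mul_comm]
  exact h4

/-- The Brauer–Feit bound: `4 k(B) ≤ p^{2d} + 4`. -/
theorem four_mul_card_le [Fintype (IrrCharacter G)] (hM : IsPModular p M)
    (χ₁ : IrrCharacter G) [DecidablePred (· ∈ blockOf M (χ₁ : G → ℂ))] :
    4 * (Finset.univ.filter (· ∈ blockOf M (χ₁ : G → ℂ))).card ≤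
      p ^ (2 * blockDefect p (blockOf M (χ₁ : G → ℂ))) + 4 := by
  have hp : p.Prime := hM.1
  have h := sum_pow_height_le hM χ₁
  have h1 : (Finset.univ.filter (· ∈ blockOf M (χ₁ : G → ℂ))).card ≤
      ∑ ψ ∈ Finset.univ.filter (· ∈ blockOf M (χ₁ : G → ℂ)),
        p ^ (2 * blockHeight p (blockOf M (χ₁ : G → ℂ)) (ψ : G → ℂ)) := by
    rw [Finset.card_eq_sum_ones]
    exact Finset.sum_le_sum fun ψ _ => Nat.one_le_pow _ _ hp.pos
  have h2 := Nat.div_mul_le_self (p ^ (2 * blockDefect p (blockOf M (χ₁ : G → ℂ)))) 4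
  omega

end Main

end Cfsg.Agent.Lib.L0.BrauerFeit
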