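import Mathlib
import Cfsg.Agent.Lib.L0.BrauerFeit2

/-!
# Brauer–Feit: blocks with characters of positive height (lead)

For a block `B = blockOf M χ₁` of defect `d`:
* `height_add_two_le`: a positive height `h` satisfies `h + 2 ≤ d`;
* `four_mul_card_pos_height_le`: `4 · #{ψ ∈ S}·p² ≤ p^{2d}` for `S ⊆ B` of positive heights;
* `four_mul_card_height_zero_le`: if `B` has a character of positive height then
  `4 · #S ≤ p^{2d-2}` for every set `S ⊆ B` of characters of height zero.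
-/

set_option autoImplicit false

namespace Cfsg.Agent.Lib.L0.BrauerFeit

open Cfsg Cfsg.Agent.Lib.H23 Cfsg.Agent.Lib.H24 Cfsg.Agent.Lib.L0 Cfsg.Agent.Lib.L0.Tilde
  Cfsg.Agent.Lib.L0.BlockMinMax Cfsg.Agent.Lib.H8
open scoped ComplexConjugate

variable {G : Type*} [Group G] [Fintype G] {p : ℕ} {M : Ideal AlgInt} [Fact p.Prime]

/-- Data for a character `ψ₁` of positive height: `m_{ψ₁ψ₁} = p^{f+1} y` with
`f = ν(ψ₁(1))`, `y ≥ 1`. -/
theorem exists_AAz_self_eq_of_pos_height (hM : IsPModular p M) (χ₁ ψ₁ : IrrCharacter G)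
    (hψ₁ : ψ₁ ∈ blockOf M (χ₁ : G → ℂ))
    (hpos : 0 < blockHeight p (blockOf M (χ₁ : G → ℂ)) (ψ₁ : G → ℂ)) :
    ∃ y : ℤ, 0 < y ∧ AAz hM.1 ψ₁ ψ₁ =
      (p : ℤ) ^ ((charDegree (ψ₁ : G → ℂ)).factorization p + 1) * y := by
  haveI hPr := isPrime_of_isPModular hM
  have hp : p.Prime := hM.1
  obtain ⟨χ₀, hχ₀, h0⟩ := exists_height_zero (p := p) (M := M) χ₁
  have hrfl : blockHeight p (blockOf M (χ₁ : G → ℂ)) (ψ₁ : G → ℂ) =
      (charDegree (ψ₁ : G → ℂ)).factorization p - minDeg p (blockOf M (χ₁ : G → ℂ)) := rfl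
  have hlt : (charDegree (χ₀ : G → ℂ)).factorization p <
      (charDegree (ψ₁ : G → ℂ)).factorization p := by omega
  have hs : SameBlock M (ψ₁ : G → ℂ) (χ₀ : G → ℂ) := sameBlock_trans (sameBlock_symm hψ₁) hχ₀
  obtain ⟨y, hy⟩ := pow_succ_dvd_AAz_of_lt hM hs ψ₁ hlt
  refine ⟨y, ?_, hy⟩
  have hpos' := AAz_self_pos hp ψ₁
  rw [hy] at hpos'
  have hpp : (0 : ℤ) < (p : ℤ) ^ ((charDegree (ψ₁ : G → ℂ)).factorization p + 1) :=
    pow_pos (by exact_mod_cast hp.pos) _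
  exact (mul_pos_iff_of_pos_left hpp).mp hpos'

/-- A positive height `h` in a block of defect `d` satisfies `h + 2 ≤ d`. -/
theorem height_add_two_le (hM : IsPModular p M) (χ₁ ψ₁ : IrrCharacter G)
    (hψ₁ : ψ₁ ∈ blockOf M (χ₁ : G → ℂ))
    (hpos : 0 < blockHeight p (blockOf M (χ₁ : G → ℂ)) (ψ₁ : G → ℂ)) :
    blockHeight p (blockOf M (χ₁ : G → ℂ)) (ψ₁ : G → ℂ) + 2 ≤
      blockDefect p (blockOf M (χ₁ : G → ℂ)) := by
  haveI hPr := isPrime_of_isPModular hM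
  have hp : p.Prime := hM.1
  have hpZ : (1 : ℤ) < (p : ℤ) := by exact_mod_cast hp.one_lt
  obtain ⟨y, hy0, hy⟩ := exists_AAz_self_eq_of_pos_height hM χ₁ ψ₁ hψ₁ hpos
  have had := card_factorization_eq (p := p) (M := M) χ₁
  have hrfl : blockHeight p (blockOf M (χ₁ : G → ℂ)) (ψ₁ : G → ℂ) =
      (charDegree (ψ₁ : G → ℂ)).factorization p - minDeg p (blockOf M (χ₁ : G → ℂ)) := rfl
  set f := (charDegree (ψ₁ : G → ℂ)).factorization p with hf
  set a := (Nat.card G).factorization p with ha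
  have hle := AAz_self_le hp ψ₁
  -- f + 1 ≤ a
  have h1 : (p : ℤ) ^ (f + 1) ≤ (p : ℤ) ^ a := by
    calc (p : ℤ) ^ (f + 1) = (p : ℤ) ^ (f + 1) * 1 := (mul_one _).symm
      _ ≤ (p : ℤ) ^ (f + 1) * y := mul_le_mul_of_nonneg_left (by omega) (by positivity)
      _ = AAz hp ψ₁ ψ₁ := hy.symm
      _ ≤ _ := hle
  have h2 : f + 1 ≤ a := (pow_le_pow_iff_right₀ hpZ).mp h1
  -- f + 1 ≠ a
  have h3 : f + 1 ≠ a := by
    intro heq
    have hY : AAz hp ψ₁ ψ₁ = (p : ℤ) ^ a := by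
      refine le_antisymm hle ?_
      rw [← heq]
      calc (p : ℤ) ^ (f + 1) = (p : ℤ) ^ (f + 1) * 1 := (mul_one _).symm
        _ ≤ (p : ℤ) ^ (f + 1) * y := mul_le_mul_of_nonneg_left (by omega) (by positivity)
        _ = AAz hp ψ₁ ψ₁ := hy.symm
    have hsing := blockOf_eq_singleton_of_AAz_self_eq hM ψ₁ hY
    -- then the block of χ₁ is {ψ₁}, so ψ₁ has height zero
    have hmin : minDeg p (blockOf M (χ₁ : G → ℂ)) = f := by
      obtain ⟨χ₀, hχ₀, h0⟩ := exists_height_zero (p := p) (M := M) χ₁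
      have : χ₀ ∈ blockOf M (ψ₁ : G → ℂ) := sameBlock_trans (sameBlock_symm hψ₁) hχ₀
      rw [hsing, Set.mem_singleton_iff] at this
      rw [← h0, this]
    omega
  omega


/-- The number of characters of positive height is at most `p^{2d-2}/4`. -/
theorem four_mul_card_pos_height_le [Fintype (IrrCharacter G)] (hM : IsPModular p M)
    (χ₁ : IrrCharacter G) (S : Finset (IrrCharacter G))
    (hS : ∀ ψ ∈ S, ψ ∈ blockOf M (χ₁ : G → ℂ) ∧
      0 < blockHeight p (blockOf M (χ₁ : G → ℂ)) (ψ : G → ℂ)) :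
    4 * S.card ≤ p ^ (2 * blockDefect p (blockOf M (χ₁ : G → ℂ)) - 2) := by
  haveI hPr := isPrime_of_isPModular hM
  have hp : p.Prime := hM.1
  rcases S.eq_empty_or_nonempty with rfl | ⟨ψ₁, hψ₁⟩
  · simp
  have hd2 := height_add_two_le hM χ₁ ψ₁ (hS ψ₁ hψ₁).1 (hS ψ₁ hψ₁).2
  obtain ⟨χ₀, hχ₀, h0⟩ := exists_height_zero (p := p) (M := M) χ₁
  have hχ₀S : χ₀ ∉ S := by
    intro h
    have := (hS χ₀ h).2
    have hrfl : blockHeight p (blockOf M (χ₁ : G → ℂ)) (χ₀ : G → ℂ) =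
        (charDegree (χ₀ : G → ℂ)).factorization p - minDeg p (blockOf M (χ₁ : G → ℂ)) := rfl
    omega
  have h4 := four_mul_sum_le hM χ₁ χ₀ hχ₀ h0 S (fun ψ hψ => (hS ψ hψ).1) hχ₀S
  have h5 : S.card * p ^ 2 ≤
      ∑ ψ ∈ S, p ^ (2 * blockHeight p (blockOf M (χ₁ : G → ℂ)) (ψ : G → ℂ)) := by
    rw [← smul_eq_mul, ← Finset.sum_const]
    refine Finset.sum_le_sum fun ψ hψ => ?_
    exact Nat.pow_le_pow_right hp.pos (by have := (hS ψ hψ).2; omega)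
  set d := blockDefect p (blockOf M (χ₁ : G → ℂ)) with hd
  have h6 : p ^ (2 * d) = p ^ (2 * d - 2) * p ^ 2 := by
    rw [← pow_add]; congr 1; omega
  have h7 : (4 * S.card) * p ^ 2 ≤ p ^ (2 * d - 2) * p ^ 2 := by
    rw [← h6]
    calc (4 * S.card) * p ^ 2 = 4 * (S.card * p ^ 2) := by ring
      _ ≤ 4 * ∑ ψ ∈ S, p ^ (2 * blockHeight p (blockOf M (χ₁ : G → ℂ)) (ψ : G → ℂ)) :=
        Nat.mul_le_mul_left 4 h5
      _ ≤ _ := h4
  exact Nat.le_of_mul_le_mul_right h7 (pow_pos hp.pos 2)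

/-- If the block has a character of positive height, then the number of characters of height
zero is at most `p^{2d-2}/4`. -/
theorem four_mul_card_height_zero_le [Fintype (IrrCharacter G)] (hM : IsPModular p M)
    (χ₁ ψ₁ : IrrCharacter G) (hψ₁ : ψ₁ ∈ blockOf M (χ₁ : G → ℂ))
    (hpos : 0 < blockHeight p (blockOf M (χ₁ : G → ℂ)) (ψ₁ : G → ℂ))
    (S : Finset (IrrCharacter G))
    (hS : ∀ ψ ∈ S, ψ ∈ blockOf M (χ₁ : G → ℂ) ∧
      blockHeight p (blockOf M (χ₁ : G → ℂ)) (ψ : G → ℂ) = 0) :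
    4 * S.card ≤ p ^ (2 * blockDefect p (blockOf M (χ₁ : G → ℂ)) - 2) := by
  haveI hPr := isPrime_of_isPModular hM
  have hp : p.Prime := hM.1
  have hpZ : (0 : ℤ) < (p : ℤ) := by exact_mod_cast hp.pos
  have hd2 := height_add_two_le hM χ₁ ψ₁ hψ₁ hpos
  obtain ⟨y, hy0, hy⟩ := exists_AAz_self_eq_of_pos_height hM χ₁ ψ₁ hψ₁ hpos
  have had := card_factorization_eq (p := p) (M := M) χ₁
  have hrfl : ∀ ψ : IrrCharacter G, blockHeight p (blockOf M (χ₁ : G → ℂ)) (ψ : G → ℂ) =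
      (charDegree (ψ : G → ℂ)).factorization p - minDeg p (blockOf M (χ₁ : G → ℂ)) :=
    fun _ => rfl
  have hf_ge := minDeg_le (p := p) χ₁ hψ₁
  set f := (charDegree (ψ₁ : G → ℂ)).factorization p with hf
  set a := (Nat.card G).factorization p with ha
  set e := minDeg p (blockOf M (χ₁ : G → ℂ)) with he
  set d := blockDefect p (blockOf M (χ₁ : G → ℂ)) with hd
  have hh1 := hrfl ψ₁
  have hψ₁S : ψ₁ ∉ S := by
    intro h
    have := (hS ψ₁ h).2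
    omega
  have hw : ∀ ψ ∈ S, (p : ℤ) ^ (2 * f) ≤ AAz hp ψ₁ ψ ^ 2 := by
    intro ψ hψ
    obtain ⟨hψB, hψ0⟩ := hS ψ hψ
    have hψmin : (charDegree (ψ : G → ℂ)).factorization p = e := by
      have h1 := minDeg_le (p := p) χ₁ hψB
      have h2 := hrfl ψ
      omega
    have hmin : ∀ φ : IrrCharacter G, SameBlock M (ψ : G → ℂ) (φ : G → ℂ) →
        (charDegree (ψ : G → ℂ)).factorization p ≤ (charDegree (φ : G → ℂ)).factorization p := by
      intro φ hs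
      rw [hψmin]
      exact minDeg_le χ₁ (sameBlock_trans hψB hs)
    have hs : SameBlock M (ψ : G → ℂ) (ψ₁ : G → ℂ) := sameBlock_trans (sameBlock_symm hψB) hψ₁
    have hne : AAz hp ψ₁ ψ ≠ 0 := by
      rw [AAz_symm]; exact AAz_ne_zero hM ψ hmin ψ₁ hs
    exact pow_le_sq_of_dvd hp (pow_dvd_AAz_left hp ψ₁ ψ) hne
  have hmain := sum_weights_le hp ψ₁ S hψ₁S _ hw
  rw [Finset.sum_const, nsmul_eq_mul] at hmain
  -- rewrite the right side
  set N : ℤ := (p : ℤ) ^ (a - f - 1) with hN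
  have hpa : (p : ℤ) ^ a = (p : ℤ) ^ (f + 1) * N := by
    rw [hN, ← pow_add]; congr 1; omega
  have hrhs : (p : ℤ) ^ a * AAz hp ψ₁ ψ₁ - AAz hp ψ₁ ψ₁ ^ 2 =
      (p : ℤ) ^ (2 * f) * ((p : ℤ) ^ 2 * (y * (N - y))) := by
    rw [hy, hpa]; ring
  rw [hrhs, mul_comm (S.card : ℤ)] at hmain
  have hpf : (0 : ℤ) < (p : ℤ) ^ (2 * f) := pow_pos hpZ _
  have h1 : (S.card : ℤ) ≤ (p : ℤ) ^ 2 * (y * (N - y)) := le_of_mul_le_mul_left hmain hpf
  have h2 : 4 * (y * (N - y)) ≤ N ^ 2 := by nlinarith [sq_nonneg (N - 2 * y)]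
  have h3 : 4 * (S.card : ℤ) ≤ (p : ℤ) ^ 2 * N ^ 2 := by
    have hp2 : (0 : ℤ) ≤ (p : ℤ) ^ 2 := sq_nonneg _
    calc 4 * (S.card : ℤ) ≤ 4 * ((p : ℤ) ^ 2 * (y * (N - y))) := by linarith
      _ = (p : ℤ) ^ 2 * (4 * (y * (N - y))) := by ring
      _ ≤ (p : ℤ) ^ 2 * N ^ 2 := mul_le_mul_of_nonneg_left h2 hp2
  have h4 : (p : ℤ) ^ 2 * N ^ 2 = (p : ℤ) ^ (2 * (a - f)) := by
    rw [hN, ← pow_mul, ← pow_add]; congr 1; omega
  have h5 : (p : ℤ) ^ (2 * (a - f)) ≤ (p : ℤ) ^ (2 * d - 2) :=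
    pow_le_pow_right₀ (by exact_mod_cast hp.one_lt.le) (by omega)
  have h6 : ((4 * S.card : ℕ) : ℤ) ≤ ((p ^ (2 * d - 2) : ℕ) : ℤ) := by
    push_cast
    calc 4 * (S.card : ℤ) ≤ (p : ℤ) ^ 2 * N ^ 2 := h3
      _ = _ := h4
      _ ≤ _ := h5
  exact_mod_cast h6

end Cfsg.Agent.Lib.L0.BrauerFeit
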