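import Mathlib
import Cfsg.Agent.Lib.L0.PrincipalCrit
import Cfsg.Agent.Lib.H23.BlockPrincipalLocal
import Cfsg.Agent.Lib.H24.CharDefl
import Cfsg.Agent.Lib.H24.GoodClasses
import Cfsg.Agent.Lib.H22.PPrimeCore

/-!
# The principal block and quotients by normal `p'`-subgroups (lead)

For a normal subgroup `N` of order prime to `p`:
* `dvd_orderOf_mk_iff`: `x` is `p`-singular iff its image in `G ⧸ N` is;
* `inflIrr_mem_principalBlock_iff`: `infl ψ ∈ B₀(G) ↔ ψ ∈ B₀(G ⧸ N)`;
* `exists_of_mem_principalBlock`: every member of `B₀(G)` is inflated from a member of `B₀(G ⧸ N)`.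
-/

set_option autoImplicit false

namespace Cfsg.Agent.Lib.L0.PrincipalQuot

open Cfsg Cfsg.Agent.Lib.H23 Cfsg.Agent.Lib.H24 Cfsg.Agent.Lib.L0
  Cfsg.Agent.Lib.L0.PrincipalCrit
open scoped ComplexConjugate

variable {G : Type*} [Group G] [Fintype G] {p : ℕ} {M : Ideal AlgInt}

theorem dvd_orderOf_mk_iff (hp : p.Prime) (N : Subgroup G) [N.Normal]
    (hN : ¬ p ∣ Nat.card N) (x : G) :
    p ∣ orderOf (x : G ⧸ N) ↔ p ∣ orderOf x := by
  constructor
  · intro h
    exact h.trans (orderOf_dvd_of_pow_eq_one (by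
      rw [← QuotientGroup.mk_pow, pow_orderOf_eq_one, QuotientGroup.mk_one]))
  · intro h
    by_contra hq
    set m := orderOf (x : G ⧸ N) with hm
    have hxm : x ^ m ∈ N := by
      rw [← QuotientGroup.eq_one_iff, QuotientGroup.mk_pow, hm, pow_orderOf_eq_one]
    have h1 : orderOf (⟨x ^ m, hxm⟩ : N) ∣ Nat.card N := orderOf_dvd_natCard _
    have h2 : (x ^ m) ^ Nat.card N = 1 := by
      have : (⟨x ^ m, hxm⟩ : N) ^ Nat.card N = 1 := pow_card_eq_one'
      exact congrArg Subtype.val this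
    rw [← pow_mul] at h2
    have h3 : orderOf x ∣ m * Nat.card N := orderOf_dvd_of_pow_eq_one h2
    rcases (hp.dvd_mul).mp (h.trans h3) with h4 | h4
    · exact hq h4
    · exact hN h4

theorem inflIrr_mem_principalBlock_iff (hM : IsPModular p M)
    (N : Subgroup G) [N.Normal] [Fintype (G ⧸ N)] (hN : ¬ p ∣ Nat.card N)
    (ψ : IrrCharacter (G ⧸ N)) :
    inflIrr N ψ ∈ principalBlock M G ↔ ψ ∈ principalBlock M (G ⧸ N) := by
  classical
  have hp : p.Prime := hM.1
  haveI : Fact p.Prime := ⟨hp⟩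
  rw [mem_principalBlock_iff hM, mem_principalBlock_iff hM, charEval_regSum, charEval_regSum]
  have h1 : ∑ x : G, (if p ∣ orderOf x then 0 else (inflIrr N ψ : G → ℂ) x) =
      ∑ x : G, (fun q : G ⧸ N => if p ∣ orderOf q then 0 else (ψ : G ⧸ N → ℂ) q) (x : G ⧸ N) := by
    refine Finset.sum_congr rfl fun x _ => ?_
    simp only [inflIrr_apply]
    rw [if_congr (dvd_orderOf_mk_iff hp N hN x) rfl rfl]
  haveI : Fintype N := Fintype.ofFinite N
  rw [h1, sum_comp_mk (N := N)
    (fun q : G ⧸ N => if p ∣ orderOf q then 0 else (ψ : G ⧸ N → ℂ) q)]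
  have hN0 : (Nat.card N : ℂ) ≠ 0 := Nat.cast_ne_zero.2 Nat.card_pos.ne'
  constructor
  · intro h h0
    apply h
    rw [h0, mul_zero]
  · intro h h0
    rcases mul_eq_zero.mp h0 with h2 | h2
    · exact hN0 h2
    · exact h h2

theorem exists_of_mem_principalBlock (hM : IsPModular p M)
    (N : Subgroup G) [N.Normal] (hN : ¬ p ∣ Nat.card N)
    (χ : IrrCharacter G) (hχ : χ ∈ principalBlock M G) :
    ∃ ψ : IrrCharacter (G ⧸ N), ψ ∈ principalBlock M (G ⧸ N) ∧ χ = inflIrr N ψ := by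
  haveI := Fintype.ofFinite (G ⧸ N)
  obtain ⟨ψ, hψ⟩ := exists_deflation χ N (principalBlock_ker hM N hN χ hχ)
  have hχψ : χ = inflIrr N ψ := by
    apply Subtype.ext
    funext g
    rw [inflIrr_apply, hψ]
  refine ⟨ψ, ?_, hχψ⟩
  rw [← inflIrr_mem_principalBlock_iff hM N hN, ← hχψ]
  exact hχ

theorem inflIrr_injective (N : Subgroup G) [N.Normal] :
    Function.Injective (inflIrr (G := G) N) := by
  intro ψ ψ' h
  apply Subtype.ext
  funext q
  obtain ⟨g, rfl⟩ := QuotientGroup.mk_surjective q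
  have := congrArg (fun θ : IrrCharacter G => (θ : G → ℂ) g) h
  simpa [inflIrr_apply] using this

end Cfsg.Agent.Lib.L0.PrincipalQuot
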