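import Cfsg.Agent.Lib.L0.FrobTI
import Cfsg.Agent.Lib.L0.CharDegree
import Cfsg.Agent.S0198

/-!
# Exceptional characters for an abelian T.I. subgroup with Frobenius normalizer (lead's library)
-/

set_option autoImplicit false

namespace Cfsg.Agent.Lib.L0

open Cfsg
open scoped ComplexConjugate

variable {G : Type*} [Group G] [Fintype G]

theorem indFun_sub (H : Subgroup G) (θ₁ θ₂ : H → ℂ) :
    indFun H (θ₁ - θ₂) = indFun H θ₁ - indFun H θ₂ := by
  have h1 : θ₁ - θ₂ = θ₁ + (-1 : ℂ) • θ₂ := by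
    funext x; simp [sub_eq_add_neg]
  rw [h1, indFun_add, indFun_smul]
  funext x; simp [sub_eq_add_neg]

namespace FrobTI

variable {K : Subgroup G} [Fintype (Subgroup.normalizer (K : Set G))]

/-- For abelian `K` the relevant characters have degree `|N : K|`. -/
theorem rel_degree (h : FrobTI K) (hab : ∀ a ∈ K, ∀ b ∈ K, a * b = b * a)
    {χ : Subgroup.normalizer (K : Set G) → ℂ}
    (hχ : IsIrrCharacter (Subgroup.normalizer (K : Set G)) χ) (hrel : Rel K χ) :
    χ 1 = ((K.subgroupOf (Subgroup.normalizer (K : Set G))).index : ℂ) := by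
  obtain ⟨φ, hφ, rfl⟩ := h.exists_ind hχ hrel
  have hcomm : ∀ a b : K.subgroupOf (Subgroup.normalizer (K : Set G)), a * b = b * a := by
    intro a b
    apply Subtype.ext
    apply Subtype.ext
    exact hab _ (Subgroup.mem_subgroupOf.mp a.2) _ (Subgroup.mem_subgroupOf.mp b.2)
  rw [indFun_apply_one, irr_apply_one_of_comm hcomm hφ, mul_one]

/-- The difference of two relevant characters of equal degree. -/
theorem diff_props (h : FrobTI K) (hab : ∀ a ∈ K, ∀ b ∈ K, a * b = b * a)
    {χ ξ : Subgroup.normalizer (K : Set G) → ℂ}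
    (hχ : IsIrrCharacter (Subgroup.normalizer (K : Set G)) χ) (hχr : Rel K χ)
    (hξ : IsIrrCharacter (Subgroup.normalizer (K : Set G)) ξ) (hξr : Rel K ξ) :
    IsClassFunction (Subgroup.normalizer (K : Set G)) (χ - ξ) ∧
    (∀ x : Subgroup.normalizer (K : Set G), (x : G) ∉ K → (χ - ξ) x = 0) ∧ (χ - ξ) 1 = 0 := by
  refine ⟨?_, ?_, ?_⟩
  · intro x y
    simp only [Pi.sub_apply]
    rw [isClassFunction_of_isCharacter (isCharacter_of_irr hχ) x y,
      isClassFunction_of_isCharacter (isCharacter_of_irr hξ) x y]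
  · intro x hx
    rw [Pi.sub_apply, h.vanish hχ hχr x hx, h.vanish hξ hξr x hx, sub_zero]
  · rw [Pi.sub_apply, h.rel_degree hab hχ hχr, h.rel_degree hab hξ hξr, sub_self]

/-- S0851 (second alternative, which always holds). -/
theorem exists_exceptional (h : FrobTI K) (hlt : K < Subgroup.normalizer (K : Set G))
    (hab : ∀ a ∈ K, ∀ b ∈ K, a * b = b * a) :
    ∃ (ε : ℂ) (f : {χ : IrrCharacter (Subgroup.normalizer (K : Set G)) //
        ∃ k : Subgroup.normalizer (K : Set G), (k : G) ∈ K ∧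
          (χ : Subgroup.normalizer (K : Set G) → ℂ) k ≠ (χ : Subgroup.normalizer (K : Set G) → ℂ) 1}
        → IrrCharacter G),
      (ε = 1 ∨ ε = -1) ∧ Function.Injective f ∧ ∀ χ ξ,
        indFun (Subgroup.normalizer (K : Set G))
          ((χ.1 : Subgroup.normalizer (K : Set G) → ℂ) - (ξ.1 : Subgroup.normalizer (K : Set G) → ℂ))
        = ε • ((f χ : G → ℂ) - (f ξ : G → ℂ)) := by
  classical
  have := Fintype.ofFinite (IrrCharacter (Subgroup.normalizer (K : Set G)))
  set T := {χ : IrrCharacter (Subgroup.normalizer (K : Set G)) //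
        ∃ k : Subgroup.normalizer (K : Set G), (k : G) ∈ K ∧
          (χ : Subgroup.normalizer (K : Set G) → ℂ) k ≠ (χ : Subgroup.normalizer (K : Set G) → ℂ) 1}
    with hT
  have hFT : Fintype T := Fintype.ofFinite _
  set n := Fintype.card T with hn
  have eqv : T ≃ Fin n := Fintype.equivFin T
  by_cases hn0 : n = 0
  · have hemp : IsEmpty T := by
      rw [← Fintype.card_eq_zero_iff]; exact hn0
    exact ⟨1, fun χ => (hemp.false χ).elim, Or.inl rfl, fun χ => (hemp.false χ).elim,
      fun χ => (hemp.false χ).elim⟩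
  have i₀ : Fin n := ⟨0, Nat.pos_of_ne_zero hn0⟩
  set τ : Fin n → (G → ℂ) := fun i => indFun (Subgroup.normalizer (K : Set G))
    (((eqv.symm i).1 : Subgroup.normalizer (K : Set G) → ℂ)
      - ((eqv.symm i₀).1 : Subgroup.normalizer (K : Set G) → ℂ)) with hτ
  have hdp : ∀ i j : Fin n, _ := fun i j =>
    h.diff_props hab (eqv.symm i).1.2 (eqv.symm i).2 (eqv.symm j).1.2 (eqv.symm j).2
  have h0 : τ i₀ = 0 := by
    simp only [hτ, sub_self, indFun_zero]
  have hgen : ∀ i, IsGeneralizedCharacter G (τ i) := by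
    intro i
    simp only [hτ]
    rw [indFun_sub]
    exact ⟨_, _, isCharacter_indFun _ (isCharacter_of_irr (eqv.symm i).1.2),
      isCharacter_indFun _ (isCharacter_of_irr (eqv.symm i₀).1.2), rfl⟩
  have hone : ∀ i, τ i 1 = 0 := by
    intro i
    obtain ⟨d1, d2, d3⟩ := hdp i i₀
    have := (Cfsg.Agent.S0850.result K h.hTI hlt h.hC).2 _ d1 d2 d3 1
    rw [d3] at this
    simpa [hτ] using this
  have hgram : ∀ i j, i ≠ i₀ → j ≠ i₀ → classInner (τ i) (τ j) = if i = j then 2 else 1 := by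
    intro i j hi hj
    obtain ⟨d1, d2, d3⟩ := hdp i i₀
    obtain ⟨e1, e2, e3⟩ := hdp j i₀
    simp only [hτ]
    rw [classInner_indFun_TI (K : Set G) h.hTI _ _ e1 d2 e2 d3]
    have hne : ∀ a b : Fin n, a ≠ b →
        ((eqv.symm a).1 : Subgroup.normalizer (K : Set G) → ℂ)
          ≠ ((eqv.symm b).1 : Subgroup.normalizer (K : Set G) → ℂ) := by
      intro a b hab' heq
      apply hab'
      have : (eqv.symm a).1 = (eqv.symm b).1 := Subtype.ext heq
      exact eqv.symm.injective (Subtype.ext this)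
    rw [classInner_sub_left, classInner_sub_right, classInner_sub_right,
      irr_classInner_self (eqv.symm i₀).1.2,
      irr_classInner_ne (eqv.symm i).1.2 (eqv.symm i₀).1.2 (hne i i₀ hi),
      irr_classInner_ne (eqv.symm i₀).1.2 (eqv.symm j).1.2 (hne i₀ j (Ne.symm hj))]
    by_cases hij : i = j
    · subst hij
      rw [if_pos rfl, irr_classInner_self (eqv.symm i).1.2]; norm_num
    · rw [if_neg hij, irr_classInner_ne (eqv.symm i).1.2 (eqv.symm j).1.2 (hne i j hij)]; norm_num
  obtain ⟨ε, hε, μ, hμirr, hμinj, hμ⟩ := Cfsg.Agent.S0198.result n i₀ τ h0 hgen hone hgram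
  refine ⟨ε, fun χ => ⟨μ (eqv χ), hμirr _⟩, hε, ?_, ?_⟩
  · intro χ ξ hχξ
    have := congrArg Subtype.val hχξ
    exact eqv.injective (hμinj this)
  · intro χ ξ
    have h1 : ((χ.1 : Subgroup.normalizer (K : Set G) → ℂ)
          - (ξ.1 : Subgroup.normalizer (K : Set G) → ℂ))
        = (((eqv.symm (eqv χ)).1 : Subgroup.normalizer (K : Set G) → ℂ)
            - ((eqv.symm i₀).1 : Subgroup.normalizer (K : Set G) → ℂ))
          - (((eqv.symm (eqv ξ)).1 : Subgroup.normalizer (K : Set G) → ℂ)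
            - ((eqv.symm i₀).1 : Subgroup.normalizer (K : Set G) → ℂ)) := by
      rw [Equiv.symm_apply_apply, Equiv.symm_apply_apply]; ring
    rw [h1, indFun_sub]
    have h2 := hμ (eqv χ)
    have h3 := hμ (eqv ξ)
    simp only [hτ] at h2 h3
    rw [h2, h3, ← smul_sub]
    congr 1
    ring

end FrobTI

end Cfsg.Agent.Lib.L0
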