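import Cfsg.Agent.Lib.L0.NPCBasic
import Cfsg.Agent.Lib.H10.SylowIn

/-!
# Minimal-counterexample reduction for normal `p`-complement theorems (lead's library)

An abstract `p`-local hypothesis `Hyp X T` (for `T` a subgroup of a group `X`) is a `LocalHyp`
when it is inherited along injective homomorphisms (`of_injective`), passes to quotients by normal
`p'`-subgroups (`quotient`), and holds as soon as the normalizers `N_X(U)` of the nontrivial
subgroups `U ≤ T` with `N_X(T) ≤ N_X(U)` all have normal `p`-complements (`of_normalizers`).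

`npc_of_localHyp` : if `Hyp` is a `LocalHyp` and no group is in the `FinalConfig`uration, then
`Hyp G P` for a Sylow `p`-subgroup `P` implies that `G` has a normal `p`-complement.

The `FinalConfig`uration of `G`: `G` is not NPC, `Hyp G P` for every Sylow `P`, every proper
subgroup containing a Sylow `p`-subgroup is NPC, `O_{p'}(G) = 1`, and there is a nontrivial normal
`p`-subgroup `H` containing all normal `p`-subgroups with `G ⧸ H` NPC.
-/

set_option autoImplicit false

universe u

namespace Cfsg.Agent.Lib.L0

open Cfsg.Agent.Lib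

/-- An abstract `p`-local hypothesis. -/
structure LocalHyp (p : ℕ) (Hyp : ∀ (X : Type u) [Group X], Subgroup X → Prop) : Prop where
  of_injective : ∀ {X Y : Type u} [Group X] [Group Y] [Finite Y] (f : X →* Y),
    Function.Injective f → ∀ T : Subgroup X, Hyp Y (T.map f) → Hyp X T
  quotient : ∀ {X : Type u} [Group X] [Finite X] (N : Subgroup X) [N.Normal],
    (Nat.card N).Coprime p → ∀ T : Subgroup X, IsPGroup p T → Hyp X T →
      Hyp (X ⧸ N) (T.map (QuotientGroup.mk' N))
  of_normalizers : ∀ {X : Type u} [Group X] [Finite X] (T : Subgroup X), IsPGroup p T → T ≠ ⊥ →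
    (∀ U : Subgroup X, U ≤ T → U ≠ ⊥ →
      Subgroup.normalizer (T : Set X) ≤ Subgroup.normalizer (U : Set X) →
      Cfsg.HasNormalPComplement p (Subgroup.normalizer (U : Set X))) → Hyp X T

/-- The final configuration of a minimal counterexample. -/
structure FinalConfig (p : ℕ) (Hyp : ∀ (X : Type u) [Group X], Subgroup X → Prop)
    (X : Type u) [Group X] : Prop where
  not_npc : ¬ Cfsg.HasNormalPComplement p X
  hyp : ∀ P : Sylow p X, Hyp X (P : Subgroup X)
  proper : ∀ L : Subgroup X, L ≠ ⊤ → (∃ P : Sylow p X, (P : Subgroup X) ≤ L) →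
    Cfsg.HasNormalPComplement p L
  pprime : ∀ N : Subgroup X, N.Normal → (Nat.card N).Coprime p → N = ⊥
  pcore : ∃ (H : Subgroup X) (_ : H.Normal), IsPGroup p H ∧ H ≠ ⊥ ∧
    Cfsg.HasNormalPComplement p (X ⧸ H) ∧ ∀ H' : Subgroup X, H'.Normal → IsPGroup p H' → H' ≤ H

section aux

variable {G : Type*} [Group G]

theorem card_lt_card_of_ne_top [Finite G] {L : Subgroup G} (hL : L ≠ ⊤) :
    Nat.card L < Nat.card G :=
  lt_of_le_of_ne (Subgroup.card_le_card_group L) (fun h => hL (Subgroup.eq_top_of_card_eq L h))

theorem card_quotient_lt_of_ne_bot [Finite G] {N : Subgroup G} [N.Normal] (hN : N ≠ ⊥) :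
    Nat.card (G ⧸ N) < Nat.card G := by
  rw [← Subgroup.index_eq_card, ← Subgroup.card_mul_index N]
  have h1 : 1 < Nat.card N := (Subgroup.one_lt_card_iff_ne_bot N).mpr hN
  have h2 : 0 < N.index := Nat.pos_of_ne_zero Subgroup.index_ne_zero_of_finite
  nlinarith

/-- A normal `p`-subgroup lies in every Sylow `p`-subgroup. -/
theorem normal_le_sylow {p : ℕ} [Fact p.Prime] {H : Subgroup G} [H.Normal] (hH : IsPGroup p H)
    (P : Sylow p G) : H ≤ P := by
  have h1 : IsPGroup p (H ⊔ P : Subgroup G) := IsPGroup.to_sup_of_normal_left hH P.2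
  have h2 := P.3 h1 le_sup_right
  exact le_sup_left.trans h2.le

/-- The exponent of `p` in the order of a subgroup is monotone. -/
theorem factorization_card_le [Finite G] (p : ℕ) {A B : Subgroup G} (h : A ≤ B) :
    (Nat.card A).factorization p ≤ (Nat.card B).factorization p :=
  (Nat.factorization_le_iff_dvd Nat.card_pos.ne' Nat.card_pos.ne').mpr
    (Subgroup.card_dvd_of_le h) p

/-- A `p`-subgroup of order `p ^ k` inside `M` forces `k ≤ v_p(|M|)`. -/
theorem le_factorization_of_isPGroup [Finite G] {p : ℕ} [hp : Fact p.Prime] {S M : Subgroup G}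
    (hSM : S ≤ M) {k : ℕ} (hk : Nat.card S = p ^ k) :
    k ≤ (Nat.card M).factorization p := by
  rw [← Nat.Prime.pow_dvd_iff_le_factorization hp.out Nat.card_pos.ne', ← hk]
  exact Subgroup.card_dvd_of_le hSM

theorem exists_extremal [Finite G] (𝒮 : Set (Subgroup G)) (hne : 𝒮.Nonempty)
    (e : Subgroup G → ℕ) :
    ∃ H ∈ 𝒮, (∀ Q ∈ 𝒮, e Q ≤ e H) ∧ (∀ Q ∈ 𝒮, e Q = e H → Nat.card Q ≤ Nat.card H) := by
  obtain ⟨Q₁, hQ₁, hmax1⟩ := Set.exists_max_image 𝒮 e (Set.toFinite _) hne
  obtain ⟨H, hH, hmax2⟩ := Set.exists_max_image {Q | Q ∈ 𝒮 ∧ e Q = e Q₁}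
    (fun Q => Nat.card Q) (Set.toFinite _) ⟨Q₁, hQ₁, rfl⟩
  refine ⟨H, hH.1, ?_, ?_⟩
  · intro Q hQ
    rw [hH.2]; exact hmax1 Q hQ
  · intro Q hQ hQe
    exact hmax2 Q ⟨hQ, hQe.trans hH.2⟩

end aux

section main

variable {p : ℕ} [hp : Fact p.Prime] {Hyp : ∀ (X : Type u) [Group X], Subgroup X → Prop}

theorem LocalHyp.sylow_conj (hH : LocalHyp p Hyp) {G : Type u} [Group G] [Finite G]
    (P : Sylow p G) (hP : Hyp G (P : Subgroup G)) (P' : Sylow p G) :
    Hyp G (P' : Subgroup G) := by
  obtain ⟨g, hg⟩ := MulAction.exists_smul_eq G P' P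
  apply hH.of_injective (MulAut.conj g).toMonoidHom (MulAut.conj g).injective
  have h1 : ((P' : Subgroup G).map (MulAut.conj g).toMonoidHom) = (P : Subgroup G) := by
    rw [← hg, Sylow.coe_subgroup_smul, Subgroup.pointwise_smul_def]
    rfl
  rw [h1]; exact hP

theorem LocalHyp.sylow_subgroup (hH : LocalHyp p Hyp) {G : Type u} [Group G] [Finite G]
    (L : Subgroup G) (P : Sylow p G) (hPL : (P : Subgroup G) ≤ L) (hP : Hyp G (P : Subgroup G)) :
    Hyp L ((P.subtype hPL : Sylow p L) : Subgroup L) := by
  apply hH.of_injective L.subtype L.subtype_injective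
  rw [Sylow.coe_subtype, Subgroup.map_subgroupOf_eq_of_le hPL]
  exact hP

theorem npc_of_localHyp_aux (hH : LocalHyp p Hyp)
    (final : ∀ (X : Type u) [Group X] [Finite X], FinalConfig p Hyp X → False) :
    ∀ (n : ℕ) (G : Type u) [Group G] [Finite G], Nat.card G = n →
      ∀ P : Sylow p G, Hyp G (P : Subgroup G) → Cfsg.HasNormalPComplement p G := by
  intro n
  induction n using Nat.strong_induction_on with
  | _ n ih =>
  intro G _ _ hn P hP
  by_contra hnot
  have hall : ∀ P' : Sylow p G, Hyp G (P' : Subgroup G) := hH.sylow_conj P hP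
  -- proper subgroups containing a Sylow subgroup
  have hproper : ∀ L : Subgroup G, L ≠ ⊤ → (∃ P' : Sylow p G, (P' : Subgroup G) ≤ L) →
      Cfsg.HasNormalPComplement p L := by
    rintro L hL ⟨P', hP'⟩
    have hlt : Nat.card L < n := by rw [← hn]; exact card_lt_card_of_ne_top hL
    exact ih _ hlt L rfl (P'.subtype hP') (hH.sylow_subgroup L P' hP' (hall P'))
  -- trivial p'-core
  have hpprime : ∀ N : Subgroup G, N.Normal → (Nat.card N).Coprime p → N = ⊥ := by
    intro N hN hcop
    by_contra hNb
    have hlt : Nat.card (G ⧸ N) < n := by rw [← hn]; exact card_quotient_lt_of_ne_bot hNb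
    have h1 := ih _ hlt (G ⧸ N) rfl (P.mapSurjective (QuotientGroup.mk'_surjective N))
      (by rw [Sylow.coe_mapSurjective]; exact hH.quotient N hcop P P.2 hP)
    exact hnot (hasNormalPComplement_of_quotient N
      ((Nat.Prime.coprime_iff_not_dvd hp.out).mp hcop.symm) h1)
  -- extremal choice
  obtain ⟨Q₀, hQ₀p, hQ₀ne, hQ₀n⟩ := exists_normalizer_not_npc hnot
  obtain ⟨H, ⟨hHp, hHne, hHn⟩, hM1, hM2⟩ := exists_extremal
    {Q : Subgroup G | IsPGroup p Q ∧ Q ≠ ⊥ ∧
      ¬ Cfsg.HasNormalPComplement p (Subgroup.normalizer (Q : Set G))} ⟨Q₀, hQ₀p, hQ₀ne, hQ₀n⟩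
    (fun Q => (Nat.card (Subgroup.normalizer (Q : Set G))).factorization p)
  simp only [Set.mem_setOf_eq, and_imp] at hM1 hM2
  -- `H` is normal
  have hNtop : Subgroup.normalizer (H : Set G) = ⊤ := by
    by_contra hNtop
    set N := Subgroup.normalizer (H : Set G) with hNdef
    let T' : Sylow p N := Classical.arbitrary _
    set T : Subgroup G := (T' : Subgroup N).map N.subtype with hTdef
    have hTp : IsPGroup p T := T'.2.map _
    have hTcard : Nat.card T = p ^ (Nat.card N).factorization p := by
      rw [hTdef, Subgroup.card_map_of_injective N.subtype_injective, T'.card_eq_multiplicity]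
    have heH : 1 ≤ (Nat.card N).factorization p := by
      obtain ⟨k, hk⟩ := IsPGroup.iff_card.mp hHp
      have h1 : k ≤ (Nat.card N).factorization p :=
        le_factorization_of_isPGroup (Subgroup.le_normalizer) hk
      have h2 : 1 < Nat.card H := (Subgroup.one_lt_card_iff_ne_bot H).mpr hHne
      rcases Nat.eq_zero_or_pos k with h0 | h0
      · rw [h0, pow_zero] at hk; omega
      · omega
    have hTne : T ≠ ⊥ := by
      rw [← Subgroup.one_lt_card_iff_ne_bot, hTcard]
      exact Nat.one_lt_pow (by omega) hp.out.one_lt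
    have hTN : T ≤ N := Subgroup.map_subtype_le _
    have hHypT : Hyp G T := by
      by_cases hTs : Nat.card T = p ^ (Nat.card G).factorization p
      · have := hall (Sylow.ofCard T hTs)
        rwa [Sylow.coe_ofCard] at this
      · apply hH.of_normalizers T hTp hTne
        intro U hUT hUne hNTU
        obtain ⟨P'', hTP''⟩ := hTp.exists_le_sylow
        have hlt : T < (P'' : Subgroup G) := by
          refine lt_of_le_of_ne hTP'' ?_
          intro heq
          apply hTs
          rw [heq]; exact P''.card_eq_multiplicity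
        have h1 := H10.lt_inf_normalizer_of_lt P''.2 hlt
        have hSp : IsPGroup p ((P'' : Subgroup G) ⊓ Subgroup.normalizer (T : Set G) :
            Subgroup G) := P''.2.to_le inf_le_left
        obtain ⟨k, hk⟩ := IsPGroup.iff_card.mp hSp
        have h2 : k ≤ (Nat.card (Subgroup.normalizer (U : Set G))).factorization p :=
          le_factorization_of_isPGroup (inf_le_right.trans hNTU) hk
        have h3 : (Nat.card N).factorization p < k := by
          have h4 : Nat.card T < Nat.card ((P'' : Subgroup G) ⊓
              Subgroup.normalizer (T : Set G) : Subgroup G) := by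
            by_contra h5
            push Not at h5
            exact absurd (Subgroup.eq_of_le_of_card_ge h1.le h5) h1.ne
          rw [hTcard, hk] at h4
          exact (Nat.pow_lt_pow_iff_right hp.out.one_lt).mp h4
        by_contra hU
        have h5 := hM1 U (hTp.to_le hUT) hUne hU
        omega
    have hHypT' : Hyp N (T' : Subgroup N) := by
      apply hH.of_injective N.subtype N.subtype_injective
      exact hHypT
    have hlt : Nat.card N < n := by rw [← hn]; exact card_lt_card_of_ne_top hNtop
    exact hHn (ih _ hlt N rfl T' hHypT')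
  have hHnormal : H.Normal := Subgroup.normalizer_eq_top_iff.mp hNtop
  have heH : (Nat.card (Subgroup.normalizer (H : Set G))).factorization p =
      (Nat.card G).factorization p := by
    rw [hNtop, Subgroup.card_top]
  -- normal `p`-subgroups lie in `H`
  have hmaxH : ∀ H' : Subgroup G, H'.Normal → IsPGroup p H' → H' ≤ H := by
    intro H' hH'n hH'p
    have hQn : (H ⊔ H').Normal := Subgroup.sup_normal H H'
    have hQtop : Subgroup.normalizer ((H ⊔ H' : Subgroup G) : Set G) = ⊤ :=
      Subgroup.normalizer_eq_top_iff.mpr hQn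
    have hQp : IsPGroup p (H ⊔ H' : Subgroup G) := IsPGroup.to_sup_of_normal_right hHp hH'p
    have hQne : H ⊔ H' ≠ ⊥ := fun h => hHne (le_bot_iff.mp (h ▸ le_sup_left))
    have hQn' : ¬ Cfsg.HasNormalPComplement p
        (Subgroup.normalizer ((H ⊔ H' : Subgroup G) : Set G)) := by
      rw [hQtop, hasNormalPComplement_top_iff]; exact hnot
    have h1 := hM2 (H ⊔ H') hQp hQne hQn' (by rw [hQtop, hNtop])
    have h2 : H = H ⊔ H' := Subgroup.eq_of_le_of_card_ge le_sup_left h1
    rw [h2]; exact le_sup_right
  -- the quotient by `H`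
  have hquot : Cfsg.HasNormalPComplement p (G ⧸ H) := by
    have hlt : Nat.card (G ⧸ H) < n := by rw [← hn]; exact card_quotient_lt_of_ne_bot hHne
    have hsurj := QuotientGroup.mk'_surjective H
    set π := QuotientGroup.mk' H with hπ
    by_cases hPb : (P : Subgroup G).map π = ⊥
    · apply hasNormalPComplement_of_not_dvd
      have h1 := (P.mapSurjective hsurj).not_dvd_index
      rwa [Sylow.coe_mapSurjective, hPb, Subgroup.index_bot] at h1
    · apply ih _ hlt (G ⧸ H) rfl (P.mapSurjective hsurj)
      rw [Sylow.coe_mapSurjective]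
      apply hH.of_normalizers _ (P.2.map π) hPb
      intro Ubar hUbarP hUbarne hNN
      have hker : π.ker = H := QuotientGroup.ker_mk' H
      have hHP : H ≤ P := normal_le_sylow hHp P
      have hHU : H ≤ Ubar.comap π := hker.ge.trans (Subgroup.ker_le_comap π Ubar)
      have hUP : Ubar.comap π ≤ P := by
        calc Ubar.comap π ≤ ((P : Subgroup G).map π).comap π := Subgroup.comap_mono hUbarP
          _ = (P : Subgroup G) ⊔ π.ker := Subgroup.comap_map_eq π _
          _ = P := by rw [hker]; exact sup_eq_left.mpr hHP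
      have hUp : IsPGroup p (Ubar.comap π) := P.2.to_le hUP
      have hUne : Ubar.comap π ≠ ⊥ := fun h => hHne (le_bot_iff.mp (h ▸ hHU))
      have hNU : Subgroup.normalizer ((Ubar.comap π : Subgroup G) : Set G) =
          (Subgroup.normalizer (Ubar : Set (G ⧸ H))).comap π :=
        (Subgroup.comap_normalizer_eq_of_surjective Ubar hsurj).symm
      have hPN : (P : Subgroup G) ≤ Subgroup.normalizer ((Ubar.comap π : Subgroup G) : Set G) := by
        rw [hNU]
        calc (P : Subgroup G) ≤ ((P : Subgroup G).map π).comap π := Subgroup.le_comap_map π _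
          _ ≤ (Subgroup.normalizer (((P : Subgroup G).map π : Subgroup (G ⧸ H)) :
                Set (G ⧸ H))).comap π := Subgroup.comap_mono Subgroup.le_normalizer
          _ ≤ _ := Subgroup.comap_mono hNN
      have heU : (Nat.card (Subgroup.normalizer ((Ubar.comap π : Subgroup G) : Set G))).factorization p
          = (Nat.card (Subgroup.normalizer (H : Set G))).factorization p := by
        rw [heH]
        apply le_antisymm
        · have := factorization_card_le p (le_top : Subgroup.normalizer
            ((Ubar.comap π : Subgroup G) : Set G) ≤ ⊤)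
          rwa [Subgroup.card_top] at this
        · exact le_factorization_of_isPGroup hPN P.card_eq_multiplicity
      have hnpcU : Cfsg.HasNormalPComplement p
          (Subgroup.normalizer ((Ubar.comap π : Subgroup G) : Set G)) := by
        by_contra hU
        have h1 := hM2 _ hUp hUne hU heU
        have h2 : H = Ubar.comap π := Subgroup.eq_of_le_of_card_ge hHU h1
        apply hUbarne
        have h3 : (Ubar.comap π).map π = Ubar := Subgroup.map_comap_eq_self_of_surjective hsurj _
        rw [← h3, ← h2]
        exact (Subgroup.map_eq_bot_iff _).mpr hker.ge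
      have hmapN : (Subgroup.normalizer ((Ubar.comap π : Subgroup G) : Set G)).map π =
          Subgroup.normalizer (Ubar : Set (G ⧸ H)) := by
        rw [hNU]; exact Subgroup.map_comap_eq_self_of_surjective hsurj _
      have h4 := HasNormalPComplement.of_surjective
        (π.subgroupMap (Subgroup.normalizer ((Ubar.comap π : Subgroup G) : Set G)))
        (π.subgroupMap_surjective _) hnpcU
      rwa [hmapN] at h4
  exact final G ⟨hnot, hall, hproper, hpprime, H, hHnormal, hHp, hHne, hquot, hmaxH⟩

/-- **Generic reduction**: a `LocalHyp` for which the final configuration is impossible forces a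
normal `p`-complement. -/
theorem npc_of_localHyp (hH : LocalHyp p Hyp)
    (final : ∀ (X : Type u) [Group X] [Finite X], FinalConfig p Hyp X → False)
    (G : Type u) [Group G] [Finite G] (P : Sylow p G) (hP : Hyp G (P : Subgroup G)) :
    Cfsg.HasNormalPComplement p G :=
  npc_of_localHyp_aux hH final _ G rfl P hP

end main

end Cfsg.Agent.Lib.L0
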