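import Mathlib
import Cfsg.Agent.Lib.H20.ConjClass

/-!
# Landau's theorem (lead)

* `exists_bound_of_sum_inv`: for `k` and a positive rational `r` there is a bound `N` such that
  every solution of `∑_{i ∈ s} 1 / n i = r` with `#s = k` in positive integers has all `n i ≤ N`;
* `exists_card_bound`: the order of a finite group is bounded in terms of its class number.
-/

set_option autoImplicit false

universe u v

namespace Cfsg.Agent.Lib.L0.Landau

theorem exists_bound_of_sum_inv (k : ℕ) : ∀ r : ℚ, 0 < r → ∃ N : ℕ,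
    ∀ {ι : Type v} (s : Finset ι) (n : ι → ℕ), s.card = k → (∀ i ∈ s, 0 < n i) →
      ∑ i ∈ s, (1 / (n i : ℚ)) = r → ∀ i ∈ s, n i ≤ N := by
  classical
  induction k with
  | zero =>
    intro r _
    refine ⟨0, ?_⟩
    intro ι s n hs _ _ i hi
    rw [Finset.card_eq_zero] at hs
    rw [hs] at hi
    exact absurd hi (Finset.notMem_empty i)
  | succ k ih =>
    intro r hr
    -- bounds from the induction hypothesis
    have hex : ∀ m : ℕ, ∃ N : ℕ, 0 < r - 1 / (m : ℚ) →
        ∀ {ι : Type v} (s : Finset ι) (n : ι → ℕ), s.card = k → (∀ i ∈ s, 0 < n i) →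
          ∑ i ∈ s, (1 / (n i : ℚ)) = r - 1 / (m : ℚ) → ∀ i ∈ s, n i ≤ N := by
      intro m
      by_cases h : 0 < r - 1 / (m : ℚ)
      · obtain ⟨N, hN⟩ := ih _ h
        exact ⟨N, fun _ => hN⟩
      · exact ⟨0, fun h' => absurd h' h⟩
    choose Nm hNm using hex
    set m₀ := ⌈((k + 1 : ℕ) : ℚ) / r⌉₊ with hm₀
    refine ⟨max m₀ ((Finset.range (m₀ + 1)).sup Nm), ?_⟩
    intro ι s n hs hpos hsum i hi
    have hne : s.Nonempty := by
      rw [← Finset.card_pos, hs]; exact Nat.succ_pos k
    obtain ⟨j, hj, hjmin⟩ := Finset.exists_min_image s n hne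
    have hnj : (0 : ℚ) < (n j : ℚ) := by exact_mod_cast hpos j hj
    -- n j ≤ m₀
    have h1 : r ≤ ((k + 1 : ℕ) : ℚ) / (n j : ℚ) := by
      rw [← hsum]
      calc ∑ i ∈ s, (1 / (n i : ℚ)) ≤ ∑ _i ∈ s, (1 / (n j : ℚ)) := by
            refine Finset.sum_le_sum fun i hi => ?_
            have hni : (0 : ℚ) < (n i : ℚ) := by exact_mod_cast hpos i hi
            rw [div_le_div_iff₀ hni hnj, one_mul, one_mul]
            exact_mod_cast hjmin i hi
        _ = ((k + 1 : ℕ) : ℚ) / (n j : ℚ) := by
            rw [Finset.sum_const, hs, nsmul_eq_mul]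
            field_simp
    have h2 : (n j : ℚ) ≤ ((k + 1 : ℕ) : ℚ) / r := by
      rw [le_div_iff₀ hr]
      rw [le_div_iff₀ hnj] at h1
      linarith
    have h3 : n j ≤ m₀ := by
      have := h2.trans (Nat.le_ceil _)
      exact_mod_cast this
    -- the remaining sum
    have hrest : ∑ i ∈ s.erase j, (1 / (n i : ℚ)) = r - 1 / (n j : ℚ) := by
      rw [← hsum, ← Finset.add_sum_erase s _ hj]
      ring
    by_cases hij : i = j
    · rw [hij]
      exact h3.trans (le_max_left _ _)
    · have hi' : i ∈ s.erase j := Finset.mem_erase.mpr ⟨hij, hi⟩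
      have hposr : 0 < r - 1 / (n j : ℚ) := by
        rw [← hrest]
        refine Finset.sum_pos (fun i hi => ?_) ⟨i, hi'⟩
        have : (0 : ℚ) < (n i : ℚ) := by exact_mod_cast hpos i (Finset.mem_of_mem_erase hi)
        positivity
      have hcard : (s.erase j).card = k := by
        rw [Finset.card_erase_of_mem hj, hs]; rfl
      have := hNm (n j) hposr (s.erase j) n hcard
        (fun i hi => hpos i (Finset.mem_of_mem_erase hi)) hrest i hi'
      refine this.trans ((Finset.le_sup (f := Nm) ?_).trans (le_max_right _ _))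
      rw [Finset.mem_range]
      omega

/-- Landau: the order of a finite group is bounded in terms of its class number. -/
theorem exists_card_bound (k : ℕ) : ∃ N : ℕ, ∀ (G : Type u) [Group G] [Finite G],
    Nat.card (ConjClasses G) ≤ k → Nat.card G ≤ N := by
  classical
  have hex : ∀ k' : ℕ, ∃ N : ℕ, ∀ {ι : Type u} (s : Finset ι) (n : ι → ℕ), s.card = k' →
      (∀ i ∈ s, 0 < n i) → ∑ i ∈ s, (1 / (n i : ℚ)) = 1 → ∀ i ∈ s, n i ≤ N :=
    fun k' => exists_bound_of_sum_inv k' 1 one_pos
  choose Nk hNk using hex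
  refine ⟨(Finset.range (k + 1)).sup Nk, ?_⟩
  intro G _ _ hk
  haveI := Fintype.ofFinite G
  haveI := Fintype.ofFinite (ConjClasses G)
  set n : ConjClasses G → ℕ := fun c =>
    Nat.card (Subgroup.centralizer ({Quotient.out c} : Set G)) with hn
  have hGpos : (0 : ℚ) < (Nat.card G : ℚ) := by exact_mod_cast (Nat.card_pos (α := G))
  have hnpos : ∀ c : ConjClasses G, 0 < n c := fun c => Nat.card_pos
  have hcar : ∀ c : ConjClasses G, (c.carrier.ncard : ℚ) = (Nat.card G : ℚ) / (n c : ℚ) := by
    intro c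
    have h1 := Cfsg.Agent.Lib.H20.index_centralizer_eq_ncard_carrier (Quotient.out c)
    have h2 : ConjClasses.mk (Quotient.out c) = c := Quotient.out_eq c
    rw [h2] at h1
    have h3 := Subgroup.index_mul_card (Subgroup.centralizer ({Quotient.out c} : Set G))
    have hnc : (0 : ℚ) < (n c : ℚ) := by exact_mod_cast hnpos c
    rw [eq_div_iff hnc.ne', ← h1]
    exact_mod_cast h3
  have hsum : ∑ c : ConjClasses G, (1 / (n c : ℚ)) = 1 := by
    have h := Group.sum_card_conj_classes_eq_card G
    rw [finsum_eq_sum_of_fintype] at h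
    have h' : ∑ c : ConjClasses G, (c.carrier.ncard : ℚ) = (Nat.card G : ℚ) := by
      exact_mod_cast h
    simp only [hcar] at h'
    have : ∑ c : ConjClasses G, (Nat.card G : ℚ) / (n c : ℚ) =
        (Nat.card G : ℚ) * ∑ c : ConjClasses G, (1 / (n c : ℚ)) := by
      rw [Finset.mul_sum]
      refine Finset.sum_congr rfl fun c _ => ?_
      ring
    rw [this] at h'
    have := mul_right_cancel₀ hGpos.ne' (by rw [one_mul, mul_comm]; exact h' :
      (∑ c : ConjClasses G, (1 / (n c : ℚ))) * (Nat.card G : ℚ) = 1 * (Nat.card G : ℚ))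
    exact this
  have hcard : (Finset.univ : Finset (ConjClasses G)).card = Nat.card (ConjClasses G) := by
    rw [Finset.card_univ, Nat.card_eq_fintype_card]
  have hb := hNk (Nat.card (ConjClasses G)) Finset.univ n hcard (fun c _ => hnpos c) hsum
    (ConjClasses.mk 1) (Finset.mem_univ _)
  have hn1 : n (ConjClasses.mk 1) = Nat.card G := by
    have h1 : IsConj (Quotient.out (ConjClasses.mk (1 : G))) 1 :=
      ConjClasses.mk_eq_mk_iff_isConj.mp (Quotient.out_eq _)
    have h2 : Quotient.out (ConjClasses.mk (1 : G)) = 1 := isConj_one_left.mp h1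
    simp only [hn, h2]
    have hc : Subgroup.centralizer ({1} : Set G) = ⊤ := by
      ext x
      simp [Subgroup.mem_centralizer_iff]
    rw [hc, Nat.card_congr Subgroup.topEquiv.toEquiv]
  rw [hn1] at hb
  refine hb.trans (Finset.le_sup (f := Nk) ?_)
  rw [Finset.mem_range]
  omega

end Cfsg.Agent.Lib.L0.Landau
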