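import Mathlib
import Cfsg.Prelude.Def_Blocks
import Cfsg.Prelude.Def_BlockLocal
import Cfsg.Agent.Lib.L0.Knorr
import Cfsg.Agent.Lib.H23.BlockCovering
import Cfsg.Agent.Lib.H23.BlockMinMax
import Cfsg.Agent.Lib.H23.CoverStab
import Cfsg.Agent.Lib.H23.FRCliff2
import Cfsg.Agent.Lib.H23.BlockVanishP
import Cfsg.Agent.Lib.H23.FMCoeff
import Cfsg.Agent.Lib.H23.ExtGeneral
import Cfsg.Agent.Lib.H23.DegreeDvd
import Cfsg.Agent.Lib.H24.GlaubCyclic1
import Cfsg.Agent.Lib.L0.CharDegree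
import Cfsg.Agent.Lib.L0.BlockCover
import Cfsg.Agent.Lib.L0.BlockQuotDefect
import Cfsg.Agent.Lib.H23.BlockDefect
import Cfsg.Agent.Lib.H10.PSolvable
import Cfsg.Agent.Lib.H10.PSolvable2
import Cfsg.Agent.Lib.H9.PPrimeCore
import Cfsg.Agent.Lib.H22.PPrimeCore
import Cfsg.Agent.Lib.H1.PCore

/-!
# Fong's theorem on characters over an invariant character of `O_{p'}(G)` (lead)

* `centralChar_memLocalIdeal_of_not_mem`: a block covering a block `b` of `L ⊴ G` whose defect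
  group `D` satisfies `C_G(D) ≤ L` is regular: its central character vanishes (mod `M`) outside `L`.
* `covering_block_unique`: such a `b` is covered by exactly one block of `G`.
-/

set_option autoImplicit false

namespace Cfsg.Agent.Lib.L0.FongTheta

open Cfsg MonoidAlgebra Cfsg.Agent.Lib.H23 Cfsg.Agent.Lib.H24 Cfsg.Agent.Lib.L0
open scoped ComplexConjugate

section Regular

variable {G : Type*} [Group G] [Fintype G] (L : Subgroup G) [hL : L.Normal] [Fintype L]
  {p : ℕ} [Fact p.Prime] {M : Ideal AlgInt}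

/-- A block of `G` covering a block of `L` with defect group `D`, `C_G(D) ≤ L`, is regular. -/
theorem centralChar_memLocalIdeal_of_not_mem (hM : IsPModular p M) (D : Subgroup G) (hDL : D ≤ L)
    (hC : Subgroup.centralizer (D : Set G) ≤ L)
    {b : Set (IrrCharacter L)} (hb : IsPBlock M b) (hbD : IsDefectGroup p M b (D.subgroupOf L))
    {B : Set (IrrCharacter G)} (hB : IsPBlock M B)
    (hcov : ∃ χ ∈ B, ∃ θ ∈ b, classInner (fun n : L => (χ : G → ℂ) n) (θ : L → ℂ) ≠ 0)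
    (χ : IrrCharacter G) (hχ : χ ∈ B) (g : G) (hg : g ∉ L) :
    MemLocalIdeal M (centralChar (χ : G → ℂ) g) := by
  classical
  obtain ⟨P, hP, hPL⟩ := Knorr.exists_defectGroup_inf_eq L hM hB hb hcov D hDL hbD
  have hPp : IsPGroup p P := isPGroup_of_isDefectGroup hP
  obtain ⟨χ₀, rfl⟩ := hB
  obtain ⟨k, hk, S, hS⟩ := hP
  by_contra hω
  have hPk : P ≤ Subgroup.centralizer ({k} : Set G) := by
    rw [hS]
    exact Subgroup.map_subtype_le _
  obtain ⟨x, hx, hPx⟩ := exists_conj_centralized hM χ₀ k g hk.2.1 χ hχ hω P hPp hPk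
  apply hg
  have hxC : x ∈ Subgroup.centralizer (D : Set G) := by
    rw [Subgroup.mem_centralizer_iff]
    intro d hd
    have hdP : d ∈ P := by
      have : d ∈ P ⊓ L := by rw [hPL]; exact hd
      exact this.1
    have h1 := hPx hdP
    rw [Subgroup.mem_centralizer_singleton_iff] at h1
    exact h1
  have hxL : x ∈ L := hC hxC
  obtain ⟨c, hc⟩ := isConj_iff.1 hx
  have h1 : g = c⁻¹ * x * c⁻¹⁻¹ := by rw [← hc]; group
  rw [h1]
  exact hL.conj_mem x hxL c⁻¹

/-- A block of `L ⊴ G` whose defect group `D` satisfies `C_G(D) ≤ L` is covered by a unique block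
of `G`. -/
theorem covering_block_unique (hM : IsPModular p M) (D : Subgroup G) (hDL : D ≤ L)
    (hC : Subgroup.centralizer (D : Set G) ≤ L)
    {b : Set (IrrCharacter L)} (hb : IsPBlock M b) (hbD : IsDefectGroup p M b (D.subgroupOf L))
    {B₁ B₂ : Set (IrrCharacter G)} (hB₁ : IsPBlock M B₁) (hB₂ : IsPBlock M B₂)
    (hcov₁ : ∃ χ ∈ B₁, ∃ θ ∈ b, classInner (fun n : L => (χ : G → ℂ) n) (θ : L → ℂ) ≠ 0)
    (hcov₂ : ∃ χ ∈ B₂, ∃ θ ∈ b, classInner (fun n : L => (χ : G → ℂ) n) (θ : L → ℂ) ≠ 0) :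
    B₁ = B₂ := by
  classical
  haveI hPr := isPrime_of_isPModular hM
  have hreg₁ := centralChar_memLocalIdeal_of_not_mem L hM D hDL hC hb hbD hB₁ hcov₁
  have hreg₂ := centralChar_memLocalIdeal_of_not_mem L hM D hDL hC hb hbD hB₂ hcov₂
  have hci₁ := (covers_iff L hM B₁ hB₁ b hb).1 hcov₁
  have hci₂ := (covers_iff L hM B₂ hB₂ b hb).1 hcov₂
  obtain ⟨χ₁, rfl⟩ := hB₁
  obtain ⟨χ₂, rfl⟩ := hB₂
  obtain ⟨θ₀, rfl⟩ := hb
  have hs : SameBlock M (χ₁ : G → ℂ) (χ₂ : G → ℂ) := by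
    intro g
    by_cases hg : g ∈ L
    · have h1 := hci₁ χ₁ (mem_blockOf_self χ₁) θ₀ (mem_blockOf_self θ₀) ⟨g, hg⟩
      have h2 := hci₂ χ₂ (mem_blockOf_self χ₂) θ₀ (mem_blockOf_self θ₀) ⟨g, hg⟩
      have := memLocalIdeal_sub h1 h2
      rwa [sub_sub_sub_cancel_right] at this
    · exact memLocalIdeal_sub (hreg₁ χ₁ (mem_blockOf_self χ₁) g hg)
        (hreg₂ χ₂ (mem_blockOf_self χ₂) g hg)
  exact (blockOf_eq_of_mem hs).symm

end Regular

section Single

variable {G : Type*} [Group G] [Fintype G] (K L : Subgroup G) [hK : K.Normal] [hL : L.Normal]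
  [Fintype K] [Fintype L] {p : ℕ} [Fact p.Prime] {M : Ideal AlgInt}

omit [Fintype G] [Fintype K] [Fact p.Prime] hL [Fintype L] in
/-- The block of a `G`-invariant irreducible character of a normal subgroup is `G`-stable. -/
theorem stabilizesBlock_of_invariant (θ : IrrCharacter K)
    (hinv : ∀ (g : G) (n : K), (θ : K → ℂ) ⟨g * n * g⁻¹, hK.conj_mem n n.2 g⟩ = (θ : K → ℂ) n)
    (g : G) : StabilizesBlock K (blockOf M (θ : K → ℂ)) g := by
  refine ⟨?_, fun χ hχ => ⟨conjIrr K χ g⁻¹, ?_, ?_⟩⟩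
  · rw [Subgroup.normalizer_eq_top]
    exact Subgroup.mem_top g
  · have h1 := sameBlock_conjIrr K hχ g⁻¹
    have h2 : conjIrr K θ g⁻¹ = θ := by
      apply Subtype.ext
      funext n
      rw [conjIrr_apply]
      exact hinv g⁻¹ n
    rw [h2] at h1
    exact h1
  · intro k k' hk
    rw [conjIrr_apply]
    refine congrArg (χ : K → ℂ) (Subtype.ext ?_)
    show g⁻¹ * (k' : G) * g⁻¹⁻¹ = (k : G)
    rw [hk]
    group

/-- **Fong.** `K ≤ L` normal in `G`, `K` a `p'`-group, `L/K` a `p`-group, `C_G(D) ≤ L` for the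
Sylow `p`-subgroups `D` of `L`.  Then all irreducible characters of `G` over a `G`-invariant
irreducible character of `K` lie in one block. -/
theorem sameBlock_of_over (hM : IsPModular p M) (hKL : K ≤ L)
    (hidx : ∃ k : ℕ, K.relIndex L = p ^ k)
    (hC : ∀ D : Subgroup G, D ≤ L → IsPGroup p D → L ≤ K ⊔ D →
      Subgroup.centralizer (D : Set G) ≤ L)
    (θ : IrrCharacter K)
    (hinv : ∀ (g : G) (n : K), (θ : K → ℂ) ⟨g * n * g⁻¹, hK.conj_mem n n.2 g⟩ = (θ : K → ℂ) n)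
    (χ₁ χ₂ : IrrCharacter G)
    (h₁ : classInner (fun n : K => (χ₁ : G → ℂ) n) (θ : K → ℂ) ≠ 0)
    (h₂ : classInner (fun n : K => (χ₂ : G → ℂ) n) (θ : K → ℂ) ≠ 0) :
    SameBlock M (χ₁ : G → ℂ) (χ₂ : G → ℂ) := by
  classical
  haveI hPr := isPrime_of_isPModular hM
  haveI : Fintype (K.subgroupOf L) := Fintype.ofFinite _
  haveI : Fintype (IrrCharacter L) := Fintype.ofFinite _
  haveI hKLn : (K.subgroupOf L).Normal := Subgroup.normal_subgroupOf
  set φ := Subgroup.subgroupOfEquivOfLe hKL with hφ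
  set θ' := irrEquiv φ θ with hθ'
  have hidx' : ∃ k : ℕ, (K.subgroupOf L).index = p ^ k := hidx
  -- intermediate constituents
  have hmid : ∀ χ : IrrCharacter G, classInner (fun n : K => (χ : G → ℂ) n) (θ : K → ℂ) ≠ 0 →
      ∃ η : IrrCharacter L, FR.aa L χ η ≠ 0 ∧ FR.cc K L hKL η θ ≠ 0 := by
    intro χ hne
    have h1 := FR.rr_eq_sum K L hKL χ θ
    have hrr : FR.rr K χ θ ≠ 0 := by
      intro h
      apply hne
      rw [FR.rr_spec, h]
      simp
    by_contra hcon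
    push Not at hcon
    apply hrr
    rw [h1]
    apply Finset.sum_eq_zero
    intro η _
    by_cases h : FR.aa L χ η = 0
    · simp [h]
    · simp [hcon η h]
  obtain ⟨η₁, haa₁, hcc₁⟩ := hmid χ₁ h₁
  obtain ⟨η₂, haa₂, hcc₂⟩ := hmid χ₂ h₂
  have hcovL : ∀ η : IrrCharacter L, FR.cc K L hKL η θ ≠ 0 →
      ∃ η' ∈ blockOf M (η : L → ℂ), ∃ θ'' ∈ blockOf M (θ' : ↥(K.subgroupOf L) → ℂ),
      classInner (fun n : K.subgroupOf L => (η' : L → ℂ) n) (θ'' : K.subgroupOf L → ℂ) ≠ 0 := by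
    intro η hcc
    refine ⟨η, mem_blockOf_self η, θ', mem_blockOf_self θ', ?_⟩
    rw [CoverStab.classInner_subgroupOf K L hKL]
    have := FR.cc_spec K L hKL η θ
    unfold resTo at this
    rw [this]
    exact_mod_cast hcc
  have hcovG : ∀ (χ : IrrCharacter G) (η : IrrCharacter L), FR.aa L χ η ≠ 0 →
      ∃ χ' ∈ blockOf M (χ : G → ℂ), ∃ η' ∈ blockOf M (η : L → ℂ),
      classInner (fun n : L => (χ' : G → ℂ) n) (η' : L → ℂ) ≠ 0 := by
    intro χ η haa
    refine ⟨χ, mem_blockOf_self χ, η, mem_blockOf_self η, ?_⟩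
    rw [FR.aa_spec]
    exact_mod_cast haa
  obtain ⟨b, _, hbu⟩ := existsUnique_covers_of_index_pow (K.subgroupOf L) hM hidx'
    (blockOf M (θ' : ↥(K.subgroupOf L) → ℂ)) ⟨θ', rfl⟩
  have hb₁ := hbu _ ⟨⟨η₁, rfl⟩, hcovL η₁ hcc₁⟩
  have hb₂ := hbu _ ⟨⟨η₂, rfl⟩, hcovL η₂ hcc₂⟩
  have hη : blockOf M (η₂ : L → ℂ) = blockOf M (η₁ : L → ℂ) := by rw [hb₁, hb₂]
  -- defect group
  obtain ⟨D', hD'⟩ := exists_isDefectGroup (p := p) hM η₁
  have hst : ∀ x : L, StabilizesBlock (K.subgroupOf L)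
      (blockOf M (θ' : ↥(K.subgroupOf L) → ℂ)) x := by
    intro x
    have h1 := CoverStab.stabilizesBlock_subgroupOf K L hKL (blockOf M (θ : K → ℂ)) x
      (stabilizesBlock_of_invariant K θ hinv (x : G))
    rw [image_blockOf_irrEquiv] at h1
    exact h1
  have htop := CoverStab.sup_defectGroup_eq_top (K.subgroupOf L) hM hidx'
    (blockOf M (θ' : ↥(K.subgroupOf L) → ℂ)) ⟨θ', rfl⟩ hst (blockOf M (η₁ : L → ℂ)) ⟨η₁, rfl⟩
    (hcovL η₁ hcc₁) D' hD'
  set D := D'.map L.subtype with hDdef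
  have hDL : D ≤ L := Subgroup.map_subtype_le D'
  have hDD' : D.subgroupOf L = D' :=
    Subgroup.comap_map_eq_self_of_injective L.subtype_injective D'
  have hDp : IsPGroup p D := (isPGroup_of_isDefectGroup hD').map L.subtype
  have hLKD : L ≤ K ⊔ D := by
    intro x hx
    have h1 : (⟨x, hx⟩ : L) ∈ K.subgroupOf L ⊔ D' := by
      rw [htop]
      exact Subgroup.mem_top _
    have h2 : x ∈ (K.subgroupOf L ⊔ D').map L.subtype := ⟨⟨x, hx⟩, h1, rfl⟩
    rw [Subgroup.map_sup, Subgroup.subgroupOf_map_subtype] at h2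
    exact (sup_le_sup_right inf_le_left D) h2
  rw [← hDD'] at hD'
  have hcov₂ := hcovG χ₂ η₂ haa₂
  rw [hη] at hcov₂
  have := covering_block_unique L hM D hDL (hC D hDL hDp hLKD) ⟨η₁, rfl⟩ hD'
    ⟨χ₁, rfl⟩ ⟨χ₂, rfl⟩ (hcovG χ₁ η₁ haa₁) hcov₂
  show χ₂ ∈ blockOf M (χ₁ : G → ℂ)
  rw [this]
  exact mem_blockOf_self χ₂

end Single

section PPrimeDegree

variable {G : Type*} [Group G] [Fintype G]

/-- If `p ∤ |G : T|` and `p ∤ ψ(1)` then some irreducible character of `G` over `ψ` has degree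
prime to `p`. -/
theorem exists_over_not_dvd (T : Subgroup G) [Fintype T] {p : ℕ} (hp : p.Prime)
    (ψ : IrrCharacter T) (hidx : ¬ p ∣ T.index) (hdeg : ¬ p ∣ charDegree (ψ : T → ℂ)) :
    ∃ χ : IrrCharacter G, FR.aa T χ ψ ≠ 0 ∧ ¬ p ∣ charDegree (χ : G → ℂ) := by
  classical
  haveI : Fintype (IrrCharacter G) := Fintype.ofFinite _
  have h1 := congrFun (FR.indFun_eq_sum T ψ) 1
  rw [Cfsg.Agent.Lib.L0.indFun_apply_one, Finset.sum_apply] at h1
  simp only [Pi.smul_apply, smul_eq_mul] at h1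
  have h2 : (T.index * charDegree (ψ : T → ℂ) : ℕ) =
      ∑ χ : IrrCharacter G, FR.aa T χ ψ * charDegree (χ : G → ℂ) := by
    have h3 : ((T.index * charDegree (ψ : T → ℂ) : ℕ) : ℂ) =
        ((∑ χ : IrrCharacter G, FR.aa T χ ψ * charDegree (χ : G → ℂ) : ℕ) : ℂ) := by
      push_cast
      rw [← Cfsg.Agent.Lib.H23.apply_one_eq_charDegree (ψ : T → ℂ) ψ.2, h1]
      refine Finset.sum_congr rfl fun χ _ => ?_
      rw [Cfsg.Agent.Lib.H23.apply_one_eq_charDegree (χ : G → ℂ) χ.2]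
    exact_mod_cast h3
  by_contra hcon
  push Not at hcon
  have h4 : p ∣ ∑ χ : IrrCharacter G, FR.aa T χ ψ * charDegree (χ : G → ℂ) := by
    apply Finset.dvd_sum
    intro χ _
    by_cases h : FR.aa T χ ψ = 0
    · rw [h, zero_mul]
      exact dvd_zero p
    · exact Dvd.dvd.mul_left (hcon χ h) _
  rw [← h2] at h4
  rcases (Nat.Prime.dvd_mul hp).1 h4 with h | h
  · exact hidx h
  · exact hdeg h

variable (K : Subgroup G) [hK : K.Normal] [Fintype K]

/-- A `G`-invariant irreducible character of a normal `p'`-subgroup lies under an irreducible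
character of `G` of degree prime to `p`. -/
theorem exists_over_invariant_not_dvd {p : ℕ} [hp : Fact p.Prime] (hKp : ¬ p ∣ Nat.card K)
    (θ : IrrCharacter K)
    (hinv : ∀ (g : G) (n : K), (θ : K → ℂ) ⟨g * n * g⁻¹, hK.conj_mem n n.2 g⟩ = (θ : K → ℂ) n) :
    ∃ χ : IrrCharacter G, classInner (fun n : K => (χ : G → ℂ) n) (θ : K → ℂ) ≠ 0 ∧
      ¬ p ∣ charDegree (χ : G → ℂ) := by
  classical
  obtain ⟨S⟩ : Nonempty (Sylow p G) := inferInstance
  set T : Subgroup G := (S : Subgroup G) ⊔ K with hT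
  have hKT : K ≤ T := le_sup_right
  have hST : (S : Subgroup G) ≤ T := le_sup_left
  haveI : Fintype T := Fintype.ofFinite _
  haveI : Fintype (K.subgroupOf T) := Fintype.ofFinite _
  haveI : Fintype (IrrCharacter T) := Fintype.ofFinite _
  haveI hKTn : (K.subgroupOf T).Normal := Subgroup.normal_subgroupOf
  set φ := Subgroup.subgroupOfEquivOfLe hKT with hφ
  set θ' := irrEquiv φ θ with hθ'
  -- the index is a power of `p`
  have hidx : ∃ j : ℕ, (K.subgroupOf T).index = p ^ j := by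
    have h1 : (K.subgroupOf T).index = K.relIndex (S : Subgroup G) :=
      Subgroup.relIndex_sup_right (S : Subgroup G) K
    have h2 : K.relIndex (S : Subgroup G) ∣ Nat.card (S : Subgroup G) :=
      Subgroup.relIndex_dvd_card K (S : Subgroup G)
    obtain ⟨n, hn⟩ := IsPGroup.iff_card.1 S.isPGroup'
    rw [hn] at h2
    obtain ⟨j, _, hj⟩ := (Nat.dvd_prime_pow hp.out).1 h2
    exact ⟨j, by rw [h1, hj]⟩
  obtain ⟨j, hj⟩ := hidx
  have hcardK : Nat.card (K.subgroupOf T) = Nat.card K := Nat.card_congr φ.toEquiv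
  have hcopK : ∀ m : ℕ, m ∣ Nat.card K → Nat.Coprime (p ^ j) m := by
    intro m hm
    apply Nat.Coprime.pow_left
    exact (Nat.Prime.coprime_iff_not_dvd hp.out).2 fun h => hKp (h.trans hm)
  have hinv' : ∀ (t : T) (n : K.subgroupOf T),
      (θ' : K.subgroupOf T → ℂ) ⟨t * n * t⁻¹, hKTn.conj_mem (n : T) n.2 t⟩ =
        (θ' : K.subgroupOf T → ℂ) n := by
    intro t n
    rw [hθ', irrEquiv_apply, irrEquiv_apply]
    have := hinv (t : G) (φ n)
    rw [← this]
    exact congrArg (θ : K → ℂ) (Subtype.ext rfl)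
  have hθ'1 : (θ' : K.subgroupOf T → ℂ) 1 = (charDegree (θ : K → ℂ) : ℂ) := by
    rw [hθ', irrEquiv_apply, map_one]
    exact Cfsg.Agent.Lib.H23.apply_one_eq_charDegree (θ : K → ℂ) θ.2
  have hcop : Nat.Coprime (K.subgroupOf T).index
      (Cfsg.detOrder (θ' : K.subgroupOf T → ℂ) * charDegree (θ : K → ℂ)) := by
    rw [hj]
    apply Nat.Coprime.mul_right
    · apply hcopK
      rw [← hcardK]
      exact Cfsg.Agent.Lib.H24.Glaub.detOrder_dvd_card (isCharacter_of_irr θ'.2)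
    · apply hcopK
      exact Cfsg.Agent.Lib.H23.charDegree_dvd_card (θ : K → ℂ) θ.2
  obtain ⟨χT, ⟨hχT, hχTres, _⟩, _⟩ := exists_unique_extension_coprime (K.subgroupOf T)
    (θ' : K.subgroupOf T → ℂ) θ'.2 hinv' (charDegree (θ : K → ℂ)) hθ'1 hcop
  set ψ : IrrCharacter T := ⟨χT, hχT⟩ with hψ
  have hψ1 : (ψ : T → ℂ) 1 = (charDegree (θ : K → ℂ) : ℂ) := by
    have := hχTres 1
    rw [hθ'1] at this
    exact this
  have hψdeg : charDegree (ψ : T → ℂ) = charDegree (θ : K → ℂ) := by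
    have h1 := Cfsg.Agent.Lib.H23.apply_one_eq_charDegree (ψ : T → ℂ) ψ.2
    rw [hψ1] at h1
    exact_mod_cast h1.symm
  have hdegθ : ¬ p ∣ charDegree (θ : K → ℂ) := fun h =>
    hKp (h.trans (Cfsg.Agent.Lib.H23.charDegree_dvd_card (θ : K → ℂ) θ.2))
  have hTidx : ¬ p ∣ T.index := fun h =>
    S.not_dvd_index (h.trans (Subgroup.index_dvd_of_le hST))
  obtain ⟨χ, haa, hχdeg⟩ := exists_over_not_dvd T hp.out ψ hTidx (by rw [hψdeg]; exact hdegθ)
  refine ⟨χ, ?_, hχdeg⟩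
  have hres : resTo K T hKT (ψ : T → ℂ) = (θ : K → ℂ) := by
    funext n
    have := hχTres ⟨⟨(n : G), hKT n.2⟩, n.2⟩
    rw [hθ', irrEquiv_apply] at this
    exact this
  have hcc : FR.cc K T hKT ψ θ = 1 := by
    have h1 := FR.cc_spec K T hKT ψ θ
    rw [hres, irr_classInner_self θ.2] at h1
    exact_mod_cast h1.symm
  have hrr := FR.rr_eq_sum K T hKT χ θ
  rw [FR.rr_spec]
  have hpos : 0 < FR.rr K χ θ := by
    rw [hrr]
    apply lt_of_lt_of_le _ (Finset.single_le_sum (f := fun η => FR.aa T χ η * FR.cc K T hKT η θ)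
      (fun η _ => Nat.zero_le _) (Finset.mem_univ ψ))
    rw [hcc, mul_one]
    exact Nat.pos_of_ne_zero haa
  exact_mod_cast hpos.ne'

end PPrimeDegree

section Main

variable {G : Type*} [Group G] [Fintype G] (K L : Subgroup G) [hK : K.Normal] [hL : L.Normal]
  [Fintype K] [Fintype L] {p : ℕ} [hp : Fact p.Prime] {M : Ideal AlgInt}

/-- **Fong's theorem**, general form. -/
theorem fong_block (hM : IsPModular p M) (hKL : K ≤ L) (hKp : ¬ p ∣ Nat.card K)
    (hidx : ∃ k : ℕ, K.relIndex L = p ^ k)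
    (hC : ∀ D : Subgroup G, D ≤ L → IsPGroup p D → L ≤ K ⊔ D →
      Subgroup.centralizer (D : Set G) ≤ L)
    (θ : IrrCharacter K)
    (hinv : ∀ (g : G) (n : K), (θ : K → ℂ) ⟨g * n * g⁻¹, hK.conj_mem n n.2 g⟩ = (θ : K → ℂ) n) :
    ∃ B : Set (IrrCharacter G), IsPBlock M B ∧
      (∀ χ : IrrCharacter G, χ ∈ B ↔
        classInner (fun n : K => (χ : G → ℂ) n) (θ : K → ℂ) ≠ 0) ∧
      (∀ P : Sylow p G, IsDefectGroup p M B (P : Subgroup G)) ∧
      ∀ D : Subgroup G, IsDefectGroup p M B D → ∃ P : Sylow p G, D = (P : Subgroup G) := by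
  classical
  haveI hPr := isPrime_of_isPModular hM
  obtain ⟨χ₀, hχ₀, hdeg⟩ := exists_over_invariant_not_dvd K hKp θ hinv
  have hmem : ∀ χ : IrrCharacter G, χ ∈ blockOf M (χ₀ : G → ℂ) ↔
      classInner (fun n : K => (χ : G → ℂ) n) (θ : K → ℂ) ≠ 0 := by
    intro χ
    constructor
    · intro hχ hzero
      exact BlockCover.not_sameBlock_of_constituent K hM hKp χ₀ χ (θ : K → ℂ) θ.2 hχ₀ hzero hχ
    · intro hχ
      exact sameBlock_of_over K L hM hKL hidx hC θ hinv χ₀ χ hχ₀ hχ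
  -- the defect is the full `p`-part
  have hdefect : blockDefect p (blockOf M (χ₀ : G → ℂ)) = (Nat.card G).factorization p := by
    unfold blockDefect
    have h0 : sInf ((fun χ : IrrCharacter G => (charDegree (χ : G → ℂ)).factorization p) ''
        blockOf M (χ₀ : G → ℂ)) = 0 := by
      rw [Nat.sInf_eq_zero]
      left
      exact ⟨χ₀, mem_blockOf_self χ₀, Nat.factorization_eq_zero_of_not_dvd hdeg⟩
    rw [h0, Nat.sub_zero]
  have hsyl : ∀ D : Subgroup G, IsDefectGroup p M (blockOf M (χ₀ : G → ℂ)) D →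
      ∃ P : Sylow p G, D = (P : Subgroup G) := by
    intro D hD
    have hcard := card_defectGroup hM χ₀ D hD
    rw [hdefect] at hcard
    obtain ⟨P, hDP⟩ := (isPGroup_of_isDefectGroup hD).exists_le_sylow
    refine ⟨P, ?_⟩
    apply Subgroup.eq_of_le_of_card_ge hDP
    rw [hcard, Sylow.card_eq_multiplicity]
  refine ⟨blockOf M (χ₀ : G → ℂ), ⟨χ₀, rfl⟩, hmem, ?_, hsyl⟩
  intro P
  obtain ⟨D₀, hD₀⟩ := exists_isDefectGroup (p := p) hM χ₀
  obtain ⟨P₀, hP₀⟩ := hsyl D₀ hD₀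
  obtain ⟨g, hg⟩ := MulAction.exists_smul_eq G P₀ P
  have h1 := BlockQuotDefect.isDefectGroup_map_conj hD₀ g
  have h2 : D₀.map (MulAut.conj g).toMonoidHom = (P : Subgroup G) := by
    rw [hP₀, ← hg, Sylow.coe_subgroup_smul, Subgroup.pointwise_smul_def]
    rfl
  rw [h2] at h1
  exact h1

end Main

section PSolv

variable {G : Type*} [Group G] [Fintype G] {p : ℕ} [hp : Fact p.Prime] {M : Ideal AlgInt}

/-- **Fong's theorem** (S4492): for `G` `p`-solvable and `θ` a `G`-invariant irreducible character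
of `O_{p'}(G)`, the irreducible characters of `G` over `θ` form a block whose defect groups are the
Sylow `p`-subgroups. -/
theorem fong_block_pSolvable (hM : IsPModular p M) (hsolv : IsPSolvable p G)
    (N : Subgroup G) [hN : N.Normal] [Fintype N] (hNdef : N = pPrimeCore p G)
    (θ : IrrCharacter N)
    (hinv : ∀ (g : G) (n : N), (θ : N → ℂ) ⟨g * n * g⁻¹, hN.conj_mem n n.2 g⟩ = (θ : N → ℂ) n) :
    ∃ B : Set (IrrCharacter G), IsPBlock M B ∧
      (∀ χ : IrrCharacter G, χ ∈ B ↔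
        classInner (fun n : N => (χ : G → ℂ) n) (θ : N → ℂ) ≠ 0) ∧
      (∀ P : Sylow p G, IsDefectGroup p M B (P : Subgroup G)) ∧
      ∀ D : Subgroup G, IsDefectGroup p M B D → ∃ P : Sylow p G, D = (P : Subgroup G) := by
  classical
  subst hNdef
  set f := QuotientGroup.mk' (pPrimeCore p G) with hf
  have hfs : Function.Surjective f := QuotientGroup.mk'_surjective (pPrimeCore p G)
  set L := (pCore p (G ⧸ (pPrimeCore p G))).comap f with hLdef
  haveI hLn : L.Normal := (Cfsg.Agent.Lib.H1.pCore_normal p (G ⧸ (pPrimeCore p G))).comap f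
  haveI : Fintype L := Fintype.ofFinite _
  have hker : f.ker = (pPrimeCore p G) := QuotientGroup.ker_mk' (pPrimeCore p G)
  have hKL : (pPrimeCore p G) ≤ L := by
    intro x hx
    rw [hLdef, Subgroup.mem_comap]
    have h1 : f x = 1 := by
      rw [← MonoidHom.mem_ker, hker]
      exact hx
    rw [h1]
    exact Subgroup.one_mem _
  have hKp : ¬ p ∣ Nat.card (pPrimeCore p G) := Cfsg.Agent.Lib.H22.not_dvd_card_pPrimeCore hp.out
  have hmapL : L.map f = pCore p (G ⧸ (pPrimeCore p G)) := Subgroup.map_comap_eq_self_of_surjective hfs _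
  have hidx : ∃ k : ℕ, (pPrimeCore p G).relIndex L = p ^ k := by
    have h1 : (pPrimeCore p G).relIndex L = Nat.card (pCore p (G ⧸ (pPrimeCore p G))) := by
      have h2 := Subgroup.relIndex_comap (⊥ : Subgroup (G ⧸ (pPrimeCore p G))) f L
      rw [MonoidHom.comap_bot, hker, Subgroup.relIndex_bot_left, hmapL] at h2
      exact h2
    rw [h1]
    exact IsPGroup.iff_card.1 (Cfsg.Agent.Lib.H1.pCore_isPGroup p (G ⧸ (pPrimeCore p G)))
  have hC : ∀ D : Subgroup G, D ≤ L → IsPGroup p D → L ≤ (pPrimeCore p G) ⊔ D →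
      Subgroup.centralizer (D : Set G) ≤ L := by
    intro D hDL _ hLKD x hx
    rw [hLdef, Subgroup.mem_comap]
    have hDmap : D.map f = pCore p (G ⧸ (pPrimeCore p G)) := by
      apply le_antisymm
      · rw [← hmapL]
        exact Subgroup.map_mono hDL
      · rw [← hmapL]
        have h1 := Subgroup.map_mono (f := f) hLKD
        rw [Subgroup.map_sup] at h1
        have hK0 : (pPrimeCore p G).map f = ⊥ := (Subgroup.map_eq_bot_iff _).2 (le_of_eq hker.symm)
        rw [hK0, bot_sup_eq] at h1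
        exact h1
    apply Cfsg.Agent.Lib.H10.centralizer_pCore_le_of_isPSolvable p
      (Cfsg.Agent.Lib.H10.isPSolvable_quotient hsolv (pPrimeCore p G))
      (Cfsg.Agent.Lib.H9.pPrimeCore_quotient_eq_bot p)
    rw [Subgroup.mem_centralizer_iff]
    intro y hy
    rw [← hDmap] at hy
    obtain ⟨d, hd, rfl⟩ := hy
    have h1 := Subgroup.mem_centralizer_iff.1 hx d hd
    rw [← map_mul, ← map_mul, h1]
  exact fong_block (pPrimeCore p G) L hM hKL hKp hidx hC θ hinv

end PSolv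

end Cfsg.Agent.Lib.L0.FongTheta
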