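import Mathlib
import Cfsg.Prelude.Def_Blocks
import Cfsg.Prelude.Def_BlockLocal
import Cfsg.Agent.Lib.L0.Knorr
import Cfsg.Agent.Lib.L0.BlockQuotDefect
import Cfsg.Agent.Lib.H23.BlockFirstMain
import Cfsg.Agent.Lib.H23.BlockEquiv
import Cfsg.Agent.Lib.H23.BlockCovering
import Cfsg.Agent.Lib.H23.CliffordCorr
import Cfsg.Agent.Lib.H23.BlockBrauerHom
import Cfsg.Agent.Lib.H23.FMCoeff

/-!
# The Harris–Knörr correspondence (lead)

`N ⊴ G`, `Q ≤ N` a `p`-subgroup, `H = N_G(Q)`, `L = H ⊓ N`.  If `d` is a block of `N` with defect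
group `Q` and `e` its Brauer correspondent in `L`, then block induction is a bijection from the
blocks of `H` covering `e` onto the blocks of `G` covering `d`.
-/

set_option autoImplicit false

namespace Cfsg.Agent.Lib.L0.HarrisKnorr

open Cfsg MonoidAlgebra Cfsg.Agent.Lib.H23 Cfsg.Agent.Lib.H24 Cfsg.Agent.Lib.L0
open scoped ComplexConjugate

section Trans

variable {G : Type*} [Group G] [Fintype G] {p : ℕ} {M : Ideal AlgInt}

/-- If `b ^ K = c` and `b ^ G = B` then `c ^ G = B`. -/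
theorem isInducedBlock_of_trans [hP : M.IsPrime] (H K : Subgroup G) (hHK : H ≤ K) [Fintype H]
    [Fintype K] [Fintype ↥(H.subgroupOf K)]
    (θ : IrrCharacter H) (ζ : IrrCharacter K) (χ : IrrCharacter G)
    (h1 : IsInducedBlock M (H.subgroupOf K)
      (blockOf M (irrEquiv (Subgroup.subgroupOfEquivOfLe hHK) θ : ↥(H.subgroupOf K) → ℂ))
      (blockOf M (ζ : K → ℂ)))
    (h3 : IsInducedBlock M H (blockOf M (θ : H → ℂ)) (blockOf M (χ : G → ℂ))) :
    IsInducedBlock M K (blockOf M (ζ : K → ℂ)) (blockOf M (χ : G → ℂ)) := by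
  classical
  refine ⟨⟨ζ, rfl⟩, ⟨χ, rfl⟩, fun ζ' hζ' χ' hχ' g => ?_⟩
  set e := Subgroup.subgroupOfEquivOfLe hHK with he
  set z := resAlg K (classSum g) with hz
  have hzc : z ∈ Subalgebra.center ℂ (MonoidAlgebra ℂ K) :=
    resAlg_mem_center K (classSum_mem_center g)
  have hzi : z ∈ intCoeff (G := K) M := resAlg_mem_intCoeff K (classSum_mem_intCoeff g)
  have hθ' : irrEquiv e θ ∈ blockOf M (irrEquiv e θ : ↥(H.subgroupOf K) → ℂ) :=
    mem_blockOf_self _
  have hA := omega_resAlg_sub_memLocalIdeal (H.subgroupOf K) h1 hθ' hζ' hzc hzi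
  have hC : omega (irrEquiv e θ : ↥(H.subgroupOf K) → ℂ) (resAlg (H.subgroupOf K) z) =
      omega (θ : H → ℂ) (resAlg H (classSum g)) := by
    apply omega_irrEquiv
    intro a
    rw [coeff_resAlg, hz, coeff_resAlg, coeff_resAlg]
    rfl
  rw [hC] at hA
  have hB := h3.2.2 θ (mem_blockOf_self θ) χ' hχ' g
  rw [inducedCentralChar_eq_omega] at hB
  rw [inducedCentralChar_eq_omega]
  have h5 := memLocalIdeal_neg hA
  rw [neg_sub] at h5
  have := memLocalIdeal_add h5 hB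
  rwa [sub_add_sub_cancel] at this

end Trans

section IrrEquivBasics

theorem irrEquiv_symm_irrEquiv' {A B : Type*} [Group A] [Group B] (ε : A ≃* B)
    (θ : IrrCharacter B) : irrEquiv ε.symm (irrEquiv ε θ) = θ := by
  apply Subtype.ext
  funext b
  rw [irrEquiv_apply, irrEquiv_apply, MulEquiv.apply_symm_apply]

theorem irrEquiv_irrEquiv_symm' {A B : Type*} [Group A] [Group B] (ε : A ≃* B)
    (θ : IrrCharacter A) : irrEquiv ε (irrEquiv ε.symm θ) = θ := by
  apply Subtype.ext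
  funext b
  rw [irrEquiv_apply, irrEquiv_apply, MulEquiv.symm_apply_apply]

theorem irrEquiv_symm_image_image {A B : Type*} [Group A] [Group B] (ε : A ≃* B)
    (f : Set (IrrCharacter B)) : irrEquiv ε.symm '' (irrEquiv ε '' f) = f := by
  rw [Set.image_image]
  have h2 : (fun x => irrEquiv ε.symm (irrEquiv ε x)) = id := by
    funext x
    exact irrEquiv_symm_irrEquiv' _ x
  rw [h2, Set.image_id]

theorem irrEquiv_image_symm_image {A B : Type*} [Group A] [Group B] (ε : A ≃* B)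
    (f : Set (IrrCharacter A)) : irrEquiv ε '' (irrEquiv ε.symm '' f) = f := by
  rw [Set.image_image]
  have h2 : (fun x => irrEquiv ε (irrEquiv ε.symm x)) = id := by
    funext x
    exact irrEquiv_irrEquiv_symm' _ x
  rw [h2, Set.image_id]

theorem irrEquiv_image_trans {A B C : Type*} [Group A] [Group B] [Group C] (ε : A ≃* B)
    (δ : B ≃* C) (f : Set (IrrCharacter C)) :
    irrEquiv ε '' (irrEquiv δ '' f) = irrEquiv (ε.trans δ) '' f := by
  rw [Set.image_image]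
  rfl

end IrrEquivBasics

section Conj

variable {G : Type*} [Group G] {p : ℕ} {M : Ideal AlgInt}

/-- Conjugation by `g` as an automorphism of a subgroup it normalizes. -/
noncomputable def cjE (K : Subgroup G) (g : G) (hg : g ∈ Subgroup.normalizer (K : Set G)) :
    ↥K ≃* ↥K where
  toFun k := ⟨g * k * g⁻¹, (Subgroup.mem_normalizer_iff.1 hg k).1 k.2⟩
  invFun k := ⟨g⁻¹ * k * g, (Subgroup.mem_normalizer_iff''.1 hg k).1 k.2⟩
  left_inv k := Subtype.ext (by simp [mul_assoc])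
  right_inv k := Subtype.ext (by simp [mul_assoc])
  map_mul' a b := Subtype.ext (by simp [mul_assoc])

theorem cjE_coe (K : Subgroup G) (g : G) (hg : g ∈ Subgroup.normalizer (K : Set G)) (k : K) :
    ((cjE K g hg k : K) : G) = g * k * g⁻¹ := rfl

theorem cjE_symm_coe (K : Subgroup G) (g : G) (hg : g ∈ Subgroup.normalizer (K : Set G)) (k : K) :
    (((cjE K g hg).symm k : K) : G) = g⁻¹ * k * g := rfl

theorem centralChar_irrEquiv {A B : Type*} [Group A] [Group B] (σ : A ≃* B)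
    (χ : IrrCharacter B) (a : A) :
    centralChar (irrEquiv σ χ : A → ℂ) a = centralChar (χ : B → ℂ) (σ a) := by
  unfold centralChar
  rw [irrEquiv_apply, irrEquiv_apply, map_one, index_centralizer_mulEquiv]

/-- Block induction inside `H` is compatible with conjugation by an element normalizing both
subgroups. -/
theorem isInducedBlockIn_conj (H K : Subgroup G) (h : G)
    (hH : h ∈ Subgroup.normalizer (H : Set G)) (hK : h ∈ Subgroup.normalizer (K : Set G))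
    {e : Set (IrrCharacter K)} {f : Set (IrrCharacter H)} (hind : IsInducedBlockIn M H K e f) :
    IsInducedBlockIn M H K (irrEquiv (cjE K h hK) '' e) (irrEquiv (cjE H h hH) '' f) := by
  obtain ⟨he, hf, hcong⟩ := hind
  refine ⟨BlockOrbitCover.isPBlock_irrEquiv_image _ he,
    BlockOrbitCover.isPBlock_irrEquiv_image _ hf, ?_⟩
  rintro _ ⟨ξ, hξ, rfl⟩ _ ⟨χ, hχ, rfl⟩ t
  have h1 := hcong ξ hξ χ hχ (cjE H h hH t)
  rw [centralChar_irrEquiv]
  have h2 : inducedCentralCharIn H K (irrEquiv (cjE K h hK) ξ : K → ℂ) (t : G) =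
      inducedCentralCharIn H K (ξ : K → ℂ) ((cjE H h hH t : H) : G) := by
    unfold inducedCentralCharIn
    refine finsum_mem_eq_of_bijOn (cjE K h hK) ⟨?_, ?_, ?_⟩ ?_
    · rintro k ⟨x, hx⟩
      refine ⟨cjE H h hH x, ?_⟩
      rw [cjE_coe, cjE_coe, cjE_coe, ← hx]
      group
    · exact (cjE K h hK).injective.injOn
    · rintro k' ⟨x, hx⟩
      refine ⟨(cjE K h hK).symm k', ⟨(cjE H h hH).symm x, ?_⟩, (cjE K h hK).apply_symm_apply k'⟩
      rw [cjE_symm_coe, cjE_symm_coe]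
      rw [cjE_coe] at hx
      have : (t : G) = h⁻¹ * ((x : G) * (k' : G) * (x : G)⁻¹) * h := by
        rw [hx]; group
      rw [this]
      group
    · intro k _
      rw [irrEquiv_apply, irrEquiv_apply, map_one]
  rw [h2]
  exact h1

end Conj

section InVsSub

variable {G : Type*} [Group G] {p : ℕ} {M : Ideal AlgInt}

theorem inducedCentralCharIn_eq (H K : Subgroup G) (hKH : K ≤ H) (ξ : IrrCharacter K) (t : H) :
    inducedCentralCharIn H K (ξ : K → ℂ) (t : G) =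
      inducedCentralChar (K.subgroupOf H)
        (irrEquiv (Subgroup.subgroupOfEquivOfLe hKH) ξ : ↥(K.subgroupOf H) → ℂ) t := by
  unfold inducedCentralCharIn inducedCentralChar
  symm
  refine finsum_mem_eq_of_bijOn (Subgroup.subgroupOfEquivOfLe hKH) ⟨?_, ?_, ?_⟩ ?_
  · intro k' hk'
    obtain ⟨c, hc⟩ := isConj_iff.1 hk'
    refine ⟨c⁻¹, ?_⟩
    have h1 : ((Subgroup.subgroupOfEquivOfLe hKH k' : K) : G) = ((k' : H) : G) := rfl
    rw [h1, ← hc]
    simp [mul_assoc]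
  · exact (Subgroup.subgroupOfEquivOfLe hKH).injective.injOn
  · rintro k ⟨x, hx⟩
    refine ⟨(Subgroup.subgroupOfEquivOfLe hKH).symm k, ?_,
      (Subgroup.subgroupOfEquivOfLe hKH).apply_symm_apply k⟩
    show IsConj t (((Subgroup.subgroupOfEquivOfLe hKH).symm k : ↥(K.subgroupOf H)) : H)
    rw [isConj_iff]
    refine ⟨x⁻¹, ?_⟩
    apply Subtype.ext
    have h1 : ((((Subgroup.subgroupOfEquivOfLe hKH).symm k : ↥(K.subgroupOf H)) : H) : G) =
        (k : G) := rfl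
    rw [Subgroup.coe_mul, Subgroup.coe_mul, h1, ← hx]
    simp [mul_assoc]
  · intro k' _
    rw [irrEquiv_apply, irrEquiv_apply, map_one]

/-- Block induction computed inside `H` versus block induction in the group `↥H`. -/
theorem isInducedBlockIn_iff (H K : Subgroup G) (hKH : K ≤ H) (e : Set (IrrCharacter K))
    (f : Set (IrrCharacter H)) :
    IsInducedBlockIn M H K e f ↔
      IsInducedBlock M (K.subgroupOf H) (irrEquiv (Subgroup.subgroupOfEquivOfLe hKH) '' e) f := by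
  constructor
  · rintro ⟨he, hf, hcong⟩
    refine ⟨BlockOrbitCover.isPBlock_irrEquiv_image _ he, hf, ?_⟩
    rintro _ ⟨ξ, hξ, rfl⟩ χ hχ t
    rw [← inducedCentralCharIn_eq]
    exact hcong ξ hξ χ hχ t
  · rintro ⟨he, hf, hcong⟩
    refine ⟨?_, hf, ?_⟩
    · have h1 := BlockOrbitCover.isPBlock_irrEquiv_image
        (Subgroup.subgroupOfEquivOfLe hKH).symm he
      rwa [irrEquiv_symm_image_image] at h1
    · intro ξ hξ χ hχ t
      rw [inducedCentralCharIn_eq H K hKH]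
      exact hcong _ ⟨ξ, hξ, rfl⟩ χ hχ t

end InVsSub

section CoverInd

variable {G : Type*} [Group G] [Fintype G] (N : Subgroup G) [hN : N.Normal] [Fintype N]
  {p : ℕ} {M : Ideal AlgInt}

omit [Fintype G] [Fintype N] in
theorem normal_inf_subgroupOf (H : Subgroup G) : ((H ⊓ N).subgroupOf H).Normal := by
  constructor
  intro y hy x
  rw [Subgroup.mem_subgroupOf] at hy ⊢
  refine ⟨(x * y * x⁻¹).2, ?_⟩
  have := hN.conj_mem _ hy.2 (x : G)
  simpa using this

/-- The covering relation in the form of the statement versus the covering relation for the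
normal subgroup `(H ⊓ N).subgroupOf H` of the group `↥H`. -/
theorem classInner_inclusion_eq (H : Subgroup G) [Fintype H] [Fintype ↥(H ⊓ N)]
    [Fintype ↥((H ⊓ N).subgroupOf H)] (ψ : H → ℂ) (ξ : IrrCharacter ↥(H ⊓ N)) :
    classInner (fun x : ↥((H ⊓ N).subgroupOf H) => ψ x)
      (irrEquiv (Subgroup.subgroupOfEquivOfLe (inf_le_left : H ⊓ N ≤ H)) ξ :
        ↥((H ⊓ N).subgroupOf H) → ℂ) =
    classInner (fun l : ↥(H ⊓ N) => ψ (Subgroup.inclusion inf_le_left l))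
      (ξ : ↥(H ⊓ N) → ℂ) := by
  have h := classInner_comp_equiv (Subgroup.subgroupOfEquivOfLe (inf_le_left : H ⊓ N ≤ H))
    (fun l : ↥(H ⊓ N) => ψ (Subgroup.inclusion inf_le_left l)) (ξ : ↥(H ⊓ N) → ℂ)
  rw [← h]
  rfl

/-- **Induction preserves covering.** If `c` (a block of `H`) induces `B`, `c` covers the block
`e` of `H ⊓ N`, and `e` induces the block `d` of `N`, then `B` covers `d`. -/
theorem covers_of_induced (hM : IsPModular p M) (H : Subgroup G) [Fintype H] [Fintype ↥(H ⊓ N)]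
    {c : Set (IrrCharacter H)} {B : Set (IrrCharacter G)} (hind : IsInducedBlock M H c B)
    {e : Set (IrrCharacter ↥(H ⊓ N))} {d : Set (IrrCharacter N)}
    (hcov : ∃ ψ ∈ c, ∃ ξ ∈ e, classInner
      (fun l : ↥(H ⊓ N) => (ψ : H → ℂ) (Subgroup.inclusion inf_le_left l))
      (ξ : ↥(H ⊓ N) → ℂ) ≠ 0)
    (hed : IsInducedBlockIn M N (H ⊓ N) e d) :
    ∃ χ ∈ B, ∃ θ ∈ d, classInner (fun n : N => (χ : G → ℂ) n) (θ : N → ℂ) ≠ 0 := by
  classical
  haveI hP := isPrime_of_isPModular hM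
  haveI : Fintype ↥((H ⊓ N).subgroupOf H) := Fintype.ofFinite _
  haveI : Fintype ↥((H ⊓ N).subgroupOf N) := Fintype.ofFinite _
  haveI hn : ((H ⊓ N).subgroupOf H).Normal := normal_inf_subgroupOf N H
  rw [covers_iff N hM B hind.2.1 d hed.2.1]
  intro χ hχ θ hθ n
  obtain ⟨ψ, hψ, ξ, hξ, hcon⟩ := hcov
  set z := classSum (n : G) with hz
  have hzc : z ∈ Subalgebra.center ℂ (MonoidAlgebra ℂ G) := classSum_mem_center _
  have hzi : z ∈ intCoeff (G := G) M := classSum_mem_intCoeff _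
  -- Step 1
  have h1 := hind.2.2 ψ hψ χ hχ (n : G)
  rw [inducedCentralChar_eq_omega] at h1
  -- Step 2
  set φH := Subgroup.subgroupOfEquivOfLe (inf_le_left : H ⊓ N ≤ H) with hφH
  have hcon' : classInner (fun x : ↥((H ⊓ N).subgroupOf H) => (ψ : H → ℂ) x)
      (irrEquiv φH ξ : ↥((H ⊓ N).subgroupOf H) → ℂ) ≠ 0 := by
    rw [classInner_inclusion_eq]
    exact hcon
  have h2 := omega_sub_memLocalIdeal_of_covers ((H ⊓ N).subgroupOf H) hM
    (sameBlock_refl (ψ : H → ℂ)) (sameBlock_refl (irrEquiv φH ξ : ↥((H ⊓ N).subgroupOf H) → ℂ))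
    hcon' (resAlg_mem_center H hzc) (resAlg_mem_intCoeff H hzi)
    (by
      intro t ht
      rw [coeff_resAlg]
      apply coeff_classSum_of_not_mem N n
      intro htN
      exact ht (Subgroup.mem_subgroupOf.2 ⟨t.2, htN⟩))
  have h2' : omega (irrEquiv φH ξ : ↥((H ⊓ N).subgroupOf H) → ℂ)
      (resAlg ((H ⊓ N).subgroupOf H) (resAlg H z)) =
      omega (ξ : ↥(H ⊓ N) → ℂ) (resAlg (H ⊓ N) z) := by
    apply omega_irrEquiv
    intro a
    rw [coeff_resAlg, coeff_resAlg, coeff_resAlg]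
    rfl
  rw [h2'] at h2
  -- Step 3
  set φN := Subgroup.subgroupOfEquivOfLe (inf_le_right : H ⊓ N ≤ N) with hφN
  have hed' := (isInducedBlockIn_iff N (H ⊓ N) inf_le_right e d).1 hed
  have h3 := omega_resAlg_sub_memLocalIdeal ((H ⊓ N).subgroupOf N) hed'
    (ξ := irrEquiv φN ξ) ⟨ξ, hξ, rfl⟩ hθ (resAlg_mem_center N hzc) (resAlg_mem_intCoeff N hzi)
  have h3' : omega (irrEquiv φN ξ : ↥((H ⊓ N).subgroupOf N) → ℂ)
      (resAlg ((H ⊓ N).subgroupOf N) (resAlg N z)) =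
      omega (ξ : ↥(H ⊓ N) → ℂ) (resAlg (H ⊓ N) z) := by
    apply omega_irrEquiv
    intro a
    rw [coeff_resAlg, coeff_resAlg, coeff_resAlg]
    rfl
  rw [h3'] at h3
  rw [inducedCentralChar_eq_omega]
  -- combine
  have h4 := memLocalIdeal_neg h1
  rw [neg_sub] at h4
  have h5 := memLocalIdeal_add (memLocalIdeal_add h4 h2) h3
  convert h5 using 1
  ring

end CoverInd

section NSide

variable {G : Type*} [Group G] [Fintype G] (N : Subgroup G) [Fintype N]
  {p : ℕ} [Fact p.Prime] {M : Ideal AlgInt} (Q : Subgroup G)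

omit [Fintype G] [Fintype N] [Fact p.Prime] in
/-- `N_N(Q)` is the normalizer of `Q` in the group `↥N`. -/
theorem subgroupOf_eq_normalizer (hQN : Q ≤ N) :
    ((Subgroup.normalizer (Q : Set G)) ⊓ N).subgroupOf N =
      Subgroup.normalizer ((Q.subgroupOf N : Subgroup N) : Set N) := by
  ext x
  rw [Subgroup.mem_subgroupOf, Subgroup.mem_inf, Subgroup.mem_normalizer_iff,
    Subgroup.mem_normalizer_iff]
  constructor
  · rintro ⟨h1, _⟩ y
    rw [Subgroup.mem_subgroupOf, Subgroup.mem_subgroupOf]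
    exact h1 (y : G)
  · intro h1
    refine ⟨fun g => ⟨fun hg => ?_, fun hg => ?_⟩, x.2⟩
    · have := (h1 ⟨g, hQN hg⟩).1 (Subgroup.mem_subgroupOf.2 hg)
      exact Subgroup.mem_subgroupOf.1 this
    · have hgN : g ∈ N := by
        have h2 : (x : G) * g * (x : G)⁻¹ ∈ N := hQN hg
        have h3 := N.mul_mem (N.mul_mem (N.inv_mem x.2) h2) x.2
        simpa [mul_assoc] using h3
      have := (h1 ⟨g, hgN⟩).2 (Subgroup.mem_subgroupOf.2 hg)
      exact Subgroup.mem_subgroupOf.1 this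

/-- Transport of the defect group `Q` of a block of `N_N(Q)`. -/
theorem isDefectGroup_sub (H : Subgroup G) (e : Set (IrrCharacter ↥(H ⊓ N)))
    (he : IsDefectGroup p M e (Q.subgroupOf (H ⊓ N))) :
    IsDefectGroup p M
      (irrEquiv (Subgroup.subgroupOfEquivOfLe
        (inf_le_right : H ⊓ N ≤ N)) '' e)
      ((Q.subgroupOf N).subgroupOf ((H ⊓ N).subgroupOf N)) := by
  have h := BrauerAutomizer.isDefectGroup_irrEquiv_image (M := M) (p := p)
    (Subgroup.subgroupOfEquivOfLe (inf_le_right : H ⊓ N ≤ N)) e _ he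
  convert h using 1
  ext x
  rfl

/-- First main theorem, upward, for blocks of `N_N(Q)` in the form of `IsInducedBlockIn`. -/
theorem exists_block_up_in (hM : IsPModular p M) (hQ : IsPGroup p Q) (hQN : Q ≤ N)
    (H : Subgroup G) (hH : H = Subgroup.normalizer (Q : Set G))
    [Fintype ↥(H ⊓ N)]
    (e : Set (IrrCharacter ↥(H ⊓ N))) (he : IsPBlock M e)
    (heQ : IsDefectGroup p M e (Q.subgroupOf (H ⊓ N))) :
    ∃ θ₁ : IrrCharacter N, IsDefectGroup p M (blockOf M (θ₁ : N → ℂ)) (Q.subgroupOf N) ∧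
      IsInducedBlockIn M N (H ⊓ N) e (blockOf M (θ₁ : N → ℂ)) := by
  classical
  subst hH
  haveI : Fintype ↥((Subgroup.normalizer (Q : Set G) ⊓ N).subgroupOf N) := Fintype.ofFinite _
  set φN := Subgroup.subgroupOfEquivOfLe
    (inf_le_right : Subgroup.normalizer (Q : Set G) ⊓ N ≤ N) with hφN
  have hdef := isDefectGroup_sub N Q _ e heQ
  obtain ⟨ξ, rfl⟩ := he
  rw [image_blockOf_irrEquiv] at hdef
  obtain ⟨θ₁, hθ₁, hind⟩ := exists_block_up (Q.subgroupOf N)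
    ((Subgroup.normalizer (Q : Set G) ⊓ N).subgroupOf N) (subgroupOf_eq_normalizer N Q hQN) hM
    hQ.comap_subtype (irrEquiv φN ξ) hdef
  refine ⟨θ₁, hθ₁, ?_⟩
  rw [isInducedBlockIn_iff N _ inf_le_right, image_blockOf_irrEquiv]
  exact hind

/-- First main theorem, uniqueness, in the form of `IsInducedBlockIn`. -/
theorem block_down_unique_in (hM : IsPModular p M) (hQ : IsPGroup p Q) (hQN : Q ≤ N)
    (H : Subgroup G) (hH : H = Subgroup.normalizer (Q : Set G))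
    [Fintype ↥(H ⊓ N)]
    (e₁ e₂ : Set (IrrCharacter ↥(H ⊓ N)))
    (he₂Q : IsDefectGroup p M e₂ (Q.subgroupOf (H ⊓ N)))
    (d : Set (IrrCharacter N))
    (h₁ : IsInducedBlockIn M N (H ⊓ N) e₁ d)
    (h₂ : IsInducedBlockIn M N (H ⊓ N) e₂ d) : e₁ = e₂ := by
  classical
  subst hH
  haveI hP := isPrime_of_isPModular hM
  haveI : Fintype ↥((Subgroup.normalizer (Q : Set G) ⊓ N).subgroupOf N) := Fintype.ofFinite _
  set φN := Subgroup.subgroupOfEquivOfLe
    (inf_le_right : Subgroup.normalizer (Q : Set G) ⊓ N ≤ N) with hφN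
  have hdef := isDefectGroup_sub N Q _ e₂ he₂Q
  obtain ⟨ξ₁, rfl⟩ := h₁.1
  obtain ⟨ξ₂, rfl⟩ := h₂.1
  obtain ⟨θ, rfl⟩ := h₁.2.1
  rw [isInducedBlockIn_iff N _ inf_le_right, image_blockOf_irrEquiv] at h₁ h₂
  rw [image_blockOf_irrEquiv] at hdef
  have h := block_down_unique (Q.subgroupOf N)
    ((Subgroup.normalizer (Q : Set G) ⊓ N).subgroupOf N) (subgroupOf_eq_normalizer N Q hQN) hM
    hQ.comap_subtype θ (irrEquiv φN ξ₁) (irrEquiv φN ξ₂) hdef h₁ h₂
  have h3 : irrEquiv φN ξ₁ ∈ blockOf M (irrEquiv φN ξ₂ : _ → ℂ) := by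
    rw [← h]
    exact mem_blockOf_self _
  have h4 : ξ₁ ∈ blockOf M (ξ₂ : _ → ℂ) := (irrEquiv_mem_blockOf_iff φN ξ₂ ξ₁).1 h3
  exact blockOf_eq_of_mem h4

end NSide

section ConjCover

variable {G : Type*} [Group G] [Fintype G] (N : Subgroup G) [hN : N.Normal] [Fintype N]
  {p : ℕ} [Fact p.Prime] {M : Ideal AlgInt} (Q : Subgroup G)

omit [Fintype G] [Fintype N] [Fact p.Prime] in
theorem mem_normalizer_of_normal (g : G) : g ∈ Subgroup.normalizer (N : Set G) := by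
  rw [Subgroup.normalizer_eq_top]
  exact Subgroup.mem_top g

/-- Two blocks of `N` with the same defect group `Q` covered by the same block of `G` are
conjugate under `N_G(Q)`. -/
theorem exists_conj_of_covers (hM : IsPModular p M) (hQN : Q ≤ N)
    {B : Set (IrrCharacter G)} (hB : IsPBlock M B)
    {d d₁ : Set (IrrCharacter N)} (hd : IsPBlock M d) (hd₁ : IsPBlock M d₁)
    (hcov : ∃ χ ∈ B, ∃ θ ∈ d, classInner (fun n : N => (χ : G → ℂ) n) (θ : N → ℂ) ≠ 0)
    (hcov₁ : ∃ χ ∈ B, ∃ θ ∈ d₁, classInner (fun n : N => (χ : G → ℂ) n) (θ : N → ℂ) ≠ 0)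
    (hdQ : IsDefectGroup p M d (Q.subgroupOf N)) (hd₁Q : IsDefectGroup p M d₁ (Q.subgroupOf N)) :
    ∃ h : G, h ∈ Subgroup.normalizer (Q : Set G) ∧
      d₁ = irrEquiv (cjE N h (mem_normalizer_of_normal N h)) '' d := by
  classical
  haveI hP := isPrime_of_isPModular hM
  obtain ⟨χ, hχ, θ, hθ, hcon⟩ := hcov
  obtain ⟨χ', hχ', θ', hθ', hcon'⟩ := hcov₁
  obtain ⟨g, θ'', hθ'', hg⟩ := covers_conj N hM B hB d hd χ hχ θ hθ hcon χ' hχ' θ' hcon'
  set σg := cjE N g (mem_normalizer_of_normal N g) with hσg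
  have h1 : θ' = irrEquiv σg θ'' := by
    apply Subtype.ext
    funext n
    rw [hg n, irrEquiv_apply]
    rfl
  have hdeq : d = blockOf M (θ'' : N → ℂ) := by
    obtain ⟨θ₀, rfl⟩ := hd
    exact (blockOf_eq_of_mem hθ'').symm
  have hd₁eq : d₁ = blockOf M (θ' : N → ℂ) := by
    obtain ⟨θ₀, rfl⟩ := hd₁
    exact (blockOf_eq_of_mem hθ').symm
  have h2 : d₁ = irrEquiv σg '' d := by
    rw [hd₁eq, hdeq, image_blockOf_irrEquiv, h1]
  -- the defect groups
  have h3 := BrauerAutomizer.isDefectGroup_irrEquiv_image (M := M) (p := p) σg d _ hdQ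
  rw [← h2, hd₁eq] at h3
  rw [hd₁eq] at hd₁Q
  obtain ⟨n, hn⟩ := isDefectGroup_conj hM θ' hd₁Q h3
  refine ⟨g * n, ?_, ?_⟩
  · rw [Subgroup.mem_normalizer_iff]
    intro x
    constructor
    · intro hx
      have hy : (n * ⟨x, hQN hx⟩ * n⁻¹ : N) ∈
          (Q.subgroupOf N).map (MulAut.conj n).toMonoidHom :=
        ⟨⟨x, hQN hx⟩, Subgroup.mem_subgroupOf.2 hx, rfl⟩
      rw [← hn, Subgroup.mem_comap, Subgroup.mem_subgroupOf] at hy
      have h5 : ((σg.toMonoidHom (n * ⟨x, hQN hx⟩ * n⁻¹) : N) : G) =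
          g * (n : G) * x * (g * (n : G))⁻¹ := by
        show g * ((n * ⟨x, hQN hx⟩ * n⁻¹ : N) : G) * g⁻¹ = _
        simp [mul_assoc]
      rwa [h5] at hy
    · intro hx
      have hxN : x ∈ N := by
        have h6 : g * (n : G) * x * (g * (n : G))⁻¹ ∈ N := hQN hx
        have h7 := hN.conj_mem _ h6 (g * (n : G))⁻¹
        simpa [mul_assoc] using h7
      have hy : (n * ⟨x, hxN⟩ * n⁻¹ : N) ∈ (Q.subgroupOf N).comap σg.toMonoidHom := by
        rw [Subgroup.mem_comap, Subgroup.mem_subgroupOf]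
        have h5 : ((σg.toMonoidHom (n * ⟨x, hxN⟩ * n⁻¹) : N) : G) =
            g * (n : G) * x * (g * (n : G))⁻¹ := by
          show g * ((n * ⟨x, hxN⟩ * n⁻¹ : N) : G) * g⁻¹ = _
          simp [mul_assoc]
        rwa [h5]
      rw [hn] at hy
      obtain ⟨q, hq, hqe⟩ := hy
      have h8 : q = ⟨x, hxN⟩ := by
        have : n * q * n⁻¹ = n * ⟨x, hxN⟩ * n⁻¹ := hqe
        exact mul_left_cancel (mul_right_cancel this)
      rw [h8] at hq
      exact Subgroup.mem_subgroupOf.1 hq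
  · rw [h2]
    apply Set.image_congr
    intro ϑ _
    apply Subtype.ext
    funext x
    rw [irrEquiv_apply, irrEquiv_apply]
    have h9 := irr_conj (irrEquiv σg ϑ) x n
    rw [irrEquiv_apply, irrEquiv_apply] at h9
    rw [← h9]
    refine congrArg _ (Subtype.ext ?_)
    show g * ((n * x * n⁻¹ : N) : G) * g⁻¹ = g * (n : G) * (x : G) * (g * (n : G))⁻¹
    simp [mul_assoc]

end ConjCover

section FirstMainSub

variable {G : Type*} [Group G] [Fintype G] {p : ℕ} [Fact p.Prime] {M : Ideal AlgInt}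
  (H P : Subgroup G)

omit [Fintype G] [Fact p.Prime] in
/-- The normalizer of `P ≤ H` in the group `↥H`. -/
theorem normalizer_subgroupOf (hPH : P ≤ H) :
    (Subgroup.normalizer (P : Set G)).subgroupOf H =
      Subgroup.normalizer ((P.subgroupOf H : Subgroup H) : Set H) := by
  ext x
  rw [Subgroup.mem_subgroupOf, Subgroup.mem_normalizer_iff, Subgroup.mem_normalizer_iff]
  constructor
  · intro h1 y
    rw [Subgroup.mem_subgroupOf, Subgroup.mem_subgroupOf]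
    exact h1 (y : G)
  · intro h1 g
    constructor
    · intro hg
      have := (h1 ⟨g, hPH hg⟩).1 (Subgroup.mem_subgroupOf.2 hg)
      exact Subgroup.mem_subgroupOf.1 this
    · intro hg
      have hgH : g ∈ H := by
        have h2 : (x : G) * g * (x : G)⁻¹ ∈ H := hPH hg
        have h3 := H.mul_mem (H.mul_mem (H.inv_mem x.2) h2) x.2
        simpa [mul_assoc] using h3
      have := (h1 ⟨g, hgH⟩).2 (Subgroup.mem_subgroupOf.2 hg)
      exact Subgroup.mem_subgroupOf.1 this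

/-- Going down: a block `c` of `H` with defect group `P` (where `N_G(P) ≤ H`) inducing `B` comes
from a block of `N_G(P)` with defect group `P` inducing `B`. -/
theorem exists_down_trans [Fintype H] (hM : IsPModular p M) (hPH : P ≤ H)
    (hNNH : Subgroup.normalizer (P : Set G) ≤ H)
    [Fintype ↥(Subgroup.normalizer (P : Set G))]
    [Fintype ↥((Subgroup.normalizer (P : Set G)).subgroupOf H)]
    (ζ : IrrCharacter H) (χ₀ : IrrCharacter G)
    (hdef : IsDefectGroup p M (blockOf M (ζ : H → ℂ)) (P.subgroupOf H))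
    (hind : IsInducedBlock M H (blockOf M (ζ : H → ℂ)) (blockOf M (χ₀ : G → ℂ))) :
    ∃ θ : IrrCharacter ↥(Subgroup.normalizer (P : Set G)),
      IsDefectGroup p M (blockOf M (θ : ↥(Subgroup.normalizer (P : Set G)) → ℂ))
        (P.subgroupOf (Subgroup.normalizer (P : Set G))) ∧
      IsInducedBlock M (Subgroup.normalizer (P : Set G))
        (blockOf M (θ : ↥(Subgroup.normalizer (P : Set G)) → ℂ)) (blockOf M (χ₀ : G → ℂ)) ∧
      IsInducedBlock M ((Subgroup.normalizer (P : Set G)).subgroupOf H)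
        (blockOf M (irrEquiv (Subgroup.subgroupOfEquivOfLe hNNH) θ :
          ↥((Subgroup.normalizer (P : Set G)).subgroupOf H) → ℂ)) (blockOf M (ζ : H → ℂ)) := by
  classical
  haveI hPr := isPrime_of_isPModular hM
  set NN := Subgroup.normalizer (P : Set G) with hNN
  set ε := Subgroup.subgroupOfEquivOfLe hNNH with hε
  obtain ⟨ξ', hξ'def, hξ'ind⟩ := exists_block_down (P.subgroupOf H) (NN.subgroupOf H)
    (normalizer_subgroupOf H P hPH) hM ζ hdef
  set θ := irrEquiv ε.symm ξ' with hθ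
  have hξ' : ξ' = irrEquiv ε θ := (irrEquiv_irrEquiv_symm' ε ξ').symm
  rw [hξ'] at hξ'ind hξ'def
  refine ⟨θ, ?_, isInducedBlock_trans NN H hNNH θ ζ χ₀ hξ'ind hind, hξ'ind⟩
  have h := BrauerAutomizer.isDefectGroup_irrEquiv_image (M := M) (p := p) ε.symm _ _ hξ'def
  rw [image_blockOf_irrEquiv, irrEquiv_symm_irrEquiv'] at h
  convert h using 1
  ext x
  rfl

/-- In the situation of `exists_down_trans`, `P` is a defect group of the induced block. -/
theorem isDefectGroup_of_induced_sub [Fintype H] (hM : IsPModular p M) (hPH : P ≤ H)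
    (hPp : IsPGroup p P) (hNNH : Subgroup.normalizer (P : Set G) ≤ H)
    (ζ : IrrCharacter H) (χ₀ : IrrCharacter G)
    (hdef : IsDefectGroup p M (blockOf M (ζ : H → ℂ)) (P.subgroupOf H))
    (hind : IsInducedBlock M H (blockOf M (ζ : H → ℂ)) (blockOf M (χ₀ : G → ℂ))) :
    IsDefectGroup p M (blockOf M (χ₀ : G → ℂ)) P := by
  classical
  haveI hPr := isPrime_of_isPModular hM
  haveI : Fintype ↥(Subgroup.normalizer (P : Set G)) := Fintype.ofFinite _
  haveI : Fintype ↥((Subgroup.normalizer (P : Set G)).subgroupOf H) := Fintype.ofFinite _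
  obtain ⟨θ, hθdef, hθind, _⟩ := exists_down_trans H P hM hPH hNNH ζ χ₀ hdef hind
  obtain ⟨χ₁, hχ₁def, hχ₁ind⟩ := exists_block_up P (Subgroup.normalizer (P : Set G)) rfl hM hPp
    θ hθdef
  rw [isInducedBlock_unique _ hθind hχ₁ind]
  exact hχ₁def

/-- Going up: a block `B` of `G` with defect group `P` (where `N_G(P) ≤ H`) is induced from a
block of `H` with defect group `P`. -/
theorem exists_up_trans [Fintype H] (hM : IsPModular p M) (hPH : P ≤ H)
    (hNNH : Subgroup.normalizer (P : Set G) ≤ H) (χ₀ : IrrCharacter G)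
    (hdef : IsDefectGroup p M (blockOf M (χ₀ : G → ℂ)) P) :
    ∃ ζ : IrrCharacter H, IsDefectGroup p M (blockOf M (ζ : H → ℂ)) (P.subgroupOf H) ∧
      IsInducedBlock M H (blockOf M (ζ : H → ℂ)) (blockOf M (χ₀ : G → ℂ)) := by
  classical
  haveI hPr := isPrime_of_isPModular hM
  have hPp : IsPGroup p P := isPGroup_of_isDefectGroup hdef
  set NN := Subgroup.normalizer (P : Set G) with hNN
  haveI : Fintype ↥NN := Fintype.ofFinite _
  haveI : Fintype ↥(NN.subgroupOf H) := Fintype.ofFinite _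
  set ε := Subgroup.subgroupOfEquivOfLe hNNH with hε
  obtain ⟨ξ₀, hξ₀def, hξ₀ind⟩ := exists_block_down P NN rfl hM χ₀ hdef
  have hdef' : IsDefectGroup p M (blockOf M (irrEquiv ε ξ₀ : ↥(NN.subgroupOf H) → ℂ))
      ((P.subgroupOf H).subgroupOf (NN.subgroupOf H)) := by
    have h := BrauerAutomizer.isDefectGroup_irrEquiv_image (M := M) (p := p) ε _ _ hξ₀def
    rw [image_blockOf_irrEquiv] at h
    convert h using 1
    ext x
    rfl
  obtain ⟨ζ₁, hζ₁def, hζ₁ind⟩ := exists_block_up (P.subgroupOf H) (NN.subgroupOf H)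
    (normalizer_subgroupOf H P hPH) hM hPp.comap_subtype (irrEquiv ε ξ₀) hdef'
  exact ⟨ζ₁, hζ₁def, isInducedBlock_of_trans NN H hNNH ξ₀ ζ₁ χ₀ hζ₁ind hξ₀ind⟩

end FirstMainSub

section HSide

variable {G : Type*} [Group G] [Fintype G] (N : Subgroup G) [hN : N.Normal] [Fintype N]
  {p : ℕ} [Fact p.Prime] {M : Ideal AlgInt} (H Q : Subgroup G)

omit [Fintype G] [Fintype N] [Fact p.Prime] in
theorem normalizer_le_of_inf_eq {P : Subgroup G} (hPN : P ⊓ N = Q) :
    Subgroup.normalizer (P : Set G) ≤ Subgroup.normalizer (Q : Set G) := by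
  intro x hx
  rw [Subgroup.mem_normalizer_iff]
  intro y
  rw [← hPN, Subgroup.mem_inf, Subgroup.mem_inf]
  have h1 := Subgroup.mem_normalizer_iff.1 hx y
  have h2 : y ∈ N ↔ x * y * x⁻¹ ∈ N :=
    ⟨fun h => hN.conj_mem y h x, fun h => by simpa [mul_assoc] using hN.conj_mem _ h x⁻¹⟩
  rw [h1, h2]

omit [Fintype N] hN in
theorem isDefectGroup_subH (e : Set (IrrCharacter ↥(H ⊓ N)))
    (he : IsDefectGroup p M e (Q.subgroupOf (H ⊓ N))) :
    IsDefectGroup p M
      (irrEquiv (Subgroup.subgroupOfEquivOfLe (inf_le_left : H ⊓ N ≤ H)) '' e)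
      ((Q.subgroupOf H).subgroupOf ((H ⊓ N).subgroupOf H)) := by
  have h := BrauerAutomizer.isDefectGroup_irrEquiv_image (M := M) (p := p)
    (Subgroup.subgroupOfEquivOfLe (inf_le_left : H ⊓ N ≤ H)) e _ he
  convert h using 1
  ext x
  rfl

omit [Fintype N] hN in
theorem isDefectGroup_subH_symm (e₁ : Set (IrrCharacter ↥((H ⊓ N).subgroupOf H)))
    (D : Subgroup H) (he₁ : IsDefectGroup p M e₁ (D.subgroupOf ((H ⊓ N).subgroupOf H))) :
    IsDefectGroup p M
      (irrEquiv (Subgroup.subgroupOfEquivOfLe (inf_le_left : H ⊓ N ≤ H)).symm '' e₁)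
      ((D.map H.subtype).subgroupOf (H ⊓ N)) := by
  have h := BrauerAutomizer.isDefectGroup_irrEquiv_image (M := M) (p := p)
    (Subgroup.subgroupOfEquivOfLe (inf_le_left : H ⊓ N ≤ H)).symm e₁ _ he₁
  convert h using 1
  ext l
  rw [Subgroup.mem_subgroupOf, Subgroup.mem_comap, Subgroup.mem_subgroupOf]
  constructor
  · rintro ⟨t, ht, hte⟩
    have h5 : ((((Subgroup.subgroupOfEquivOfLe (inf_le_left : H ⊓ N ≤ H)).symm.toMonoidHom l :
        ↥((H ⊓ N).subgroupOf H)) : H)) = t := Subtype.ext hte.symm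
    rw [h5]
    exact ht
  · intro h1
    exact ⟨_, h1, rfl⟩

omit [Fintype G] hN [Fintype N] [Fact p.Prime] in
/-- Covering is invariant under conjugation by elements of `H`. -/
theorem classInner_inclusion_cjE [Fintype H] [Fintype ↥(H ⊓ N)] (h : G) (hh : h ∈ H)
    (hL : h ∈ Subgroup.normalizer ((H ⊓ N : Subgroup G) : Set G)) (ψ : IrrCharacter H)
    (ξ : IrrCharacter ↥(H ⊓ N)) :
    classInner (fun l : ↥(H ⊓ N) => (ψ : H → ℂ) (Subgroup.inclusion inf_le_left l))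
      (irrEquiv (cjE (H ⊓ N) h hL) ξ : ↥(H ⊓ N) → ℂ) =
    classInner (fun l : ↥(H ⊓ N) => (ψ : H → ℂ) (Subgroup.inclusion inf_le_left l))
      (ξ : ↥(H ⊓ N) → ℂ) := by
  have h1 := classInner_comp_equiv (cjE (H ⊓ N) h hL)
    (fun l : ↥(H ⊓ N) => (ψ : H → ℂ) (Subgroup.inclusion inf_le_left l)) (ξ : ↥(H ⊓ N) → ℂ)
  rw [← h1]
  have h2 : (fun l : ↥(H ⊓ N) => (ψ : H → ℂ) (Subgroup.inclusion inf_le_left l)) ∘
      (cjE (H ⊓ N) h hL) =
      fun l : ↥(H ⊓ N) => (ψ : H → ℂ) (Subgroup.inclusion inf_le_left l) := by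
    funext l
    have h3 := irr_conj ψ (Subgroup.inclusion inf_le_left l) ⟨h, hh⟩
    rw [← h3]
    rfl
  rw [h2]
  rfl

end HSide

section Main

variable {G : Type*} [Group G] [Fintype G] (N : Subgroup G) [hN : N.Normal] [Fintype N]
  {p : ℕ} [Fact p.Prime] {M : Ideal AlgInt} (Q : Subgroup G)

/-- **Harris–Knörr, surjectivity.** -/
theorem exists_block_covering (hM : IsPModular p M) (hQ : IsPGroup p Q) (hQN : Q ≤ N)
    (H : Subgroup G) (hH : H = Subgroup.normalizer (Q : Set G))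
    [Fintype ↥H] [Fintype ↥(H ⊓ N)]
    {d : Set (IrrCharacter N)} (hd : IsPBlock M d)
    (hdQ : IsDefectGroup p M d (Q.subgroupOf N))
    {e : Set (IrrCharacter ↥(H ⊓ N))}
    (heQ : IsDefectGroup p M e (Q.subgroupOf (H ⊓ N)))
    (hed : IsInducedBlockIn M N (H ⊓ N) e d)
    {B : Set (IrrCharacter G)} (hB : IsPBlock M B)
    (hcov : ∃ χ ∈ B, ∃ θ ∈ d, classInner (fun n : N => (χ : G → ℂ) n) (θ : N → ℂ) ≠ 0) :
    ∃ c : Set (IrrCharacter ↥H), IsPBlock M c ∧
      (∃ ψ ∈ c, ∃ ξ ∈ e, classInner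
        (fun l : ↥(H ⊓ N) =>
          (ψ : ↥H → ℂ) (Subgroup.inclusion inf_le_left l))
        (ξ : ↥(H ⊓ N) → ℂ) ≠ 0) ∧
      IsInducedBlock M H c B := by
  classical
  haveI hP := isPrime_of_isPModular hM
  haveI : Fintype ↥((H ⊓ N).subgroupOf H) := Fintype.ofFinite _
  haveI hn : ((H ⊓ N).subgroupOf H).Normal := normal_inf_subgroupOf N H
  obtain ⟨χ₀, rfl⟩ := hB
  -- Knörr
  obtain ⟨P, hPdef, hPN⟩ := Knorr.exists_defectGroup_inf_eq N hM ⟨χ₀, rfl⟩ hd hcov Q hQN hdQ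
  have hNNH : Subgroup.normalizer (P : Set G) ≤ H := hH ▸ normalizer_le_of_inf_eq N Q hPN
  have hPH : P ≤ H := Subgroup.le_normalizer.trans hNNH
  -- the block of `H`
  obtain ⟨ζ₁, hζ₁def, hcB⟩ := exists_up_trans H P hM hPH hNNH χ₀ hPdef
  -- a covered block with defect group `Q`
  obtain ⟨e₁, he₁, _, hcov₁, he₁def⟩ := Knorr.exists_stable_block_defect
    ((H ⊓ N).subgroupOf H) hM ⟨ζ₁, rfl⟩ (P.subgroupOf H) hζ₁def
  set φH := Subgroup.subgroupOfEquivOfLe (inf_le_left : H ⊓ N ≤ H) with hφH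
  set e₁L := irrEquiv φH.symm '' e₁ with he₁Ldef
  have he₁L : IsPBlock M e₁L := BlockOrbitCover.isPBlock_irrEquiv_image _ he₁
  have he₁LQ : IsDefectGroup p M e₁L (Q.subgroupOf (H ⊓ N)) := by
    have h := isDefectGroup_subH_symm N H e₁ _ he₁def
    convert h using 2
    ext x
    rw [← hPN]
    constructor
    · rintro ⟨hxP, hxN⟩
      exact ⟨⟨x, hPH hxP⟩, ⟨Subgroup.mem_subgroupOf.2 hxP,
        Subgroup.mem_subgroupOf.2 ⟨hPH hxP, hxN⟩⟩, rfl⟩
    · rintro ⟨t, ⟨ht1, ht2⟩, rfl⟩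
      exact ⟨Subgroup.mem_subgroupOf.1 ht1, (Subgroup.mem_subgroupOf.1 ht2).2⟩
  have hcov₁L : ∃ ψ ∈ blockOf M (ζ₁ : H → ℂ), ∃ ξ ∈ e₁L, classInner
      (fun l : ↥(H ⊓ N) => (ψ : H → ℂ) (Subgroup.inclusion inf_le_left l))
      (ξ : ↥(H ⊓ N) → ℂ) ≠ 0 := by
    obtain ⟨ψ, hψ, ξ₁, hξ₁, hne⟩ := hcov₁
    refine ⟨ψ, hψ, irrEquiv φH.symm ξ₁, ⟨ξ₁, hξ₁, rfl⟩, ?_⟩
    rw [← classInner_inclusion_eq N H (ψ : H → ℂ) (irrEquiv φH.symm ξ₁),
      irrEquiv_irrEquiv_symm']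
    exact hne
  -- the induced block of `N`
  obtain ⟨θ₁, hθ₁def, hθ₁ind⟩ := exists_block_up_in N Q hM hQ hQN H hH e₁L he₁L he₁LQ
  have hcovd₁ := covers_of_induced N hM H hcB hcov₁L hθ₁ind
  -- conjugate
  obtain ⟨h, hh, hd₁⟩ := exists_conj_of_covers N Q hM hQN ⟨χ₀, rfl⟩ hd ⟨θ₁, rfl⟩ hcov hcovd₁
    hdQ hθ₁def
  rw [← hH] at hh
  have hhL : h ∈ Subgroup.normalizer ((H ⊓ N : Subgroup G) : Set G) := by
    rw [Subgroup.mem_normalizer_iff]
    intro y
    rw [Subgroup.mem_inf, Subgroup.mem_inf]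
    have h1 : y ∈ H ↔ h * y * h⁻¹ ∈ H :=
      ⟨fun hy => H.mul_mem (H.mul_mem hh hy) (H.inv_mem hh), fun hy => by
        have := H.mul_mem (H.mul_mem (H.inv_mem hh) hy) hh
        simpa [mul_assoc] using this⟩
    have h2 : y ∈ N ↔ h * y * h⁻¹ ∈ N :=
      ⟨fun hy => hN.conj_mem y hy h, fun hy => by simpa [mul_assoc] using hN.conj_mem _ hy h⁻¹⟩
    rw [h1, h2]
  have hind_h := isInducedBlockIn_conj N (H ⊓ N) h (mem_normalizer_of_normal N h) hhL hed
  rw [← hd₁] at hind_h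
  have hdef_h : IsDefectGroup p M (irrEquiv (cjE (H ⊓ N) h hhL) '' e)
      (Q.subgroupOf (H ⊓ N)) := by
    have h3 := BrauerAutomizer.isDefectGroup_irrEquiv_image (M := M) (p := p)
      (cjE (H ⊓ N) h hhL) e _ heQ
    convert h3 using 1
    ext x
    rw [Subgroup.mem_comap, Subgroup.mem_subgroupOf, Subgroup.mem_subgroupOf]
    exact Subgroup.mem_normalizer_iff.1 (hH ▸ hh) (x : G)
  have heq : e₁L = irrEquiv (cjE (H ⊓ N) h hhL) '' e :=
    block_down_unique_in N Q hM hQ hQN H hH _ _ hdef_h _ hθ₁ind hind_h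
  refine ⟨blockOf M (ζ₁ : H → ℂ), ⟨ζ₁, rfl⟩, ?_, hcB⟩
  obtain ⟨ψ, hψ, ξ₁, hξ₁, hne⟩ := hcov₁L
  rw [heq] at hξ₁
  obtain ⟨ξ, hξ, rfl⟩ := hξ₁
  refine ⟨ψ, hψ, ξ, hξ, ?_⟩
  rwa [classInner_inclusion_cjE N H h hh hhL ψ ξ] at hne

/-- A block `c` of `H = N_G(Q)` covering `e` and inducing `B` has a defect group `P ∩ H` where `P`
is a defect group of `B` with `P ∩ N = Q`. -/
theorem exists_defect_of_covering (hM : IsPModular p M) (hQN : Q ≤ N)
    (H : Subgroup G) (hH : H = Subgroup.normalizer (Q : Set G))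
    [Fintype ↥H] [Fintype ↥(H ⊓ N)]
    {e : Set (IrrCharacter ↥(H ⊓ N))} (he : IsPBlock M e)
    (heQ : IsDefectGroup p M e (Q.subgroupOf (H ⊓ N)))
    {c : Set (IrrCharacter ↥H)} (χ₀ : IrrCharacter G)
    (hcov : ∃ ψ ∈ c, ∃ ξ ∈ e, classInner
        (fun l : ↥(H ⊓ N) => (ψ : ↥H → ℂ) (Subgroup.inclusion inf_le_left l))
        (ξ : ↥(H ⊓ N) → ℂ) ≠ 0)
    (hind : IsInducedBlock M H c (blockOf M (χ₀ : G → ℂ))) :
    ∃ P : Subgroup G, P ≤ H ∧ P ⊓ N = Q ∧ IsDefectGroup p M c (P.subgroupOf H) ∧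
      IsDefectGroup p M (blockOf M (χ₀ : G → ℂ)) P := by
  classical
  haveI hP := isPrime_of_isPModular hM
  haveI : Fintype ↥((H ⊓ N).subgroupOf H) := Fintype.ofFinite _
  haveI hn : ((H ⊓ N).subgroupOf H).Normal := normal_inf_subgroupOf N H
  set φH := Subgroup.subgroupOfEquivOfLe (inf_le_left : H ⊓ N ≤ H) with hφH
  have heH : IsPBlock M (irrEquiv φH '' e) := BlockOrbitCover.isPBlock_irrEquiv_image _ he
  have heHQ := isDefectGroup_subH N H Q e heQ
  have hQH : Q ≤ H := hH ▸ Subgroup.le_normalizer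
  have hQL : Q.subgroupOf H ≤ (H ⊓ N).subgroupOf H := by
    intro x hx
    rw [Subgroup.mem_subgroupOf] at hx ⊢
    exact ⟨x.2, hQN hx⟩
  have hcovH : ∃ ψ ∈ c, ∃ ξ' ∈ irrEquiv φH '' e, classInner
      (fun x : ↥((H ⊓ N).subgroupOf H) => (ψ : H → ℂ) x)
      (ξ' : ↥((H ⊓ N).subgroupOf H) → ℂ) ≠ 0 := by
    obtain ⟨ψ, hψ, ξ, hξ, hne⟩ := hcov
    refine ⟨ψ, hψ, irrEquiv φH ξ, ⟨ξ, hξ, rfl⟩, ?_⟩
    rw [classInner_inclusion_eq]
    exact hne
  obtain ⟨P', hP'def, hP'inf⟩ := Knorr.exists_defectGroup_inf_eq ((H ⊓ N).subgroupOf H) hM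
    hind.1 heH hcovH (Q.subgroupOf H) hQL heHQ
  have hP'p : IsPGroup p P' := isPGroup_of_isDefectGroup hP'def
  set P := P'.map H.subtype with hPdef
  have hPH : P ≤ H := Subgroup.map_subtype_le P'
  have hPP' : P.subgroupOf H = P' :=
    Subgroup.comap_map_eq_self_of_injective H.subtype_injective P'
  have hPp : IsPGroup p P := hP'p.map H.subtype
  have hPN : P ⊓ N = Q := by
    ext x
    constructor
    · rintro ⟨⟨t, ht, rfl⟩, hxN⟩
      have h1 : t ∈ P' ⊓ (H ⊓ N).subgroupOf H :=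
        ⟨ht, Subgroup.mem_subgroupOf.2 ⟨t.2, hxN⟩⟩
      rw [hP'inf] at h1
      exact Subgroup.mem_subgroupOf.1 h1
    · intro hx
      have h1 : (⟨x, hQH hx⟩ : H) ∈ P' ⊓ (H ⊓ N).subgroupOf H := by
        rw [hP'inf]
        exact Subgroup.mem_subgroupOf.2 hx
      exact ⟨⟨_, h1.1, rfl⟩, hQN hx⟩
  have hNNH : Subgroup.normalizer (P : Set G) ≤ H := hH ▸ normalizer_le_of_inf_eq N Q hPN
  obtain ⟨ζ, rfl⟩ := hind.1
  rw [← hPP'] at hP'def
  exact ⟨P, hPH, hPN, hP'def, isDefectGroup_of_induced_sub H P hM hPH hPp hNNH ζ χ₀ hP'def hind⟩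

/-- **Harris–Knörr, injectivity.** -/
theorem block_covering_unique (hM : IsPModular p M) (hQN : Q ≤ N)
    (H : Subgroup G) (hH : H = Subgroup.normalizer (Q : Set G))
    [Fintype ↥H] [Fintype ↥(H ⊓ N)]
    {e : Set (IrrCharacter ↥(H ⊓ N))} (he : IsPBlock M e)
    (heQ : IsDefectGroup p M e (Q.subgroupOf (H ⊓ N)))
    {B : Set (IrrCharacter G)} {c₁ c₂ : Set (IrrCharacter ↥H)}
    (hcov₁ : ∃ ψ ∈ c₁, ∃ ξ ∈ e, classInner
        (fun l : ↥(H ⊓ N) => (ψ : ↥H → ℂ) (Subgroup.inclusion inf_le_left l))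
        (ξ : ↥(H ⊓ N) → ℂ) ≠ 0)
    (hcov₂ : ∃ ψ ∈ c₂, ∃ ξ ∈ e, classInner
        (fun l : ↥(H ⊓ N) => (ψ : ↥H → ℂ) (Subgroup.inclusion inf_le_left l))
        (ξ : ↥(H ⊓ N) → ℂ) ≠ 0)
    (hind₁ : IsInducedBlock M H c₁ B) (hind₂ : IsInducedBlock M H c₂ B) : c₁ = c₂ := by
  classical
  haveI hP := isPrime_of_isPModular hM
  obtain ⟨χ₀, rfl⟩ := hind₁.2.1
  obtain ⟨P₁, hP₁H, hP₁N, hP₁c, hP₁B⟩ :=
    exists_defect_of_covering N Q hM hQN H hH he heQ χ₀ hcov₁ hind₁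
  obtain ⟨P₂, hP₂H, hP₂N, hP₂c, hP₂B⟩ :=
    exists_defect_of_covering N Q hM hQN H hH he heQ χ₀ hcov₂ hind₂
  obtain ⟨g, hg⟩ := isDefectGroup_conj hM χ₀ hP₁B hP₂B
  have hconj : ∀ x : G, g * x * g⁻¹ ∈ P₂ ↔ x ∈ P₁ := by
    intro x
    rw [hg, Subgroup.mem_map_equiv]
    have : (MulAut.conj g).symm (g * x * g⁻¹) = x := by
      simp [MulAut.conj_symm_apply, mul_assoc]
    rw [this]
  have hgH : g ∈ H := by
    rw [hH, Subgroup.mem_normalizer_iff]
    intro x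
    have h1 : x ∈ Q ↔ x ∈ P₁ ⊓ N := by rw [hP₁N]
    have h2 : g * x * g⁻¹ ∈ Q ↔ g * x * g⁻¹ ∈ P₂ ⊓ N := by rw [hP₂N]
    rw [h1, h2, Subgroup.mem_inf, Subgroup.mem_inf, hconj]
    have h3 : x ∈ N ↔ g * x * g⁻¹ ∈ N :=
      ⟨fun h => hN.conj_mem x h g, fun h => by simpa [mul_assoc] using hN.conj_mem _ h g⁻¹⟩
    rw [h3]
  have hP₁c' := BlockQuotDefect.isDefectGroup_map_conj hP₁c (⟨g, hgH⟩ : H)
  have hmap : (P₁.subgroupOf H).map (MulAut.conj (⟨g, hgH⟩ : H)).toMonoidHom =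
      P₂.subgroupOf H := by
    ext x
    rw [Subgroup.mem_map_equiv, Subgroup.mem_subgroupOf, Subgroup.mem_subgroupOf, ← hconj]
    have : g * (((MulAut.conj (⟨g, hgH⟩ : H)).symm x : H) : G) * g⁻¹ = (x : G) := by
      simp [MulAut.conj_symm_apply, mul_assoc]
    rw [this]
  rw [hmap] at hP₁c'
  have hNNH : Subgroup.normalizer (P₂ : Set G) ≤ H := hH ▸ normalizer_le_of_inf_eq N Q hP₂N
  obtain ⟨ζ₁, rfl⟩ := hind₁.1
  obtain ⟨ζ₂, rfl⟩ := hind₂.1
  haveI : Fintype ↥(Subgroup.normalizer (P₂ : Set G)) := Fintype.ofFinite _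
  haveI : Fintype ↥((Subgroup.normalizer (P₂ : Set G)).subgroupOf H) := Fintype.ofFinite _
  obtain ⟨θ₁, hθ₁def, hθ₁ind, hθ₁H⟩ := exists_down_trans H P₂ hM hP₂H hNNH ζ₁ χ₀ hP₁c' hind₁
  obtain ⟨θ₂, hθ₂def, hθ₂ind, hθ₂H⟩ := exists_down_trans H P₂ hM hP₂H hNNH ζ₂ χ₀ hP₂c hind₂
  have hP₂p : IsPGroup p P₂ := isPGroup_of_isDefectGroup hP₂B
  have hb := block_down_unique P₂ (Subgroup.normalizer (P₂ : Set G)) rfl hM hP₂p χ₀ θ₁ θ₂
    hθ₂def hθ₁ind hθ₂ind
  have hb' : blockOf M (irrEquiv (Subgroup.subgroupOfEquivOfLe hNNH) θ₁ :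
        ↥((Subgroup.normalizer (P₂ : Set G)).subgroupOf H) → ℂ) =
      blockOf M (irrEquiv (Subgroup.subgroupOfEquivOfLe hNNH) θ₂ :
        ↥((Subgroup.normalizer (P₂ : Set G)).subgroupOf H) → ℂ) := by
    rw [← image_blockOf_irrEquiv, ← image_blockOf_irrEquiv, hb]
  rw [hb'] at hθ₁H
  exact isInducedBlock_unique _ hθ₁H hθ₂H

/-- **Harris–Knörr, the forward map.** A block of `H` covering `e` induces a block of `G`, which
covers `d`. -/
theorem exists_induced_covering (hM : IsPModular p M) (hQ : IsPGroup p Q)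
    (H : Subgroup G) (hH : H = Subgroup.normalizer (Q : Set G))
    [Fintype ↥H] [Fintype ↥(H ⊓ N)]
    {d : Set (IrrCharacter N)} {e : Set (IrrCharacter ↥(H ⊓ N))}
    (hed : IsInducedBlockIn M N (H ⊓ N) e d)
    {c : Set (IrrCharacter ↥H)} (hc : IsPBlock M c)
    (hcov : ∃ ψ ∈ c, ∃ ξ ∈ e, classInner
        (fun l : ↥(H ⊓ N) => (ψ : ↥H → ℂ) (Subgroup.inclusion inf_le_left l))
        (ξ : ↥(H ⊓ N) → ℂ) ≠ 0) :
    ∃ B : Set (IrrCharacter G), IsInducedBlock M H c B ∧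
      ∃ χ ∈ B, ∃ θ ∈ d, classInner (fun n : N => (χ : G → ℂ) n) (θ : N → ℂ) ≠ 0 := by
  classical
  haveI hP := isPrime_of_isPModular hM
  obtain ⟨ψ₀, rfl⟩ := hc
  obtain ⟨χ₀, hind⟩ := exists_isInducedBlock Q H hM hQ (hH ▸ Subgroup.le_normalizer)
    (hH ▸ Subgroup.centralizer_le_normalizer _) (le_of_eq hH) ψ₀
  exact ⟨_, hind, covers_of_induced N hM H hind hcov hed⟩


end Main

end Cfsg.Agent.Lib.L0.HarrisKnorr
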