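import Cfsg.Agent.Lib.L0.TransferBasic
import Cfsg.Agent.Lib.H16.SylowBasic
import Cfsg.Agent.Lib.H16.SylowMore

/-!
# Fusion controlled by a weakly closed central subgroup (lead's library)
-/

set_option autoImplicit false

namespace Cfsg.Agent.Lib.L0

open scoped commutatorElement

variable {G : Type*} [Group G]

/-- Two `p`-subgroups `A, B` of a subgroup `C` can be moved into a common Sylow `p`-subgroup of `G`
after conjugating `B` by an element of `C`. -/
theorem exists_common_sylow_conj [Finite G] {p : ℕ} [Fact p.Prime] (C A B : Subgroup G)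
    (hA : IsPGroup p A) (hB : IsPGroup p B) (hAC : A ≤ C) (hBC : B ≤ C) (P : Sylow p G) :
    ∃ c ∈ C, ∃ g : G, (∀ a ∈ A, g * a * g⁻¹ ∈ (P : Subgroup G)) ∧
      (∀ b ∈ B, g * (c * b * c⁻¹) * g⁻¹ ∈ (P : Subgroup G)) := by
  have hA' : IsPGroup p (A.subgroupOf C) := hA.comap_subtype
  have hB' : IsPGroup p (B.subgroupOf C) := hB.comap_subtype
  obtain ⟨S1, hS1⟩ := hA'.exists_le_sylow
  obtain ⟨S2, hS2⟩ := hB'.exists_le_sylow
  obtain ⟨c, hc⟩ := MulAction.exists_smul_eq C S2 S1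
  have hD : IsPGroup p ((S1 : Subgroup C).map C.subtype) := S1.2.map _
  obtain ⟨g, hg⟩ := Cfsg.Agent.Lib.H16.exists_conj_mem_sylow _ hD P
  refine ⟨c, c.2, g, ?_, ?_⟩
  · intro a ha
    apply hg
    exact ⟨⟨a, hAC ha⟩, hS1 (by rw [Subgroup.mem_subgroupOf]; exact ha), rfl⟩
  · intro b hb
    apply hg
    refine ⟨c * ⟨b, hBC hb⟩ * c⁻¹, ?_, rfl⟩
    have hb2 : (⟨b, hBC hb⟩ : C) ∈ (S2 : Subgroup C) :=
      hS2 (by rw [Subgroup.mem_subgroupOf]; exact hb)
    rw [SetLike.mem_coe, ← hc, Cfsg.Agent.Lib.H16.mem_sylow_smul_iff]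
    have : c⁻¹ * (c * ⟨b, hBC hb⟩ * c⁻¹) * c = ⟨b, hBC hb⟩ := by group
    rw [this]
    exact hb2

/-- If `Z ≤ Z(P)` is weakly closed in the Sylow subgroup `P`, then `N_G(Z)` controls fusion of
elements of `P`. -/
theorem wc_fusion [Finite G] {p : ℕ} [Fact p.Prime] (P : Sylow p G) (Z : Subgroup G)
    (hZ : Z ≤ Subgroup.centralizer (P : Set G)) (hW : Cfsg.IsWeaklyClosed Z P)
    (x y : G) (_hx : x ∈ P) (hy : y ∈ P) (u : G) (hu : u * x * u⁻¹ = y) :
    ∃ n ∈ Subgroup.normalizer (Z : Set G), n * x * n⁻¹ = y := by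
  have hZP : Z ≤ (P : Subgroup G) := hW.1
  have hZp : IsPGroup p Z := P.2.to_le hZP
  have hZC : Z ≤ Subgroup.centralizer ({y} : Set G) := by
    intro z hz
    rw [Subgroup.mem_centralizer_iff]
    intro w hw
    rw [Set.mem_singleton_iff] at hw
    subst hw
    have := hZ hz
    rw [Subgroup.mem_centralizer_iff] at this
    exact this w hy
  have hBC : Cfsg.Agent.Lib.H16.cj u Z ≤ Subgroup.centralizer ({y} : Set G) := by
    intro w hw
    rw [Cfsg.Agent.Lib.H16.mem_cj_iff] at hw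
    rw [Subgroup.mem_centralizer_iff]
    intro w' hw'
    rw [Set.mem_singleton_iff] at hw'
    subst hw'
    have hxP : x ∈ (P : Subgroup G) := _hx
    have h1 := hZ hw
    rw [Subgroup.mem_centralizer_iff] at h1
    have h2 : x * (u⁻¹ * w * u) = (u⁻¹ * w * u) * x := h1 x hxP
    rw [← hu]
    calc u * x * u⁻¹ * w = u * (x * (u⁻¹ * w * u)) * u⁻¹ := by group
      _ = u * ((u⁻¹ * w * u) * x) * u⁻¹ := by rw [h2]
      _ = w * (u * x * u⁻¹) := by group
  obtain ⟨c, hc, g, hgA, hgB⟩ := exists_common_sylow_conj (Subgroup.centralizer ({y} : Set G)) Z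
    (Cfsg.Agent.Lib.H16.cj u Z) hZp (hZp.map _) hZC hBC P
  have hg : g ∈ Subgroup.normalizer (Z : Set G) := by
    apply Cfsg.Agent.Lib.H16.mem_normalizer_of_map_conj_eq
    apply hW.2
    intro w hw
    obtain ⟨a, ha, rfl⟩ := hw
    exact hgA a ha
  have hgcu : g * c * u ∈ Subgroup.normalizer (Z : Set G) := by
    apply Cfsg.Agent.Lib.H16.mem_normalizer_of_map_conj_eq
    apply hW.2
    intro w hw
    obtain ⟨a, ha, rfl⟩ := hw
    have := hgB (u * a * u⁻¹) (Cfsg.Agent.Lib.H16.conj_mem_cj u Z a ha)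
    have e : (MulAut.conj (g * c * u)).toMonoidHom a = g * (c * (u * a * u⁻¹) * c⁻¹) * g⁻¹ := by
      simp only [MulEquiv.coe_toMonoidHom, MulAut.conj_apply]
      group
    rw [e]
    exact this
  refine ⟨c * u, ?_, ?_⟩
  · have : c * u = g⁻¹ * (g * c * u) := by group
    rw [this]
    exact Subgroup.mul_mem _ (Subgroup.inv_mem _ hg) hgcu
  · have h1 : c * u * x * (c * u)⁻¹ = c * (u * x * u⁻¹) * c⁻¹ := by group
    rw [h1, hu]
    rw [Subgroup.mem_centralizer_iff] at hc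
    have := hc y (Set.mem_singleton y)
    rw [← this, mul_assoc, mul_inv_cancel, mul_one]

end Cfsg.Agent.Lib.L0
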