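import Cfsg.Agent.Lib.L0.Tate
import Cfsg.Agent.Lib.H6.PResidual2

/-!
# Tate's theorem, general form (lead's library)

* `tate_split` : for `K = O^p(G)`-like `K` and `[D, P] ≤ D₁ ≤ D = K ∩ P`, `D/D₁` has a complement in
  `P/D₁`.
* `tate_general` : if `P ≤ V ≤ G` and `P ∩ G' ≤ V'` then `P ∩ O^p(G) ≤ O^p(V)`.
-/

set_option autoImplicit false

namespace Cfsg.Agent.Lib.L0

open scoped commutatorElement

/-- Splitting form of Tate's argument. -/
theorem tate_split {G : Type*} [Group G] [Finite G] {p : ℕ} [hp : Fact p.Prime] (P : Sylow p G)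
    (K : Subgroup G) [hK : K.Normal] (hKP : K ⊔ (P : Subgroup G) = ⊤)
    (hgen : K ≤ Subgroup.closure {g : G | g ∈ K ∧ (orderOf g).Coprime p})
    (D₁ : Subgroup (P : Subgroup G)) [hD₁n : D₁.Normal]
    (h1 : ⁅K.subgroupOf (P : Subgroup G), (⊤ : Subgroup (P : Subgroup G))⁆ ≤ D₁)
    (hD₁D : D₁ ≤ K.subgroupOf (P : Subgroup G)) :
    ∃ Es : Subgroup ((P : Subgroup G) ⧸ D₁),
      Es ⊔ (K.subgroupOf (P : Subgroup G)).map (QuotientGroup.mk' D₁) = ⊤ ∧
      Es ⊓ (K.subgroupOf (P : Subgroup G)).map (QuotientGroup.mk' D₁) = ⊥ ∧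
      (K.subgroupOf (P : Subgroup G)).map (QuotientGroup.mk' D₁)
        ≤ Subgroup.center ((P : Subgroup G) ⧸ D₁) := by
  classical
  obtain ⟨D, hDdef⟩ : ∃ D : Subgroup (P : Subgroup G), D = K.subgroupOf P := ⟨_, rfl⟩
  rw [← hDdef] at h1 hD₁D ⊢
  have hDmem : ∀ s : (P : Subgroup G), s ∈ D ↔ s.1 ∈ K := by
    intro s; rw [hDdef, Subgroup.mem_subgroupOf]
  have hD₁ker : D₁ ≤ ((QuotientGroup.mk' K).comp (P : Subgroup G).subtype).ker := by
    intro s hs
    rw [MonoidHom.mem_ker]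
    show (QuotientGroup.mk' K) s.1 = 1
    rw [QuotientGroup.mk'_apply, QuotientGroup.eq_one_iff]
    exact (hDmem s).mp (hD₁D hs)
  obtain ⟨α, hα⟩ : ∃ α : G →* G ⧸ K, α = QuotientGroup.mk' K := ⟨_, rfl⟩
  obtain ⟨β, hβ⟩ : ∃ β : (P : Subgroup G) ⧸ D₁ →* G ⧸ K,
      β = QuotientGroup.lift D₁ ((QuotientGroup.mk' K).comp (P : Subgroup G).subtype) hD₁ker :=
    ⟨_, rfl⟩
  obtain ⟨ι, hιdef⟩ : ∃ ι : (P : Subgroup G) →* (P : Subgroup G) ⧸ D₁, ι = QuotientGroup.mk' D₁ :=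
    ⟨_, rfl⟩
  rw [← hιdef]
  have hι : ∀ x : (P : Subgroup G), β (ι x) = α x := by
    intro x; rw [hβ, hιdef, hα]; rfl
  have hιsurj : Function.Surjective ι := hιdef ▸ QuotientGroup.mk'_surjective D₁
  have hαker : ∀ g : G, α g = 1 ↔ g ∈ K := by
    intro g; rw [hα, QuotientGroup.mk'_apply, QuotientGroup.eq_one_iff]
  have hE : IsPGroup p ((P : Subgroup G) ⧸ D₁) := P.isPGroup'.to_quotient D₁
  have hkerD : β.ker = D.map ι := by
    ext e
    constructor
    · intro he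
      obtain ⟨s, rfl⟩ := hιsurj e
      refine ⟨s, ?_, rfl⟩
      rw [MonoidHom.mem_ker, hι, hαker] at he
      exact (hDmem s).mpr he
    · rintro ⟨d, hd, rfl⟩
      rw [MonoidHom.mem_ker, hι, hαker]
      exact (hDmem d).mp hd
  have hker : β.ker ≤ Subgroup.center ((P : Subgroup G) ⧸ D₁) := by
    rw [hkerD]
    rintro _ ⟨d, hd, rfl⟩
    rw [Subgroup.mem_center_iff]
    intro g
    obtain ⟨t, rfl⟩ := hιsurj g
    rw [← map_mul, ← map_mul, hιdef, QuotientGroup.mk'_apply, QuotientGroup.mk'_apply,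
      QuotientGroup.eq]
    apply h1
    have : (t * d)⁻¹ * (d * t) = ⁅d⁻¹, t⁻¹⁆ := by
      rw [commutatorElement_def]; group
    rw [this]
    exact Subgroup.commutator_mem_commutator (D.inv_mem hd) (Subgroup.mem_top _)
  have hGE : ∀ g : G, ∃ e : (P : Subgroup G) ⧸ D₁, β e = α g := by
    intro g
    have hg : g ∈ K ⊔ (P : Subgroup G) := hKP ▸ Subgroup.mem_top g
    obtain ⟨k, hk, x, hx, rfl⟩ := Subgroup.mem_sup_of_normal_left.mp hg
    refine ⟨ι ⟨x, hx⟩, ?_⟩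
    rw [hι, map_mul, (hαker k).mpr hk, one_mul]
  have hEG : ∀ e : (P : Subgroup G) ⧸ D₁, ∃ g : G, α g = β e := by
    intro e
    obtain ⟨s, rfl⟩ := hιsurj e
    exact ⟨s.1, (hι s).symm⟩
  have hαk : α.ker = K := by rw [hα, QuotientGroup.ker_mk']
  have hgen' : α.ker ≤ Subgroup.closure {g : G | g ∈ α.ker ∧ (orderOf g).Coprime p} := by
    rw [hαk]; exact hgen
  obtain ⟨Es, hsup, hinf⟩ := exists_complement_ker_of_sylow_splitting α β (P : Subgroup G) ι
    P.not_dvd_index hι hE hker hGE hEG hgen'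
  rw [hkerD] at hsup hinf hker
  exact ⟨Es, hsup, hinf, hker⟩

/-- In a nilpotent group, normal subgroups `M ≤ N` with `N ≤ M ⊔ [N, G]` are equal. -/
theorem le_of_le_sup_commutator_top {S : Type*} [Group S] [hS : Group.IsNilpotent S]
    (M N : Subgroup S) [hM : M.Normal] (h : N ≤ M ⊔ ⁅N, (⊤ : Subgroup S)⁆) : N ≤ M := by
  have h1 : N.map (QuotientGroup.mk' M)
      ≤ ⁅N.map (QuotientGroup.mk' M), (⊤ : Subgroup (S ⧸ M))⁆ := by
    calc N.map (QuotientGroup.mk' M)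
        ≤ (M ⊔ ⁅N, (⊤ : Subgroup S)⁆).map (QuotientGroup.mk' M) := Subgroup.map_mono h
      _ = ⁅N.map (QuotientGroup.mk' M), (⊤ : Subgroup (S ⧸ M))⁆ := by
        rw [Subgroup.map_sup, QuotientGroup.map_mk'_self, bot_sup_eq, Subgroup.map_commutator,
          Subgroup.map_top_of_surjective _ (QuotientGroup.mk'_surjective M)]
  have h2 := eq_bot_of_le_commutator_top _ h1
  intro x hx
  have : (QuotientGroup.mk' M) x ∈ N.map (QuotientGroup.mk' M) := Subgroup.mem_map_of_mem _ hx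
  rw [h2, Subgroup.mem_bot, QuotientGroup.mk'_apply, QuotientGroup.eq_one_iff] at this
  exact this

/-- **Tate's theorem, general form**: if `P ≤ V` and `P ∩ G' ≤ V'` then `P ∩ O^p(G) ≤ O^p(V)`. -/
theorem tate_general {G : Type*} [Group G] [Finite G] {p : ℕ} [hp : Fact p.Prime] (P : Sylow p G)
    (V : Subgroup G) (hPV : (P : Subgroup G) ≤ V)
    (hfocal : commutator G ⊓ (P : Subgroup G) ≤ ⁅V, V⁆) :
    Cfsg.pResidual p G ⊓ (P : Subgroup G) ≤ (Cfsg.pResidual p V).map V.subtype := by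
  classical
  haveI hKn : (Cfsg.pResidual p G).Normal := Cfsg.Agent.Lib.H14.pResidual_normal'
  have hsup := Cfsg.Agent.Lib.H14.pResidual_sup_sylow P
  have hgen : Cfsg.pResidual p G ≤ Subgroup.closure
      {g : G | g ∈ Cfsg.pResidual p G ∧ (orderOf g).Coprime p} := by
    conv_lhs => unfold Cfsg.pResidual
    apply Subgroup.closure_mono
    intro g hg
    exact ⟨Subgroup.subset_closure hg, hg⟩
  obtain ⟨K, hKdef⟩ : ∃ K : Subgroup G, K = Cfsg.pResidual p G := ⟨_, rfl⟩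
  rw [← hKdef] at hKn hsup hgen ⊢
  haveI hL₀n : (Cfsg.pResidual p V).Normal := Cfsg.Agent.Lib.H14.pResidual_normal'
  obtain ⟨L, hLdef⟩ : ∃ L : Subgroup G, L = (Cfsg.pResidual p V).map V.subtype := ⟨_, rfl⟩
  rw [← hLdef]
  have hLK : L ≤ K := by
    rw [hLdef, hKdef]; exact Cfsg.Agent.Lib.H6.map_pResidual_le p V
  have hLV : L ≤ V := hLdef ▸ Subgroup.map_subtype_le _
  have hLmem : ∀ v : V, v.1 ∈ L ↔ v ∈ Cfsg.pResidual p V := by
    intro v
    rw [hLdef]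
    constructor
    · rintro ⟨w, hw, hwv⟩
      have : w = v := Subtype.ext hwv
      rw [← this]; exact hw
    · intro hv; exact ⟨v, hv, rfl⟩
  -- `D_V` is normal in `P`
  haveI hDVn : (L.subgroupOf (P : Subgroup G)).Normal := by
    constructor
    intro s hs t
    rw [Subgroup.mem_subgroupOf] at hs ⊢
    have hsV : s.1 ∈ V := hPV s.2
    have htV : t.1 ∈ V := hPV t.2
    have h1 : (⟨s.1, hsV⟩ : V) ∈ Cfsg.pResidual p V := (hLmem ⟨s.1, hsV⟩).mp hs
    have h2 := hL₀n.conj_mem _ h1 ⟨t.1, htV⟩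
    exact (hLmem _).mpr h2
  haveI hDn : (K.subgroupOf (P : Subgroup G)).Normal := Subgroup.normal_subgroupOf
  obtain ⟨D, hDdef⟩ : ∃ D : Subgroup (P : Subgroup G), D = K.subgroupOf P := ⟨_, rfl⟩
  obtain ⟨DV, hDVdef⟩ : ∃ DV : Subgroup (P : Subgroup G), DV = L.subgroupOf P := ⟨_, rfl⟩
  rw [← hDdef] at hDn
  rw [← hDVdef] at hDVn
  have hDVD : DV ≤ D := by
    intro s hs
    rw [hDVdef, Subgroup.mem_subgroupOf] at hs
    rw [hDdef, Subgroup.mem_subgroupOf]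
    exact hLK hs
  obtain ⟨D₁, hD₁def⟩ : ∃ D₁ : Subgroup (P : Subgroup G),
      D₁ = DV ⊔ ⁅D, (⊤ : Subgroup (P : Subgroup G))⁆ := ⟨_, rfl⟩
  haveI hcn : (⁅D, (⊤ : Subgroup (P : Subgroup G))⁆).Normal := Subgroup.commutator_normal D ⊤
  haveI hD₁n : D₁.Normal := hD₁def ▸ Subgroup.sup_normal DV _
  have hD₁D : D₁ ≤ D := hD₁def ▸ sup_le hDVD (Subgroup.commutator_le_left D ⊤)
  have h1 : ⁅D, (⊤ : Subgroup (P : Subgroup G))⁆ ≤ D₁ := hD₁def ▸ le_sup_right
  obtain ⟨Es, hEsup, hEinf, hEcen⟩ := tate_split P K hsup hgen D₁ (hDdef ▸ h1) (hDdef ▸ hD₁D)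
  rw [← hDdef] at hEsup hEinf hEcen
  -- `commutator E ≤ Es`
  have hcommEs : commutator ((P : Subgroup G) ⧸ D₁) ≤ Es := by
    rw [commutator_def, Subgroup.commutator_le]
    intro a _ b _
    have ha : a ∈ Es ⊔ D.map (QuotientGroup.mk' D₁) := hEsup ▸ Subgroup.mem_top a
    have hb : b ∈ Es ⊔ D.map (QuotientGroup.mk' D₁) := hEsup ▸ Subgroup.mem_top b
    haveI : (D.map (QuotientGroup.mk' D₁)).Normal :=
      hDn.map _ (QuotientGroup.mk'_surjective D₁)
    obtain ⟨a₁, ha₁, z₁, hz₁, rfl⟩ := Subgroup.mem_sup_of_normal_right.mp ha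
    obtain ⟨b₁, hb₁, z₂, hz₂, rfl⟩ := Subgroup.mem_sup_of_normal_right.mp hb
    have c1 := Subgroup.mem_center_iff.mp (hEcen hz₁)
    have c2 := Subgroup.mem_center_iff.mp (hEcen hz₂)
    have : ⁅a₁ * z₁, b₁ * z₂⁆ = ⁅a₁, b₁⁆ := by
      rw [commutatorElement_def, commutatorElement_def]
      have e1 : (a₁ * z₁)⁻¹ = z₁⁻¹ * a₁⁻¹ := mul_inv_rev _ _
      have e2 : (b₁ * z₂)⁻¹ = z₂⁻¹ * b₁⁻¹ := mul_inv_rev _ _
      rw [e1, e2]
      calc a₁ * z₁ * (b₁ * z₂) * (z₁⁻¹ * a₁⁻¹) * (z₂⁻¹ * b₁⁻¹)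
          = a₁ * (z₁ * b₁) * (z₂ * z₁⁻¹) * a₁⁻¹ * (z₂⁻¹ * b₁⁻¹) := by group
        _ = a₁ * (b₁ * z₁) * (z₁⁻¹ * z₂) * a₁⁻¹ * (z₂⁻¹ * b₁⁻¹) := by
            rw [c1 b₁, ← c2 z₁⁻¹]
        _ = a₁ * b₁ * (z₂ * a₁⁻¹) * (z₂⁻¹ * b₁⁻¹) := by group
        _ = a₁ * b₁ * (a₁⁻¹ * z₂) * (z₂⁻¹ * b₁⁻¹) := by rw [c2 a₁⁻¹]
        _ = a₁ * b₁ * a₁⁻¹ * b₁⁻¹ := by group
    rw [this]
    exact Subgroup.commutator_mem_commutator ha₁ hb₁ |> fun h =>
      (Subgroup.commutator_le_self Es) h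
  -- `D ≤ commutator P ⊔ DV`
  have hDle : D ≤ commutator (P : Subgroup G) ⊔ DV := by
    intro d hd
    have hdK : d.1 ∈ K := by rw [hDdef, Subgroup.mem_subgroupOf] at hd; exact hd
    obtain ⟨k, hk⟩ := P.isPGroup' d
    have hk' : d.1 ^ p ^ k = 1 := by
      have := congrArg Subtype.val hk
      simpa using this
    have h2 : d.1 ∈ commutator G :=
      Cfsg.Agent.Lib.H6.mem_commutator_of_mem_pResidual_sup p d.1 k hk'
        (Subgroup.mem_sup_left (hKdef ▸ hdK))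
    have h3 : d.1 ∈ ⁅V, V⁆ := hfocal ⟨h2, d.2⟩
    rw [← Subgroup.map_subtype_commutator] at h3
    obtain ⟨v, hv, hvd⟩ := h3
    -- the map `ρ_P : P → V ⧸ O^p(V)`
    let ρ : (P : Subgroup G) →* V ⧸ Cfsg.pResidual p V :=
      (QuotientGroup.mk' (Cfsg.pResidual p V)).comp (Subgroup.inclusion hPV)
    have hρsurj : Function.Surjective ρ := by
      intro q
      obtain ⟨w, rfl⟩ := QuotientGroup.mk'_surjective _ q
      have hPVsyl := Cfsg.Agent.Lib.H14.pResidual_sup_sylow (P.subtype hPV)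
      have hw : w ∈ Cfsg.pResidual p V ⊔ ((P.subtype hPV : Sylow p V) : Subgroup V) :=
        hPVsyl ▸ Subgroup.mem_top w
      obtain ⟨l, hl, x, hx, rfl⟩ := Subgroup.mem_sup_of_normal_left.mp hw
      have hxP : x.1 ∈ (P : Subgroup G) := by
        rw [Sylow.coe_subtype, Subgroup.mem_subgroupOf] at hx; exact hx
      refine ⟨⟨x.1, hxP⟩, ?_⟩
      show (QuotientGroup.mk' (Cfsg.pResidual p V)) (Subgroup.inclusion hPV ⟨x.1, hxP⟩) = _
      have hl1 : (QuotientGroup.mk' (Cfsg.pResidual p V)) l = 1 := by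
        rw [QuotientGroup.mk'_apply]; exact (QuotientGroup.eq_one_iff l).mpr hl
      rw [map_mul, hl1, one_mul]
      rfl
    have hρv : (QuotientGroup.mk' (Cfsg.pResidual p V)) v ∈ (commutator (P : Subgroup G)).map ρ := by
      have h4 : (QuotientGroup.mk' (Cfsg.pResidual p V)) v
          ∈ (commutator V).map (QuotientGroup.mk' (Cfsg.pResidual p V)) :=
        Subgroup.mem_map_of_mem _ hv
      rw [commutator_def, Subgroup.map_commutator,
        Subgroup.map_top_of_surjective _ (QuotientGroup.mk'_surjective _)] at h4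
      rw [commutator_def, Subgroup.map_commutator, Subgroup.map_top_of_surjective _ hρsurj]
      exact h4
    obtain ⟨c, hc, hcv⟩ := hρv
    have hvd' : Subgroup.inclusion hPV d = v := Subtype.ext hvd.symm
    have h5 : d * c⁻¹ ∈ DV := by
      rw [hDVdef, Subgroup.mem_subgroupOf]
      have h6 : (Subgroup.inclusion hPV (d * c⁻¹)) ∈ Cfsg.pResidual p V := by
        rw [← QuotientGroup.eq_one_iff, ← QuotientGroup.mk'_apply]
        show ρ (d * c⁻¹) = 1
        rw [map_mul, map_inv, hcv]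
        show (QuotientGroup.mk' (Cfsg.pResidual p V)) (Subgroup.inclusion hPV d) * _ = 1
        rw [hvd', mul_inv_cancel]
      exact (hLmem _).mpr h6
    have : d = c * (c⁻¹ * (d * c⁻¹) * c) := by group
    rw [this]
    exact Subgroup.mul_mem_sup hc (hDVn.conj_mem _ h5 c⁻¹ |> fun h => by simpa using h)
  -- conclusion
  have hπD : D.map (QuotientGroup.mk' D₁) ≤ Es := by
    calc D.map (QuotientGroup.mk' D₁)
        ≤ (commutator (P : Subgroup G) ⊔ DV).map (QuotientGroup.mk' D₁) := Subgroup.map_mono hDle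
      _ ≤ commutator ((P : Subgroup G) ⧸ D₁) := by
          rw [Subgroup.map_sup]
          apply sup_le
          · rw [commutator_def, Subgroup.map_commutator, commutator_def]
            exact Subgroup.commutator_mono le_top le_top
          · rw [Subgroup.map_le_iff_le_comap]
            intro s hs
            rw [Subgroup.mem_comap, QuotientGroup.mk'_apply,
              (QuotientGroup.eq_one_iff s).mpr (hD₁def ▸ Subgroup.mem_sup_left hs)]
            exact Subgroup.one_mem _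
      _ ≤ Es := hcommEs
  have hDD₁ : D ≤ D₁ := by
    intro d hd
    have h2 : (QuotientGroup.mk' D₁) d ∈ Es ⊓ D.map (QuotientGroup.mk' D₁) :=
      ⟨hπD (Subgroup.mem_map_of_mem _ hd), Subgroup.mem_map_of_mem _ hd⟩
    rw [hEinf, Subgroup.mem_bot, QuotientGroup.mk'_apply, QuotientGroup.eq_one_iff] at h2
    exact h2
  haveI : Group.IsNilpotent (P : Subgroup G) := P.isPGroup'.isNilpotent
  have hDDV : D ≤ DV := le_of_le_sup_commutator_top DV D (hD₁def ▸ hDD₁)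
  intro x hx
  have : (⟨x, hx.2⟩ : (P : Subgroup G)) ∈ D := by
    rw [hDdef, Subgroup.mem_subgroupOf]; exact hx.1
  have := hDDV this
  rw [hDVdef, Subgroup.mem_subgroupOf] at this
  exact this

end Cfsg.Agent.Lib.L0
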