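import Cfsg.Agent.Lib.L0.CharSpecialKer

/-!
# Weighted counts of products of two conjugates (lead's library)

* `sum_mul_card_pairs` : `∑_{y ∈ C} φ(y) #{(u,v) ∈ cl(z)² : uv = y}
    = |cl z|²/|G| · |C| · ∑_χ χ(z)²/χ(1) ⟨Ind φ, χ⟩`.
* `finsum_mul_classInner_decomp` : for `Θ = 1 + χ₂ - χ₁`,
  `∑_χ F χ ⟨Θ, χ⟩ = F 1 + F χ₂ - F χ₁`.
-/

set_option autoImplicit false

namespace Cfsg.Agent.Lib.L0

open Cfsg
open scoped ComplexConjugate

variable {G : Type*} [Group G] [Fintype G]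

theorem sum_mul_card_pairs (C : Subgroup G) [Fintype C] (φ : C → ℂ) (z : G) :
    ∑ y : C, φ y *
        (Nat.card {p : G × G // IsConj z p.1 ∧ IsConj z p.2 ∧ p.1 * p.2 = (y : G)} : ℂ)
      = (Nat.card {x : G // IsConj z x} : ℂ) * (Nat.card {x : G // IsConj z x} : ℂ)
          / (Nat.card G : ℂ)
        * ((Nat.card C : ℂ) * ∑ᶠ χ : IrrCharacter G,
            (χ : G → ℂ) z * (χ : G → ℂ) z / (χ : G → ℂ) 1
              * classInner (indFun C φ) (χ : G → ℂ)) := by
  classical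
  have := Fintype.ofFinite (IrrCharacter G)
  rw [finsum_eq_sum_of_fintype]
  have hC : (Nat.card C : ℂ) ≠ 0 := by exact_mod_cast (Nat.card_pos (α := C)).ne'
  have hswap : ∑ y : C, φ y * ∑ χ : IrrCharacter G,
      (χ : G → ℂ) z * (χ : G → ℂ) z * conj ((χ : G → ℂ) y) / (χ : G → ℂ) 1
      = (Nat.card C : ℂ) * ∑ χ : IrrCharacter G, (χ : G → ℂ) z * (χ : G → ℂ) z / (χ : G → ℂ) 1
        * classInner (indFun C φ) (χ : G → ℂ) := by
    simp only [Finset.mul_sum]
    rw [Finset.sum_comm]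
    refine Finset.sum_congr rfl fun χ _ => ?_
    rw [frobenius_reciprocity C φ _ (isClassFunction_of_isCharacter (isCharacter_of_irr χ.2))]
    unfold classInner
    rw [Finset.mul_sum, Finset.mul_sum, Finset.mul_sum]
    refine Finset.sum_congr rfl fun y _ => ?_
    have hC' : (Fintype.card C : ℂ) ≠ 0 := by
      rw [← Nat.card_eq_fintype_card]; exact hC
    rw [Nat.card_eq_fintype_card]
    field_simp
  rw [← hswap, Finset.mul_sum]
  refine Finset.sum_congr rfl fun y _ => ?_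
  rw [Cfsg.Agent.S0840.result z z (y : G), finsum_eq_sum_of_fintype]
  ring

theorem finsum_mul_classInner_decomp {χ₁ χ₂ : G → ℂ} (h1 : IsIrrCharacter G χ₁)
    (h2 : IsIrrCharacter G χ₂) (Θ : G → ℂ) (hΘ : Θ = 1 + χ₂ - χ₁)
    (F : IrrCharacter G → ℂ) :
    ∑ᶠ χ : IrrCharacter G, F χ * classInner Θ (χ : G → ℂ)
      = F ⟨1, isIrrCharacter_one⟩ + F ⟨χ₂, h2⟩ - F ⟨χ₁, h1⟩ := by
  classical
  have := Fintype.ofFinite (IrrCharacter G)
  have i1 : IsIrrCharacter G (1 : G → ℂ) := isIrrCharacter_one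
  rw [finsum_eq_sum_of_fintype, hΘ]
  have hinner : ∀ χ : IrrCharacter G, classInner (1 + χ₂ - χ₁) (χ : G → ℂ)
      = (if (⟨1, i1⟩ : IrrCharacter G) = χ then 1 else 0)
        + (if (⟨χ₂, h2⟩ : IrrCharacter G) = χ then 1 else 0)
        - (if (⟨χ₁, h1⟩ : IrrCharacter G) = χ then 1 else 0) := by
    intro χ
    rw [classInner_sub_left, classInner_add_left, irr_classInner_eq i1 χ.2,
      irr_classInner_eq h2 χ.2, irr_classInner_eq h1 χ.2]
    congr 1
    · congr 1
      · by_cases hc : (1 : G → ℂ) = χ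
        · rw [if_pos hc, if_pos (Subtype.ext hc)]
        · rw [if_neg hc, if_neg (fun h => hc (congrArg Subtype.val h))]
      · by_cases hc : χ₂ = χ
        · rw [if_pos hc, if_pos (Subtype.ext hc)]
        · rw [if_neg hc, if_neg (fun h => hc (congrArg Subtype.val h))]
    · by_cases hc : χ₁ = χ
      · rw [if_pos hc, if_pos (Subtype.ext hc)]
      · rw [if_neg hc, if_neg (fun h => hc (congrArg Subtype.val h))]
  simp only [hinner, mul_sub, mul_add, Finset.sum_sub_distrib, Finset.sum_add_distrib,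
    mul_ite, mul_one, mul_zero, Finset.sum_ite_eq, Finset.mem_univ, if_true]

end Cfsg.Agent.Lib.L0
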