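import Cfsg.Agent.Lib.L0.TransferPC

/-!
# Transfer into abelian Hall subgroups (lead's library)
-/

set_option autoImplicit false

namespace Cfsg.Agent.Lib.L0

open scoped commutatorElement

variable {G : Type*} [Group G]

open scoped IsMulCommutative in
/-- Transfer into an abelian subgroup `H`: a central element of `G` lying in `H ∩ G'` has
`z ^ [G:H] = 1`. -/
theorem pow_index_eq_one_of_mem_commutator_center [Finite G] (H : Subgroup G)
    [IsMulCommutative H] (z : G) (hzZ : z ∈ Subgroup.center G) (hzC : z ∈ commutator G) :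
    z ^ H.index = 1 := by
  have key : ∀ (k : ℕ) (g₀ : G), g₀⁻¹ * z ^ k * g₀ ∈ H → g₀⁻¹ * z ^ k * g₀ = z ^ k := by
    intro k g₀ _
    have h1 : z ^ k ∈ Subgroup.center G := Subgroup.pow_mem _ hzZ k
    rw [Subgroup.mem_center_iff] at h1
    rw [mul_assoc, ← h1 g₀, ← mul_assoc, inv_mul_cancel, one_mul]
  have h1 := MonoidHom.transfer_eq_pow (MonoidHom.id H) z key
  have h2 : MonoidHom.transfer (MonoidHom.id H) z = 1 :=
    (Abelianization.commutator_subset_ker (MonoidHom.transfer (MonoidHom.id H))) hzC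
  rw [h2] at h1
  exact (congrArg Subtype.val h1).symm

/-- An abelian Hall subgroup meets `G' ∩ Z(G)` trivially. -/
theorem hall_inf_commutator_inf_center [Finite G] (H : Subgroup G) (hc : IsMulCommutative H)
    (hHall : Nat.Coprime (Nat.card H) H.index) :
    H ⊓ commutator G ⊓ Subgroup.center G = ⊥ := by
  rw [eq_bot_iff]
  rintro z ⟨⟨hzH, hzC⟩, hzZ⟩
  rw [Subgroup.mem_bot]
  have h1 : z ^ H.index = 1 := pow_index_eq_one_of_mem_commutator_center H z hzZ hzC
  have h2 : z ^ Nat.card H = 1 := by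
    have := pow_card_eq_one' (G := H) (x := ⟨z, hzH⟩)
    exact congrArg Subtype.val this
  have h3 : orderOf z ∣ Nat.gcd (Nat.card H) H.index :=
    Nat.dvd_gcd (orderOf_dvd_of_pow_eq_one h2) (orderOf_dvd_of_pow_eq_one h1)
  rw [hHall.gcd_eq_one, Nat.dvd_one] at h3
  exact orderOf_eq_one_iff.mp h3

end Cfsg.Agent.Lib.L0
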