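import Mathlib
import Cfsg.Agent.S1255
import Cfsg.Agent.Lib.H5.ConjCount

/-!
# An involution whose centralizer is dihedral of order 8 (lead's library)

`D8Cent φ` : `φ : DihedralGroup 4 →* G` is injective with image the centralizer of `φ (r 2)`.
-/

set_option autoImplicit false

namespace Cfsg.Agent.Lib.L0

open DihedralGroup Subgroup

variable {G : Type*} [Group G]

/-- An injective homomorphism from `D₈` onto the centralizer of the image of the central
involution. -/
structure D8Cent (φ : DihedralGroup 4 →* G) : Prop where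
  inj : Function.Injective φ
  surj : ∀ g : G, g * φ (r 2) = φ (r 2) * g → ∃ x, φ x = g

theorem d8_central : ∀ x : DihedralGroup 4, (∀ y, x * y = y * x) → x ≠ 1 → x = r 2 := by decide

theorem d8_r2_comm : ∀ x : DihedralGroup 4, x * r 2 = r 2 * x := by decide

theorem exists_d8Cent (t : G) (ht : orderOf t = 2)
    (e : centralizer ({t} : Set G) ≃* DihedralGroup 4) :
    ∃ φ : DihedralGroup 4 →* G, D8Cent φ ∧ φ (r 2) = t := by
  have htc : t ∈ centralizer ({t} : Set G) := by
    rw [mem_centralizer_singleton_iff]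
  have ht1 : t ≠ 1 := by
    intro h; rw [h, orderOf_one] at ht; omega
  have hτ : e ⟨t, htc⟩ = r 2 := by
    apply d8_central
    · intro y
      obtain ⟨y', rfl⟩ := e.surjective y
      rw [← map_mul, ← map_mul]
      congr 1
      apply Subtype.ext
      have := y'.2
      rw [mem_centralizer_singleton_iff] at this
      simp only [Subgroup.coe_mul]
      exact this.symm
    · intro h1
      have : (⟨t, htc⟩ : centralizer ({t} : Set G)) = 1 := by
        apply e.injective; rw [h1, map_one]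
      exact ht1 (congrArg Subtype.val this)
  refine ⟨(centralizer ({t} : Set G)).subtype.comp e.symm.toMonoidHom, ⟨?_, ?_⟩, ?_⟩
  · exact (Subgroup.subtype_injective _).comp e.symm.injective
  · intro g hg
    have ht2 : (e.symm (r 2) : G) = t := by
      rw [← hτ]; simp
    simp only [MonoidHom.coe_comp, Subgroup.coe_subtype, MulEquiv.coe_toMonoidHom,
      Function.comp_apply] at hg ⊢
    rw [ht2] at hg
    have hgc : g ∈ centralizer ({t} : Set G) := by
      rw [mem_centralizer_singleton_iff]; exact hg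
    exact ⟨e ⟨g, hgc⟩, by simp⟩
  · simp only [MonoidHom.coe_comp, Subgroup.coe_subtype, MulEquiv.coe_toMonoidHom,
      Function.comp_apply]
    rw [← hτ]; simp

namespace D8Cent

variable {φ : DihedralGroup 4 →* G}

theorem comm (h : D8Cent φ) (x : DihedralGroup 4) : φ x * φ (r 2) = φ (r 2) * φ x := by
  rw [← map_mul, ← map_mul, d8_r2_comm]

theorem range_eq (h : D8Cent φ) : φ.range = centralizer ({φ (r 2)} : Set G) := by
  ext g
  rw [mem_centralizer_singleton_iff, MonoidHom.mem_range]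
  constructor
  · rintro ⟨x, rfl⟩; exact h.comm x
  · intro hg; exact h.surj g hg

theorem mem_centralizer (h : D8Cent φ) (x : DihedralGroup 4) :
    φ x ∈ centralizer ({φ (r 2)} : Set G) := by
  rw [← h.range_eq]; exact ⟨x, rfl⟩

theorem card_centralizer (h : D8Cent φ) : Nat.card (centralizer ({φ (r 2)} : Set G)) = 8 := by
  rw [← h.range_eq, ← Nat.card_congr (MonoidHom.ofInjective h.inj).toEquiv, DihedralGroup.nat_card]

theorem orderOf_eq (h : D8Cent φ) (x : DihedralGroup 4) : orderOf (φ x) = orderOf x :=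
  orderOf_injective φ h.inj x

theorem orderOf_r2 : orderOf (r 2 : DihedralGroup 4) = 2 := by
  apply orderOf_eq_prime
  · decide
  · decide

theorem orderOf_t (h : D8Cent φ) : orderOf (φ (r 2)) = 2 := by
  rw [h.orderOf_eq, orderOf_r2]

theorem t_mul_t (h : D8Cent φ) : φ (r 2) * φ (r 2) = 1 := by
  rw [← map_mul]
  have : (r 2 * r 2 : DihedralGroup 4) = 1 := by decide
  rw [this, map_one]

theorem t_ne_one (h : D8Cent φ) : φ (r 2) ≠ 1 := by
  intro h1
  have := h.orderOf_t
  rw [h1, orderOf_one] at this; omega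

/-- The centralizer of the involution is a Sylow `2`-subgroup. -/
theorem exists_sylow [Finite G] (h : D8Cent φ) :
    ∃ S : Sylow 2 G, (S : Subgroup G) = centralizer ({φ (r 2)} : Set G) := by
  haveI : Fact (Nat.Prime 2) := ⟨Nat.prime_two⟩
  have hD : IsPGroup 2 (centralizer ({φ (r 2)} : Set G)) := by
    apply IsPGroup.of_card (n := 3)
    rw [h.card_centralizer]; norm_num
  obtain ⟨S, hS⟩ := hD.exists_le_sylow
  refine ⟨S, le_antisymm ?_ hS⟩
  -- the centre of `S` is nontrivial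
  have htS : φ (r 2) ∈ (S : Subgroup G) := hS (h.mem_centralizer (r 2))
  haveI : Nontrivial (S : Subgroup G) :=
    ⟨⟨⟨φ (r 2), htS⟩, 1, fun h1 => h.t_ne_one (congrArg Subtype.val h1)⟩⟩
  haveI := S.isPGroup'.center_nontrivial
  obtain ⟨z, hz1⟩ := exists_ne (1 : Subgroup.center (S : Subgroup G))
  have hzc : ∀ s : (S : Subgroup G), s * (z : (S : Subgroup G)) = (z : (S : Subgroup G)) * s := by
    intro s
    exact (Subgroup.mem_center_iff.mp z.2 s)
  have hzG : ∀ s ∈ (S : Subgroup G), s * ((z : (S : Subgroup G)) : G) = ((z : (S : Subgroup G)) : G) * s := by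
    intro s hs
    have := congrArg Subtype.val (hzc ⟨s, hs⟩)
    simpa using this
  obtain ⟨x, hx⟩ := h.surj ((z : (S : Subgroup G)) : G) (hzG _ htS).symm
  have hx1 : x ≠ 1 := by
    intro h1
    rw [h1, map_one] at hx
    apply hz1
    apply Subtype.ext
    apply Subtype.ext
    simpa using hx.symm
  have hxc : ∀ y, x * y = y * x := by
    intro y
    apply h.inj
    rw [map_mul, map_mul, hx]
    exact (hzG _ (hS (h.mem_centralizer y))).symm
  have hx2 := d8_central x hxc hx1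
  rw [hx2] at hx
  intro s hs
  rw [mem_centralizer_singleton_iff, hx]
  exact hzG s hs

/-- With no subgroup of index `2`, all involutions are conjugate. -/
theorem isConj_of_orderOf_eq_two [Finite G] (h : D8Cent φ) (hno : ∀ H : Subgroup G, H.index ≠ 2)
    (u : G) (hu : orderOf u = 2) : IsConj (φ (r 2)) u := by
  obtain ⟨S, hS⟩ := h.exists_sylow
  have e1 : (S : Subgroup G) ≃* φ.range :=
    MulEquiv.subgroupCongr (hS.trans h.range_eq.symm)
  have e2 : φ.range ≃* DihedralGroup 4 := (MonoidHom.ofInjective h.inj).symm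
  obtain ⟨z, -, hz, -⟩ := Cfsg.Agent.S1255.main S 4 (by norm_num) (e1.trans e2)
  have h1 := hz hno u hu
  have h2 := hz hno (φ (r 2)) h.orderOf_t
  exact h2.trans h1.symm

theorem d8_inv_pairs : ∀ y₀ : DihedralGroup 4, (y₀ = r 1 ∨ y₀ = r 2 ∨ y₀ = r 3) →
    ∀ x : DihedralGroup 4, x * x = 1 → x ≠ 1 →
    (x⁻¹ * y₀) * (x⁻¹ * y₀) = 1 → x⁻¹ * y₀ ≠ 1 → ∃ i, x = sr i := by decide

theorem d8_pow_eq_r2 : ∀ y₀ : DihedralGroup 4, (y₀ = r 1 ∨ y₀ = r 2 ∨ y₀ = r 3) →
    ∃ k : Fin 3, y₀ ^ (k : ℕ) = r 2 := by decide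

theorem d8_sr_mul : ∀ (i : ZMod 4) (y₀ : DihedralGroup 4), (y₀ = r 1 ∨ y₀ = r 2 ∨ y₀ = r 3) →
    (sr i * y₀) * (sr i * y₀) = 1 ∧ sr i * y₀ ≠ 1 ∧ sr i * (sr i * y₀) = y₀ ∧ (sr i)⁻¹ = sr i := by
  decide

theorem orderOf_eq_two_of {H : Type*} [Group H] {x : H} (h1 : x * x = 1) (h2 : x ≠ 1) :
    orderOf x = 2 := by
  apply orderOf_eq_prime
  · rw [pow_two]; exact h1
  · exact h2

theorem mul_self_of_orderOf {H : Type*} [Group H] {x : H} (h : orderOf x = 2) :
    x * x = 1 ∧ x ≠ 1 := by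
  constructor
  · rw [← pow_two, ← h, pow_orderOf_eq_one]
  · intro h1; rw [h1, orderOf_one] at h; omega

/-- The number of ways of writing `a`, `a⁻¹` or `t` as a product of two involutions is `4`. -/
theorem card_pairs [Finite G] (h : D8Cent φ)
    (hconj : ∀ u : G, orderOf u = 2 → IsConj (φ (r 2)) u)
    (y₀ : DihedralGroup 4) (hy₀ : y₀ = r 1 ∨ y₀ = r 2 ∨ y₀ = r 3) :
    Nat.card {p : G × G // IsConj (φ (r 2)) p.1 ∧ IsConj (φ (r 2)) p.2 ∧ p.1 * p.2 = φ y₀}
      = 4 := by
  have h4 : Nat.card (ZMod 4) = 4 := by simp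
  suffices hs : Nat.card (ZMod 4) =
      Nat.card {p : G × G // IsConj (φ (r 2)) p.1 ∧ IsConj (φ (r 2)) p.2 ∧ p.1 * p.2 = φ y₀} by
    rw [← hs, h4]
  have hf : ∀ i : ZMod 4, IsConj (φ (r 2)) (φ (sr i)) ∧ IsConj (φ (r 2)) (φ (sr i * y₀)) ∧
      φ (sr i) * φ (sr i * y₀) = φ y₀ := by
    intro i
    obtain ⟨k1, k2, k3, -⟩ := d8_sr_mul i y₀ hy₀
    refine ⟨hconj _ ?_, hconj _ ?_, ?_⟩
    · rw [h.orderOf_eq, DihedralGroup.orderOf_sr]
    · rw [h.orderOf_eq]; exact orderOf_eq_two_of k1 k2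
    · rw [← map_mul, k3]
  apply Nat.card_eq_of_bijective (fun i : ZMod 4 => (⟨(φ (sr i), φ (sr i * y₀)), hf i⟩ :
    {p : G × G // IsConj (φ (r 2)) p.1 ∧ IsConj (φ (r 2)) p.2 ∧ p.1 * p.2 = φ y₀}))
  constructor
  · intro i j hij
    have h1 := congrArg (fun p => p.1.1) hij
    simp only at h1
    have h2 := h.inj h1
    simpa using h2
  · rintro ⟨⟨u, v⟩, hu, hv, huv⟩
    simp only at hu hv huv
    have hou : orderOf u = 2 := by
      rw [← Cfsg.Agent.Lib.H5.orderOf_eq_of_isConj hu, h.orderOf_t]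
    have hov : orderOf v = 2 := by
      rw [← Cfsg.Agent.Lib.H5.orderOf_eq_of_isConj hv, h.orderOf_t]
    obtain ⟨huu, hu1⟩ := mul_self_of_orderOf hou
    obtain ⟨hvv, hv1⟩ := mul_self_of_orderOf hov
    have hui : u⁻¹ = u := inv_eq_of_mul_eq_one_right huu
    have hvi : v⁻¹ = v := inv_eq_of_mul_eq_one_right hvv
    -- `u` inverts `y = u v`
    have hinv : u * (φ y₀) * u⁻¹ = (φ y₀)⁻¹ := by
      rw [← huv, mul_inv_rev, hui, hvi, ← mul_assoc, huu, one_mul]
    obtain ⟨k, hk⟩ := d8_pow_eq_r2 y₀ hy₀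
    have hut : u * φ (r 2) * u⁻¹ = φ (r 2) := by
      have h1 : u * φ (r 2) * u⁻¹ = (u * (φ y₀) * u⁻¹) ^ (k : ℕ) := by
        rw [conj_pow, ← map_pow, hk]
      rw [h1, hinv, inv_pow, ← map_pow, hk]
      exact inv_eq_of_mul_eq_one_right h.t_mul_t
    have hcomm : u * φ (r 2) = φ (r 2) * u := by
      have := congrArg (· * u) hut
      simpa [mul_assoc] using this
    obtain ⟨x, hx⟩ := h.surj u hcomm
    have hv' : v = φ (x⁻¹ * y₀) := by
      rw [map_mul, map_inv, hx, ← huv, ← mul_assoc, inv_mul_cancel, one_mul]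
    have hxx : x * x = 1 := by
      apply h.inj; rw [map_mul, hx, huu, map_one]
    have hx1 : x ≠ 1 := by
      intro h1; apply hu1; rw [← hx, h1, map_one]
    have hvv' : (x⁻¹ * y₀) * (x⁻¹ * y₀) = 1 := by
      apply h.inj; rw [map_mul, ← hv', hvv, map_one]
    have hv1' : x⁻¹ * y₀ ≠ 1 := by
      intro h1; apply hv1; rw [hv', h1, map_one]
    obtain ⟨i, hi⟩ := d8_inv_pairs y₀ hy₀ x hxx hx1 hvv' hv1'
    refine ⟨i, ?_⟩
    apply Subtype.ext
    obtain ⟨-, -, -, k4⟩ := d8_sr_mul i y₀ hy₀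
    simp only
    rw [hv', ← hx, hi, k4]

end D8Cent

end Cfsg.Agent.Lib.L0
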