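import Cfsg.Agent.Lib.L0.D8Cent
import Cfsg.Agent.Lib.L0.CharSpecial

/-!
# The special induction data attached to an involution with dihedral centralizer of order 8
(lead's library)
-/

set_option autoImplicit false

namespace Cfsg.Agent.Lib.L0

open DihedralGroup Subgroup

variable {G : Type*} [Group G]

namespace D8Cent

variable {φ : DihedralGroup 4 →* G}

/-- The imaginary unit as a unit of `ℂ`. -/
noncomputable def unitI : ℂˣ := Units.mk0 Complex.I Complex.I_ne_zero

theorem unitI_pow_four : unitI ^ 4 = 1 := by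
  apply Units.ext
  simp [unitI, Complex.I_pow_four]

theorem mem_zpowers_iff (x : G) :
    x ∈ zpowers (φ (r 1)) ↔ ∃ i : ZMod 4, x = φ (r i) := by
  constructor
  · rintro ⟨k, rfl⟩
    refine ⟨(k : ZMod 4), ?_⟩
    show φ (r 1) ^ k = φ (r (k : ZMod 4))
    rw [← map_zpow, r_one_zpow]
  · rintro ⟨i, rfl⟩
    refine ⟨(i.val : ℤ), ?_⟩
    show φ (r 1) ^ (i.val : ℤ) = φ (r i)
    rw [← map_zpow, r_one_zpow]
    congr 2
    simp

theorem mem_zpowers (i : ZMod 4) : φ (r i) ∈ zpowers (φ (r 1)) :=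
  (mem_zpowers_iff _).mpr ⟨i, rfl⟩

/-- The faithful linear character of the cyclic subgroup of order `4`. -/
noncomputable def lam (φ : DihedralGroup 4 →* G) (h : D8Cent φ) : zpowers (φ (r 1)) →* ℂˣ :=
  monoidHomOfForallMemZpowers (g := (⟨φ (r 1), Subgroup.mem_zpowers _⟩ : zpowers (φ (r 1))))
    (fun x => by
      obtain ⟨k, hk⟩ := x.2
      exact ⟨k, Subtype.ext (by simpa using hk)⟩)
    (g' := unitI)
    (by
      rw [Subgroup.orderOf_mk, h.orderOf_eq, DihedralGroup.orderOf_r_one]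
      exact orderOf_dvd_of_pow_eq_one unitI_pow_four)

theorem lam_gen (h : D8Cent φ) : lam φ h ⟨φ (r 1), Subgroup.mem_zpowers _⟩ = unitI := by
  unfold lam
  exact monoidHomOfForallMemZpowers_apply_gen _ _

theorem lam_apply (h : D8Cent φ) (i : ZMod 4) (hi : φ (r i) ∈ zpowers (φ (r 1))) :
    ((lam φ h ⟨φ (r i), hi⟩ : ℂˣ) : ℂ) = Complex.I ^ i.val := by
  have h1 : (⟨φ (r i), hi⟩ : zpowers (φ (r 1)))
      = (⟨φ (r 1), Subgroup.mem_zpowers _⟩ : zpowers (φ (r 1))) ^ i.val := by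
    apply Subtype.ext
    simp only [Subgroup.coe_pow]
    rw [← map_pow, r_one_pow]
    congr 2
    simp
  rw [h1, map_pow, h.lam_gen]
  simp [unitI]

theorem conj_inv_pow {H : Type*} [Group H] (g y : H) (k : ℕ) :
    (g⁻¹ * y * g) ^ k = g⁻¹ * y ^ k * g := by
  have := conj_pow (a := g⁻¹) (b := y) (i := k)
  simpa using this

theorem d8_cases : ∀ x : DihedralGroup 4, (∃ i, x = r i) ∨ ∃ i, (sr 0)⁻¹ * x = r i := by decide

theorem d8_norm : ∀ (y : DihedralGroup 4) (i : ZMod 4), ∃ j, y⁻¹ * r i * y = r j := by decide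

theorem d8_inv : ∀ i : ZMod 4, (sr 0 : DihedralGroup 4)⁻¹ * r i * sr 0 = (r i)⁻¹ := by decide

theorem d8_pow : ∀ i : ZMod 4, i ≠ 0 → ∃ k : Fin 3, (r i : DihedralGroup 4) ^ (k : ℕ) = r 2 := by
  decide

theorem d8_inv_rot : ∀ j : ZMod 4, (r j : DihedralGroup 4) * r j = 1 → r j ≠ (1 : DihedralGroup 4) →
    (r j : DihedralGroup 4) = r 2 := by decide

theorem d8_sr_ne : ∀ i : ZMod 4, (sr 0 : DihedralGroup 4) ≠ r i := by decide

theorem specialData (h : D8Cent φ) :
    SpecialData (zpowers (φ (r 1))) (centralizer ({φ (r 2)} : Set G)) (lam φ h) (φ (sr 0)) where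
  le := by
    rw [zpowers_le]; exact h.mem_centralizer _
  hb := h.mem_centralizer _
  hbC := by
    intro hmem
    obtain ⟨i, hi⟩ := (mem_zpowers_iff _).mp hmem
    exact d8_sr_ne i (h.inj hi)
  cases := by
    intro g hg
    rw [← h.range_eq] at hg
    obtain ⟨x, rfl⟩ := hg
    rcases d8_cases x with ⟨i, hi⟩ | ⟨i, hi⟩
    · left; rw [hi]; exact mem_zpowers i
    · right
      rw [← map_inv, ← map_mul, hi]; exact mem_zpowers i
  norm := by
    intro g hg x hx
    rw [← h.range_eq] at hg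
    obtain ⟨y, rfl⟩ := hg
    obtain ⟨i, rfl⟩ := (mem_zpowers_iff _).mp hx
    obtain ⟨j, hj⟩ := d8_norm y i
    rw [← map_inv, ← map_mul, ← map_mul, hj]; exact mem_zpowers j
  inv := by
    intro x hx
    obtain ⟨i, hi⟩ := (mem_zpowers_iff _).mp x.2
    have hx' : (⟨(φ (sr 0))⁻¹ * (x : G) * φ (sr 0), hx⟩ : zpowers (φ (r 1))) = x⁻¹ := by
      apply Subtype.ext
      simp only [Subgroup.coe_inv]
      rw [hi, ← map_inv, ← map_mul, ← map_mul, d8_inv, map_inv]
    rw [hx', map_inv]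
  control := by
    intro g t' hlam hmem
    obtain ⟨i, hi⟩ := (mem_zpowers_iff _).mp t'.2
    have hi0 : i ≠ 0 := by
      intro h0
      apply hlam
      have : t' = 1 := by
        apply Subtype.ext
        rw [hi, h0]
        simp
      rw [this, map_one]
    obtain ⟨k, hk⟩ := d8_pow i hi0
    have hw : g⁻¹ * φ (r 2) * g ∈ zpowers (φ (r 1)) := by
      have : g⁻¹ * φ (r 2) * g = (g⁻¹ * (t' : G) * g) ^ (k : ℕ) := by
        rw [hi, ← hk, map_pow, conj_inv_pow]
      rw [this]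
      exact pow_mem hmem _
    obtain ⟨j, hj⟩ := (mem_zpowers_iff _).mp hw
    have hjj : (r j : DihedralGroup 4) * r j = 1 := by
      apply h.inj
      rw [map_mul, ← hj, map_one]
      have := h.t_mul_t
      calc g⁻¹ * φ (r 2) * g * (g⁻¹ * φ (r 2) * g) = g⁻¹ * (φ (r 2) * φ (r 2)) * g := by group
        _ = 1 := by rw [this]; group
    have hj1 : (r j : DihedralGroup 4) ≠ 1 := by
      intro h1
      rw [h1, map_one] at hj
      apply h.t_ne_one
      have := congrArg (fun y => g * y * g⁻¹) hj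
      simpa [mul_assoc] using this
    rw [d8_inv_rot j hjj hj1] at hj
    rw [mem_centralizer_singleton_iff]
    have := congrArg (fun y => g * y) hj
    simp only [← mul_assoc, mul_inv_cancel, one_mul] at this
    exact this.symm

end D8Cent

end Cfsg.Agent.Lib.L0

namespace Cfsg.Agent.Lib.L0

open DihedralGroup Subgroup

variable {G : Type*} [Group G]

namespace D8Cent

variable {φ : DihedralGroup 4 →* G}

/-- Enumeration of the cyclic subgroup of order four. -/
noncomputable def equivZMod (h : D8Cent φ) : ZMod 4 ≃ zpowers (φ (r 1)) :=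
  Equiv.ofBijective (fun i => ⟨φ (r i), mem_zpowers i⟩) (by
    constructor
    · intro i j hij
      have h1 := h.inj (congrArg Subtype.val hij)
      simpa using h1
    · rintro ⟨x, hx⟩
      obtain ⟨i, rfl⟩ := (mem_zpowers_iff _).mp hx
      exact ⟨i, rfl⟩)

theorem sum_zpowers (h : D8Cent φ) [Fintype (zpowers (φ (r 1)))]
    (F : zpowers (φ (r 1)) → ℂ) :
    ∑ y, F y = F ⟨φ (r 0), mem_zpowers 0⟩ + F ⟨φ (r 1), mem_zpowers 1⟩
      + F ⟨φ (r 2), mem_zpowers 2⟩ + F ⟨φ (r 3), mem_zpowers 3⟩ := by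
  rw [← Equiv.sum_comp h.equivZMod F]
  exact Fin.sum_univ_four (fun i : Fin 4 => F (h.equivZMod i))

theorem card_zpowers (h : D8Cent φ) : Nat.card (zpowers (φ (r 1))) = 4 := by
  rw [Nat.card_zpowers, h.orderOf_eq, DihedralGroup.orderOf_r_one]

end D8Cent

end Cfsg.Agent.Lib.L0
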