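import Mathlib

/-!
# BG Appendix C, field part: basics

`F` is a finite field with `p ^ q` elements, `n = (p ^ q - 1) / (p - 1)`.
-/

set_option autoImplicit false

namespace Cfsg.Agent.Lib.L0.BGCF

open Finset

variable {F : Type*} [Field F] [Fintype F]

theorem nU_eq_sum (p q : ℕ) (hp : 2 ≤ p) : (p ^ q - 1) / (p - 1) = ∑ i ∈ range q, p ^ i :=
  (Nat.geomSum_eq hp q).symm

theorem pred_mul_nU (p q : ℕ) : (p - 1) * ((p ^ q - 1) / (p - 1)) = p ^ q - 1 := by
  have h : p - 1 ∣ p ^ q - 1 := by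
    have := Nat.sub_dvd_pow_sub_pow (x := p) (y := 1) (n := q)
    simpa using this
  exact Nat.mul_div_cancel' h

theorem pow_pred_le_nU (p q : ℕ) (hp : 2 ≤ p) (hq : 1 ≤ q) :
    p ^ (q - 1) ≤ (p ^ q - 1) / (p - 1) := by
  rw [nU_eq_sum p q hp]
  have : q - 1 ∈ range q := by simp; omega
  exact Finset.single_le_sum (f := fun i => p ^ i) (fun i _ => Nat.zero_le _) this

theorem nU_pos (p q : ℕ) (hp : 2 ≤ p) (hq : 1 ≤ q) : 0 < (p ^ q - 1) / (p - 1) :=
  lt_of_lt_of_le (Nat.pow_pos (by omega)) (pow_pred_le_nU p q hp hq)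

theorem charP_of_card (p q : ℕ) [hp : Fact p.Prime] (hF : Fintype.card F = p ^ q) : CharP F p := by
  obtain ⟨r, hr⟩ := CharP.exists F
  haveI := hr
  have hprime : r.Prime := by
    rcases CharP.char_is_prime_or_zero F r with h | h
    · exact h
    · exfalso
      subst h
      haveI : CharZero F := CharP.charP_to_charZero F
      exact not_injective_infinite_finite (fun n : ℕ => (n : F)) Nat.cast_injective
  have h0 : ((p ^ q : ℕ) : F) = 0 := by
    rw [← hF]; exact FiniteField.cast_card_eq_zero F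
  have hdvd : r ∣ p ^ q := (CharP.cast_eq_zero_iff F r _).1 h0
  have hrp : r ∣ p := hprime.dvd_of_dvd_pow hdvd
  have : r = p := (Nat.prime_dvd_prime_iff_eq hprime hp.out).1 hrp
  subst this
  exact hr

section
variable (p q : ℕ) [hp : Fact p.Prime] (hF : Fintype.card F = p ^ q)
include hF

theorem pow_card_eq (x : F) : x ^ (p ^ q) = x := by
  rw [← hF]; exact FiniteField.pow_card x

theorem pow_card_sub_one (x : F) (hx : x ≠ 0) : x ^ (p ^ q - 1) = 1 := by
  rw [← hF]; exact FiniteField.pow_card_sub_one_eq_one x hx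

theorem natCast_pow_p (k : ℕ) : ((k : ℕ) : F) ^ p = k := by
  haveI := charP_of_card (F := F) p q hF
  have := map_natCast (frobenius F p) k
  rwa [frobenius_def] at this

theorem two_sub_pow_p (x : F) : (2 - x) ^ p = 2 - x ^ p := by
  haveI := charP_of_card (F := F) p q hF
  rw [sub_pow_char]
  have := natCast_pow_p (F := F) p q hF 2
  simp only [Nat.cast_ofNat] at this
  rw [this]

theorem mul_pow_p_of_fixed (k x : F) (hk : k ^ p = k) : (k * x) ^ p = k * x ^ p := by
  rw [mul_pow, hk]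

theorem pow_p_pow_nU_iff (x : F) :
    (x ^ p) ^ ((p ^ q - 1) / (p - 1)) = 1 ↔ x ^ ((p ^ q - 1) / (p - 1)) = 1 := by
  haveI := charP_of_card (F := F) p q hF
  rw [← pow_mul, mul_comm, pow_mul]
  constructor
  · intro h
    have := frobenius_inj F p
    apply this
    simp only [frobenius_def, one_pow]
    exact h
  · intro h; rw [h, one_pow]

/-- the prime field meets the norm-one group trivially -/
theorem eq_one_of_pow_p_of_pow_nU (hA : Nat.Coprime ((p ^ q - 1) / (p - 1)) (p - 1))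
    (k : F) (hk0 : k ≠ 0) (hk : k ^ p = k) (hkn : k ^ ((p ^ q - 1) / (p - 1)) = 1) : k = 1 := by
  have hp2 : 2 ≤ p := hp.out.two_le
  have h1 : k ^ (p - 1) = 1 := by
    have : k ^ (p - 1) * k = k := by
      rw [← pow_succ]
      have : p - 1 + 1 = p := by omega
      rw [this, hk]
    exact mul_right_cancel₀ hk0 (by rw [this, one_mul])
  have h2 : k ^ Nat.gcd ((p ^ q - 1) / (p - 1)) (p - 1) = 1 := pow_gcd_eq_one.2 ⟨hkn, h1⟩
  rw [hA.gcd_eq_one, pow_one] at h2
  exact h2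

theorem decomp (hA : Nat.Coprime ((p ^ q - 1) / (p - 1)) (p - 1)) (z : F) (hz : z ≠ 0) :
    ∃ k c : F, k ^ p = k ∧ k ≠ 0 ∧ c ^ ((p ^ q - 1) / (p - 1)) = 1 ∧ z = k * c := by
  have hp2 : 2 ≤ p := hp.out.two_le
  set n := (p ^ q - 1) / (p - 1) with hn
  have hmul : (p - 1) * n = p ^ q - 1 := pred_mul_nU p q
  let u : Fˣ := Units.mk0 z hz
  have hu : u ^ (p ^ q - 1) = 1 := by
    ext
    simp only [Units.val_pow_eq_pow_val, Units.val_one]
    exact pow_card_sub_one p q hF z hz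
  have hbez : (1 : ℤ) = (n : ℤ) * Nat.gcdA n (p - 1) + ((p - 1 : ℕ) : ℤ) * Nat.gcdB n (p - 1) := by
    have := Nat.gcd_eq_gcd_ab n (p - 1)
    rw [hA.gcd_eq_one] at this
    exact_mod_cast this
  set a := Nat.gcdA n (p - 1)
  set b := Nat.gcdB n (p - 1)
  let k : Fˣ := u ^ ((n : ℤ) * a)
  let c : Fˣ := u ^ (((p - 1 : ℕ) : ℤ) * b)
  have hkc : u = k * c := by
    show u = u ^ ((n : ℤ) * a) * u ^ (((p - 1 : ℕ) : ℤ) * b)
    rw [← zpow_add, ← hbez, zpow_one]
  have hk1 : k ^ (p - 1) = 1 := by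
    show (u ^ ((n : ℤ) * a)) ^ (p - 1) = 1
    rw [← zpow_natCast, ← zpow_mul]
    have : (n : ℤ) * a * ((p - 1 : ℕ) : ℤ) = ((p ^ q - 1 : ℕ) : ℤ) * a := by
      rw [← hmul]; push_cast; ring
    rw [this, zpow_mul, zpow_natCast, hu, one_zpow]
  have hc1 : c ^ n = 1 := by
    show (u ^ (((p - 1 : ℕ) : ℤ) * b)) ^ n = 1
    rw [← zpow_natCast, ← zpow_mul]
    have : ((p - 1 : ℕ) : ℤ) * b * (n : ℤ) = ((p ^ q - 1 : ℕ) : ℤ) * b := by
      rw [← hmul]; push_cast; ring
    rw [this, zpow_mul, zpow_natCast, hu, one_zpow]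
  refine ⟨(k : F), (c : F), ?_, k.ne_zero, ?_, ?_⟩
  · have : (k : F) ^ (p - 1) = 1 := by
      have := congrArg Units.val hk1
      simpa using this
    calc (k : F) ^ p = (k : F) ^ (p - 1 + 1) := by congr 1; omega
      _ = (k : F) ^ (p - 1) * k := pow_succ _ _
      _ = k := by rw [this, one_mul]
  · have := congrArg Units.val hc1
    simpa using this
  · have := congrArg Units.val hkc
    simpa [u] using this

theorem decomp_unique (hA : Nat.Coprime ((p ^ q - 1) / (p - 1)) (p - 1))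
    (k c k' c' : F) (hk : k ^ p = k) (hk0 : k ≠ 0) (hc : c ^ ((p ^ q - 1) / (p - 1)) = 1)
    (hk' : k' ^ p = k') (hk0' : k' ≠ 0) (hc' : c' ^ ((p ^ q - 1) / (p - 1)) = 1)
    (h : k * c = k' * c') : k = k' ∧ c = c' := by
  have hp2 : 2 ≤ p := hp.out.two_le
  have hq : 1 ≤ q := by
    by_contra hq
    have : q = 0 := by omega
    subst this
    have := Fintype.one_lt_card (α := F)
    rw [hF, pow_zero] at this
    omega
  have hn0 : 0 < (p ^ q - 1) / (p - 1) := nU_pos p q hp2 hq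
  have hc0 : c ≠ 0 := by
    rintro rfl
    rw [zero_pow hn0.ne'] at hc
    exact zero_ne_one hc
  have hc0' : c' ≠ 0 := by
    rintro rfl
    rw [zero_pow hn0.ne'] at hc'
    exact zero_ne_one hc'
  have he : k'⁻¹ * k = c' * c⁻¹ := by
    field_simp
    exact h
  have h1 : k'⁻¹ * k = 1 := by
    apply eq_one_of_pow_p_of_pow_nU p q hF hA
    · exact mul_ne_zero (inv_ne_zero hk0') hk0
    · rw [mul_pow, inv_pow, hk, hk']
    · rw [he, mul_pow, inv_pow, hc, hc', inv_one, mul_one]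
  have hkk : k = k' := by
    have := congrArg (fun t => k' * t) h1
    simpa [← mul_assoc, mul_inv_cancel₀ hk0'] using this
  refine ⟨hkk, ?_⟩
  subst hkk
  exact mul_left_cancel₀ hk0 h

end

end Cfsg.Agent.Lib.L0.BGCF
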