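import Mathlib
import Cfsg.Agent.Lib.L0.BGCF1

/-!
# BG Appendix C, field part: the norm-one set and Lemma C.1
-/

set_option autoImplicit false

namespace Cfsg.Agent.Lib.L0.BGCF

open Finset Polynomial

variable {F : Type*} [Field F] [Fintype F]

open scoped Classical in
/-- the set of elements of norm one -/
noncomputable def N1 (F : Type*) [Field F] [Fintype F] (p q : ℕ) : Finset F :=
  Finset.univ.filter (fun x : F => x ^ ((p ^ q - 1) / (p - 1)) = 1)

theorem mem_N1 (p q : ℕ) (x : F) : x ∈ N1 F p q ↔ x ^ ((p ^ q - 1) / (p - 1)) = 1 := by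
  classical
  simp [N1]

section
variable (p q : ℕ) [hp : Fact p.Prime] (hF : Fintype.card F = p ^ q)
include hF

theorem q_pos : 1 ≤ q := by
  by_contra hq
  have : q = 0 := by omega
  subst this
  have := Fintype.one_lt_card (α := F)
  rw [hF, pow_zero] at this
  omega

theorem card_N1_le : (N1 F p q).card ≤ (p ^ q - 1) / (p - 1) := by
  classical
  have hp2 : 2 ≤ p := hp.out.two_le
  have hn0 := nU_pos p q hp2 (q_pos p q hF)
  have hsub : N1 F p q ⊆ (nthRoots ((p ^ q - 1) / (p - 1)) (1 : F)).toFinset := by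
    intro x hx
    rw [Multiset.mem_toFinset, mem_nthRoots hn0]
    exact (mem_N1 p q x).1 hx
  calc (N1 F p q).card ≤ (nthRoots ((p ^ q - 1) / (p - 1)) (1 : F)).toFinset.card :=
        Finset.card_le_card hsub
    _ ≤ Multiset.card (nthRoots ((p ^ q - 1) / (p - 1)) (1 : F)) := Multiset.toFinset_card_le _
    _ ≤ _ := card_nthRoots _ _

theorem card_N1_ge : (p ^ q - 1) / (p - 1) ≤ (N1 F p q).card := by
  classical
  have hp2 : 2 ≤ p := hp.out.two_le
  set n := (p ^ q - 1) / (p - 1) with hn
  have hmul : (p - 1) * n = p ^ q - 1 := pred_mul_nU p q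
  let s : Finset F := Finset.univ.erase 0
  have hs : s.card = p ^ q - 1 := by
    rw [Finset.card_erase_of_mem (Finset.mem_univ _), Finset.card_univ, hF]
  let f : F → F := fun x => x ^ (p - 1)
  have hfib : ∀ a ∈ s.image f, (s.filter fun x => f x = a).card ≤ p - 1 := by
    intro a _
    have hsub : (s.filter fun x => f x = a) ⊆ (nthRoots (p - 1) a).toFinset := by
      intro x hx
      rw [Finset.mem_filter] at hx
      rw [Multiset.mem_toFinset, mem_nthRoots (by omega)]
      exact hx.2
    calc _ ≤ (nthRoots (p - 1) a).toFinset.card := Finset.card_le_card hsub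
      _ ≤ Multiset.card (nthRoots (p - 1) a) := Multiset.toFinset_card_le _
      _ ≤ _ := card_nthRoots _ _
  have h1 := Finset.card_le_mul_card_image s (p - 1) hfib
  have himg : s.image f ⊆ N1 F p q := by
    intro a ha
    rw [Finset.mem_image] at ha
    obtain ⟨x, hx, rfl⟩ := ha
    rw [mem_N1]
    show (x ^ (p - 1)) ^ ((p ^ q - 1) / (p - 1)) = 1
    rw [← pow_mul, pred_mul_nU]
    exact pow_card_sub_one p q hF x (Finset.ne_of_mem_erase hx)
  have h2 := Finset.card_le_card himg
  rw [hs, ← hmul] at h1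
  have : (p - 1) * n ≤ (p - 1) * (N1 F p q).card := le_trans h1 (Nat.mul_le_mul_left _ h2)
  exact Nat.le_of_mul_le_mul_left this (by omega)

theorem card_N1 : (N1 F p q).card = (p ^ q - 1) / (p - 1) :=
  le_antisymm (card_N1_le p q hF) (card_N1_ge p q hF)

theorem card_rootsN1 :
    Nat.card {x : F // x ^ ((p ^ q - 1) / (p - 1)) = 1} = (p ^ q - 1) / (p - 1) := by
  classical
  rw [Nat.card_eq_fintype_card, Fintype.card_subtype]
  have h := card_N1 p q hF
  unfold N1 at h
  convert h using 2

theorem natCast_pow_p_pow (k i : ℕ) : ((k : ℕ) : F) ^ (p ^ i) = k := by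
  induction i with
  | zero => simp
  | succ i ih => rw [pow_succ, pow_mul, ih, natCast_pow_p p q hF]

/-- Lemma C.1 -/
theorem le_of_inv_closed
    (hinv : ∀ x : F, x ^ ((p ^ q - 1) / (p - 1)) = 1 → (2 - x) ^ ((p ^ q - 1) / (p - 1)) = 1 →
      (2 - x⁻¹) ^ ((p ^ q - 1) / (p - 1)) = 1)
    (x : F) (hx1 : x ≠ 1) (hx : x ^ ((p ^ q - 1) / (p - 1)) = 1)
    (hx2 : (2 - x) ^ ((p ^ q - 1) / (p - 1)) = 1) : p ≤ q := by
  classical
  have hp2 : 2 ≤ p := hp.out.two_le
  have hq1 : 1 ≤ q := q_pos p q hF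
  haveI := charP_of_card (F := F) p q hF
  set n := (p ^ q - 1) / (p - 1) with hn
  have hn0 : 0 < n := nU_pos p q hp2 hq1
  have hnsum : n = ∑ i ∈ range q, p ^ i := nU_eq_sum p q hp2
  set d : F := x - 1 with hd
  have hd0 : d ≠ 0 := sub_ne_zero.2 hx1
  -- Step 1
  have key : ∀ k : ℕ, (1 + (k : F) * d) ^ n = 1 ∧
      (((1 + ((k + 1 : ℕ) : F) * d) / (1 + (k : F) * d)) ^ n = 1 ∧
        (2 - (1 + ((k + 1 : ℕ) : F) * d) / (1 + (k : F) * d)) ^ n = 1) := by
    intro k
    induction k with
    | zero =>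
      refine ⟨by simp, ?_, ?_⟩
      · simp only [Nat.cast_zero, zero_mul, add_zero, div_one, zero_add, Nat.cast_one, one_mul]
        rw [hd]; simpa using hx
      · simp only [Nat.cast_zero, zero_mul, add_zero, div_one, zero_add, Nat.cast_one, one_mul]
        rw [hd]; simpa using hx2
    | succ k ih =>
      obtain ⟨hb, hc1, hc2⟩ := ih
      have hb0 : (1 + (k : F) * d) ≠ 0 := by
        intro h0
        rw [h0, zero_pow hn0.ne'] at hb
        exact zero_ne_one hb
      have hb1 : (1 + ((k + 1 : ℕ) : F) * d) ^ n = 1 := by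
        have : (1 + ((k + 1 : ℕ) : F) * d) =
            ((1 + ((k + 1 : ℕ) : F) * d) / (1 + (k : F) * d)) * (1 + (k : F) * d) := by
          rw [div_mul_cancel₀ _ hb0]
        rw [this, mul_pow, hc1, hb, one_mul]
      have hb10 : (1 + ((k + 1 : ℕ) : F) * d) ≠ 0 := by
        intro h0
        rw [h0, zero_pow hn0.ne'] at hb1
        exact zero_ne_one hb1
      refine ⟨hb1, ?_⟩
      set c := (1 + ((k + 1 : ℕ) : F) * d) / (1 + (k : F) * d) with hc
      have hcinv : 2 - c⁻¹ = (1 + ((k + 1 + 1 : ℕ) : F) * d) / (1 + ((k + 1 : ℕ) : F) * d) := by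
        rw [hc, inv_div, eq_div_iff hb10, sub_mul, div_mul_cancel₀ _ hb10]
        push_cast
        ring
      have h3 := hinv c hc1 hc2
      rw [hcinv] at h3
      refine ⟨h3, ?_⟩
      rw [← hcinv]
      have : (2 : F) - (2 - c⁻¹) = c⁻¹ := by ring
      rw [this, inv_pow, hc1, inv_one]
  -- Step 2: the polynomial
  let g : F[X] := (∏ i ∈ range q, (1 + C (d ^ (p ^ i)) * X)) - 1
  have hdeg1 : ∀ i ∈ range q, (1 + C (d ^ (p ^ i)) * X : F[X]).natDegree ≤ 1 := by
    intro i _
    refine le_trans (natDegree_add_le _ _) ?_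
    rw [natDegree_one]
    simp only [zero_le, sup_of_le_right]
    exact le_trans (natDegree_C_mul_le _ _) natDegree_X_le
  have hgdeg : g.natDegree ≤ q := by
    refine le_trans (natDegree_sub_le _ _) ?_
    rw [natDegree_one]
    simp only [zero_le, sup_of_le_left]
    refine le_trans (natDegree_prod_le _ _) ?_
    calc ∑ i ∈ range q, (1 + C (d ^ (p ^ i)) * X : F[X]).natDegree ≤ ∑ _i ∈ range q, 1 :=
          Finset.sum_le_sum hdeg1
      _ = q := by simp
  have hgcoeff : g.coeff q = ∏ i ∈ range q, d ^ (p ^ i) := by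
    show ((∏ i ∈ range q, (1 + C (d ^ (p ^ i)) * X)) - 1 : F[X]).coeff q = _
    rw [coeff_sub]
    have h1 : (1 : F[X]).coeff q = 0 := by
      rw [coeff_one]; simp; omega
    rw [h1, sub_zero]
    have := coeff_prod_of_natDegree_le (s := range q) (fun i => (1 + C (d ^ (p ^ i)) * X : F[X])) 1 hdeg1
    rw [Finset.card_range, mul_one] at this
    rw [this]
    refine Finset.prod_congr rfl ?_
    intro i _
    rw [coeff_add, coeff_C_mul, coeff_X_one, mul_one, coeff_one]
    simp
  have hg0 : g ≠ 0 := by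
    intro h0
    have : g.coeff q = 0 := by rw [h0]; simp
    rw [hgcoeff] at this
    rw [Finset.prod_eq_zero_iff] at this
    obtain ⟨i, _, hi⟩ := this
    exact hd0 (pow_eq_zero_iff (by positivity) |>.1 hi)
  have hroot : ∀ k : ℕ, g.IsRoot (k : F) := by
    intro k
    show eval (k : F) g = 0
    show eval (k : F) ((∏ i ∈ range q, (1 + C (d ^ (p ^ i)) * X)) - 1) = 0
    rw [eval_sub, eval_one, eval_prod]
    have : ∀ i ∈ range q, eval (k : F) (1 + C (d ^ (p ^ i)) * X) = (1 + (k : F) * d) ^ (p ^ i) := by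
      intro i _
      rw [add_pow_char_pow, one_pow, mul_pow, natCast_pow_p_pow p q hF]
      simp [mul_comm]
    rw [Finset.prod_congr rfl this, Finset.prod_pow_eq_pow_sum, ← hnsum, (key k).1, sub_self]
  let Z : Finset F := (range p).image (fun k : ℕ => (k : F))
  have hZcard : Z.card = p := by
    rw [Finset.card_image_of_injOn, Finset.card_range]
    intro a ha b hb hab
    simp only [Finset.coe_range, Set.mem_Iio] at ha hb
    exact CharP.natCast_injOn_Iio F p ha hb hab
  have hZ : Z.val ⊆ g.roots := by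
    intro z hz
    rw [Finset.mem_val, Finset.mem_image] at hz
    obtain ⟨k, _, rfl⟩ := hz
    rw [mem_roots hg0]
    exact hroot k
  have := card_le_degree_of_subset_roots hZ
  rw [hZcard] at this
  exact le_trans this hgdeg

end

end Cfsg.Agent.Lib.L0.BGCF
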