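import Mathlib
import Cfsg.Agent.Lib.L0.BGCF2

/-!
# BG Appendix C, field part: Lemma C.2 for `q ≥ 5` (Fourier count of 3-term progressions)
-/

set_option autoImplicit false

namespace Cfsg.Agent.Lib.L0.BGCF

open Finset
open scoped ComplexConjugate

variable {F : Type*} [Field F] [Fintype F]

/-- the character sum over a finite set -/
noncomputable def cs (A : Finset F) (ψ : AddChar F ℂ) : ℂ := ∑ a ∈ A, ψ a

theorem cs_zero (A : Finset F) : cs A (0 : AddChar F ℂ) = A.card := by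
  simp [cs]

theorem parsevalC [DecidableEq F] (A : Finset F) :
    ∑ ψ : AddChar F ℂ, cs A ψ * conj (cs A ψ) = (Fintype.card F : ℂ) * A.card := by
  calc ∑ ψ : AddChar F ℂ, cs A ψ * conj (cs A ψ)
      = ∑ ψ : AddChar F ℂ, ∑ a ∈ A, ∑ b ∈ A, ψ (a - b) := by
        refine Finset.sum_congr rfl fun ψ _ => ?_
        unfold cs
        rw [map_sum, Finset.sum_mul_sum]
        refine Finset.sum_congr rfl fun a _ => Finset.sum_congr rfl fun b _ => ?_
        rw [← AddChar.map_neg_eq_conj, ← AddChar.map_add_eq_mul, sub_eq_add_neg]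
    _ = ∑ a ∈ A, ∑ b ∈ A, ∑ ψ : AddChar F ℂ, ψ (a - b) := by
        rw [Finset.sum_comm]
        refine Finset.sum_congr rfl fun a _ => Finset.sum_comm
    _ = ∑ a ∈ A, ∑ b ∈ A, (if a - b = 0 then (Fintype.card F : ℂ) else 0) := by
        simp_rw [AddChar.sum_apply_eq_ite]
    _ = ∑ a ∈ A, (Fintype.card F : ℂ) := by
        refine Finset.sum_congr rfl fun a ha => ?_
        simp_rw [sub_eq_zero]
        rw [Finset.sum_ite_eq A a]
        simp [ha]
    _ = _ := by simp [mul_comm]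

theorem parseval (A : Finset F) :
    ∑ ψ : AddChar F ℂ, ‖cs A ψ‖ ^ 2 = (Fintype.card F : ℝ) * A.card := by
  classical
  have h := parsevalC A
  have h2 : ((∑ ψ : AddChar F ℂ, ‖cs A ψ‖ ^ 2 : ℝ) : ℂ) = (((Fintype.card F : ℝ) * A.card : ℝ) : ℂ) := by
    push_cast
    rw [← h]
    refine Finset.sum_congr rfl fun ψ _ => ?_
    rw [Complex.mul_conj']
  exact_mod_cast h2

theorem mulShift_ne_zero (ψ : AddChar F ℂ) (hψ : ψ ≠ 0) (c : F) (hc : c ≠ 0) :
    AddChar.mulShift ψ c ≠ 0 := by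
  intro h
  apply hψ
  rw [AddChar.eq_zero_iff] at h ⊢
  intro x
  have := h (c⁻¹ * x)
  rwa [AddChar.mulShift_apply, ← mul_assoc, mul_inv_cancel₀ hc, one_mul] at this

theorem mulShift_inj (ψ : AddChar F ℂ) (hψ : ψ ≠ 0) (c c' : F)
    (h : AddChar.mulShift ψ c = AddChar.mulShift ψ c') : c = c' := by
  by_contra hne
  have hd : c - c' ≠ 0 := sub_ne_zero.2 hne
  apply mulShift_ne_zero ψ hψ (c - c') hd
  rw [AddChar.eq_zero_iff]
  intro x
  have := DFunLike.congr_fun h x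
  rw [AddChar.mulShift_apply, AddChar.mulShift_apply] at this
  rw [AddChar.mulShift_apply, sub_mul, AddChar.map_sub_eq_div, this, div_self]
  exact (AddChar.val_isUnit ψ _).ne_zero

theorem cs_mulShift (A : Finset F) (hmul : ∀ a ∈ A, ∀ b ∈ A, a * b ∈ A)
    (hinv : ∀ a ∈ A, a⁻¹ ∈ A) (h0 : (0 : F) ∉ A) (ψ : AddChar F ℂ) (c : F) (hc : c ∈ A) :
    cs A (AddChar.mulShift ψ c) = cs A ψ := by
  unfold cs
  have hc0 : c ≠ 0 := fun h => h0 (h ▸ hc)
  refine Finset.sum_nbij' (fun a => c * a) (fun a => c⁻¹ * a) ?_ ?_ ?_ ?_ ?_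
  · intro a ha; exact hmul c hc a ha
  · intro a ha; exact hmul _ (hinv c hc) a ha
  · intro a _; simp [← mul_assoc, inv_mul_cancel₀ hc0]
  · intro a _; simp [← mul_assoc, mul_inv_cancel₀ hc0]
  · intro a _; simp

theorem orbit_bound (A : Finset F) (hmul : ∀ a ∈ A, ∀ b ∈ A, a * b ∈ A)
    (hinv : ∀ a ∈ A, a⁻¹ ∈ A) (h0 : (0 : F) ∉ A) (ψ : AddChar F ℂ) (hψ : ψ ≠ 0) :
    (A.card : ℝ) * ‖cs A ψ‖ ^ 2 + (A.card : ℝ) ^ 2 ≤ (Fintype.card F : ℝ) * A.card := by
  classical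
  rw [← parseval A]
  let T : Finset (AddChar F ℂ) := insert 0 (A.image (fun c => AddChar.mulShift ψ c))
  have hnot : (0 : AddChar F ℂ) ∉ A.image (fun c => AddChar.mulShift ψ c) := by
    intro h
    rw [Finset.mem_image] at h
    obtain ⟨c, hc, hc2⟩ := h
    exact mulShift_ne_zero ψ hψ c (fun h => h0 (h ▸ hc)) hc2
  have hT : ∑ χ ∈ T, ‖cs A χ‖ ^ 2 = (A.card : ℝ) * ‖cs A ψ‖ ^ 2 + (A.card : ℝ) ^ 2 := by
    rw [Finset.sum_insert hnot, Finset.sum_image]
    · rw [cs_zero]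
      have : ∀ c ∈ A, ‖cs A (AddChar.mulShift ψ c)‖ ^ 2 = ‖cs A ψ‖ ^ 2 := by
        intro c hc
        rw [cs_mulShift A hmul hinv h0 ψ c hc]
      rw [Finset.sum_congr rfl this]
      simp
      ring
    · intro c _ c' _ h
      exact mulShift_inj ψ hψ c c' h
  rw [← hT]
  exact Finset.sum_le_univ_sum_of_nonneg (fun χ => by positivity)

/-- Fourier expansion of the number of solutions of `a + b = 2 c` in `A`. -/
theorem triple_count [DecidableEq F] (A : Finset F) :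
    (Fintype.card F : ℂ) *
        (∑ c ∈ A, ∑ a ∈ A, ∑ b ∈ A, if a + b + (-2) * c = 0 then (1 : ℂ) else 0) =
      ∑ ψ : AddChar F ℂ, cs A ψ * cs A ψ * cs A (AddChar.mulShift ψ (-2)) := by
  calc (Fintype.card F : ℂ) *
        (∑ c ∈ A, ∑ a ∈ A, ∑ b ∈ A, if a + b + (-2) * c = 0 then (1 : ℂ) else 0)
      = ∑ c ∈ A, ∑ a ∈ A, ∑ b ∈ A, ∑ ψ : AddChar F ℂ, ψ (a + b + (-2) * c) := by
        simp_rw [AddChar.sum_apply_eq_ite, Finset.mul_sum]
        refine Finset.sum_congr rfl fun c _ => Finset.sum_congr rfl fun a _ =>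
          Finset.sum_congr rfl fun b _ => ?_
        split_ifs <;> simp
    _ = ∑ ψ : AddChar F ℂ, ∑ c ∈ A, ∑ a ∈ A, ∑ b ∈ A, ψ (a + b + (-2) * c) := by
        symm
        rw [Finset.sum_comm]
        refine Finset.sum_congr rfl fun c _ => ?_
        rw [Finset.sum_comm]
        refine Finset.sum_congr rfl fun a _ => ?_
        rw [Finset.sum_comm]
    _ = _ := by
        refine Finset.sum_congr rfl fun ψ _ => ?_
        unfold cs
        simp_rw [AddChar.map_add_eq_mul, AddChar.mulShift_apply]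
        simp only [← Finset.sum_mul, ← Finset.mul_sum]

end Cfsg.Agent.Lib.L0.BGCF
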