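import Mathlib
import Cfsg.Agent.Lib.L0.BGCF3

/-!
# BG Appendix C, field part: Lemma C.2 for `q ≥ 5`, assembly
-/

set_option autoImplicit false

namespace Cfsg.Agent.Lib.L0.BGCF

open Finset
open scoped ComplexConjugate

variable {F : Type*} [Field F] [Fintype F]

theorem arith_key (P W M : ℝ) (hP : 2 ≤ P) (hW : P ^ 4 ≤ W) (hM : W ≤ M) (hMN : M ≤ P * W) :
    (P * W - M) ^ 3 < (M ^ 2 - P * W) ^ 2 := by
  have hP0 : 0 ≤ P := by linarith
  have hP4 : (16 : ℝ) ≤ P ^ 4 := by nlinarith [sq_nonneg (P - 2), sq_nonneg P, mul_self_nonneg (P * P - 4)]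
  have hW0 : 0 < W := by linarith
  have hPle : P ≤ P ^ 4 := by nlinarith [sq_nonneg (P - 2), sq_nonneg P, mul_self_nonneg (P * P - 4)]
  have hWP : 0 ≤ W - P := by linarith
  have h1 : W * (W - P) ≤ M ^ 2 - P * W := by nlinarith
  have h1' : 0 ≤ W * (W - P) := mul_nonneg hW0.le hWP
  have h2 : (W * (W - P)) ^ 2 ≤ (M ^ 2 - P * W) ^ 2 := by
    apply pow_le_pow_left₀ h1' h1
  have h3 : P ^ 3 * W ≤ (W - P) ^ 2 := by
    have hA : W * P ^ 4 ≤ W * W := mul_le_mul_of_nonneg_left hW hW0.le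
    have hB : P ^ 3 ≤ P ^ 4 - 2 * P := by
      have : 0 ≤ P * (P ^ 2 * (P - 1) - 2) := by
        apply mul_nonneg hP0
        nlinarith [sq_nonneg (P - 2), sq_nonneg P]
      nlinarith
    nlinarith [mul_le_mul_of_nonneg_left hB hW0.le, sq_nonneg P]
  have h4 : P ^ 3 * W ^ 3 ≤ (W * (W - P)) ^ 2 := by
    have : (W * (W - P)) ^ 2 = W ^ 2 * (W - P) ^ 2 := by ring
    rw [this]
    have : P ^ 3 * W ^ 3 = W ^ 2 * (P ^ 3 * W) := by ring
    rw [this]
    exact mul_le_mul_of_nonneg_left h3 (by positivity)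
  have h5 : (P * W - M) ^ 3 ≤ ((P - 1) * W) ^ 3 := by
    apply pow_le_pow_left₀ (by linarith)
    nlinarith
  have h6 : ((P - 1) * W) ^ 3 < P ^ 3 * W ^ 3 := by
    have : ((P - 1) * W) ^ 3 = (P - 1) ^ 3 * W ^ 3 := by ring
    rw [this]
    have hW3 : 0 < W ^ 3 := by positivity
    have : (P - 1) ^ 3 < P ^ 3 := by
      apply pow_lt_pow_left₀ (by linarith) (by linarith) (by norm_num)
    exact mul_lt_mul_of_pos_right this hW3
  linarith

section
variable (p q : ℕ) [hp : Fact p.Prime] (hF : Fintype.card F = p ^ q)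
include hF

theorem N1_mul (a b : F) (ha : a ∈ N1 F p q) (hb : b ∈ N1 F p q) : a * b ∈ N1 F p q := by
  rw [mem_N1] at *
  rw [mul_pow, ha, hb, one_mul]

theorem N1_inv (a : F) (ha : a ∈ N1 F p q) : a⁻¹ ∈ N1 F p q := by
  rw [mem_N1] at *
  rw [inv_pow, ha, inv_one]

theorem N1_zero : (0 : F) ∉ N1 F p q := by
  rw [mem_N1]
  have hn0 := nU_pos p q hp.out.two_le (q_pos p q hF)
  rw [zero_pow hn0.ne']
  exact zero_ne_one

theorem exists_E_pair_ge_five (hq : 5 ≤ q) (hp2 : p ≠ 2) :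
    ∃ x : F, x ≠ 1 ∧ x ^ ((p ^ q - 1) / (p - 1)) = 1 ∧
      (2 - x) ^ ((p ^ q - 1) / (p - 1)) = 1 := by
  classical
  by_contra hcon
  push Not at hcon
  haveI := charP_of_card (F := F) p q hF
  have hpge : 2 ≤ p := hp.out.two_le
  set A := N1 F p q with hA
  have hmul : ∀ a ∈ A, ∀ b ∈ A, a * b ∈ A := fun a ha b hb => N1_mul p q hF a b ha hb
  have hinv : ∀ a ∈ A, a⁻¹ ∈ A := fun a ha => N1_inv p q hF a ha
  have h0 : (0 : F) ∉ A := N1_zero p q hF
  have h2F : (2 : F) ≠ 0 := by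
    intro h
    have : ((2 : ℕ) : F) = 0 := by exact_mod_cast h
    rw [CharP.cast_eq_zero_iff F p 2] at this
    have := (Nat.prime_dvd_prime_iff_eq hp.out Nat.prime_two).1 this
    exact hp2 this
  have hneg2 : (-2 : F) ≠ 0 := neg_ne_zero.2 h2F
  -- the triple count
  have htriple : (∑ c ∈ A, ∑ a ∈ A, ∑ b ∈ A, if a + b + (-2) * c = 0 then (1 : ℂ) else 0)
      = A.card := by
    have : ∀ c ∈ A, (∑ a ∈ A, ∑ b ∈ A, if a + b + (-2) * c = 0 then (1 : ℂ) else 0) = 1 := by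
      intro c hc
      have hc0 : c ≠ 0 := fun h => h0 (h ▸ hc)
      rw [Finset.sum_eq_single c]
      · rw [Finset.sum_eq_single c]
        · rw [if_pos]; ring
        · intro b _ hbc
          rw [if_neg]
          intro h
          apply hbc
          linear_combination h
        · intro h; exact absurd hc h
      · intro a ha hac
        apply Finset.sum_eq_zero
        intro b hb
        rw [if_neg]
        intro h
        have hx : a * c⁻¹ ∈ A := hmul a ha _ (hinv c hc)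
        have hx1 : a * c⁻¹ ≠ 1 := by
          intro h1
          apply hac
          field_simp at h1
          exact h1
        have hx2 : 2 - a * c⁻¹ = b * c⁻¹ := by
          field_simp
          linear_combination -h
        have h3 := hcon (a * c⁻¹) hx1 ((mem_N1 p q _).1 hx)
        apply h3
        rw [hx2]
        exact (mem_N1 p q _).1 (hmul b hb _ (hinv c hc))
      · intro h; exact absurd hc h
    rw [Finset.sum_congr rfl this]
    simp
  have hid := triple_count A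
  rw [htriple] at hid
  -- split off the trivial character
  set m : ℝ := (A.card : ℝ) with hm
  set N : ℝ := (Fintype.card F : ℝ) with hN
  have hsplit := Finset.add_sum_erase (Finset.univ : Finset (AddChar F ℂ))
    (fun ψ => cs A ψ * cs A ψ * cs A (AddChar.mulShift ψ (-2))) (Finset.mem_univ 0)
  have hms0 : AddChar.mulShift (0 : AddChar F ℂ) (-2) = 0 := by
    ext x; simp
  simp only [hms0, cs_zero] at hsplit
  set X : ℂ := ∑ ψ ∈ (Finset.univ : Finset (AddChar F ℂ)).erase 0,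
    cs A ψ * cs A ψ * cs A (AddChar.mulShift ψ (-2)) with hX
  have hXeq : X = ((N * m - m ^ 3 : ℝ) : ℂ) := by
    have : (A.card : ℂ) * A.card * A.card + X = (Fintype.card F : ℂ) * A.card := by
      rw [hsplit, ← hid]
    have h' : X = (Fintype.card F : ℂ) * A.card - (A.card : ℂ) * A.card * A.card := by
      rw [← this]; ring
    rw [h', hN, hm]
    push_cast
    ring
  -- bounds
  have hmpos : 0 < m := by
    rw [hm]
    have : 0 < A.card := Finset.card_pos.2 ⟨1, by rw [hA, mem_N1]; simp⟩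
    exact_mod_cast this
  have hmleN : m ≤ N := by
    rw [hm, hN]
    exact_mod_cast Finset.card_le_univ A
  set β : ℝ := Real.sqrt (N - m) with hβ
  have hbound : ∀ ψ : AddChar F ℂ, ψ ≠ 0 → ‖cs A (AddChar.mulShift ψ (-2))‖ ≤ β := by
    intro ψ hψ
    have hχ := mulShift_ne_zero ψ hψ (-2) hneg2
    have := orbit_bound A hmul hinv h0 _ hχ
    apply Real.le_sqrt_of_sq_le
    have h1 : m * ‖cs A (AddChar.mulShift ψ (-2))‖ ^ 2 ≤ m * (N - m) := by
      have : m * ‖cs A (AddChar.mulShift ψ (-2))‖ ^ 2 + m ^ 2 ≤ N * m := this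
      nlinarith
    exact le_of_mul_le_mul_left h1 hmpos
  have hpars : ∑ ψ ∈ (Finset.univ : Finset (AddChar F ℂ)).erase 0, ‖cs A ψ‖ ^ 2 = N * m - m ^ 2 := by
    have h1 := parseval A
    have h2 := Finset.add_sum_erase (Finset.univ : Finset (AddChar F ℂ))
      (fun ψ => ‖cs A ψ‖ ^ 2) (Finset.mem_univ 0)
    simp only [cs_zero] at h2
    rw [h1] at h2
    have : ‖(A.card : ℂ)‖ = m := by
      rw [hm]; simp
    rw [this] at h2
    linarith
  have hXnorm : ‖X‖ ≤ β * (N * m - m ^ 2) := by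
    rw [← hpars, Finset.mul_sum]
    refine le_trans (norm_sum_le _ _) ?_
    refine Finset.sum_le_sum fun ψ hψ => ?_
    have hψ0 : ψ ≠ 0 := Finset.ne_of_mem_erase hψ
    rw [norm_mul, norm_mul, ← sq, mul_comm]
    exact mul_le_mul_of_nonneg_right (hbound ψ hψ0) (by positivity)
  -- arithmetic
  have hq1 : 1 ≤ q := by omega
  have hw : ((p ^ (q - 1) : ℕ) : ℝ) ≤ m := by
    rw [hm]
    have := le_trans (pow_pred_le_nU p q hpge hq1) (card_N1_ge p q hF)
    exact_mod_cast this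
  have hNpw : N = (p : ℝ) * ((p ^ (q - 1) : ℕ) : ℝ) := by
    rw [hN, hF]
    push_cast
    rw [← pow_succ']
    congr 1
    omega
  have hw4 : (p : ℝ) ^ 4 ≤ ((p ^ (q - 1) : ℕ) : ℝ) := by
    push_cast
    apply pow_le_pow_right₀
    · exact_mod_cast hp.out.one_le
    · omega
  have hP2 : (2 : ℝ) ≤ p := by exact_mod_cast hpge
  have hkey := arith_key (p : ℝ) ((p ^ (q - 1) : ℕ) : ℝ) m hP2 hw4 hw (by rw [← hNpw]; exact hmleN)
  rw [← hNpw] at hkey
  -- m^2 > N
  have hm2N : N < m ^ 2 := by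
    have h16 : (16 : ℝ) ≤ (p : ℝ) ^ 4 := by
      have : (2 : ℝ) ^ 4 ≤ (p : ℝ) ^ 4 := pow_le_pow_left₀ (by norm_num) hP2 4
      linarith
    have hwpos : (0 : ℝ) < ((p ^ (q - 1) : ℕ) : ℝ) := by linarith
    have hple : (p : ℝ) ≤ (p : ℝ) ^ 4 := by
      have : (p : ℝ) ^ 1 ≤ (p : ℝ) ^ 4 := pow_le_pow_right₀ (by linarith) (by norm_num)
      simpa using this
    rw [hNpw]
    have h1 : ((p ^ (q - 1) : ℕ) : ℝ) ^ 2 ≤ m ^ 2 := pow_le_pow_left₀ hwpos.le hw 2
    have h2 : (p : ℝ) ^ 4 * ((p ^ (q - 1) : ℕ) : ℝ) ≤ ((p ^ (q - 1) : ℕ) : ℝ) ^ 2 := by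
      rw [sq]; exact mul_le_mul_of_nonneg_right hw4 hwpos.le
    have h8 : (8 : ℝ) ≤ (p : ℝ) ^ 3 := by
      have : (2 : ℝ) ^ 3 ≤ (p : ℝ) ^ 3 := pow_le_pow_left₀ (by norm_num) hP2 3
      linarith
    have h3 : (p : ℝ) < (p : ℝ) ^ 4 := by
      have : (p : ℝ) ^ 4 = p * p ^ 3 := by ring
      rw [this]
      nlinarith
    have h4 : (p : ℝ) * ((p ^ (q - 1) : ℕ) : ℝ) < (p : ℝ) ^ 4 * ((p ^ (q - 1) : ℕ) : ℝ) :=
      mul_lt_mul_of_pos_right h3 hwpos
    linarith
  have hnormX : ‖X‖ = m ^ 3 - N * m := by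
    rw [hXeq, Complex.norm_real, Real.norm_eq_abs, abs_of_nonpos]
    · ring
    · nlinarith
  rw [hnormX] at hXnorm
  have hfin : m ^ 2 - N ≤ β * (N - m) := by
    have : m * (m ^ 2 - N) ≤ m * (β * (N - m)) := by nlinarith
    exact le_of_mul_le_mul_left this hmpos
  have hβ2 : β ^ 2 = N - m := Real.sq_sqrt (by linarith)
  have hβ0 : 0 ≤ β := Real.sqrt_nonneg _
  have : (m ^ 2 - N) ^ 2 ≤ (N - m) ^ 3 := by
    have h1 : (m ^ 2 - N) ^ 2 ≤ (β * (N - m)) ^ 2 :=
      pow_le_pow_left₀ (by linarith) hfin 2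
    calc (m ^ 2 - N) ^ 2 ≤ (β * (N - m)) ^ 2 := h1
      _ = β ^ 2 * (N - m) ^ 2 := by ring
      _ = (N - m) ^ 3 := by rw [hβ2]; ring
  linarith

end

end Cfsg.Agent.Lib.L0.BGCF
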