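import Mathlib
import Cfsg.Agent.Lib.L0.BGCF2

/-!
# BG Appendix C, field part: interface lemmas in the shape used by the group-theoretic part
-/

set_option autoImplicit false

namespace Cfsg.Agent.Lib.L0.BGCF

open Finset Polynomial

variable {F : Type*} [Field F] [Fintype F]

section
variable (p q : ℕ) [hp : Fact p.Prime] (hF : Fintype.card F = p ^ q)
include hF

/-- the fixed points of Frobenius are the natural number casts -/
theorem exists_natCast_of_pow_p (k : F) (hk : k ^ p = k) : ∃ j : ℕ, j < p ∧ (j : F) = k := by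
  classical
  haveI := charP_of_card (F := F) p q hF
  have hp2 : 1 < p := hp.out.one_lt
  by_contra hcon
  push Not at hcon
  have hgdeg : (X ^ p - X : F[X]).natDegree = p := FiniteField.X_pow_card_sub_X_natDegree_eq F hp2
  have hg0 : (X ^ p - X : F[X]) ≠ 0 := FiniteField.X_pow_card_sub_X_ne_zero F hp2
  let Z : Finset F := insert k ((range p).image (fun j : ℕ => (j : F)))
  have hknot : k ∉ (range p).image (fun j : ℕ => (j : F)) := by
    intro h
    rw [Finset.mem_image] at h
    obtain ⟨j, hj, hjk⟩ := h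
    exact hcon j (Finset.mem_range.1 hj) hjk
  have hZcard : Z.card = p + 1 := by
    rw [Finset.card_insert_of_notMem hknot, Finset.card_image_of_injOn, Finset.card_range]
    intro a ha b hb hab
    simp only [Finset.coe_range, Set.mem_Iio] at ha hb
    exact CharP.natCast_injOn_Iio F p ha hb hab
  have hZ : Z.val ⊆ (X ^ p - X : F[X]).roots := by
    intro z hz
    rw [Finset.mem_val, Finset.mem_insert] at hz
    rw [mem_roots hg0]
    show eval z (X ^ p - X) = 0
    rw [eval_sub, eval_pow, eval_X]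
    rcases hz with rfl | hz
    · rw [hk, sub_self]
    · rw [Finset.mem_image] at hz
      obtain ⟨j, _, rfl⟩ := hz
      rw [natCast_pow_p p q hF, sub_self]
  have := card_le_degree_of_subset_roots hZ
  rw [hZcard, hgdeg] at this
  omega

/-- decomposition with the prime-field part given as a natural number cast -/
theorem decomp_nat (hA : Nat.Coprime ((p ^ q - 1) / (p - 1)) (p - 1)) (z : F) (hz : z ≠ 0) :
    ∃ (j : ℕ) (c : F), (j : F) ≠ 0 ∧ c ^ ((p ^ q - 1) / (p - 1)) = 1 ∧ z = (j : F) * c := by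
  obtain ⟨k, c, hk, hk0, hc, hzkc⟩ := decomp p q hF hA z hz
  obtain ⟨j, _, hj⟩ := exists_natCast_of_pow_p p q hF k hk
  exact ⟨j, c, by rw [hj]; exact hk0, hc, by rw [hj]; exact hzkc⟩

theorem natCast_eq_one_of_pow_nU (hA : Nat.Coprime ((p ^ q - 1) / (p - 1)) (p - 1)) (j : ℕ)
    (hj : (j : F) ^ ((p ^ q - 1) / (p - 1)) = 1) : (j : F) = 1 := by
  have hn0 := nU_pos p q hp.out.two_le (q_pos p q hF)
  have hj0 : (j : F) ≠ 0 := by
    intro h
    rw [h, zero_pow hn0.ne'] at hj
    exact zero_ne_one hj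
  exact eq_one_of_pow_p_of_pow_nU p q hF hA (j : F) hj0 (natCast_pow_p p q hF j) hj

/-- uniqueness of the decomposition, natural-number form -/
theorem decomp_nat_unique (hA : Nat.Coprime ((p ^ q - 1) / (p - 1)) (p - 1)) (j j' : ℕ) (c c' : F)
    (hj0 : (j : F) ≠ 0) (hc : c ^ ((p ^ q - 1) / (p - 1)) = 1)
    (hj0' : (j' : F) ≠ 0) (hc' : c' ^ ((p ^ q - 1) / (p - 1)) = 1)
    (h : (j : F) * c = (j' : F) * c') : (j : F) = (j' : F) ∧ c = c' :=
  decomp_unique p q hF hA (j : F) c (j' : F) c' (natCast_pow_p p q hF j) hj0 hc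
    (natCast_pow_p p q hF j') hj0' hc' h

/-- `q` is odd when `q < p` and the coprimality hypothesis holds -/
theorem q_ne_two (hA : Nat.Coprime ((p ^ q - 1) / (p - 1)) (p - 1)) (hqp : q < p) : q ≠ 2 := by
  rintro rfl
  have hp3 : 3 ≤ p := by omega
  have hn : (p ^ 2 - 1) / (p - 1) = p + 1 := by
    have h1 : p ^ 2 - 1 = (p - 1) * (p + 1) := by
      zify
      rw [Nat.cast_sub (by nlinarith), Nat.cast_sub (by omega)]
      push_cast
      ring
    rw [h1, Nat.mul_div_cancel_left _ (by omega)]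
  rw [hn] at hA
  have hodd : ¬ 2 ∣ p := by
    intro h2
    have := (Nat.prime_dvd_prime_iff_eq Nat.prime_two hp.out).1 h2
    omega
  have h2a : 2 ∣ p + 1 := by omega
  have h2b : 2 ∣ p - 1 := by omega
  have := Nat.dvd_gcd h2a h2b
  rw [hA.gcd_eq_one] at this
  omega

end

end Cfsg.Agent.Lib.L0.BGCF
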