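import Mathlib
import Cfsg.Agent.Lib.H23.BlockCovering
import Cfsg.Agent.Lib.L0.BlockAut
import Cfsg.Agent.Lib.L0.BrauerNormal

/-!
# Automorphisms and block covering (lead)

`K` a finite group, `L` a normal subgroup, `σ ∈ Aut(K)` restricting to `τ ∈ Aut(L)`.
* `classInner_cj`: `⟨(ξ^σ)|_L, θ^τ⟩ = ⟨ξ|_L, θ⟩`;
* `cj_image_eq_of_covers`: if `|K : L|` is a power of `p`, `e` covers `f` and `τ` stabilizes `f`, then
  `σ` stabilizes `e`;
* `exists_conj_stab`: (Frattini) if `σ` stabilizes `e` and `ξ₀ ∈ e` lies over `θ₀`, then for some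
  `k ∈ K` the automorphism `c_k⁻¹ τ` carries `θ₀` into its block.
-/

set_option autoImplicit false

namespace Cfsg.Agent.Lib.L0.BlockCoverAut

open Cfsg MonoidAlgebra Cfsg.Agent.Lib.H23 Cfsg.Agent.Lib.H24 Cfsg.Agent.Lib.L0
  Cfsg.Agent.Lib.L0.BlockAut Cfsg.Agent.Lib.L0.BrauerNormal
open scoped ComplexConjugate

variable {K : Type*} [Group K] [Fintype K] (L : Subgroup K) [hL : L.Normal] [Fintype L]
  {p : ℕ} {M : Ideal AlgInt}

omit hL in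
theorem classInner_cj (σ : MulAut K) (τ : MulAut L) (hc : ∀ l : L, ((τ l : L) : K) = σ l)
    (ξ : IrrCharacter K) (θ : IrrCharacter L) :
    classInner (fun l : L => (cj σ ξ : K → ℂ) l) (cj τ θ : L → ℂ) =
      classInner (fun l : L => (ξ : K → ℂ) l) (θ : L → ℂ) := by
  rw [← classInner_comp τ (fun l : L => (cj σ ξ : K → ℂ) l) (cj τ θ : L → ℂ)]
  congr 1
  · funext l
    show (cj σ ξ : K → ℂ) ((τ l : L) : K) = _
    rw [hc, cj_apply_apply]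
  · funext l
    exact cj_apply_apply τ θ l

/-- If `τ` stabilizes the block `f` of `L`, then `σ` stabilizes the unique block of `K` covering
`f` (`|K : L|` a power of `p`). -/
theorem cj_image_eq_of_covers [Fact p.Prime] (hM : IsPModular p M)
    (hidx : ∃ k : ℕ, L.index = p ^ k) {e : Set (IrrCharacter K)} {f : Set (IrrCharacter L)}
    (he : IsPBlock M e) (hf : IsPBlock M f)
    (hcov : ∃ χ ∈ e, ∃ θ ∈ f, classInner (fun n : L => (χ : K → ℂ) n) (θ : L → ℂ) ≠ 0)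
    (σ : MulAut K) (τ : MulAut L) (hc : ∀ l : L, ((τ l : L) : K) = σ l)
    (hτ : cj τ '' f = f) : cj σ '' e = e := by
  haveI hPr := isPrime_of_isPModular hM
  obtain ⟨χ, hχ, θ, hθ, hcon⟩ := hcov
  have h1 : IsPBlock M (cj σ '' e) := isPBlock_cj_image σ he
  have h2 : ∃ χ' ∈ cj σ '' e, ∃ θ' ∈ f,
      classInner (fun n : L => (χ' : K → ℂ) n) (θ' : L → ℂ) ≠ 0 := by
    refine ⟨cj σ χ, ⟨χ, hχ, rfl⟩, cj τ θ, ?_, ?_⟩
    · rw [← hτ]
      exact ⟨θ, hθ, rfl⟩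
    · rw [classInner_cj L σ τ hc]
      exact hcon
  exact (existsUnique_covers_of_index_pow L hM hidx f hf).unique ⟨h1, h2⟩
    ⟨he, χ, hχ, θ, hθ, hcon⟩

/-- **Frattini argument.** -/
theorem exists_conj_stab (hM : IsPModular p M) {e : Set (IrrCharacter K)} (he : IsPBlock M e)
    (σ : MulAut K) (τ : MulAut L) (hc : ∀ l : L, ((τ l : L) : K) = σ l)
    (hσ : cj σ '' e = e) (ξ₀ : IrrCharacter K) (hξ₀ : ξ₀ ∈ e) (θ₀ : IrrCharacter L)
    (hθ₀ : classInner (fun n : L => (ξ₀ : K → ℂ) n) (θ₀ : L → ℂ) ≠ 0) :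
    ∃ k : K, cj ((MulAut.conjNormal k : MulAut L)⁻¹ * τ) θ₀ ∈ blockOf M (θ₀ : L → ℂ) := by
  haveI hPr := isPrime_of_isPModular hM
  have h1 : cj σ ξ₀ ∈ e := by
    rw [← hσ]
    exact ⟨ξ₀, hξ₀, rfl⟩
  obtain ⟨χ₁, rfl⟩ := he
  have hs : SameBlock M (ξ₀ : K → ℂ) (cj σ ξ₀ : K → ℂ) :=
    sameBlock_trans (sameBlock_symm hξ₀) h1
  have h2 : classInner (fun n : L => (cj σ ξ₀ : K → ℂ) n) (cj τ θ₀ : L → ℂ) ≠ 0 := by
    rw [classInner_cj L σ τ hc]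
    exact hθ₀
  obtain ⟨g, hg⟩ := exists_conj_mem_of_sameBlock L hM ξ₀ (cj σ ξ₀) hs θ₀ (cj τ θ₀) hθ₀ h2
  refine ⟨g, ?_⟩
  rw [cj_mul, ← conjIrr_eq_cj]
  exact hg

end Cfsg.Agent.Lib.L0.BlockCoverAut
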