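import Mathlib
import Cfsg.Prelude.Def_BrauerPairs
import Cfsg.Prelude.Def_BlockFusion
import Cfsg.Agent.Lib.L0.BrauerFully
import Cfsg.Agent.Lib.L0.BrauerStab
import Cfsg.Agent.Lib.L0.BrauerAbelian
import Cfsg.Agent.Lib.H25.Fusion

/-!
# The fusion system of a block as a term (lead)

* `isDefectGroup_of_localMax_general`: for `(Q, f)` locally maximal for normalizers and any `H` with
  `N_P(Q) C_G(Q) ≤ H ≤ N_G(Q, f)`, `N_P(Q)` is a defect group of the block of `H` with the
  idempotent of `f`;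
* `blockHom`, `blockFusion`: the fusion system of a block on a maximal Brauer pair as a term of
  `FusionSystem P`.
-/

set_option autoImplicit false

namespace Cfsg.Agent.Lib.L0.BrauerSatA

open Cfsg MonoidAlgebra Cfsg.Agent.Lib.H23 Cfsg.Agent.Lib.H24 Cfsg.Agent.Lib.L0
  Cfsg.Agent.Lib.L0.BrauerPairHom Cfsg.Agent.Lib.L0.BrauerLam
  Cfsg.Agent.Lib.L0.BrauerNormal Cfsg.Agent.Lib.L0.BrauerSubpair Cfsg.Agent.Lib.L0.BrauerConj
  Cfsg.Agent.Lib.L0.BrauerDefect Cfsg.Agent.Lib.L0.BrauerSylow Cfsg.Agent.Lib.L0.BrauerCentric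
  Cfsg.Agent.Lib.L0.BlockOrbitCover Cfsg.Agent.Lib.L0.BrauerNormalizer
  Cfsg.Agent.Lib.L0.BrauerFully Cfsg.Agent.Lib.L0.BrauerStab Cfsg.Agent.Lib.L0.BrauerAbelian
open scoped ComplexConjugate

variable {G : Type*} [Group G] [Fintype G] {p : ℕ} {M : Ideal AlgInt}

/-- If `(Q, f)` is locally maximal for normalizers, then `N_P(Q)` is a defect group of the block
with the idempotent of `f` of any subgroup `H` with `N_P(Q) C_G(Q) ≤ H ≤ N_G(Q, f)`. -/
theorem isDefectGroup_of_localMax_general (hM : IsPModular p M) {P Q : Subgroup G}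
    {e : Set (IrrCharacter (Subgroup.centralizer (P : Set G)))}
    {f : Set (IrrCharacter (Subgroup.centralizer (Q : Set G)))}
    (hPe : IsBrauerPair p M P e) (hf : IsPBlock M f)
    (hle : SubpairLE p M Q f P e)
    (hloc : LocalMax p M P Q f (fun Q' => Subgroup.normalizer (Q' : Set G)))
    (T : Subgroup G) (hQT : Q ≤ T) (hCT : Subgroup.centralizer (Q : Set G) ≤ T)
    (hTN : T ≤ Subgroup.normalizer (Q : Set G))
    (hst : ∀ t ∈ T, StabilizesBlock (Subgroup.centralizer (Q : Set G)) f t)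
    (hRT : P ⊓ Subgroup.normalizer (Q : Set G) ≤ T)
    (F' : Set (IrrCharacter T)) (hF' : IsPBlock M F')
    (hF'c : ∀ t : T, blockCoeff F' t =
      subgroupBlockCoeff (Subgroup.centralizer (Q : Set G)) f (t : G)) :
    IsDefectGroup p M F' ((P ⊓ Subgroup.normalizer (Q : Set G)).subgroupOf T) := by
  classical
  haveI hPr := isPrime_of_isPModular hM
  haveI : Fact p.Prime := ⟨prime_of_isPModular hM⟩
  have hQ : IsPGroup p Q :=
    (isBrauerPair_of_reflTransGen (a := ⟨Q, f⟩) (b := ⟨P, e⟩) hle hPe).1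
  haveI : Fintype T := Fintype.ofFinite _
  obtain ⟨D₂, hD₂, hle_D⟩ := exists_defectGroup_ge_normalizer hM hPe hle T hCT F' hF' hF'c
  have hD₂p : IsPGroup p (D₂.map T.subtype) := (isPGroup_of_isDefectGroup hD₂).map _
  have hD₂T : D₂.map T.subtype ≤ T := Subgroup.map_subtype_le D₂
  obtain ⟨χ₀, hχ₀⟩ := hF'
  subst hχ₀
  haveI hnQ : (Q.subgroupOf T).Normal :=
    Subgroup.normal_subgroupOf_of_le_normalizer hTN
  have hQD' : Q.subgroupOf T ≤ D₂ :=
    normal_le_defectGroup hM χ₀ (Q.subgroupOf T) hQ.comap_subtype D₂ hD₂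
  have hQD : Q ≤ D₂.map T.subtype := by
    rw [← Subgroup.map_subgroupOf_eq_of_le hQT]
    exact Subgroup.map_mono hQD'
  have hD₂' := hD₂
  obtain ⟨t₂, ht₂, S, hS⟩ := hD₂'
  have hxD : (t₂ : G) ∈ Subgroup.centralizer ((D₂.map T.subtype : Subgroup G) : Set G) := by
    rw [Subgroup.mem_centralizer_iff]
    rintro _ ⟨d, hd, rfl⟩
    rw [hS] at hd
    obtain ⟨s, _, rfl⟩ := hd
    have h1 := Subgroup.mem_centralizer_iff.1 s.2 t₂ (Set.mem_singleton t₂)
    have h2 := congrArg (Subtype.val : T → G) h1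
    simp only [Subgroup.coe_mul] at h2
    exact h2.symm
  have hxc : ¬ MemLocalIdeal M (subgroupBlockCoeff
      (Subgroup.centralizer ((Q : Subgroup G) : Set G)) f (t₂ : G)) := by
    rw [← hF'c]
    exact ht₂.2.1
  obtain ⟨h₂, hnormD⟩ := exists_normalSubpair_of_coeff hM hQ hf hD₂p hQD (hD₂T.trans hTN)
    (fun r hr => hst r (hD₂T hr)) hxD hxc
  have h1 := hloc _ h₂ hnormD (D₂.map T.subtype) le_rfl (hD₂T.trans hTN)
  rw [Subgroup.card_map_of_injective (Subgroup.subtype_injective _)] at h1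
  have h2 : Nat.card ↥((P ⊓ Subgroup.normalizer ((Q : Subgroup G) : Set G)).subgroupOf T) =
      Nat.card ↥(P ⊓ Subgroup.normalizer ((Q : Subgroup G) : Set G)) :=
    Nat.card_congr (Subgroup.subgroupOfEquivOfLe hRT).toEquiv
  have h3 : (P ⊓ Subgroup.normalizer ((Q : Subgroup G) : Set G)).subgroupOf T = D₂ :=
    Subgroup.eq_of_le_of_card_ge hle_D (by rw [h2]; exact h1)
  rw [h3]
  exact hD₂

/-! ### The fusion system of a block -/

/-- The maps of the fusion system of a block with source `Q`. -/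
def blockHom (p : ℕ) (M : Ideal AlgInt) (P : Subgroup G)
    (e : Set (IrrCharacter (Subgroup.centralizer (P : Set G)))) (Q : Subgroup G) :
    Set (Q →* G) :=
  {φ | Q ≤ P ∧ ∃ g : G, (∀ u : Q, φ u = g * (u : G) * g⁻¹) ∧
        Q.map (MulAut.conj g).toMonoidHom ≤ P ∧
        ∃ f : Set (IrrCharacter (Subgroup.centralizer (Q : Set G))),
          SubpairLE p M Q f P e ∧
            SubpairLE p M (Q.map (MulAut.conj g).toMonoidHom) (conjBlock Q g f) P e}

theorem conjHom_mem_blockHom {P : Subgroup G}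
    {e : Set (IrrCharacter (Subgroup.centralizer (P : Set G)))} {Q : Subgroup G}
    {f : Set (IrrCharacter (Subgroup.centralizer (Q : Set G)))}
    (hle : SubpairLE p M Q f P e) {g : G}
    (hle' : Relation.ReflTransGen (NormalSubpairRel p M) (conjPair g ⟨Q, f⟩) ⟨P, e⟩) :
    conjHom Q g ∈ blockHom p M P e Q :=
  ⟨fst_le_of_reflTransGen (a := ⟨Q, f⟩) (b := ⟨P, e⟩) hle, g, fun _ => rfl,
    fst_le_of_reflTransGen (a := conjPair g ⟨Q, f⟩) (b := ⟨P, e⟩) hle', f, hle, hle'⟩

theorem exists_of_mem_blockHom (hM : IsPModular p M) {P : Subgroup G}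
    {e : Set (IrrCharacter (Subgroup.centralizer (P : Set G)))} {Q : Subgroup G}
    {f : Set (IrrCharacter (Subgroup.centralizer (Q : Set G)))}
    (hle : SubpairLE p M Q f P e) {φ : Q →* G} (hφ : φ ∈ blockHom p M P e Q) :
    ∃ g : G, (∀ u : Q, φ u = g * (u : G) * g⁻¹) ∧
      Relation.ReflTransGen (NormalSubpairRel p M) (conjPair g ⟨Q, f⟩) ⟨P, e⟩ := by
  obtain ⟨_, g, hg, _, f', hle1, hle2⟩ := hφ
  have hff : f' = f := subpairLE_unique hM (a := ⟨Q, f⟩) (b := ⟨P, e⟩) hle f' hle1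
  subst hff
  exact ⟨g, hg, hle2⟩

/-- Conjugation by an element of `P` fixes `(P, e)`. -/
theorem conjPair_self_of_mem (hM : IsPModular p M) {P : Subgroup G}
    {e : Set (IrrCharacter (Subgroup.centralizer (P : Set G)))} (he : IsPBlock M e) {g : G}
    (hg : g ∈ P) : conjPair g (⟨P, e⟩ : BrauerPairIdx G) = ⟨P, e⟩ := by
  haveI hPr := isPrime_of_isPModular hM
  exact conjPair_eq_self_of_stab he (Subgroup.le_normalizer hg)
    (stabilizesBlock_of_mem_sup P e (Subgroup.mem_sup_left hg))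

theorem below_conj_of_mem (hM : IsPModular p M) {P : Subgroup G}
    {e : Set (IrrCharacter (Subgroup.centralizer (P : Set G)))} (he : IsPBlock M e)
    {a : BrauerPairIdx G}
    (ha : Relation.ReflTransGen (NormalSubpairRel p M) a ⟨P, e⟩) {g : G} (hg : g ∈ P) :
    Relation.ReflTransGen (NormalSubpairRel p M) (conjPair g a) ⟨P, e⟩ := by
  have h1 := reflTransGen_conjPair g ha
  rwa [conjPair_self_of_mem hM he hg] at h1

theorem range_eq_map_conj {Q : Subgroup G} {φ : Q →* G} {g : G}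
    (hg : ∀ u : Q, φ u = g * (u : G) * g⁻¹) :
    φ.range = Q.map (MulAut.conj g).toMonoidHom := by
  ext y
  constructor
  · rintro ⟨u, rfl⟩
    exact ⟨u, u.2, (hg u).symm⟩
  · rintro ⟨u, hu, rfl⟩
    exact ⟨⟨u, hu⟩, hg ⟨u, hu⟩⟩

/-- The fusion system of a block on a Brauer pair `(P, e)`, as a term. -/
noncomputable def blockFusion (hM : IsPModular p M) {P : Subgroup G}
    {e : Set (IrrCharacter (Subgroup.centralizer (P : Set G)))} (hPe : IsBrauerPair p M P e) :
    FusionSystem P where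
  Hom := blockHom p M P e
  le_of_mem := by
    rintro Q φ ⟨hQP, g, hg, hgP, _⟩
    refine ⟨hQP, fun x => hgP ?_⟩
    rw [hg]
    exact ⟨x, x.2, rfl⟩
  injective_of_mem := by
    rintro Q φ ⟨_, g, hg, _⟩ a b hab
    have h : g * (a : G) * g⁻¹ = g * (b : G) * g⁻¹ := ((hg a).symm.trans hab).trans (hg b)
    exact Subtype.ext (mul_left_cancel (mul_right_cancel h))
  conj_mem := by
    intro Q g hQP hg
    obtain ⟨f, _, hle⟩ := exists_subpairLE hM _ P e rfl hPe Q hQP
    exact conjHom_mem_blockHom hle (below_conj_of_mem hM hPe.2 hle hg)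
  comp_mem := by
    intro Q R φ ψ hφ hψ h
    haveI hPr := isPrime_of_isPModular hM
    have hQP : Q ≤ P := hφ.1
    have hRP : R ≤ P := hψ.1
    obtain ⟨f, hf, hle⟩ := exists_subpairLE hM _ P e rfl hPe Q hQP
    obtain ⟨fR, _, hleR⟩ := exists_subpairLE hM _ P e rfl hPe R hRP
    obtain ⟨g, hg, hg'⟩ := exists_of_mem_blockHom hM hle hφ
    obtain ⟨k, hk, hk'⟩ := exists_of_mem_blockHom hM hleR hψ
    have hQR : (conjPair g (⟨Q, f⟩ : BrauerPairIdx G)).1 ≤ R := by
      rintro _ ⟨u, hu, rfl⟩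
      have := h ⟨u, hu⟩
      rw [hg] at this
      exact this
    have h1 := subpairLE_intermediate hM (a := conjPair g ⟨Q, f⟩) (b := ⟨P, e⟩) (c := ⟨R, fR⟩)
      hg' hleR hPe hQR
    have h2 := (reflTransGen_conjPair k h1).trans hk'
    rw [conjPair_mul (M := M) k g (a := (⟨Q, f⟩ : BrauerPairIdx G)) hf] at h2
    have h3 := conjHom_mem_blockHom hle h2
    have e1 : ψ.comp (φ.codRestrict R h) = conjHom Q (k * g) := by
      ext u
      show ψ (φ.codRestrict R h u) = k * g * (u : G) * (k * g)⁻¹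
      rw [hk]
      show k * φ u * k⁻¹ = _
      rw [hg, mul_inv_rev]
      simp only [mul_assoc]
    rw [e1]
    exact h3
  inv_mem := by
    intro Q φ hφ
    haveI hPr := isPrime_of_isPModular hM
    have hQP : Q ≤ P := hφ.1
    obtain ⟨f, hf, hle⟩ := exists_subpairLE hM _ P e rfl hPe Q hQP
    obtain ⟨g, hg, hg'⟩ := exists_of_mem_blockHom hM hle hφ
    have key : ∀ R : Subgroup G, R = Q.map (MulAut.conj g).toMonoidHom →
        conjHom R g⁻¹ ∈ blockHom p M P e R := by
      rintro R rfl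
      refine conjHom_mem_blockHom (f := conjBlock Q g f) hg' ?_
      have h1 : conjPair g⁻¹ (conjPair g (⟨Q, f⟩ : BrauerPairIdx G)) = ⟨Q, f⟩ :=
        conjPair_inv_conjPair (M := M) g (a := (⟨Q, f⟩ : BrauerPairIdx G)) hf
      show Relation.ReflTransGen (NormalSubpairRel p M)
        (conjPair g⁻¹ (conjPair g (⟨Q, f⟩ : BrauerPairIdx G))) ⟨P, e⟩
      rw [h1]
      exact hle
    refine ⟨conjHom φ.range g⁻¹, key _ (range_eq_map_conj hg), fun x => ?_⟩
    show g⁻¹ * φ x * g⁻¹⁻¹ = x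
    rw [hg, inv_inv]
    simp only [mul_assoc, inv_mul_cancel, mul_one, inv_mul_cancel_left]

theorem blockFusion_hom (hM : IsPModular p M) {P : Subgroup G}
    {e : Set (IrrCharacter (Subgroup.centralizer (P : Set G)))} (hPe : IsBrauerPair p M P e)
    (Q : Subgroup G) : (blockFusion hM hPe).Hom Q = blockHom p M P e Q := rfl

theorem isBlockFusionSystemOn_blockFusion (hM : IsPModular p M) {B : Set (IrrCharacter G)}
    {P : Subgroup G} {e : Set (IrrCharacter (Subgroup.centralizer (P : Set G)))}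
    (hmax : IsMaximalBrauerPair p M B P e) :
    IsBlockFusionSystemOn p M B P e (blockFusion hM hmax.1.1) :=
  ⟨hmax, fun _ _ => Iff.rfl⟩

end Cfsg.Agent.Lib.L0.BrauerSatA
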