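import Mathlib
import Cfsg.Prelude.Def_BrauerPairs
import Cfsg.Prelude.Def_BlockFusion
import Cfsg.Agent.Lib.L0.BrauerSatA
import Cfsg.Agent.Lib.L0.BrauerNilpotent
import Cfsg.Agent.Lib.H23.BlockVanishP

/-!
# A normal centric Brauer pair stabilized by the whole group (lead)

If `(Q, f) ≤ (P, e)` with `Q` centric in the fusion system of `B` and `G = N_G(Q, f)`, then the
idempotent of `B` is that of `f`, and `f` is the idempotent of a nilpotent block of `Q C_G(Q)`
(S4693).
-/

set_option autoImplicit false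

namespace Cfsg.Agent.Lib.L0.BrauerCentricNormal

open Cfsg MonoidAlgebra Cfsg.Agent.Lib.H23 Cfsg.Agent.Lib.H24 Cfsg.Agent.Lib.L0
  Cfsg.Agent.Lib.L0.BrauerPairHom Cfsg.Agent.Lib.L0.BrauerLam
  Cfsg.Agent.Lib.L0.BrauerNormal Cfsg.Agent.Lib.L0.BrauerSubpair Cfsg.Agent.Lib.L0.BrauerConj
  Cfsg.Agent.Lib.L0.BrauerDefect Cfsg.Agent.Lib.L0.BrauerSylow Cfsg.Agent.Lib.L0.BrauerCentric
  Cfsg.Agent.Lib.L0.BlockOrbitCover Cfsg.Agent.Lib.L0.BrauerNormalizer
  Cfsg.Agent.Lib.L0.BrauerFully Cfsg.Agent.Lib.L0.BrauerStab Cfsg.Agent.Lib.L0.BrauerAbelian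
  Cfsg.Agent.Lib.L0.BrauerSatA Cfsg.Agent.Lib.L0.BrauerNilpotent
open scoped ComplexConjugate

variable {G : Type*} [Group G] [Fintype G] {p : ℕ} {M : Ideal AlgInt}

/-- `(Q, f) ⊴ (Q, f)`. -/
theorem isNormalSubpair_self (hM : IsPModular p M) {Q : Subgroup G}
    {f : Set (IrrCharacter (Subgroup.centralizer (Q : Set G)))} (hQf : IsBrauerPair p M Q f) :
    IsNormalSubpair p M Q f Q f := by
  obtain ⟨f₀, hf₀, _⟩ := exists_unique_normalSubpair hM Q Q f hQf le_rfl Subgroup.le_normalizer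
  have h1 : f₀ = f := eq_of_normalSubpair_self hM hf₀
  rw [h1] at hf₀
  exact hf₀

/-- If `Q` is normal in `G`, then `(Q, f)` is locally maximal for `Q ↦ Q C_G(Q)`. -/
theorem localMax_sup_of_normal (hM : IsPModular p M) {B : Set (IrrCharacter G)} {P Q : Subgroup G}
    {e : Set (IrrCharacter (Subgroup.centralizer (P : Set G)))}
    {f : Set (IrrCharacter (Subgroup.centralizer (Q : Set G)))}
    (hmax : IsMaximalBrauerPair p M B P e) (hle : SubpairLE p M Q f P e)
    (hG : ∀ x : G, x ∈ Subgroup.normalizer (Q : Set G)) :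
    LocalMax p M P Q f (fun Q' => Q' ⊔ Subgroup.centralizer (Q' : Set G)) := by
  refine localMax_of_fully hM hmax hle _ (fun Q' y => ?_) fun x _ => ?_
  · rw [Subgroup.map_sup]
    exact sup_le_sup_left (map_conj_centralizer_le Q' y) _
  · show Nat.card ↥(P ⊓ (Q.map (MulAut.conj x).toMonoidHom ⊔
      Subgroup.centralizer ((Q.map (MulAut.conj x).toMonoidHom : Subgroup G) : Set G))) ≤
      Nat.card ↥(P ⊓ (Q ⊔ Subgroup.centralizer (Q : Set G)))
    rw [map_conj_eq_of_mem_normalizer' (hG x)]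

/-- The block of a subgroup `T` with `Q C_G(Q) ≤ T ≤ Q C_G(Q)` (stated for an opaque `T`). -/
theorem nilpotent_aux (hM : IsPModular p M) {B : Set (IrrCharacter G)} {P : Subgroup G}
    {e : Set (IrrCharacter (Subgroup.centralizer (P : Set G)))}
    (hmax : IsMaximalBrauerPair p M B P e) {F : FusionSystem P} {Q : Subgroup G}
    {f : Set (IrrCharacter (Subgroup.centralizer (Q : Set G)))} (hf : IsPBlock M f)
    (hle : SubpairLE p M Q f P e) (hcen : F.IsCentric Q)
    (hG : ∀ x : G, x ∈ Subgroup.normalizer (Q : Set G) ∧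
      StabilizesBlock (Subgroup.centralizer (Q : Set G)) f x)
    (T : Subgroup G) (hQH : Q ≤ T) (hCH : Subgroup.centralizer (Q : Set G) ≤ T)
    (hTle : T ≤ Q ⊔ Subgroup.centralizer (Q : Set G))
    (F' : Set (IrrCharacter T)) (hF' : IsPBlock M F')
    (hF'c : ∀ t : T, blockCoeff F' t =
        subgroupBlockCoeff (Subgroup.centralizer (Q : Set G)) f (t : G)) :
    IsNilpotentBlock p M F' := by
  classical
  haveI hPr := isPrime_of_isPModular hM
  haveI : Fact p.Prime := ⟨prime_of_isPModular hM⟩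
  have hPe : IsBrauerPair p M P e := hmax.1.1
  have hQP : Q ≤ P := fst_le_of_reflTransGen (a := ⟨Q, f⟩) (b := ⟨P, e⟩) hle
  have hQ : IsPGroup p Q := hPe.1.to_le hQP
  have hCN : Subgroup.centralizer (Q : Set G) ≤ Subgroup.normalizer (Q : Set G) :=
    Subgroup.centralizer_le_normalizer _
  have hHN : T ≤ Subgroup.normalizer (Q : Set G) := fun x _ => (hG x).1
  have hstH : ∀ t ∈ T,
      StabilizesBlock (Subgroup.centralizer (Q : Set G)) f t := fun x _ => (hG x).2
  haveI : Fintype ↥T := Fintype.ofFinite _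
  haveI hnQ : (Q.subgroupOf T).Normal :=
    Subgroup.normal_subgroupOf_of_le_normalizer hHN
  have hQ'p : IsPGroup p (Q.subgroupOf T) := hQ.comap_subtype
  -- `P ∩ Q C_G(Q) ≤ Q`
  have hPQC : P ⊓ (Q ⊔ Subgroup.centralizer (Q : Set G)) ≤ Q := by
    intro x hx
    obtain ⟨hxP, hxH⟩ := Subgroup.mem_inf.1 hx
    have hmem : x ∈ ((Q ⊔ Subgroup.centralizer (Q : Set G) : Subgroup G) : Set G) := hxH
    rw [Subgroup.coe_mul_of_right_le_normalizer_left Q _ hCN] at hmem
    obtain ⟨q, hq, c, hc, rfl⟩ := hmem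
    have hcP : c ∈ P := by
      have e1 : c = q⁻¹ * (q * c) := by group
      rw [e1]
      exact P.mul_mem (P.inv_mem (hQP hq)) hxP
    have hcQ : c ∈ Q := hcen.2 Q (Cfsg.Agent.Lib.H25.isConj_refl F hQP)
      (Subgroup.mem_inf.2 ⟨hcP, hc⟩)
    exact Q.mul_mem hq hcQ
  -- every defect group of `F'` is `Q`
  have hDG : ∀ D₂ : Subgroup ↥T,
      IsDefectGroup p M F' D₂ → D₂ = Q.subgroupOf T := by
    intro D₂ hD₂
    have hD₂p : IsPGroup p (D₂.map T.subtype) :=
      (isPGroup_of_isDefectGroup hD₂).map _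
    have hD₂T : D₂.map T.subtype ≤ T := Subgroup.map_subtype_le D₂
    obtain ⟨χ₀, hχ₀⟩ := hF'
    subst hχ₀
    have hQD' : Q.subgroupOf T ≤ D₂ :=
      normal_le_defectGroup hM χ₀ _ hQ'p D₂ hD₂
    have hQD : Q ≤ D₂.map T.subtype := by
      rw [← Subgroup.map_subgroupOf_eq_of_le hQH]
      exact Subgroup.map_mono hQD'
    have hD₂' := hD₂
    obtain ⟨t₂, ht₂, S, hS⟩ := hD₂'
    have hxD : (t₂ : G) ∈ Subgroup.centralizer
        ((D₂.map T.subtype : Subgroup G) : Set G) := by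
      rw [Subgroup.mem_centralizer_iff]
      rintro _ ⟨d, hd, rfl⟩
      rw [hS] at hd
      obtain ⟨s, _, rfl⟩ := hd
      have h1 := Subgroup.mem_centralizer_iff.1 s.2 t₂ (Set.mem_singleton t₂)
      have h2 := congrArg (Subtype.val : ↥T → G) h1
      simp only [Subgroup.coe_mul] at h2
      exact h2.symm
    have hxc : ¬ MemLocalIdeal M (subgroupBlockCoeff
        (Subgroup.centralizer ((Q : Subgroup G) : Set G)) f (t₂ : G)) := by
      rw [← hF'c]
      exact ht₂.2.1
    obtain ⟨h₂, hnormD⟩ := exists_normalSubpair_of_coeff hM hQ hf hD₂p hQD (hD₂T.trans hHN)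
      (fun r hr => hstH r (hD₂T hr)) hxD hxc
    have hloc := localMax_sup_of_normal hM hmax hle fun x => (hG x).1
    have h1 := hloc _ h₂ hnormD _ le_rfl (hD₂T.trans hTle)
    rw [Subgroup.card_map_of_injective (Subgroup.subtype_injective _)] at h1
    have h2 : Nat.card ↥(Q.subgroupOf T) = Nat.card Q :=
      Nat.card_congr (Subgroup.subgroupOfEquivOfLe hQH).toEquiv
    have h3 := Subgroup.card_le_of_le hPQC
    exact (Subgroup.eq_of_le_of_card_ge hQD' (by rw [h2]; exact h1.trans h3)).symm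
  refine ⟨hF', fun R h hRh x hxN _ hxreg => ?_⟩
  -- `R ≤ Q`
  obtain ⟨S, k, hSk, hRS⟩ := exists_maximal_above hM _ R h rfl hRh
  have hSD := isDefectGroup_of_maximal hM hSk
  have hSQ := hDG S hSD
  have hRQ : R ≤ Q.subgroupOf T := by
    rw [← hSQ]
    exact fst_le_of_reflTransGen (a := ⟨R, h⟩) (b := ⟨S, k⟩) hRS
  -- `x` centralizes `Q`
  have hxH : (x : G) ∈ ((Q ⊔ Subgroup.centralizer (Q : Set G) : Subgroup G) : Set G) :=
    hTle x.2
  rw [Subgroup.coe_mul_of_right_le_normalizer_left Q _ hCN] at hxH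
  obtain ⟨q, hq, c, hc, hqc⟩ := hxH
  obtain ⟨a, ha⟩ := hQ ⟨q, hq⟩
  have ha' : q ^ (p ^ a) = 1 := by
    have := congrArg (Subtype.val : Q → G) ha
    simpa using this
  have hxreg' : IsPRegular p (x : G) := by
    unfold IsPRegular at hxreg ⊢
    rwa [Subgroup.orderOf_coe]
  have hxC : (x : G) ∈ Subgroup.centralizer (Q : Set G) := by
    refine mem_centralizer_of_pRegular_of_conj_eq (hG x).1 hxreg' ha' fun q' hq' => ?_
    rw [← hqc]
    have h1 := Subgroup.mem_centralizer_iff.1 hc q' hq'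
    calc q * c * q' * (q * c)⁻¹ = q * (c * q') * c⁻¹ * q⁻¹ := by group
      _ = q * (q' * c) * c⁻¹ * q⁻¹ := by rw [h1]
      _ = q * q' * q⁻¹ := by group
  rw [Subgroup.mem_centralizer_iff]
  intro r hr
  apply Subtype.ext
  have hrQ : (r : G) ∈ Q := Subgroup.mem_subgroupOf.1 (hRQ hr)
  have h1 := Subgroup.mem_centralizer_iff.1 hxC (r : G) hrQ
  simp only [Subgroup.coe_mul]
  exact h1

/-- **S4693.** -/
theorem centric_normal (hM : IsPModular p M) {B : Set (IrrCharacter G)} {P : Subgroup G}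
    {e : Set (IrrCharacter (Subgroup.centralizer (P : Set G)))}
    (hmax : IsMaximalBrauerPair p M B P e) {F : FusionSystem P}
    (hF : IsBlockFusionSystemOn p M B P e F) {Q : Subgroup G}
    {f : Set (IrrCharacter (Subgroup.centralizer (Q : Set G)))} (hf : IsPBlock M f)
    (hle : SubpairLE p M Q f P e) (hcen : F.IsCentric Q)
    (hG : ∀ x : G, x ∈ Subgroup.normalizer (Q : Set G) ∧
      StabilizesBlock (Subgroup.centralizer (Q : Set G)) f x) :
    (∀ g : G, blockCoeff B g = subgroupBlockCoeff (Subgroup.centralizer (Q : Set G)) f g) ∧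
    ∃ F' : Set (IrrCharacter ↥(Q ⊔ Subgroup.centralizer (Q : Set G))), IsPBlock M F' ∧
      (∀ t : ↥(Q ⊔ Subgroup.centralizer (Q : Set G)), blockCoeff F' t =
        subgroupBlockCoeff (Subgroup.centralizer (Q : Set G)) f (t : G)) ∧
      IsNilpotentBlock p M F' := by
  classical
  haveI hPr := isPrime_of_isPModular hM
  haveI : Fact p.Prime := ⟨prime_of_isPModular hM⟩
  have hPe : IsBrauerPair p M P e := hmax.1.1
  have hQP : Q ≤ P := fst_le_of_reflTransGen (a := ⟨Q, f⟩) (b := ⟨P, e⟩) hle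
  have hQ : IsPGroup p Q := hPe.1.to_le hQP
  have hCN : Subgroup.centralizer (Q : Set G) ≤ Subgroup.normalizer (Q : Set G) :=
    Subgroup.centralizer_le_normalizer _
  constructor
  · -- the idempotent of `B`
    obtain ⟨E, hE, hEc⟩ := exists_block_of_stabilizer hM hQ hf ⊤ le_top le_top
      (fun x _ => (hG x).1) (fun x _ => (hG x).2)
    set ε : G ≃* (⊤ : Subgroup G) := Subgroup.topEquiv.symm with hε
    have hEG : IsPBlock M (irrEquiv ε '' E) := isPBlock_irrEquiv_image ε hE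
    have hcoef : ∀ g : G, blockCoeff (irrEquiv ε '' E) g =
        subgroupBlockCoeff (Subgroup.centralizer (Q : Set G)) f g := by
      intro g
      rw [blockCoeff_irrEquiv_image, hEc]
      rfl
    have hself := isNormalSubpair_self hM (Q := Q) (f := f) ⟨hQ, hf⟩
    have hQE : IsBrauerPairOf p M (irrEquiv ε '' E) Q f := by
      refine ⟨⟨hQ, hf⟩, hEG, fun ξ hξ => ?_⟩
      have h1 : blockCoeff (irrEquiv ε '' E) =
          subgroupBlockCoeff (Subgroup.centralizer (Q : Set G)) f := funext hcoef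
      rw [h1]
      exact hself.2.2.2.2.2 ξ hξ
    have hQB : IsBrauerPairOf p M B Q f :=
      (isBrauerPairOf_iff_of_reflTransGen hM (a := ⟨Q, f⟩) (b := ⟨P, e⟩) hle B).2 hmax.1
    have hBE : B = irrEquiv ε '' E :=
      (exists_unique_block_of_brauerPair hM Q f ⟨hQ, hf⟩).unique hQB hQE
    intro g
    rw [hBE]
    exact hcoef g
  · -- the block of `Q C_G(Q)`
    have hQH : Q ≤ Q ⊔ Subgroup.centralizer (Q : Set G) := le_sup_left
    have hCH : Subgroup.centralizer (Q : Set G) ≤ Q ⊔ Subgroup.centralizer (Q : Set G) :=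
      le_sup_right
    have hHN : Q ⊔ Subgroup.centralizer (Q : Set G) ≤ Subgroup.normalizer (Q : Set G) :=
      fun x _ => (hG x).1
    have hstH : ∀ t ∈ Q ⊔ Subgroup.centralizer (Q : Set G),
        StabilizesBlock (Subgroup.centralizer (Q : Set G)) f t := fun x _ => (hG x).2
    obtain ⟨F', hF', hF'c⟩ := exists_block_of_stabilizer hM hQ hf _ hQH hCH hHN hstH
    exact ⟨F', hF', hF'c, nilpotent_aux hM hmax hf hle hcen hG _ hQH hCH le_rfl F' hF' hF'c⟩

end Cfsg.Agent.Lib.L0.BrauerCentricNormal
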