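import Mathlib
import Cfsg.Prelude.Def_BrauerPairs
import Cfsg.Agent.Lib.L0.BrauerNormalizer
import Cfsg.Agent.Lib.L0.BrauerSubpair

/-!
# Brauer pairs on a normal `p`-subgroup (lead)

For `P ⊴ G` a `p`-subgroup and `(P, e)` a Brauer pair of `B`: the idempotent of `B` is the sum of
the distinct `G`-conjugates of the idempotent of `e` (S4654).
-/

set_option autoImplicit false

namespace Cfsg.Agent.Lib.L0.BrauerNormalP

open Cfsg MonoidAlgebra Cfsg.Agent.Lib.H23 Cfsg.Agent.Lib.H24 Cfsg.Agent.Lib.L0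
  Cfsg.Agent.Lib.L0.BrauerPairHom Cfsg.Agent.Lib.L0.BrauerLam
  Cfsg.Agent.Lib.L0.BrauerNormal Cfsg.Agent.Lib.L0.BrauerSubpair
  Cfsg.Agent.Lib.L0.BlockOrbitCover Cfsg.Agent.Lib.L0.BrauerNormalizer
open scoped ComplexConjugate

section Count

variable {G : Type*} [Group G] [Fintype G] (N : Subgroup G) [hN : N.Normal]
  {M : Ideal AlgInt}

/-- For a block `e` of the normal subgroup `N`: `t⁻¹` stabilizes `e` iff `t` carries one member of
`e` into `e`. -/
theorem stabilizesBlock_inv_iff [hPr : M.IsPrime] {e : Set (IrrCharacter N)} (he : IsPBlock M e)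
    {θ : IrrCharacter N} (hθ : θ ∈ e) (t : G) :
    StabilizesBlock N e t⁻¹ ↔ conjIrr N θ t ∈ e := by
  have hconj : ∀ χ : IrrCharacter N,
      IsConjCharOf N t⁻¹ (χ : N → ℂ) (conjIrr N χ t : N → ℂ) := by
    intro χ k k' hk
    rw [conjIrr_apply]
    refine congrArg (χ : N → ℂ) (Subtype.ext ?_)
    show t * (k' : G) * t⁻¹ = (k : G)
    rw [hk]
    group
  constructor
  · rintro ⟨_, h⟩
    obtain ⟨χ', hχ', hc⟩ := h θ hθ
    have : χ' = conjIrr N θ t := by
      apply Subtype.ext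
      funext k'
      have h1 := hc ⟨t * (k' : G) * t⁻¹, hN.conj_mem k' k'.2 t⟩ k' (by
        show (k' : G) = t⁻¹ * (t * (k' : G) * t⁻¹) * t⁻¹⁻¹
        group)
      rw [h1, conjIrr_apply]
    rwa [← this]
  · intro h
    refine ⟨by rw [Subgroup.normalizer_eq_top]; exact Subgroup.mem_top _, fun χ hχ => ?_⟩
    refine ⟨conjIrr N χ t, ?_, hconj χ⟩
    obtain ⟨θ₀, rfl⟩ := he
    have h1 : SameBlock M (θ₀ : N → ℂ) (θ : N → ℂ) := hθ
    have h2 : SameBlock M (θ₀ : N → ℂ) (χ : N → ℂ) := hχ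
    have h3 : SameBlock M (θ : N → ℂ) (χ : N → ℂ) := sameBlock_trans (sameBlock_symm h1) h2
    have h4 := sameBlock_conjIrr N h3 t
    exact sameBlock_trans h h4

/-- The number of `x` carrying `ψ` into the block `e` is `|T|` or `0`. -/
theorem card_conj_mem [hPr : M.IsPrime] {e : Set (IrrCharacter N)} (he : IsPBlock M e)
    (T : Subgroup G) (hT : ∀ x : G, x ∈ T ↔ StabilizesBlock N e x) (ψ : IrrCharacter N) :
    Nat.card {x : G // conjIrr N ψ x ∈ e} =
      by classical exact if ψ ∈ orbitSet N e then Nat.card T else 0 := by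
  classical
  by_cases hψ : ψ ∈ orbitSet N e
  · rw [if_pos hψ]
    obtain ⟨x₀, hx₀⟩ := hψ
    have key : ∀ x : G, conjIrr N ψ x ∈ e ↔ x⁻¹ * x₀ ∈ T := by
      intro x
      rw [hT]
      have h1 := stabilizesBlock_inv_iff N he hx₀ (x₀⁻¹ * x)
      rw [conjIrr_conjIrr, mul_inv_cancel_left] at h1
      rw [← h1]
      have e1 : (x₀⁻¹ * x)⁻¹ = x⁻¹ * x₀ := by group
      rw [e1]
    refine Nat.card_congr ⟨fun x => ⟨x.1⁻¹ * x₀, (key x.1).1 x.2⟩,
      fun t => ⟨x₀ * (t : G)⁻¹, (key _).2 (by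
        have e1 : (x₀ * (t : G)⁻¹)⁻¹ * x₀ = (t : G) := by group
        rw [e1]
        exact t.2)⟩, fun x => ?_, fun t => ?_⟩
    · apply Subtype.ext
      show x₀ * (x.1⁻¹ * x₀)⁻¹ = x.1
      group
    · apply Subtype.ext
      show (x₀ * (t : G)⁻¹)⁻¹ * x₀ = (t : G)
      group
  · rw [if_neg hψ]
    haveI : IsEmpty {x : G // conjIrr N ψ x ∈ e} := ⟨fun x => hψ ⟨x.1, x.2⟩⟩
    exact Nat.card_of_isEmpty

end Count

section Main

variable {G : Type*} [Group G] [Fintype G] {p : ℕ} {M : Ideal AlgInt}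

/-- The sum of the conjugates of the idempotent of a block `e` of a normal subgroup `N`. -/
theorem sum_conj_blockCoeff (N : Subgroup G) [hN : N.Normal] [Fintype N] [hPr : M.IsPrime]
    {e : Set (IrrCharacter N)} (he : IsPBlock M e)
    (T : Subgroup G) (hT : ∀ x : G, x ∈ T ↔ StabilizesBlock N e x) (n : N) :
    ∑ x : G, blockCoeff e ⟨x⁻¹ * (n : G) * x⁻¹⁻¹, hN.conj_mem n n.2 x⁻¹⟩ =
      (Nat.card T : ℂ) * blockCoeff (orbitSet N e) n := by
  classical
  haveI := Fintype.ofFinite (IrrCharacter N)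
  set Fn : IrrCharacter N → ℂ := fun ψ => (ψ : N → ℂ) 1 * conj ((ψ : N → ℂ) n) with hFn
  have h1 : ∀ x : G, blockCoeff e ⟨x⁻¹ * (n : G) * x⁻¹⁻¹, hN.conj_mem n n.2 x⁻¹⟩ =
      (Nat.card N : ℂ)⁻¹ * ∑ ψ : IrrCharacter N, if conjIrr N ψ x ∈ e then Fn ψ else 0 := by
    intro x
    unfold blockCoeff
    congr 1
    have h2 : ∑ᶠ χ ∈ e, (χ : N → ℂ) 1 *
        conj ((χ : N → ℂ) ⟨x⁻¹ * (n : G) * x⁻¹⁻¹, hN.conj_mem n n.2 x⁻¹⟩) =
        ∑ᶠ ψ ∈ {ψ : IrrCharacter N | conjIrr N ψ x ∈ e}, Fn ψ := by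
      refine finsum_mem_eq_of_bijOn (fun θ => conjIrr N θ x⁻¹) ⟨?_, ?_, ?_⟩ ?_
      · intro θ hθ
        show conjIrr N (conjIrr N θ x⁻¹) x ∈ e
        rw [conjIrr_inv_cancel']
        exact hθ
      · intro θ _ φ _ hθφ
        have := congrArg (fun ψ => conjIrr N ψ x) hθφ
        simpa [conjIrr_inv_cancel'] using this
      · intro ψ hψ
        exact ⟨conjIrr N ψ x, hψ, conjIrr_inv_cancel N ψ x⟩
      · intro θ _
        show _ = (conjIrr N θ x⁻¹ : N → ℂ) 1 * conj ((conjIrr N θ x⁻¹ : N → ℂ) n)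
        rw [conjIrr_apply_one, conjIrr_apply]
    rw [h2, finsum_mem_def, finsum_eq_sum_of_fintype]
    refine Finset.sum_congr rfl fun ψ _ => ?_
    rw [Set.indicator_apply]
    rfl
  simp_rw [h1]
  rw [← Finset.mul_sum, Finset.sum_comm]
  have h3 : ∀ ψ : IrrCharacter N, ∑ x : G, (if conjIrr N ψ x ∈ e then Fn ψ else 0) =
      if ψ ∈ orbitSet N e then (Nat.card T : ℂ) * Fn ψ else 0 := by
    intro ψ
    have h4 := card_conj_mem N he T hT ψ
    rw [Nat.card_eq_fintype_card, Fintype.card_subtype] at h4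
    have h5 : ∑ x : G, (if conjIrr N ψ x ∈ e then Fn ψ else 0) =
        ((Finset.univ.filter fun x : G => conjIrr N ψ x ∈ e).card : ℂ) * Fn ψ := by
      rw [← Finset.sum_filter, Finset.sum_const, nsmul_eq_mul]
    rw [h5, h4]
    by_cases hψ : ψ ∈ orbitSet N e
    · rw [if_pos hψ, if_pos hψ]
    · rw [if_neg hψ, if_neg hψ]
      simp
  simp_rw [h3]
  unfold blockCoeff
  rw [finsum_mem_def, finsum_eq_sum_of_fintype]
  rw [Finset.mul_sum, Finset.mul_sum, Finset.mul_sum]
  refine Finset.sum_congr rfl fun ψ _ => ?_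
  rw [Set.indicator_apply]
  by_cases hψ : ψ ∈ orbitSet N e
  · rw [if_pos hψ, if_pos hψ]
    ring
  · rw [if_neg hψ, if_neg hψ]
    ring

/-- **S4654.** -/
theorem normal_pair (hM : IsPModular p M) {P : Subgroup G} [hPn : P.Normal] (hP : IsPGroup p P)
    {B : Set (IrrCharacter G)} {e : Set (IrrCharacter (Subgroup.centralizer (P : Set G)))}
    (hBe : IsBrauerPairOf p M B P e) (T : Subgroup G)
    (hT : ∀ x : G, x ∈ T ↔ StabilizesBlock (Subgroup.centralizer (P : Set G)) e x) :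
    (∃ E : Set (IrrCharacter T), IsPBlock M E ∧ ∀ t : T, blockCoeff E t =
      subgroupBlockCoeff (Subgroup.centralizer (P : Set G)) e (t : G)) ∧
    ∀ g : G, blockCoeff B g = (Nat.card T : ℂ)⁻¹ *
      ∑ x : G, subgroupBlockCoeff (Subgroup.centralizer (P : Set G)) e (x⁻¹ * g * x) := by
  classical
  haveI hPr := isPrime_of_isPModular hM
  haveI : Fact p.Prime := ⟨prime_of_isPModular hM⟩
  haveI : Fintype (Subgroup.centralizer (P : Set G)) := Fintype.ofFinite _
  have he : IsPBlock M e := hBe.1.2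
  constructor
  · refine exists_block_of_stabilizer hM hP he T ?_ ?_ ?_ fun t ht => (hT t).1 ht
    · intro q hq
      exact (hT q).2 (BrauerCentric.stabilizesBlock_of_mem_sup _ _ (Subgroup.mem_sup_left hq))
    · intro c hc
      exact (hT c).2 (BrauerCentric.stabilizesBlock_of_mem_sup _ _ (Subgroup.mem_sup_right hc))
    · rw [Subgroup.normalizer_eq_top]
      exact le_top
  · obtain ⟨θ₀, hθ₀⟩ := he
    obtain ⟨χ₀, hχ₀⟩ := exists_irr_over_restrict (Subgroup.centralizer (P : Set G)) θ₀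
    have h1 := blockIdem_eq_orbitIdem (Subgroup.centralizer (P : Set G)) hM P hP le_rfl θ₀ χ₀ hχ₀
    -- `(P, e)` is a pair of `blockOf χ₀`
    have hpair : IsBrauerPairOf p M (blockOf M (χ₀ : G → ℂ)) P e := by
      refine ⟨hBe.1, ⟨χ₀, rfl⟩, fun ξ hξ => ?_⟩
      rw [← lam_eq_brauerOmega, h1]
      unfold lam
      rw [resAlg_orbitIdem, omega_blockIdem, if_pos, sub_self]
      · exact memLocalIdeal_zero hPr.ne_top
      · rw [← hθ₀]
        exact subset_orbitSet _ _ hξ
    have hBB : B = blockOf M (χ₀ : G → ℂ) :=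
      (exists_unique_block_of_brauerPair hM P e hBe.1).unique hBe hpair
    have hTpos : (Nat.card T : ℂ) ≠ 0 := by
      have : 0 < Nat.card T := Nat.card_pos
      exact_mod_cast this.ne'
    intro g
    have h2 : blockCoeff B g =
        (orbitIdem (Subgroup.centralizer (P : Set G)) (blockOf M (θ₀ : _ → ℂ))).coeff g := by
      rw [hBB, ← h1, coeff_blockIdem]
    rw [h2]
    by_cases hg : g ∈ Subgroup.centralizer (P : Set G)
    · have h3 := sum_conj_blockCoeff (Subgroup.centralizer (P : Set G)) (M := M) ⟨θ₀, hθ₀⟩ T hT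
        ⟨g, hg⟩
      have h4 : ∀ x : G, subgroupBlockCoeff (Subgroup.centralizer (P : Set G)) e (x⁻¹ * g * x) =
          blockCoeff e ⟨x⁻¹ * g * x⁻¹⁻¹,
            (Subgroup.normal_centralizer (H := P)).conj_mem g hg x⁻¹⟩ := by
        intro x
        have hmem : x⁻¹ * g * x ∈ Subgroup.centralizer (P : Set G) := by
          have := (Subgroup.normal_centralizer (H := P)).conj_mem g hg x⁻¹
          rwa [inv_inv] at this
        unfold subgroupBlockCoeff
        rw [dif_pos hmem]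
        congr 1
        apply Subtype.ext
        show x⁻¹ * g * x = x⁻¹ * g * x⁻¹⁻¹
        rw [inv_inv]
      simp_rw [h4]
      rw [h3, ← mul_assoc, inv_mul_cancel₀ hTpos, one_mul, orbitIdem,
        coeff_extAlg_of_mem _ _ hg, coeff_blockIdem, hθ₀]
    · rw [orbitIdem_support _ _ g hg]
      have h4 : ∀ x : G,
          subgroupBlockCoeff (Subgroup.centralizer (P : Set G)) e (x⁻¹ * g * x) = 0 := by
        intro x
        unfold subgroupBlockCoeff
        rw [dif_neg]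
        intro hmem
        apply hg
        have := (Subgroup.normal_centralizer (H := P)).conj_mem _ hmem x
        have e1 : x * (x⁻¹ * g * x) * x⁻¹ = g := by group
        rwa [e1] at this
      simp_rw [h4]
      simp

end Main

end Cfsg.Agent.Lib.L0.BrauerNormalP
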