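import Mathlib
import Cfsg.Prelude.Def_BrauerPairs
import Cfsg.Prelude.Def_BlockFusion
import Cfsg.Agent.Lib.L0.BrauerSatA
import Cfsg.Agent.Lib.L0.BrauerAutomizer
import Cfsg.Agent.Lib.L0.BrauerRelative
import Cfsg.Agent.Lib.H26.GroupFusion

/-!
# The fusion system of a block is saturated (lead)
-/

set_option autoImplicit false

namespace Cfsg.Agent.Lib.L0.BrauerSatB

open Cfsg MonoidAlgebra Cfsg.Agent.Lib.H23 Cfsg.Agent.Lib.H24 Cfsg.Agent.Lib.L0
  Cfsg.Agent.Lib.L0.BrauerPairHom Cfsg.Agent.Lib.L0.BrauerLam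
  Cfsg.Agent.Lib.L0.BrauerNormal Cfsg.Agent.Lib.L0.BrauerSubpair Cfsg.Agent.Lib.L0.BrauerConj
  Cfsg.Agent.Lib.L0.BrauerDefect Cfsg.Agent.Lib.L0.BrauerSylow Cfsg.Agent.Lib.L0.BrauerCentric
  Cfsg.Agent.Lib.L0.BlockOrbitCover Cfsg.Agent.Lib.L0.BrauerNormalizer
  Cfsg.Agent.Lib.L0.BrauerFully Cfsg.Agent.Lib.L0.BrauerStab Cfsg.Agent.Lib.L0.BrauerAbelian
  Cfsg.Agent.Lib.L0.BrauerSatA Cfsg.Agent.Lib.L0.BrauerAutomizer Cfsg.Agent.Lib.L0.BrauerRelative
open scoped ComplexConjugate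

section General

variable {G : Type*} [Group G]

/-- The conjugate of the extender lies in `N_S(Q') C_G(Q')`. -/
theorem extender_conj_le {S R Q' : Subgroup G} {φ : R →* G} {k : G}
    (hk : ∀ x : R, φ x = k * (x : G) * k⁻¹)
    (hkR : R.map (MulAut.conj k).toMonoidHom = Q') :
    (FusionSystem.extender S R φ).map (MulAut.conj k).toMonoidHom ≤
      (S ⊓ Subgroup.normalizer (Q' : Set G)) ⊔ Subgroup.centralizer (Q' : Set G) := by
  rintro _ ⟨x, hx, rfl⟩
  rw [SetLike.mem_coe, Cfsg.Agent.Lib.H25.mem_extender_iff] at hx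
  obtain ⟨hxS, hxN, s, hs, hxs⟩ := hx
  show k * x * k⁻¹ ∈ _
  have hcent : s⁻¹ * (k * x * k⁻¹) ∈ Subgroup.centralizer (Q' : Set G) := by
    rw [Subgroup.mem_centralizer_iff]
    intro z hz
    rw [← hkR] at hz
    obtain ⟨y, hy, rfl⟩ := hz
    show (k * y * k⁻¹) * (s⁻¹ * (k * x * k⁻¹)) = s⁻¹ * (k * x * k⁻¹) * (k * y * k⁻¹)
    have hy' : x * y * x⁻¹ ∈ R := (Subgroup.mem_normalizer_iff.1 hxN y).1 hy
    have h1 := hxs ⟨y, hy⟩ hy'
    rw [hk, hk] at h1
    have h1' : k * (x * y * x⁻¹) * k⁻¹ = s * (k * y * k⁻¹) * s⁻¹ := h1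
    have e : s⁻¹ * (k * x * k⁻¹) * (k * y * k⁻¹) =
        s⁻¹ * (k * (x * y * x⁻¹) * k⁻¹) * (k * x * k⁻¹) := by group
    rw [e, h1']
    group
  have hxN' : k * x * k⁻¹ ∈ Subgroup.normalizer (Q' : Set G) := by
    rw [← hkR]
    exact Subgroup.le_normalizer_map (MulAut.conj k).toMonoidHom ⟨x, hxN, rfl⟩
  have hsN : s ∈ Subgroup.normalizer (Q' : Set G) := by
    have e : s = (k * x * k⁻¹) * (s⁻¹ * (k * x * k⁻¹))⁻¹ := by group
    rw [e]
    exact Subgroup.mul_mem _ hxN'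
      (Subgroup.inv_mem _ (Subgroup.centralizer_le_normalizer _ hcent))
  have e : k * x * k⁻¹ = s * (s⁻¹ * (k * x * k⁻¹)) := by group
  rw [e]
  exact Subgroup.mul_mem _ (Subgroup.mem_sup_left ⟨hs, hsN⟩) (Subgroup.mem_sup_right hcent)

end General

variable {G : Type*} [Group G] [Fintype G] {p : ℕ} {M : Ideal AlgInt}

theorem localMax_of_fullyNormalized (hM : IsPModular p M) {B : Set (IrrCharacter G)}
    {P : Subgroup G} {e : Set (IrrCharacter (Subgroup.centralizer (P : Set G)))}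
    (hmax : IsMaximalBrauerPair p M B P e) {F : FusionSystem P}
    (hF : IsBlockFusionSystemOn p M B P e F) {Q' : Subgroup G}
    {f' : Set (IrrCharacter (Subgroup.centralizer (Q' : Set G)))}
    (hle' : SubpairLE p M Q' f' P e) (hfn : F.IsFullyNormalized Q') :
    LocalMax p M P Q' f' (fun Q'' => Subgroup.normalizer (Q'' : Set G)) :=
  localMax_of_fully hM hmax hle' _ (fun Q'' y => Subgroup.le_normalizer_map _)
    fun x hx => hfn.2 _ ((isConj_iff hM hF hle' _).2 ⟨x, rfl, hx⟩)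

/-- Fully normalized subgroups are fully automized. -/
theorem fullyAutomized_of_fullyNormalized (hM : IsPModular p M) {B : Set (IrrCharacter G)}
    {P : Subgroup G} {e : Set (IrrCharacter (Subgroup.centralizer (P : Set G)))}
    (hmax : IsMaximalBrauerPair p M B P e) {Q' : Subgroup G}
    (hfn : (blockFusion hM hmax.1.1).IsFullyNormalized Q') :
    (blockFusion hM hmax.1.1).IsFullyAutomized p Q' := by
  classical
  haveI hPr := isPrime_of_isPModular hM
  haveI : Fact p.Prime := ⟨prime_of_isPModular hM⟩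
  have hPe := hmax.1.1
  have hF := isBlockFusionSystemOn_blockFusion hM hmax
  have hQ'P : Q' ≤ P := hfn.1
  obtain ⟨f', hf', hle'⟩ := exists_subpairLE hM _ P e rfl hPe Q' hQ'P
  have hloc := localMax_of_fullyNormalized hM hmax hF hle' hfn
  have hT := mem_stabSub_iff (M := M) Q' hf'
  obtain ⟨_, hidx⟩ := fong_of_localMax hM hPe hf' hle' hloc (stabSub Q' f') hT
  have hTN : stabSub Q' f' ≤ Subgroup.normalizer (Q' : Set G) := fun y hy => ((hT y).1 hy).1
  obtain ⟨g₂, hnorm₂, _⟩ := exists_normalSubpair_normalizer hM hPe hle'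
  have hRT : P ⊓ Subgroup.normalizer (Q' : Set G) ≤ stabSub Q' f' :=
    fun r hr => (hT r).2 ⟨(Subgroup.mem_inf.1 hr).2, hnorm₂.2.2.2.2.1 r hr⟩
  let κ : stabSub Q' f' →* MulAut Q' :=
    (Subgroup.normalizerMonoidHom Q').comp (Subgroup.inclusion hTN)
  have hκ : ∀ (t : stabSub Q' f') (u : Q'), ((κ t u : Q') : G) = (t : G) * (u : G) * (t : G)⁻¹ :=
    fun t u => rfl
  -- `Aut_F(Q') = κ(T)`
  have hA : (blockFusion hM hPe).autGroup Q' = κ.range := by
    ext α
    rw [Cfsg.Agent.Lib.H25.mem_autGroup_iff _ hQ'P]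
    constructor
    · intro hα
      obtain ⟨g, hg, hg'⟩ := exists_of_mem_blockHom hM hle' hα
      have hg2 : ∀ u : Q', ((α u : Q') : G) = g * (u : G) * g⁻¹ := fun u => hg u
      have hgN := Cfsg.Agent.Lib.H26.mem_normalizer_of_aut hg2
      have hmap := map_conj_eq_of_mem_normalizer' hgN
      have hfix : conjPair g (⟨Q', f'⟩ : BrauerPairIdx G) = ⟨Q', f'⟩ :=
        pair_eq_of_le hM hg' hle' hmap
      obtain ⟨_, hgst⟩ := stab_of_conjPair_eq_self hfix
      have hgT : g ∈ stabSub Q' f' := (hT g).2 ⟨hgN, hgst⟩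
      refine ⟨⟨g, hgT⟩, ?_⟩
      ext u
      rw [hκ]
      exact (hg2 u).symm
    · rintro ⟨t, rfl⟩
      have ht := (hT t).1 t.2
      have h1 : conjPair (t : G) (⟨Q', f'⟩ : BrauerPairIdx G) = ⟨Q', f'⟩ :=
        conjPair_eq_self_of_stab hf' ht.1 ht.2
      have h2 : Relation.ReflTransGen (NormalSubpairRel p M)
          (conjPair (t : G) (⟨Q', f'⟩ : BrauerPairIdx G)) ⟨P, e⟩ := by
        rw [h1]; exact hle'
      have h3 := conjHom_mem_blockHom hle' h2
      have e1 : Q'.subtype.comp (κ t).toMonoidHom = conjHom Q' (t : G) := by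
        ext u; rfl
      rw [e1]
      exact h3
  -- `Aut_P(Q') = κ(N_P(Q'))`
  have hAP : autInducedBy P Q' =
      ((P ⊓ Subgroup.normalizer (Q' : Set G)).subgroupOf (stabSub Q' f')).map κ := by
    ext α
    rw [Cfsg.Agent.Lib.H25.mem_autInducedBy_iff]
    constructor
    · rintro ⟨g, hgP, hg⟩
      have hgN := Cfsg.Agent.Lib.H26.mem_normalizer_of_aut hg
      refine ⟨⟨g, hRT ⟨hgP, hgN⟩⟩, Subgroup.mem_subgroupOf.2 ⟨hgP, hgN⟩, ?_⟩
      ext u
      rw [hκ]
      exact (hg u).symm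
    · rintro ⟨t, ht, rfl⟩
      exact ⟨t, (Subgroup.mem_subgroupOf.1 ht).1, fun u => hκ t u⟩
  have hker : κ.ker = (Subgroup.centralizer (Q' : Set G)).subgroupOf (stabSub Q' f') := by
    ext t
    rw [MonoidHom.mem_ker, Subgroup.mem_subgroupOf, Subgroup.mem_centralizer_iff]
    constructor
    · intro h u hu
      have h1 : ((κ t ⟨u, hu⟩ : Q') : G) = u := by rw [h]; rfl
      rw [hκ] at h1
      have h2 : (t : G) * u = u * (t : G) := by
        calc (t : G) * u = (t : G) * u * (t : G)⁻¹ * (t : G) := by group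
          _ = u * (t : G) := by rw [h1]
      exact h2.symm
    · intro h
      ext u
      rw [hκ]
      have h1 := h u u.2
      show (t : G) * (u : G) * (t : G)⁻¹ = u
      rw [← h1]
      group
  have e1 : (((P ⊓ Subgroup.normalizer (Q' : Set G)).subgroupOf (stabSub Q' f')).map κ).subgroupOf
      κ.range = ((P ⊓ Subgroup.normalizer (Q' : Set G)).subgroupOf (stabSub Q' f')).map
        κ.rangeRestrict := by
    ext β
    rw [Subgroup.mem_subgroupOf]
    constructor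
    · rintro ⟨t, ht, h⟩
      exact ⟨t, ht, Subtype.ext h⟩
    · rintro ⟨t, ht, h⟩
      exact ⟨t, ht, congrArg Subtype.val h⟩
  have hidx' : ¬ p ∣ ((((P ⊓ Subgroup.normalizer (Q' : Set G)).subgroupOf
      (stabSub Q' f')).map κ).subgroupOf κ.range).index := by
    rw [e1, Subgroup.index_map, MonoidHom.ker_rangeRestrict, hker,
      MonoidHom.range_eq_top.2 κ.rangeRestrict_surjective, Subgroup.index_top, mul_one]
    exact hidx
  have hpg : IsPGroup p ((((P ⊓ Subgroup.normalizer (Q' : Set G)).subgroupOf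
      (stabSub Q' f')).map κ).subgroupOf κ.range) :=
    (((hPe.1.to_le inf_le_left).comap_subtype).map κ).comap_subtype
  refine ⟨hQ'P, ?_⟩
  have key : ∀ (A AP : Subgroup (MulAut Q')), A = κ.range →
      AP = ((P ⊓ Subgroup.normalizer (Q' : Set G)).subgroupOf (stabSub Q' f')).map κ →
      ∃ R : Sylow p A, (R : Subgroup A) = AP.subgroupOf A := by
    rintro _ _ rfl rfl
    exact ⟨hpg.toSylow hidx', IsPGroup.toSylow_coe hpg hidx'⟩
  exact key _ _ hA hAP

/-- Fully normalized subgroups are receptive. -/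
theorem receptive_of_fullyNormalized (hM : IsPModular p M) {B : Set (IrrCharacter G)}
    {P : Subgroup G} {e : Set (IrrCharacter (Subgroup.centralizer (P : Set G)))}
    (hmax : IsMaximalBrauerPair p M B P e) {Q' : Subgroup G}
    (hfn : (blockFusion hM hmax.1.1).IsFullyNormalized Q') :
    (blockFusion hM hmax.1.1).IsReceptive Q' := by
  classical
  haveI hPr := isPrime_of_isPModular hM
  haveI : Fact p.Prime := ⟨prime_of_isPModular hM⟩
  have hPe := hmax.1.1
  have hF := isBlockFusionSystemOn_blockFusion hM hmax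
  have hQ'P : Q' ≤ P := hfn.1
  have hQ' : IsPGroup p Q' := hPe.1.to_le hQ'P
  obtain ⟨f', hf', hle'⟩ := exists_subpairLE hM _ P e rfl hPe Q' hQ'P
  have hloc := localMax_of_fullyNormalized hM hmax hF hle' hfn
  have hT := mem_stabSub_iff (M := M) Q' hf'
  have hTN : stabSub Q' f' ≤ Subgroup.normalizer (Q' : Set G) := fun y hy => ((hT y).1 hy).1
  obtain ⟨k₂, hnorm₂, hle₂⟩ := exists_normalSubpair_normalizer hM hPe hle'
  have hRT : P ⊓ Subgroup.normalizer (Q' : Set G) ≤ stabSub Q' f' :=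
    fun r hr => (hT r).2 ⟨(Subgroup.mem_inf.1 hr).2, hnorm₂.2.2.2.2.1 r hr⟩
  have hCT : Subgroup.centralizer (Q' : Set G) ≤ stabSub Q' f' :=
    fun c hc => (hT c).2 ⟨Subgroup.centralizer_le_normalizer _ hc,
      stabilizesBlock_of_mem_sup _ _ (Subgroup.mem_sup_right hc)⟩
  -- the subgroup `H = N_P(Q') C_G(Q')`
  have hHT : (P ⊓ Subgroup.normalizer (Q' : Set G)) ⊔ Subgroup.centralizer (Q' : Set G) ≤
      stabSub Q' f' := sup_le hRT hCT
  have hQ'H : Q' ≤ (P ⊓ Subgroup.normalizer (Q' : Set G)) ⊔ Subgroup.centralizer (Q' : Set G) :=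
    le_sup_of_le_left (le_inf hQ'P Subgroup.le_normalizer)
  have hCH : Subgroup.centralizer (Q' : Set G) ≤
      (P ⊓ Subgroup.normalizer (Q' : Set G)) ⊔ Subgroup.centralizer (Q' : Set G) := le_sup_right
  have hHN : (P ⊓ Subgroup.normalizer (Q' : Set G)) ⊔ Subgroup.centralizer (Q' : Set G) ≤
      Subgroup.normalizer (Q' : Set G) := hHT.trans hTN
  have hstH : ∀ t ∈ (P ⊓ Subgroup.normalizer (Q' : Set G)) ⊔ Subgroup.centralizer (Q' : Set G),
      StabilizesBlock (Subgroup.centralizer (Q' : Set G)) f' t :=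
    fun t ht => ((hT t).1 (hHT ht)).2
  obtain ⟨F', hF', hF'c⟩ := exists_block_of_stabilizer hM hQ' hf' _ hQ'H hCH hHN hstH
  have hD := isDefectGroup_of_localMax_general hM hPe hf' hle' hloc _ hQ'H hCH hHN hstH
    le_sup_left F' hF' hF'c
  have hNPC : P ⊓ Subgroup.normalizer (Q' : Set G) ≤
      Subgroup.normalizer ((Subgroup.centralizer (Q' : Set G) : Subgroup G) : Set G) :=
    inf_le_right.trans (normalizer_le_normalizer_centralizer Q')
  refine ⟨hQ'P, ?_⟩
  intro R φ hφ hrange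
  have hRP : R ≤ P := hφ.1
  obtain ⟨fR, hfR, hleR⟩ := exists_subpairLE hM _ P e rfl hPe R hRP
  obtain ⟨g, hg, hg'⟩ := exists_of_mem_blockHom hM hleR hφ
  have hmapR : R.map (MulAut.conj g).toMonoidHom = Q' := by
    rw [← range_eq_map_conj hg, hrange]
  have hpairR : conjPair g (⟨R, fR⟩ : BrauerPairIdx G) = ⟨Q', f'⟩ :=
    pair_eq_of_le hM hg' hle' hmapR
  have hNle : FusionSystem.extender P R φ ≤ P ⊓ Subgroup.normalizer (R : Set G) :=
    Cfsg.Agent.Lib.H25.extender_le_normalizerIn P R φ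
  have hNP : FusionSystem.extender P R φ ≤ P := hNle.trans inf_le_left
  have hRN : R ≤ FusionSystem.extender P R φ :=
    Cfsg.Agent.Lib.H25.le_extender (blockFusion hM hPe) hφ
  obtain ⟨fN, hfN, hleN⟩ := exists_subpairLE hM _ P e rfl hPe _ hNP
  have hRNle := subpairLE_intermediate hM (a := ⟨R, fR⟩) (b := ⟨P, e⟩)
    (c := ⟨FusionSystem.extender P R φ, fN⟩) hleR hleN hPe hRN
  have hNpair : IsBrauerPair p M (FusionSystem.extender P R φ) fN :=
    isBrauerPair_of_reflTransGen (a := ⟨FusionSystem.extender P R φ, fN⟩) (b := ⟨P, e⟩) hleN hPe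
  have hnormRN : IsNormalSubpair p M R fR (FusionSystem.extender P R φ) fN :=
    normalSubpair_of_subpairLE hM (a := ⟨R, fR⟩) (c := ⟨FusionSystem.extender P R φ, fN⟩)
      hRNle hNpair (hNle.trans inf_le_right)
  have hnormg : NormalSubpairRel p M (conjPair g (⟨R, fR⟩ : BrauerPairIdx G))
      (conjPair g ⟨FusionSystem.extender P R φ, fN⟩) := normalSubpairRel_conjPair g hnormRN
  rw [hpairR] at hnormg
  have hNgH : (conjPair g (⟨FusionSystem.extender P R φ, fN⟩ : BrauerPairIdx G)).1 ≤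
      (P ⊓ Subgroup.normalizer (Q' : Set G)) ⊔ Subgroup.centralizer (Q' : Set G) :=
    extender_conj_le hg hmapR
  obtain ⟨t, htH, htle⟩ := exists_conj_le_relative
    (H := (P ⊓ Subgroup.normalizer (Q' : Set G)) ⊔ Subgroup.centralizer (Q' : Set G))
    hM hCH hHN F' hF' hF'c hnorm₂ le_sup_left hD hnormg hNgH
  have htmem : t ∈ (((P ⊓ Subgroup.normalizer (Q' : Set G)) ⊔
      Subgroup.centralizer (Q' : Set G) : Subgroup G) : Set G) := htH
  rw [Subgroup.coe_mul_of_left_le_normalizer_right _ _ hNPC] at htmem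
  obtain ⟨u, hu, c, hc, rfl⟩ := htmem
  have h1 : Relation.ReflTransGen (NormalSubpairRel p M)
      (conjPair (u * c) (conjPair g (⟨FusionSystem.extender P R φ, fN⟩ : BrauerPairIdx G)))
      ⟨P, e⟩ := htle.trans hle₂
  rw [conjPair_mul (M := M) (u * c) g
    (a := (⟨FusionSystem.extender P R φ, fN⟩ : BrauerPairIdx G)) hfN] at h1
  have h2 := below_conj_of_mem hM hPe.2 h1 (P.inv_mem hu.1)
  rw [conjPair_mul (M := M) u⁻¹ (u * c * g)
    (a := (⟨FusionSystem.extender P R φ, fN⟩ : BrauerPairIdx G)) hfN] at h2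
  have e1 : u⁻¹ * (u * c * g) = c * g := by group
  rw [e1] at h2
  refine ⟨conjHom _ (c * g), conjHom_mem_blockHom hleN h2, ?_⟩
  intro x hxR hxN
  show c * g * x * (c * g)⁻¹ = φ ⟨x, hxR⟩
  rw [hg]
  show c * g * x * (c * g)⁻¹ = g * x * g⁻¹
  have hQx : g * x * g⁻¹ ∈ Q' := by
    rw [← hmapR]
    exact ⟨x, hxR, rfl⟩
  have h3 := Subgroup.mem_centralizer_iff.1 hc _ hQx
  have e : c * g * x * (c * g)⁻¹ = (c * (g * x * g⁻¹)) * c⁻¹ := by group
  rw [e, ← h3]
  group

/-- **S4677.** The fusion system of a block on a maximal Brauer pair exists and is saturated. -/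
theorem exists_saturated (hM : IsPModular p M) {B : Set (IrrCharacter G)}
    {P : Subgroup G} {e : Set (IrrCharacter (Subgroup.centralizer (P : Set G)))}
    (hmax : IsMaximalBrauerPair p M B P e) :
    ∃ F : FusionSystem P, IsBlockFusionSystemOn p M B P e F ∧ F.IsSaturated p := by
  classical
  refine ⟨blockFusion hM hmax.1.1, isBlockFusionSystemOn_blockFusion hM hmax, ?_⟩
  intro Q hQP
  obtain ⟨Q', hQ'conj, hQ'max⟩ := Set.exists_max_image
    {Q' : Subgroup G | (blockFusion hM hmax.1.1).IsConj Q Q'}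
    (fun Q' => Nat.card (FusionSystem.normalizerIn P Q')) (Set.toFinite _)
    ⟨Q, Cfsg.Agent.Lib.H25.isConj_refl _ hQP⟩
  have hQ'P : Q' ≤ P := Cfsg.Agent.Lib.H25.isConj_le_right _ hQ'conj
  have hfn : (blockFusion hM hmax.1.1).IsFullyNormalized Q' :=
    ⟨hQ'P, fun Q'' h => hQ'max Q'' (Cfsg.Agent.Lib.H25.isConj_trans _ hQ'conj h)⟩
  exact ⟨Q', hQ'conj, fullyAutomized_of_fullyNormalized hM hmax hfn,
    receptive_of_fullyNormalized hM hmax hfn⟩

end Cfsg.Agent.Lib.L0.BrauerSatB
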