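import Cfsg.Agent.Lib.L0.CharInd
open Module
open scoped ComplexConjugate

namespace Cfsg.Agent.Lib.L0

section TI
variable {G : Type*} [Group G] [Fintype G]

/-- Induction from the normalizer of a TI-set: values on non-identity elements of `T`. -/
theorem indFun_TI_apply (T : Set G)
    (hTI : ∀ g : G, g ∉ Subgroup.normalizer T → ∀ t ∈ T, g * t * g⁻¹ ∈ T → t = 1)
    (ψ : Subgroup.normalizer T → ℂ) (hψ : Cfsg.IsClassFunction (Subgroup.normalizer T) ψ)
    (hψT : ∀ x : Subgroup.normalizer T, (x : G) ∉ T → ψ x = 0)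
    (t : Subgroup.normalizer T) (htT : (t : G) ∈ T) (ht1 : t ≠ 1) :
    Cfsg.indFun (Subgroup.normalizer T) ψ t = ψ t := by
  classical
  rw [indFun_apply]
  have h1 : ∀ x : G, Cfsg.extendByZero (Subgroup.normalizer T) ψ (x⁻¹ * (t : G) * x)
      = if x ∈ Subgroup.normalizer T then ψ t else 0 := by
    intro x
    split_ifs with hx
    · have hmem : x⁻¹ * (t : G) * x ∈ Subgroup.normalizer T :=
        (Subgroup.normalizer T).mul_mem ((Subgroup.normalizer T).mul_mem
          ((Subgroup.normalizer T).inv_mem hx) t.2) hx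
      rw [extendByZero_apply_of_mem _ _ hmem]
      have := hψ t (⟨x, hx⟩⁻¹ : Subgroup.normalizer T)
      rw [← this]
      congr 1
      apply Subtype.ext
      simp
    · by_cases hmem : x⁻¹ * (t : G) * x ∈ Subgroup.normalizer T
      · rw [extendByZero_apply_of_mem _ _ hmem]
        apply hψT
        intro hT
        have hx' : x⁻¹ ∉ Subgroup.normalizer T := fun h => hx (by simpa using (Subgroup.normalizer T).inv_mem h)
        have := hTI x⁻¹ hx' (t : G) htT (by simpa using hT)
        exact ht1 (Subtype.ext this)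
      · rw [extendByZero_apply_not_mem _ _ hmem]
  rw [Finset.sum_congr rfl fun x _ => h1 x, Finset.sum_ite, Finset.sum_const_zero, add_zero,
    Finset.sum_const, nsmul_eq_mul]
  have hcard : (Finset.univ.filter fun x : G => x ∈ Subgroup.normalizer T).card
      = Nat.card (Subgroup.normalizer T) := by
    rw [Nat.card_eq_fintype_card, Fintype.card_subtype]
  rw [hcard]
  have hN : (Nat.card (Subgroup.normalizer T) : ℂ) ≠ 0 := by
    exact_mod_cast (Nat.card_pos (α := Subgroup.normalizer T)).ne'
  field_simp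

/-- Induction from the normalizer of a TI-set is an isometry on class functions supported on `T`
and vanishing at `1`. -/
theorem classInner_indFun_TI (T : Set G)
    (hTI : ∀ g : G, g ∉ Subgroup.normalizer T → ∀ t ∈ T, g * t * g⁻¹ ∈ T → t = 1)
    [Fintype (Subgroup.normalizer T)]
    (ψ θ : Subgroup.normalizer T → ℂ) (hθ : Cfsg.IsClassFunction (Subgroup.normalizer T) θ)
    (hψT : ∀ x : Subgroup.normalizer T, (x : G) ∉ T → ψ x = 0)
    (hθT : ∀ x : Subgroup.normalizer T, (x : G) ∉ T → θ x = 0) (hψ1 : ψ 1 = 0) :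
    Cfsg.classInner (Cfsg.indFun (Subgroup.normalizer T) ψ) (Cfsg.indFun (Subgroup.normalizer T) θ)
      = Cfsg.classInner ψ θ := by
  rw [frobenius_reciprocity _ _ _ (indFun_isClassFunction _ θ)]
  unfold Cfsg.classInner
  congr 1
  refine Finset.sum_congr rfl fun n _ => ?_
  by_cases hn : (n : G) ∈ T
  · by_cases hn1 : n = 1
    · rw [hn1, hψ1, zero_mul, zero_mul]
    · simp only [indFun_TI_apply T hTI θ hθ hθT n hn hn1]
  · rw [hψT n hn, zero_mul, zero_mul]

end TI

end Cfsg.Agent.Lib.L0
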