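import Mathlib

/-!
# Homomorphisms out of a group with a normal subgroup complemented by a cyclic group
(lead's library)

* `exists_hom_of_cyclic_complement` : `K ⊴ X`, `K ⊔ ⟨t⟩ = ⊤`, `K ⊓ ⟨t⟩ = ⊥`, `ζ ^ orderOf t = 1`:
  a hom `f : X →* M` with `f t = ζ`, trivial on `K`.
* `mem_of_pow_card_eq_one_of_le_zpowers` : subgroups of cyclic groups are determined by their order.
-/

set_option autoImplicit false

namespace Cfsg.Agent.Lib.L0

open Subgroup
open scoped Pointwise

theorem exists_hom_of_cyclic_complement {X M : Type*} [Group X] [Group M] (K : Subgroup X)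
    [K.Normal] (t : X) (hsup : K ⊔ zpowers t = ⊤) (hinf : K ⊓ zpowers t = ⊥) (ζ : M)
    (hζ : ζ ^ orderOf t = 1) :
    ∃ f : X →* M, f t = ζ ∧ ∀ k ∈ K, f k = 1 := by
  have hgen : ∀ y : X ⧸ K, y ∈ zpowers (QuotientGroup.mk t : X ⧸ K) := by
    intro y
    obtain ⟨x, rfl⟩ := QuotientGroup.mk_surjective y
    have hx : x ∈ K ⊔ zpowers t := by rw [hsup]; exact mem_top x
    rw [Subgroup.sup_eq_closure_mul, ] at hx
    have hx' : x ∈ ((K : Set X) * (zpowers t : Set X)) := by
      have h1 := Subgroup.mul_normal (zpowers t) K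
      have h2 : ((K : Set X) * (zpowers t : Set X)) = ((zpowers t : Set X) * (K : Set X)) := by
        exact (Subgroup.set_mul_normal_comm _ K).symm
      rw [h2, ← h1]
      have : x ∈ zpowers t ⊔ K := by rw [sup_comm, hsup]; exact mem_top x
      exact this
    obtain ⟨k, hk, c, hc, rfl⟩ := hx'
    obtain ⟨i, rfl⟩ := Subgroup.mem_zpowers_iff.mp hc
    rw [Subgroup.mem_zpowers_iff]
    refine ⟨i, ?_⟩
    rw [QuotientGroup.mk_mul, (QuotientGroup.eq_one_iff k).mpr hk, one_mul, QuotientGroup.mk_zpow]
  have hord : orderOf (QuotientGroup.mk t : X ⧸ K) = orderOf t := by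
    rw [orderOf_eq_orderOf_iff]
    intro n
    rw [← QuotientGroup.mk_pow, QuotientGroup.eq_one_iff]
    constructor
    · intro h1
      have : t ^ n ∈ K ⊓ zpowers t := ⟨h1, Subgroup.pow_mem _ (Subgroup.mem_zpowers t) n⟩
      rw [hinf] at this
      exact Subgroup.mem_bot.mp this
    · intro h1; rw [h1]; exact one_mem K
  have hdvd : orderOf ζ ∣ orderOf (QuotientGroup.mk t : X ⧸ K) := by
    rw [hord]; exact orderOf_dvd_of_pow_eq_one hζ
  refine ⟨(monoidHomOfForallMemZpowers hgen hdvd).comp (QuotientGroup.mk' K), ?_, ?_⟩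
  · simp only [MonoidHom.coe_comp, Function.comp_apply, QuotientGroup.mk'_apply]
    exact monoidHomOfForallMemZpowers_apply_gen hgen hdvd
  · intro k hk
    simp only [MonoidHom.coe_comp, Function.comp_apply, QuotientGroup.mk'_apply]
    rw [(QuotientGroup.eq_one_iff k).mpr hk, map_one]

/-- In a finite cyclic group `⟨a⟩` a subgroup `X` contains every `x ∈ ⟨a⟩` with `x ^ |X| = 1`. -/
theorem mem_of_pow_card_eq_one_of_le_zpowers {G : Type*} [Group G] {a : G} (ha : orderOf a ≠ 0)
    {X : Subgroup G} (hX : X ≤ zpowers a) {x : G} (hx : x ∈ zpowers a)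
    (hpow : x ^ Nat.card X = 1) : x ∈ X := by
  classical
  have hfin : Finite (zpowers a) := by
    apply Nat.finite_of_card_ne_zero
    rwa [Nat.card_zpowers]
  have hfinX : Finite X := Finite.of_injective (Subgroup.inclusion hX) (Subgroup.inclusion_injective hX)
  have : Fintype (zpowers a) := Fintype.ofFinite _
  have hpos : 0 < Nat.card X := Nat.card_pos
  -- the set of solutions of `y ^ |X| = 1` in the cyclic group
  have hle := IsCyclic.card_pow_eq_one_le (α := zpowers a) hpos
  -- `X` embeds into that set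
  let T : Finset (zpowers a) := Finset.univ.filter fun y => y ^ Nat.card X = 1
  let f : X → zpowers a := Subgroup.inclusion hX
  have hfT : ∀ y : X, f y ∈ T := by
    intro y
    simp only [T, Finset.mem_filter, Finset.mem_univ, true_and]
    apply Subtype.ext
    have := pow_card_eq_one' (G := X) (x := y)
    simp only [SubmonoidClass.coe_pow, OneMemClass.coe_one]
    have h2 := congrArg (Subtype.val : X → G) this
    have h3 : ((f y : zpowers a) : G) = (y : G) := rfl
    rw [h3]
    simpa only [SubmonoidClass.coe_pow, OneMemClass.coe_one] using h2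
  -- the image of `X` is all of `T`
  have : Fintype X := Fintype.ofFinite _
  let I : Finset (zpowers a) := Finset.univ.image f
  have hIT : I ⊆ T := by
    intro y hy
    obtain ⟨z, -, rfl⟩ := Finset.mem_image.mp hy
    exact hfT z
  have hIcard : I.card = Nat.card X := by
    rw [Finset.card_image_of_injective _ (Subgroup.inclusion_injective hX), Finset.card_univ,
      Nat.card_eq_fintype_card]
  have hIeq : I = T := by
    apply Finset.eq_of_subset_of_card_le hIT
    rw [hIcard]
    exact hle
  have hxT : (⟨x, hx⟩ : zpowers a) ∈ T := by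
    simp only [T, Finset.mem_filter, Finset.mem_univ, true_and]
    apply Subtype.ext
    simpa using hpow
  rw [← hIeq] at hxT
  obtain ⟨z, -, hz⟩ := Finset.mem_image.mp hxT
  have : (z : G) = x := by
    have := congrArg (Subtype.val : zpowers a → G) hz
    simpa [f] using this
  rw [← this]; exact z.2

/-- Subgroups of a finite cyclic group are ordered by divisibility of their orders. -/
theorem le_of_le_zpowers_of_card_dvd {G : Type*} [Group G] {a : G} (ha : orderOf a ≠ 0)
    {D X : Subgroup G} (hD : D ≤ zpowers a) (hX : X ≤ zpowers a)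
    (hdvd : Nat.card D ∣ Nat.card X) : D ≤ X := by
  intro d hd
  apply mem_of_pow_card_eq_one_of_le_zpowers ha hX (hD hd)
  obtain ⟨m, hm⟩ := hdvd
  rw [hm, pow_mul]
  have : d ^ Nat.card D = 1 := by
    have := pow_card_eq_one' (G := D) (x := ⟨d, hd⟩)
    have h2 := congrArg (Subtype.val : D → G) this
    simpa only [SubmonoidClass.coe_pow, OneMemClass.coe_one] using h2
  rw [this, one_pow]

end Cfsg.Agent.Lib.L0
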