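import Cfsg.Agent.Lib.L0.DihedralInv

/-!
# More on dihedral Sylow 2-subgroups (lead's library)

* `mem_centralizer_of_not_three_dvd` : if `3 ∤ |N(U) : C(U)|` for a Klein four subgroup `U`, then
  odd-order elements of `N(U)` centralize `U`.
* `Dih.parSub` : the index-two subgroup `⟨r², sr i⟩` of `DihedralGroup m`.
-/

set_option autoImplicit false

universe u

namespace Cfsg.Agent.Lib.L0

variable {G : Type*} [Group G]

/-- If `3 ∤ |N(U) : C(U)|` for a Klein four subgroup `U`, odd-order elements of `N(U)`
centralize `U`. -/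
theorem mem_centralizer_of_not_three_dvd (U : Subgroup G) (hU : IsKleinFour U)
    (h3 : ¬ 3 ∣ (Subgroup.centralizer (U : Set G)).relIndex (Subgroup.normalizer (U : Set G)))
    (g : G) (hg : g ∈ Subgroup.normalizer (U : Set G)) (hodd : (orderOf g).Coprime 2) :
    g ∈ Subgroup.centralizer (U : Set G) := by
  classical
  have hfin : Finite U := Nat.finite_of_card_ne_zero (by rw [hU.card_four]; norm_num)
  set φ := U.normalizerMonoidHom with hφ
  have hidx : (Subgroup.centralizer (U : Set G)).relIndex (Subgroup.normalizer (U : Set G)) =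
      Nat.card φ.range := by
    rw [← Subgroup.index_ker, hφ, Subgroup.normalizerMonoidHom_ker]; rfl
  set α := φ ⟨g, hg⟩ with hα
  -- the order of α divides 24 and is odd
  have h24 : orderOf α ∣ 24 := by
    have hinj : Function.Injective (MulAut.toPerm U) := by
      intro a b hab
      apply MulEquiv.ext
      intro u
      have := congrArg (fun p : Equiv.Perm U => p u) hab
      exact this
    have h1 : orderOf (MulAut.toPerm U α) = orderOf α := orderOf_injective _ hinj α
    have h2 : orderOf (MulAut.toPerm U α) ∣ Nat.card (Equiv.Perm U) := orderOf_dvd_natCard _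
    rw [h1, Nat.card_perm, hU.card_four] at h2
    exact h2
  have hdvd : orderOf α ∣ orderOf g := by
    have := orderOf_map_dvd φ (⟨g, hg⟩ : Subgroup.normalizer (U : Set G))
    rwa [Subgroup.orderOf_mk] at this
  have hcop : (orderOf α).Coprime 8 := by
    have h1 : (orderOf α).Coprime 2 := Nat.Coprime.coprime_dvd_left hdvd hodd
    have : (8 : ℕ) = 2 ^ 3 := by norm_num
    rw [this]
    exact Nat.Coprime.pow_right 3 h1
  have h3' : orderOf α ∣ 3 := by
    have : (24 : ℕ) = 8 * 3 := by norm_num
    rw [this] at h24
    exact hcop.dvd_of_dvd_mul_left h24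
  have h1 : orderOf α = 1 := by
    rcases (Nat.dvd_prime Nat.prime_three).mp h3' with h | h
    · exact h
    · exfalso
      apply h3
      rw [hidx, ← h]
      have : orderOf (⟨α, ⟨⟨g, hg⟩, rfl⟩⟩ : φ.range) = orderOf α := Subgroup.orderOf_mk _ _
      rw [← this]
      exact orderOf_dvd_natCard _
  apply mem_centralizer_of_normalizerMonoidHom_pow U hg 1 (Nat.coprime_one_right _)
  rw [pow_one]
  exact orderOf_eq_one_iff.mp h1

namespace Dih

open DihedralGroup

variable {m : ℕ}

/-- The index-two subgroup `⟨r², sr i⟩` of `DihedralGroup m` (`m` even): rotations by even amounts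
and reflections `sr k` with `k ≡ i` modulo two. -/
def parSub (hm : 2 ∣ m) (i : ZMod m) : Subgroup (DihedralGroup m) where
  carrier := {d | match d with
    | r k => par hm k = 0
    | sr k => par hm k = par hm i}
  one_mem' := by
    show par hm 0 = 0
    exact map_zero _
  mul_mem' := by
    rintro (a | a) (b | b) ha hb
    · show par hm (a + b) = 0
      have ha' : par hm a = 0 := ha
      have hb' : par hm b = 0 := hb
      rw [map_add, ha', hb', add_zero]
    · show par hm (b - a) = par hm i
      have ha' : par hm a = 0 := ha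
      have hb' : par hm b = par hm i := hb
      rw [map_sub, ha', hb', sub_zero]
    · show par hm (a + b) = par hm i
      have ha' : par hm a = par hm i := ha
      have hb' : par hm b = 0 := hb
      rw [map_add, ha', hb', add_zero]
    · show par hm (b - a) = 0
      have ha' : par hm a = par hm i := ha
      have hb' : par hm b = par hm i := hb
      rw [map_sub, ha', hb', sub_self]
  inv_mem' := by
    rintro (a | a) ha
    · show par hm (-a) = 0
      have ha' : par hm a = 0 := ha
      rw [map_neg, ha', neg_zero]
    · exact ha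

theorem r_mem_parSub (hm : 2 ∣ m) (i k : ZMod m) : r k ∈ parSub hm i ↔ par hm k = 0 := Iff.rfl

theorem sr_mem_parSub (hm : 2 ∣ m) (i k : ZMod m) :
    sr k ∈ parSub hm i ↔ par hm k = par hm i := Iff.rfl

theorem index_parSub (hm : 2 ∣ m) (i : ZMod m) : (parSub hm i).index = 2 := by
  rw [Subgroup.index_eq_two_iff]
  refine ⟨sr (i + 1), fun b => ?_⟩
  have key1 : ∀ x y : ZMod 2, (y + 1 - x = y ∧ ¬ x = 0) ∨ (x = 0 ∧ ¬ y + 1 - x = y) := by decide
  have key2 : ∀ x y : ZMod 2, (y + 1 - x = 0 ∧ ¬ x = y) ∨ (x = y ∧ ¬ y + 1 - x = 0) := by decide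
  unfold Xor
  cases b with
  | r k =>
    rw [r_mul_sr, sr_mem_parSub, r_mem_parSub, map_sub, map_add, map_one]
    exact key1 (par hm k) (par hm i)
  | sr k =>
    rw [sr_mul_sr, sr_mem_parSub, r_mem_parSub, map_sub, map_add, map_one]
    exact key2 (par hm k) (par hm i)

end Dih

end Cfsg.Agent.Lib.L0
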