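import Mathlib
import Cfsg.Agent.Lib.H3.J1Cent2
import Cfsg.Agent.Lib.L0.J1ClsX19
import Cfsg.Agent.Lib.H27.J1Chunk

set_option autoImplicit false
set_option maxRecDepth 100000

/-! # Kernel checks of the listed conjugacy class `CLX19` of `J₁`, in chunks (generated; lead) -/

namespace Cfsg.Agent.Lib.L0.J1Spec

open Cfsg.Agent.Lib.H3.DC Cfsg.Agent.Lib.H3 Cfsg.Agent.Lib.H3.J1 Cfsg.Agent.Lib.H27.J1Out

theorem CLX19_c3_0 : chunk3 CLX19 2048 0 = true := by decide +kernel
theorem CLX19_c3_1 : chunk3 CLX19 2048 1 = true := by decide +kernel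
theorem CLX19_c3_2 : chunk3 CLX19 2048 2 = true := by decide +kernel
theorem CLX19_c3_3 : chunk3 CLX19 2048 3 = true := by decide +kernel
theorem CLX19_c3_r : allLt 1047 (fun i => body3 CLX19 (4 * 2048 + i)) = true := by decide +kernel
theorem CLX19_c4_0 : chunk4 ModP.model CLX19 2048 0 = true := by decide +kernel
theorem CLX19_c4_1 : chunk4 ModP.model CLX19 2048 1 = true := by decide +kernel
theorem CLX19_c4_2 : chunk4 ModP.model CLX19 2048 2 = true := by decide +kernel
theorem CLX19_c4_3 : chunk4 ModP.model CLX19 2048 3 = true := by decide +kernel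
theorem CLX19_c4_r : allLt 1048 (fun i => body4 ModP.model CLX19 (4 * 2048 + i)) = true := by decide +kernel

theorem CLX19_check1 : CLX19.check1 zX19E = true := by decide +kernel

theorem CLX19_check3 : CLX19.check3 = true := by
  apply check3_of_chunks CLX19 2048 4 1047
  · intro k hk
    interval_cases k
    · exact CLX19_c3_0
    · exact CLX19_c3_1
    · exact CLX19_c3_2
    · exact CLX19_c3_3
  · exact CLX19_c3_r
  · decide

theorem CLX19_check4 : CLX19.check4 ModP.model = true := by
  apply check4_of_chunks ModP.model CLX19 2048 4 1048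
  · intro k hk
    interval_cases k
    · exact CLX19_c4_0
    · exact CLX19_c4_1
    · exact CLX19_c4_2
    · exact CLX19_c4_3
  · exact CLX19_c4_r
  · decide

end Cfsg.Agent.Lib.L0.J1Spec
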