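import Mathlib

set_option autoImplicit false

/-!
# Generic lemmas on sets of element orders (lead)

* the set of element orders is closed under divisors,
* the set of element orders of a direct product,
* if a Sylow `p`-subgroup has order `p` and some element of order `p` has a centralizer of order at
  most `p`, then every element of order divisible by `p` has order `p`.
-/

namespace Cfsg.Agent.Lib.L0.J1Spec

/-- The set of element orders is closed under divisors. -/
theorem exists_orderOf_eq_of_dvd {G : Type*} [Group G] (g : G) (hg : 0 < orderOf g) (d : ℕ)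
    (hd : d ∣ orderOf g) : ∃ h : G, orderOf h = d := by
  obtain ⟨k, hk⟩ := hd
  have hk0 : k ≠ 0 := by
    rintro rfl
    rw [mul_zero] at hk
    omega
  have hd0 : 0 < d := by
    rcases Nat.eq_zero_or_pos d with h | h
    · rw [h, zero_mul] at hk; omega
    · exact h
  refine ⟨g ^ k, ?_⟩
  rw [orderOf_pow_of_dvd hk0 ⟨d, by rw [hk, mul_comm]⟩, hk]
  exact Nat.mul_div_cancel _ (Nat.pos_of_ne_zero hk0)

theorem mem_range_orderOf_of_dvd {G : Type*} [Group G] [Finite G] {n d : ℕ}
    (hn : n ∈ Set.range (orderOf : G → ℕ)) (hd : d ∣ n) : d ∈ Set.range (orderOf : G → ℕ) := by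
  obtain ⟨g, rfl⟩ := hn
  exact exists_orderOf_eq_of_dvd g (orderOf_pos g) d hd

/-- Element orders of a direct product. -/
theorem range_orderOf_prod {A B : Type*} [Monoid A] [Monoid B] :
    Set.range (orderOf : A × B → ℕ) =
      Set.image2 Nat.lcm (Set.range (orderOf : A → ℕ)) (Set.range (orderOf : B → ℕ)) := by
  ext n
  constructor
  · rintro ⟨x, rfl⟩
    exact ⟨orderOf x.1, ⟨x.1, rfl⟩, orderOf x.2, ⟨x.2, rfl⟩, (Prod.orderOf x).symm⟩
  · rintro ⟨a, ⟨x, rfl⟩, b, ⟨y, rfl⟩, rfl⟩
    exact ⟨(x, y), Prod.orderOf (x, y)⟩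

theorem range_orderOf_prod_finset {A B : Type*} [Monoid A] [Monoid B] (s t : Finset ℕ)
    (hs : Set.range (orderOf : A → ℕ) = ↑s) (ht : Set.range (orderOf : B → ℕ) = ↑t) :
    Set.range (orderOf : A × B → ℕ) = ↑(Finset.image₂ Nat.lcm s t) := by
  rw [range_orderOf_prod, hs, ht, Finset.coe_image₂]

/-- If the Sylow `p`-subgroups have order `p` and an element `x` of order `p` has a centralizer of
order at most `p`, then every element whose order is divisible by `p` has order `p`. -/
theorem orderOf_eq_of_prime_dvd {G : Type*} [Group G] [Finite G] (p : ℕ) [hp : Fact p.Prime]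
    (x : G) (hx : orderOf x = p) (hC : Nat.card (Subgroup.centralizer ({x} : Set G)) ≤ p)
    (hfac : (Nat.card G).factorization p = 1) (g : G) (hg : p ∣ orderOf g) : orderOf g = p := by
  classical
  obtain ⟨k, hk⟩ := hg
  have hn0 : 0 < orderOf g := orderOf_pos g
  have hk0 : k ≠ 0 := by
    rintro rfl
    rw [mul_zero] at hk
    omega
  -- `h = g ^ k` has order `p`
  have hh : orderOf (g ^ k) = p := by
    rw [orderOf_pow_of_dvd hk0 ⟨p, by rw [hk, mul_comm]⟩, hk]
    exact Nat.mul_div_cancel _ (Nat.pos_of_ne_zero hk0)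
  -- Sylow subgroups
  have hpx : IsPGroup p (Subgroup.zpowers x) := by
    apply IsPGroup.of_card (n := 1)
    rw [Nat.card_zpowers, hx, pow_one]
  have hph : IsPGroup p (Subgroup.zpowers (g ^ k)) := by
    apply IsPGroup.of_card (n := 1)
    rw [Nat.card_zpowers, hh, pow_one]
  obtain ⟨P, hP⟩ := hpx.exists_le_sylow
  obtain ⟨Q, hQ⟩ := hph.exists_le_sylow
  have hPc : Nat.card P = p := by rw [P.card_eq_multiplicity, hfac, pow_one]
  have hQc : Nat.card Q = p := by rw [Q.card_eq_multiplicity, hfac, pow_one]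
  have hPx : (P : Subgroup G) = Subgroup.zpowers x := by
    symm
    apply Subgroup.eq_of_le_of_card_ge hP
    rw [Nat.card_zpowers, hx]
    exact hPc.le
  have hQh : (Q : Subgroup G) = Subgroup.zpowers (g ^ k) := by
    symm
    apply Subgroup.eq_of_le_of_card_ge hQ
    rw [Nat.card_zpowers, hh]
    exact hQc.le
  obtain ⟨c, hc⟩ := MulAction.exists_smul_eq G Q P
  -- `c * h * c⁻¹ ∈ P`
  have hmem : c * g ^ k * c⁻¹ ∈ (P : Subgroup G) := by
    rw [← hc, Sylow.coe_subgroup_smul]
    rw [Subgroup.mem_pointwise_smul_iff_inv_smul_mem]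
    rw [MulAut.smul_def, MulAut.conj_inv_apply]
    have : c⁻¹ * (c * g ^ k * c⁻¹) * c = g ^ k := by group
    rw [this]
    exact hQ (Subgroup.mem_zpowers _)
  set g' := c * g * c⁻¹ with hg'
  have hg'k : g' ^ k = c * g ^ k * c⁻¹ := by
    rw [hg', conj_pow]
  have hy : g' ^ k ∈ Subgroup.zpowers x := by rw [hg'k, ← hPx]; exact hmem
  have hyo : orderOf (g' ^ k) = p := by
    rw [hg'k]
    have : c * g ^ k * c⁻¹ = MulAut.conj c (g ^ k) := rfl
    rw [this, MulEquiv.orderOf_eq, hh]
  -- `x` is a power of `g' ^ k`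
  have hxz : Subgroup.zpowers (g' ^ k) = Subgroup.zpowers x := by
    apply Subgroup.eq_of_le_of_card_ge
    · rw [Subgroup.zpowers_le]; exact hy
    · rw [Nat.card_zpowers, Nat.card_zpowers, hx, hyo]
  have hxin : x ∈ Subgroup.zpowers (g' ^ k) := by rw [hxz]; exact Subgroup.mem_zpowers _
  obtain ⟨j, hj⟩ := Subgroup.mem_zpowers_iff.mp hxin
  have hcomm : g' * x = x * g' := by
    rw [← hj, ← zpow_natCast, ← zpow_mul]
    exact ((Commute.refl g').zpow_right _).eq
  have hgC : g' ∈ Subgroup.centralizer ({x} : Set G) := by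
    rw [Subgroup.mem_centralizer_iff]
    intro y hy
    rw [Set.mem_singleton_iff] at hy
    rw [hy]; exact hcomm.symm
  have hord : orderOf g' = orderOf g := by
    have : g' = MulAut.conj c g := rfl
    rw [this, MulEquiv.orderOf_eq]
  have hdvd : orderOf g' ∣ Nat.card (Subgroup.centralizer ({x} : Set G)) := by
    have h1 := Subgroup.orderOf_dvd_natCard (Subgroup.centralizer ({x} : Set G)) hgC
    exact h1
  have hle : orderOf g' ≤ p := by
    refine le_trans (Nat.le_of_dvd ?_ hdvd) hC
    exact Nat.card_pos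
  rw [hord, hk] at hle
  have hp2 : 2 ≤ p := hp.out.two_le
  have hk1 : k = 1 := by
    rcases Nat.lt_or_ge k 2 with h | h
    · omega
    · exfalso
      have : p * 2 ≤ p * k := Nat.mul_le_mul_left _ h
      omega
  rw [hk, hk1, mul_one]

/-- If a Sylow `2`-subgroup has exponent `2`, there is no element of order `4`. -/
theorem no_order_four {G : Type*} [Group G] [Finite G] (P : Sylow 2 G)
    (hP : ∀ x ∈ (P : Subgroup G), x * x = 1) (g : G) : orderOf g ≠ 4 := by
  classical
  intro h4
  have hpg : IsPGroup 2 (Subgroup.zpowers g) := by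
    apply IsPGroup.of_card (n := 2)
    rw [Nat.card_zpowers, h4]; norm_num
  obtain ⟨Q, hQ⟩ := hpg.exists_le_sylow
  obtain ⟨c, hc⟩ := MulAction.exists_smul_eq G Q P
  have hmem : c * g * c⁻¹ ∈ (P : Subgroup G) := by
    rw [← hc, Sylow.coe_subgroup_smul]
    rw [Subgroup.mem_pointwise_smul_iff_inv_smul_mem]
    rw [MulAut.smul_def, MulAut.conj_inv_apply]
    have : c⁻¹ * (c * g * c⁻¹) * c = g := by group
    rw [this]
    exact hQ (Subgroup.mem_zpowers _)
  have h2 := hP _ hmem
  have h3 : g * g = 1 := by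
    have : c * g * c⁻¹ * (c * g * c⁻¹) = c * (g * g) * c⁻¹ := by group
    rw [this] at h2
    have h4' : g * g = c⁻¹ * (c * (g * g) * c⁻¹) * c := by group
    rw [h4', h2]; group
  have : orderOf g ∣ 2 := orderOf_dvd_of_pow_eq_one (by rw [pow_two]; exact h3)
  rw [h4] at this
  norm_num at this

end Cfsg.Agent.Lib.L0.J1Spec
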