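import Mathlib
import Cfsg.Agent.Lib.H3.J1Cent2
import Cfsg.Agent.Lib.H27.J1Cls
import Cfsg.Agent.Lib.H18.J1Mult
import Cfsg.Agent.Lib.L0.J1SpecA
import Cfsg.Agent.Lib.L0.J1ChkX7
import Cfsg.Agent.Lib.L0.J1ChkX19

set_option autoImplicit false
set_option maxRecDepth 100000

/-!
# The set of element orders of `J₁` is `{1,2,3,5,6,7,10,11,15,19}` (lead)

Built on helper3's model of `J₁ ≤ GL₇(11)` (order, involution centralizer `2 × A₅`), helper27's
listed conjugacy classes (centralizer of an element of order `11`), helper18's explicit Sylow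
`2`-subgroup, and two further listed classes (elements of order `7` and `19`).
-/

namespace Cfsg.Agent.Lib.L0.J1Spec

open Cfsg.Agent.Lib.H3.DC Cfsg.Agent.Lib.H3 Cfsg.Agent.Lib.H3.J1 Cfsg.Agent.Lib.H27.J1Out
  Cfsg.Agent.Lib.H18 Cfsg.Spor

/-! ### Orders of some elements -/

def w6 : List ℕ := [0, 1, 1, 1]
def w7 : List ℕ := [0]
def w10 : List ℕ := [0, 1]
def w15 : List ℕ := [0, 0, 1, 1, 0, 1, 0, 1, 1]
def w19 : List ℕ := [0, 1, 0, 0]

theorem wp_pow_eq_one (w : List ℕ) (n : ℕ)
    (h : codeW (List.flatten (List.replicate n w)) = ModP.model.oneE) : wp w ^ n = 1 := by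
  apply ModP.model.code_inj
  rw [wp_pow, code_wp, ModP.model.code_one]
  exact h

theorem wp_pow_ne_one (w : List ℕ) (n : ℕ)
    (h : codeW (List.flatten (List.replicate n w)) ≠ ModP.model.oneE) : wp w ^ n ≠ 1 := by
  intro h1
  apply h
  have := congrArg ModP.model.code h1
  rw [wp_pow, code_wp, ModP.model.code_one] at this
  exact this

/-- the element of `J₁` spelled by a word -/
def el (w : List ℕ) : JJ := ⟨wp w, wp_mem w⟩

theorem el_coe (w : List ℕ) : ((el w : JJ) : GG) = wp w := rfl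

theorem el_eq_one (w : List ℕ) : el w = 1 ↔ wp w = 1 := by
  rw [← el_coe, OneMemClass.coe_eq_one]

theorem el_pow (w : List ℕ) (n : ℕ) : (el w) ^ n = 1 ↔ wp w ^ n = 1 := by
  rw [← OneMemClass.coe_eq_one, Subgroup.coe_pow, el_coe]

theorem p6_1 : wp w6 ^ 6 = 1 := wp_pow_eq_one _ _ (by decide +kernel)
theorem p6_2 : wp w6 ^ 3 ≠ 1 := wp_pow_ne_one _ _ (by decide +kernel)
theorem p6_3 : wp w6 ^ 2 ≠ 1 := wp_pow_ne_one _ _ (by decide +kernel)
theorem p10_1 : wp w10 ^ 10 = 1 := wp_pow_eq_one _ _ (by decide +kernel)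
theorem p10_2 : wp w10 ^ 5 ≠ 1 := wp_pow_ne_one _ _ (by decide +kernel)
theorem p10_3 : wp w10 ^ 2 ≠ 1 := wp_pow_ne_one _ _ (by decide +kernel)
theorem p15_1 : wp w15 ^ 15 = 1 := wp_pow_eq_one _ _ (by decide +kernel)
theorem p15_2 : wp w15 ^ 5 ≠ 1 := wp_pow_ne_one _ _ (by decide +kernel)
theorem p15_3 : wp w15 ^ 3 ≠ 1 := wp_pow_ne_one _ _ (by decide +kernel)
theorem p7_1 : wp w7 ^ 7 = 1 := wp_pow_eq_one _ _ (by decide +kernel)
theorem p7_2 : wp w7 ^ 1 ≠ 1 := wp_pow_ne_one _ _ (by decide +kernel)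
theorem p19_1 : wp w19 ^ 19 = 1 := wp_pow_eq_one _ _ (by decide +kernel)
theorem p19_2 : wp w19 ^ 1 ≠ 1 := wp_pow_ne_one _ _ (by decide +kernel)
theorem p11_1 : wp wS ^ 11 = 1 := wp_pow_eq_one _ _ (by decide +kernel)
theorem p11_2 : wp wS ^ 1 ≠ 1 := wp_pow_ne_one _ _ (by decide +kernel)

theorem prime_dvd_cases {p a b : ℕ} (hp : p.Prime) (ha : a.Prime) (hb : b.Prime)
    (h : p ∣ a * b) : p = a ∨ p = b := by
  rcases (Nat.Prime.dvd_mul hp).mp h with h | h
  · left; exact (Nat.prime_dvd_prime_iff_eq hp ha).mp h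
  · right; exact (Nat.prime_dvd_prime_iff_eq hp hb).mp h

theorem orderOf_el6 : orderOf (el w6) = 6 := by
  apply orderOf_eq_of_pow_and_pow_div_prime (by norm_num)
  · exact (el_pow _ _).mpr p6_1
  · intro p hp hpd
    rcases prime_dvd_cases hp Nat.prime_two Nat.prime_three (by simpa using hpd) with rfl | rfl
    · intro h; exact p6_2 ((el_pow _ _).mp (by simpa using h))
    · intro h; exact p6_3 ((el_pow _ _).mp (by simpa using h))

theorem orderOf_el10 : orderOf (el w10) = 10 := by
  apply orderOf_eq_of_pow_and_pow_div_prime (by norm_num)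
  · exact (el_pow _ _).mpr p10_1
  · intro p hp hpd
    rcases prime_dvd_cases hp Nat.prime_two Nat.prime_five (by simpa using hpd) with rfl | rfl
    · intro h; exact p10_2 ((el_pow _ _).mp (by simpa using h))
    · intro h; exact p10_3 ((el_pow _ _).mp (by simpa using h))

theorem orderOf_el15 : orderOf (el w15) = 15 := by
  apply orderOf_eq_of_pow_and_pow_div_prime (by norm_num)
  · exact (el_pow _ _).mpr p15_1
  · intro p hp hpd
    rcases prime_dvd_cases hp Nat.prime_three Nat.prime_five (by simpa using hpd) with rfl | rfl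
    · intro h; exact p15_2 ((el_pow _ _).mp (by simpa using h))
    · intro h; exact p15_3 ((el_pow _ _).mp (by simpa using h))

theorem orderOf_el7 : orderOf (el w7) = 7 := by
  have : Fact (Nat.Prime 7) := ⟨by norm_num⟩
  apply orderOf_eq_prime
  · exact (el_pow _ _).mpr p7_1
  · intro h
    apply p7_2
    rw [pow_one]
    exact (el_eq_one _).mp h

theorem orderOf_el19 : orderOf (el w19) = 19 := by
  have : Fact (Nat.Prime 19) := ⟨by norm_num⟩
  apply orderOf_eq_prime
  · exact (el_pow _ _).mpr p19_1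
  · intro h
    apply p19_2
    rw [pow_one]
    exact (el_eq_one _).mp h

theorem orderOf_el11 : orderOf (el wS) = 11 := by
  have : Fact (Nat.Prime 11) := ⟨by norm_num⟩
  apply orderOf_eq_prime
  · exact (el_pow _ _).mpr p11_1
  · intro h
    apply p11_2
    rw [pow_one]
    exact (el_eq_one _).mp h

/-! ### Centralizers of the elements of order 7, 11, 19 -/

theorem codeW_x7 : codeW w7 = zX7E := by decide +kernel
theorem codeW_x19 : codeW w19 = zX19E := by decide +kernel

theorem card_centralizer_x7 :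
    Nat.card (Subgroup.centralizer ({el w7} : Set JJ)) ≤ 7 := by
  have h := card_centralizer_le_gen CLX7 rfl rfl rfl w7 zX7E codeW_x7 CLX7_check1 CLX7_check3
    CLX7_check4
  have hn : CLX7.n = 25080 := rfl
  rw [hn] at h
  change 25080 * Nat.card (Subgroup.centralizer ({el w7} : Set JJ)) ≤ 175560 at h
  omega

theorem card_centralizer_x19 :
    Nat.card (Subgroup.centralizer ({el w19} : Set JJ)) ≤ 19 := by
  have h := card_centralizer_le_gen CLX19 rfl rfl rfl w19 zX19E codeW_x19 CLX19_check1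
    CLX19_check3 CLX19_check4
  have hn : CLX19.n = 9240 := rfl
  rw [hn] at h
  change 9240 * Nat.card (Subgroup.centralizer ({el w19} : Set JJ)) ≤ 175560 at h
  omega

theorem card_centralizer_x11 :
    Nat.card (Subgroup.centralizer ({el wS} : Set JJ)) ≤ 11 := card_centralizer_s

theorem fact_one (p m : ℕ) (hp : p.Prime) (hm : ¬ p ∣ m) (hm0 : m ≠ 0) :
    (p * m).factorization p = 1 := by
  rw [Nat.factorization_mul hp.ne_zero hm0, Finsupp.add_apply, hp.factorization,
    Nat.factorization_eq_zero_of_not_dvd hm]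
  simp

theorem fact7 : (Nat.card JJ).factorization 7 = 1 := by
  rw [card_JJ, show (175560 : ℕ) = 7 * 25080 by norm_num]
  exact fact_one 7 25080 (by norm_num) (by norm_num) (by norm_num)

theorem fact11 : (Nat.card JJ).factorization 11 = 1 := by
  rw [card_JJ, show (175560 : ℕ) = 11 * 15960 by norm_num]
  exact fact_one 11 15960 (by norm_num) (by norm_num) (by norm_num)

theorem fact19 : (Nat.card JJ).factorization 19 = 1 := by
  rw [card_JJ, show (175560 : ℕ) = 19 * 9240 by norm_num]
  exact fact_one 19 9240 (by norm_num) (by norm_num) (by norm_num)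

theorem order7 (g : JJ) (h : 7 ∣ orderOf g) : orderOf g = 7 := by
  have : Fact (Nat.Prime 7) := ⟨by norm_num⟩
  exact orderOf_eq_of_prime_dvd 7 (el w7) orderOf_el7 card_centralizer_x7 fact7 g h

theorem order11 (g : JJ) (h : 11 ∣ orderOf g) : orderOf g = 11 := by
  have : Fact (Nat.Prime 11) := ⟨by norm_num⟩
  exact orderOf_eq_of_prime_dvd 11 (el wS) orderOf_el11 card_centralizer_x11 fact11 g h

theorem order19 (g : JJ) (h : 19 ∣ orderOf g) : orderOf g = 19 := by
  have : Fact (Nat.Prime 19) := ⟨by norm_num⟩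
  exact orderOf_eq_of_prime_dvd 19 (el w19) orderOf_el19 card_centralizer_x19 fact19 g h

end Cfsg.Agent.Lib.L0.J1Spec
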