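import Mathlib
import Cfsg.Agent.Lib.L0.J1SpecA

set_option autoImplicit false

/-!
# Auxiliary groups with prescribed element orders (lead)

* `TT m ≤ (S₃)^m`: the tuples all of whose components have the same sign; a generalized dihedral
  group `C₃^m : C₂`, all of whose elements have order `1`, `2` or `3`, of order at least `m`.
* the dihedral group of order `10` has element orders `1, 2, 5`.
-/

namespace Cfsg.Agent.Lib.L0.J1Spec

/-- Tuples of permutations of three points, all of the same sign. -/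
def TT (m : ℕ) : Subgroup (Fin m → Equiv.Perm (Fin 3)) where
  carrier := {f | ∀ i j, Equiv.Perm.sign (f i) = Equiv.Perm.sign (f j)}
  mul_mem' := by
    intro a b ha hb i j
    simp only [Pi.mul_apply, map_mul]
    rw [ha i j, hb i j]
  one_mem' := by
    intro i j
    simp
  inv_mem' := by
    intro a ha i j
    simp only [Pi.inv_apply, map_inv]
    rw [ha i j]

theorem perm3_even : ∀ σ : Equiv.Perm (Fin 3), Equiv.Perm.sign σ = 1 → σ ^ 3 = 1 := by decide

theorem perm3_odd : ∀ σ : Equiv.Perm (Fin 3), Equiv.Perm.sign σ = -1 → σ ^ 2 = 1 := by decide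

theorem TT_pow (m : ℕ) (f : TT m) : f ^ 2 = 1 ∨ f ^ 3 = 1 := by
  rcases Nat.eq_zero_or_pos m with hm | hm
  · subst hm
    left
    apply Subtype.ext
    funext i
    exact i.elim0
  · have hf := f.2
    change ∀ i j, Equiv.Perm.sign (f.1 i) = Equiv.Perm.sign (f.1 j) at hf
    rcases Int.units_eq_one_or (Equiv.Perm.sign (f.1 ⟨0, hm⟩)) with h | h
    · right
      apply Subtype.ext
      funext i
      change (f.1 ^ 3) i = 1
      rw [Pi.pow_apply]
      exact perm3_even _ (by rw [hf i ⟨0, hm⟩, h])
    · left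
      apply Subtype.ext
      funext i
      change (f.1 ^ 2) i = 1
      rw [Pi.pow_apply]
      exact perm3_odd _ (by rw [hf i ⟨0, hm⟩, h])

theorem TT_orderOf (m : ℕ) (f : TT m) : orderOf f = 1 ∨ orderOf f = 2 ∨ orderOf f = 3 := by
  rcases TT_pow m f with h | h
  · have := orderOf_dvd_of_pow_eq_one h
    rcases (Nat.dvd_prime Nat.prime_two).mp this with h1 | h1
    · left; exact h1
    · right; left; exact h1
  · have := orderOf_dvd_of_pow_eq_one h
    rcases (Nat.dvd_prime Nat.prime_three).mp this with h1 | h1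
    · left; exact h1
    · right; right; exact h1

/-- the constant tuple -/
def TTconst (m : ℕ) (σ : Equiv.Perm (Fin 3)) : TT m := ⟨fun _ => σ, fun _ _ => rfl⟩

theorem TTconst_pow (m : ℕ) (σ : Equiv.Perm (Fin 3)) (n : ℕ) :
    TTconst m σ ^ n = TTconst m (σ ^ n) := by
  apply Subtype.ext
  funext i
  change ((TTconst m σ).1 ^ n) i = _
  rw [Pi.pow_apply]
  rfl

theorem TTconst_ne_one (m : ℕ) (σ : Equiv.Perm (Fin 3)) (hσ : σ ≠ 1) : TTconst (m + 1) σ ≠ 1 := by
  intro h
  apply hσ
  have := congrArg (fun f : TT (m + 1) => f.1 0) h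
  exact this

theorem TT_range (m : ℕ) :
    Set.range (orderOf : TT (m + 1) → ℕ) = ↑({1, 2, 3} : Finset ℕ) := by
  ext n
  simp only [Set.mem_range, Finset.coe_insert, Finset.coe_singleton, Set.mem_insert_iff,
    Set.mem_singleton_iff]
  constructor
  · rintro ⟨f, rfl⟩
    exact TT_orderOf _ f
  · rintro (rfl | rfl | rfl)
    · exact ⟨1, orderOf_one⟩
    · refine ⟨TTconst (m + 1) (Equiv.swap 0 1), ?_⟩
      haveI : Fact (Nat.Prime 2) := ⟨Nat.prime_two⟩
      apply orderOf_eq_prime
      · rw [TTconst_pow]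
        have : (Equiv.swap (0 : Fin 3) 1) ^ 2 = 1 := by decide
        rw [this]; rfl
      · exact TTconst_ne_one m _ (by decide)
    · refine ⟨TTconst (m + 1) (Equiv.swap 0 1 * Equiv.swap 1 2), ?_⟩
      haveI : Fact (Nat.Prime 3) := ⟨Nat.prime_three⟩
      apply orderOf_eq_prime
      · rw [TTconst_pow]
        have : (Equiv.swap (0 : Fin 3) 1 * Equiv.swap 1 2) ^ 3 = 1 := by decide
        rw [this]; rfl
      · exact TTconst_ne_one m _ (by decide)

/-- the tuple with a `3`-cycle in position `i` -/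
def TTsingle (m : ℕ) (i : Fin m) : TT m :=
  ⟨Pi.mulSingle i (Equiv.swap 0 1 * Equiv.swap 1 2), by
    intro a b
    have key : ∀ c : Fin m, Equiv.Perm.sign
        ((Pi.mulSingle i (Equiv.swap (0 : Fin 3) 1 * Equiv.swap 1 2) :
          Fin m → Equiv.Perm (Fin 3)) c) = 1 := by
      intro c
      by_cases h : c = i
      · subst h
        rw [Pi.mulSingle_eq_same]
        decide
      · rw [Pi.mulSingle_eq_of_ne h]
        simp
    rw [key a, key b]⟩

theorem TTsingle_injective (m : ℕ) : Function.Injective (TTsingle m) := by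
  intro i j h
  by_contra hne
  have h1 := congrArg (fun f : TT m => f.1 i) h
  simp only [TTsingle] at h1
  rw [Pi.mulSingle_eq_same, Pi.mulSingle_eq_of_ne hne] at h1
  revert h1
  decide

instance (m : ℕ) : Finite (TT m) := inferInstance

theorem TT_card (m : ℕ) : m ≤ Nat.card (TT m) := by
  have := Nat.card_le_card_of_injective _ (TTsingle_injective m)
  simpa using this

/-! ### The dihedral group of order 10 -/

theorem D5_pow : ∀ x : DihedralGroup 5, x ^ 2 = 1 ∨ x ^ 5 = 1 := by decide

theorem D5_orderOf (x : DihedralGroup 5) : orderOf x = 1 ∨ orderOf x = 2 ∨ orderOf x = 5 := by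
  rcases D5_pow x with h | h
  · have := orderOf_dvd_of_pow_eq_one h
    rcases (Nat.dvd_prime Nat.prime_two).mp this with h1 | h1
    · left; exact h1
    · right; left; exact h1
  · have := orderOf_dvd_of_pow_eq_one h
    rcases (Nat.dvd_prime Nat.prime_five).mp this with h1 | h1
    · left; exact h1
    · right; right; exact h1

theorem D5_range : Set.range (orderOf : DihedralGroup 5 → ℕ) = ↑({1, 2, 5} : Finset ℕ) := by
  ext n
  simp only [Set.mem_range, Finset.coe_insert, Finset.coe_singleton, Set.mem_insert_iff,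
    Set.mem_singleton_iff]
  constructor
  · rintro ⟨f, rfl⟩
    exact D5_orderOf f
  · rintro (rfl | rfl | rfl)
    · exact ⟨1, orderOf_one⟩
    · exact ⟨DihedralGroup.sr 0, DihedralGroup.orderOf_sr 0⟩
    · exact ⟨DihedralGroup.r 1, DihedralGroup.orderOf_r_one⟩

/-! ### The arithmetic of the two spectra -/

/-- the element orders of `J₁` -/
def SJ : Finset ℕ := {1, 2, 3, 5, 6, 7, 10, 11, 15, 19}

theorem spectra_eq :
    Finset.image₂ Nat.lcm SJ (Finset.image₂ Nat.lcm SJ (Finset.image₂ Nat.lcm SJ
      (Finset.image₂ Nat.lcm ({1, 2, 3} : Finset ℕ) ({1, 2, 5} : Finset ℕ)))) =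
    Finset.image₂ Nat.lcm SJ (Finset.image₂ Nat.lcm SJ (Finset.image₂ Nat.lcm SJ SJ)) := by
  decide +kernel

end Cfsg.Agent.Lib.L0.J1Spec
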