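import Mathlib
import Cfsg.Agent.Lib.L0.J1SpecB
import Cfsg.Agent.Lib.L0.J1SpecD

set_option autoImplicit false
set_option maxRecDepth 100000

/-!
# The set of element orders of `J₁`, continued: involutions (lead)

All involutions of `J₁` are conjugate (explicit Sylow `2`-subgroup of helper18, permuted
transitively by an element of order `7`), the centralizer of an involution is `2 × A₅`
(helper3), hence there are no elements of order `4` or `30`.
-/

namespace Cfsg.Agent.Lib.L0.J1Spec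

open Cfsg.Agent.Lib.H3.DC Cfsg.Agent.Lib.H3 Cfsg.Agent.Lib.H3.J1 Cfsg.Agent.Lib.H18 Cfsg.Spor

local notation "aJ" => J1Mult.aJ
local notation "tJ" => J1Mult.tJ
local notation "u1J" => J1Mult.u1J
local notation "u2J" => J1Mult.u2J
local notation "u3J" => J1Mult.u3J
local notation "PJ" => J1Mult.PJ

theorem u3_eq : u3J = aJ * u1J := Subtype.ext (by
  rw [Subgroup.coe_mul, J1Mult.u3J_coe, J1Mult.u1J_coe, J1Mult.aJ_coe]; exact J1Mult.rel3)

theorem aJ_ne_one : aJ ≠ 1 := fun h =>
  J1Mult.ne_1_0 (by rw [← J1Mult.one_coe, ← J1Mult.aJ_coe, h])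

theorem aJ_ne_u1 : aJ ≠ u1J := fun h =>
  J1Mult.ne_0_1 (by rw [← J1Mult.aJ_coe, ← J1Mult.u1J_coe, h])

theorem tJ_pow : tJ ^ 7 = 1 := Subtype.ext (by
  rw [Subgroup.coe_pow, Subgroup.coe_one]; exact J1Mult.x_pow)

theorem not_comm : ¬ (tJ * aJ = aJ * tJ) := by
  intro h
  apply aJ_ne_u1
  change aJ = tJ * aJ * tJ⁻¹
  rw [h]; group

theorem tJ_ne_one : tJ ≠ 1 := by
  intro h
  apply not_comm
  rw [h, one_mul, mul_one]

theorem orderOf_tJ : orderOf tJ = 7 := by
  haveI : Fact (Nat.Prime 7) := ⟨by norm_num⟩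
  exact orderOf_eq_prime tJ_pow tJ_ne_one

/-- `t` normalizes the Sylow `2`-subgroup -/
theorem conj_mem_PJ : ∀ x ∈ PJ, tJ * x * tJ⁻¹ ∈ PJ := by
  intro x hx
  have hmem0 : aJ ∈ PJ := Subgroup.subset_closure (by simp)
  have hmem1 : u1J ∈ PJ := Subgroup.subset_closure (by simp)
  have hmem2 : u2J ∈ PJ := Subgroup.subset_closure (by simp)
  induction hx using Subgroup.closure_induction with
  | mem z hz =>
    rcases hz with rfl | rfl | hz
    · exact hmem1
    · have : tJ * u1J * tJ⁻¹ = u2J := by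
        change tJ * (tJ * aJ * tJ⁻¹) * tJ⁻¹ = tJ ^ 2 * aJ * (tJ ^ 2)⁻¹
        rw [sq]
        group
      rw [this]; exact hmem2
    · rw [Set.mem_singleton_iff] at hz
      rw [hz]
      have : tJ * u2J * tJ⁻¹ = u3J := by
        change tJ * (tJ ^ 2 * aJ * (tJ ^ 2)⁻¹) * tJ⁻¹ = tJ ^ 3 * aJ * (tJ ^ 3)⁻¹
        rw [pow_succ tJ 2, sq]
        group
      rw [this, u3_eq]
      exact Subgroup.mul_mem _ hmem0 hmem1
  | one =>
    have : tJ * (1 : JJ) * tJ⁻¹ = 1 := by group
    rw [this]; exact Subgroup.one_mem _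
  | mul a b _ _ iha ihb =>
    have : tJ * (a * b) * tJ⁻¹ = (tJ * a * tJ⁻¹) * (tJ * b * tJ⁻¹) := by group
    rw [this]
    exact Subgroup.mul_mem _ iha ihb
  | inv a _ iha =>
    have : tJ * a⁻¹ * tJ⁻¹ = (tJ * a * tJ⁻¹)⁻¹ := by group
    rw [this]
    exact Subgroup.inv_mem _ iha

/-- the conjugates of `a` under powers of `t` -/
def vv (n : ℕ) : JJ := tJ ^ n * aJ * (tJ ^ n)⁻¹

theorem vv_mem (n : ℕ) : vv n ∈ PJ := by
  induction n with
  | zero =>
    have : vv 0 = aJ := by simp [vv]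
    rw [this]; exact Subgroup.subset_closure (by simp)
  | succ n ih =>
    have : vv (n + 1) = tJ * vv n * tJ⁻¹ := by
      simp only [vv, pow_succ']
      group
    rw [this]
    exact conj_mem_PJ _ ih

theorem vv_ne_one (n : ℕ) : vv n ≠ 1 := by
  intro h
  apply aJ_ne_one
  have : aJ = (tJ ^ n)⁻¹ * vv n * tJ ^ n := by simp only [vv]; group
  rw [this, h]; group

theorem vv_inj (i j : ℕ) (hi : i < 7) (hj : j < 7) (h : vv i = vv j) : i = j := by
  by_contra hne
  -- `s = t^(j-i)` commutes with `a`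
  set s : JJ := (tJ ^ i)⁻¹ * tJ ^ j with hs
  have hcomm : s * aJ = aJ * s := by
    have h1 : aJ = (tJ ^ i)⁻¹ * vv i * tJ ^ i := by simp only [vv]; group
    have h2 : s * aJ * s⁻¹ = (tJ ^ i)⁻¹ * vv j * tJ ^ i := by simp only [vv, hs]; group
    rw [← h] at h2
    rw [← h1] at h2
    calc s * aJ = s * aJ * s⁻¹ * s := by group
      _ = aJ * s := by rw [h2]
  have hsz : s ∈ Subgroup.zpowers tJ :=
    Subgroup.mul_mem _ (Subgroup.inv_mem _ (Subgroup.pow_mem _ (Subgroup.mem_zpowers _) _))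
      (Subgroup.pow_mem _ (Subgroup.mem_zpowers _) _)
  have hs1 : s ≠ 1 := by
    intro h1
    have : tJ ^ i = tJ ^ j := by
      have : tJ ^ j = tJ ^ i * s := by rw [hs]; group
      rw [this, h1, mul_one]
    rw [pow_eq_pow_iff_modEq, orderOf_tJ] at this
    have := Nat.ModEq.eq_of_lt_of_lt this hi hj
    exact hne this
  have hso : orderOf s = 7 := by
    have hd : orderOf s ∣ 7 := by
      apply orderOf_dvd_of_pow_eq_one
      obtain ⟨k, hk⟩ := Subgroup.mem_zpowers_iff.mp hsz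
      rw [← hk, ← zpow_natCast, ← zpow_mul, mul_comm, zpow_mul, zpow_natCast, tJ_pow, one_zpow]
    rcases (Nat.dvd_prime (by norm_num : Nat.Prime 7)).mp hd with h1 | h1
    · exact absurd (orderOf_eq_one_iff.mp h1) hs1
    · exact h1
  have heq : Subgroup.zpowers s = Subgroup.zpowers tJ := by
    apply Subgroup.eq_of_le_of_card_ge
    · rw [Subgroup.zpowers_le]; exact hsz
    · rw [Nat.card_zpowers, Nat.card_zpowers, hso, orderOf_tJ]
  have htin : tJ ∈ Subgroup.zpowers s := by rw [heq]; exact Subgroup.mem_zpowers _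
  obtain ⟨k, hk⟩ := Subgroup.mem_zpowers_iff.mp htin
  apply not_comm
  rw [← hk]
  have : Commute s aJ := hcomm
  exact (this.zpow_left k).eq

theorem PJ_elems (x : JJ) (hx : x ∈ PJ) : x = 1 ∨ ∃ i : Fin 7, x = vv i := by
  classical
  let S : Finset JJ := insert 1 (Finset.univ.image fun i : Fin 7 => vv i)
  have hinj : Function.Injective fun i : Fin 7 => vv i := by
    intro i j h
    exact Fin.ext (vv_inj i j i.2 j.2 h)
  have hcard : S.card = 8 := by
    rw [Finset.card_insert_of_notMem, Finset.card_image_of_injective _ hinj]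
    · simp
    · simp only [Finset.mem_image, Finset.mem_univ, true_and, not_exists]
      intro i h
      exact vv_ne_one i h
  have hsub : (S : Set JJ) ⊆ (PJ : Set JJ) := by
    intro y hy
    rw [Finset.mem_coe, Finset.mem_insert, Finset.mem_image] at hy
    rcases hy with rfl | ⟨i, _, rfl⟩
    · exact Subgroup.one_mem _
    · exact vv_mem i
  have heq : (S : Set JJ) = (PJ : Set JJ) := by
    apply Set.eq_of_subset_of_ncard_le hsub
    · rw [Set.ncard_coe_finset, hcard]
      have : (PJ : Set JJ).ncard = Nat.card PJ := rfl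
      rw [this, J1Mult.card_PJ]
  have hxS : x ∈ (S : Set JJ) := by rw [heq]; exact hx
  rw [Finset.mem_coe, Finset.mem_insert, Finset.mem_image] at hxS
  rcases hxS with h1 | ⟨i, _, hi⟩
  · exact Or.inl h1
  · exact Or.inr ⟨i, hi.symm⟩

theorem hcardPJ : Nat.card PJ = 2 ^ (Nat.card JJ).factorization 2 := by
  rw [J1Mult.card_PJ, card_JJ, J1Mult.fact2]; norm_num

/-- the Sylow `2`-subgroup -/
noncomputable def PS : Sylow 2 JJ := Sylow.ofCard PJ hcardPJ

theorem PS_coe : (PS : Subgroup JJ) = PJ := Sylow.coe_ofCard PJ hcardPJ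

theorem no_order_four_J1 (g : JJ) : orderOf g ≠ 4 := by
  apply no_order_four PS
  intro x hx
  rw [PS_coe] at hx
  exact J1Mult.PJ_sq x hx

/-- every involution is conjugate to `a` -/
theorem involution_conj (u : JJ) (hu : orderOf u = 2) : ∃ c : JJ, c * u * c⁻¹ = aJ := by
  classical
  have hpg : IsPGroup 2 (Subgroup.zpowers u) := by
    apply IsPGroup.of_card (n := 1)
    rw [Nat.card_zpowers, hu]; norm_num
  obtain ⟨Q, hQ⟩ := hpg.exists_le_sylow
  obtain ⟨c, hc⟩ := MulAction.exists_smul_eq JJ Q PS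
  have hmem : c * u * c⁻¹ ∈ (PS : Subgroup JJ) := by
    rw [← hc, Sylow.coe_subgroup_smul]
    rw [Subgroup.mem_pointwise_smul_iff_inv_smul_mem]
    rw [MulAut.smul_def, MulAut.conj_inv_apply]
    have : c⁻¹ * (c * u * c⁻¹) * c = u := by group
    rw [this]
    exact hQ (Subgroup.mem_zpowers _)
  rw [PS_coe] at hmem
  rcases PJ_elems _ hmem with h1 | ⟨i, hi⟩
  · exfalso
    have : u = 1 := by
      have : u = c⁻¹ * (c * u * c⁻¹) * c := by group
      rw [this, h1]; group
    rw [this, orderOf_one] at hu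
    norm_num at hu
  · refine ⟨(tJ ^ (i : ℕ))⁻¹ * c, ?_⟩
    have : (tJ ^ (i : ℕ))⁻¹ * c * u * ((tJ ^ (i : ℕ))⁻¹ * c)⁻¹ =
        (tJ ^ (i : ℕ))⁻¹ * (c * u * c⁻¹) * tJ ^ (i : ℕ) := by group
    rw [this, hi]
    simp only [vv]
    group

theorem prodA5 : ∀ x : Multiplicative (ZMod 2) × alternatingGroup (Fin 5),
    x ^ 30 = 1 → x ^ 6 = 1 ∨ x ^ 10 = 1 := by decide

theorem no_order_thirty (g : JJ) : orderOf g ≠ 30 := by
  intro h30
  obtain ⟨t0, ht0, ⟨e⟩⟩ := exists_involution
  -- the involution `u = g ^ 15`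
  have hu : orderOf (g ^ 15) = 2 := by
    rw [orderOf_pow_of_dvd (by norm_num) (by rw [h30]; norm_num), h30]
  obtain ⟨c, hc⟩ := involution_conj (g ^ 15) hu
  obtain ⟨c0, hc0⟩ := involution_conj t0 ht0
  set d : JJ := c0⁻¹ * c with hd
  have ht0' : t0 = d * g ^ 15 * d⁻¹ := by
    have h1 : t0 = c0⁻¹ * (c0 * t0 * c0⁻¹) * c0 := by group
    rw [h1, hc0, ← hc, hd]; group
  set g' : JJ := d * g * d⁻¹ with hg'
  have hg'15 : g' ^ 15 = t0 := by rw [hg', conj_pow, ← ht0']
  have hmem : g' ∈ Subgroup.centralizer ({t0} : Set JJ) := by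
    rw [Subgroup.mem_centralizer_iff]
    intro y hy
    rw [Set.mem_singleton_iff] at hy
    rw [hy, ← hg'15, ← pow_succ, ← pow_succ']
  have hord : orderOf g' = 30 := by
    have : g' = MulAut.conj d g := rfl
    rw [this, MulEquiv.orderOf_eq, h30]
  set y := e ⟨g', hmem⟩ with hy
  have hyord : orderOf y = 30 := by
    rw [hy, MulEquiv.orderOf_eq, Subgroup.orderOf_mk, hord]
  have hy30 : y ^ 30 = 1 := by rw [← hyord]; exact pow_orderOf_eq_one y
  rcases prodA5 y hy30 with h | h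
  · have := orderOf_dvd_of_pow_eq_one h
    rw [hyord] at this
    norm_num at this
  · have := orderOf_dvd_of_pow_eq_one h
    rw [hyord] at this
    norm_num at this

theorem arith_aux0 : ∀ n : ℕ, n < 121 → (n ∣ 120 → ¬ 4 ∣ n → n ≠ 30 →
    n = 1 ∨ n = 2 ∨ n = 3 ∨ n = 5 ∨ n = 6 ∨ n = 10 ∨ n = 15) := by
  intro n hn h1 h2 h3
  interval_cases n <;> simp_all

theorem arith_aux (n : ℕ) (h1 : n ≤ 120) (h2 : n ∣ 120) (h3 : ¬ 4 ∣ n) (h4 : n ≠ 30) :
    n = 1 ∨ n = 2 ∨ n = 3 ∨ n = 5 ∨ n = 6 ∨ n = 10 ∨ n = 15 :=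
  arith_aux0 n (by omega) h2 h3 h4

/-- The set of element orders of `J₁`. -/
theorem J1_range : Set.range (orderOf : JJ → ℕ) = ↑SJ := by
  ext n
  simp only [SJ, Set.mem_range, Finset.coe_insert, Finset.coe_singleton, Set.mem_insert_iff,
    Set.mem_singleton_iff]
  constructor
  · rintro ⟨g, rfl⟩
    by_cases h7 : 7 ∣ orderOf g
    · rw [order7 g h7]; simp
    by_cases h11 : 11 ∣ orderOf g
    · rw [order11 g h11]; simp
    by_cases h19 : 19 ∣ orderOf g
    · rw [order19 g h19]; simp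
    have hdvd : orderOf g ∣ 175560 := by
      rw [← card_JJ]; exact orderOf_dvd_natCard g
    have hcop : Nat.Coprime (orderOf g) 1463 := by
      have e : (1463 : ℕ) = 7 * (11 * 19) := by norm_num
      rw [e]
      apply Nat.Coprime.mul_right
      · exact ((Nat.Prime.coprime_iff_not_dvd (by norm_num)).mpr h7).symm
      · apply Nat.Coprime.mul_right
        · exact ((Nat.Prime.coprime_iff_not_dvd (by norm_num)).mpr h11).symm
        · exact ((Nat.Prime.coprime_iff_not_dvd (by norm_num)).mpr h19).symm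
    have h120 : orderOf g ∣ 120 := by
      have e : (175560 : ℕ) = 1463 * 120 := by norm_num
      rw [e] at hdvd
      exact hcop.dvd_of_dvd_mul_left hdvd
    have h4 : ¬ 4 ∣ orderOf g := by
      intro h4
      obtain ⟨h, hh⟩ := exists_orderOf_eq_of_dvd g (orderOf_pos g) 4 h4
      exact no_order_four_J1 h hh
    have hle : orderOf g ≤ 120 := Nat.le_of_dvd (by norm_num) h120
    rcases arith_aux _ hle h120 h4 (no_order_thirty g) with h | h | h | h | h | h | h <;>
      rw [h] <;> simp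
  · have hmem : ∀ m ∈ ({6, 10, 15, 7, 11, 19} : Finset ℕ), m ∈ Set.range (orderOf : JJ → ℕ) := by
      intro m hm
      simp only [Finset.mem_insert, Finset.mem_singleton] at hm
      rcases hm with rfl | rfl | rfl | rfl | rfl | rfl
      · exact ⟨_, orderOf_el6⟩
      · exact ⟨_, orderOf_el10⟩
      · exact ⟨_, orderOf_el15⟩
      · exact ⟨_, orderOf_el7⟩
      · exact ⟨_, orderOf_el11⟩
      · exact ⟨_, orderOf_el19⟩
    rintro (rfl | rfl | rfl | rfl | rfl | rfl | rfl | rfl | rfl | rfl)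
    · exact mem_range_orderOf_of_dvd (hmem 6 (by simp)) (by norm_num)
    · exact mem_range_orderOf_of_dvd (hmem 6 (by simp)) (by norm_num)
    · exact mem_range_orderOf_of_dvd (hmem 6 (by simp)) (by norm_num)
    · exact mem_range_orderOf_of_dvd (hmem 10 (by simp)) (by norm_num)
    · exact hmem 6 (by simp)
    · exact hmem 7 (by simp)
    · exact hmem 10 (by simp)
    · exact hmem 11 (by simp)
    · exact hmem 15 (by simp)
    · exact hmem 19 (by simp)

end Cfsg.Agent.Lib.L0.J1Spec
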