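import Mathlib
import Cfsg.Agent.Lib.L0.J1SpecC

set_option autoImplicit false

/-!
# Arbitrarily large groups with the same element orders as `J₁ × J₁ × J₁ × J₁` (lead)

`J₁ × J₁ × J₁ × T × D₁₀`, where `T = C₃^m : C₂` is generalized dihedral, has the same set of
element orders as `J₁⁴`: all proper divisors of `2·3·5·7·11·19`.
-/

namespace Cfsg.Agent.Lib.L0.J1Spec

open Cfsg.Agent.Lib.H3.J1

/-- the family of groups -/
abbrev HH (m : ℕ) : Type := JJ × (JJ × (JJ × (TT (m + 1) × DihedralGroup 5)))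

theorem HH_range (m : ℕ) : Set.range (orderOf : HH m → ℕ) =
    ↑(Finset.image₂ Nat.lcm SJ (Finset.image₂ Nat.lcm SJ (Finset.image₂ Nat.lcm SJ
      (Finset.image₂ Nat.lcm ({1, 2, 3} : Finset ℕ) ({1, 2, 5} : Finset ℕ))))) := by
  apply range_orderOf_prod_finset _ _ J1_range
  apply range_orderOf_prod_finset _ _ J1_range
  apply range_orderOf_prod_finset _ _ J1_range
  exact range_orderOf_prod_finset _ _ (TT_range m) D5_range

theorem J4_range : Set.range (orderOf : JJ × JJ × JJ × JJ → ℕ) =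
    ↑(Finset.image₂ Nat.lcm SJ (Finset.image₂ Nat.lcm SJ (Finset.image₂ Nat.lcm SJ SJ))) := by
  apply range_orderOf_prod_finset _ _ J1_range
  apply range_orderOf_prod_finset _ _ J1_range
  exact range_orderOf_prod_finset _ _ J1_range J1_range

theorem HH_card (m : ℕ) : m + 1 ≤ Nat.card (HH m) := by
  have h1 : 0 < Nat.card JJ := Nat.card_pos
  have h2 : 0 < Nat.card (DihedralGroup 5) := Nat.card_pos
  have h3 : m + 1 ≤ Nat.card (TT (m + 1)) := TT_card (m + 1)
  rw [Nat.card_prod, Nat.card_prod, Nat.card_prod, Nat.card_prod]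
  calc m + 1 ≤ Nat.card (TT (m + 1)) := h3
    _ ≤ Nat.card (TT (m + 1)) * Nat.card (DihedralGroup 5) := Nat.le_mul_of_pos_right _ h2
    _ ≤ Nat.card JJ * (Nat.card (TT (m + 1)) * Nat.card (DihedralGroup 5)) :=
        Nat.le_mul_of_pos_left _ h1
    _ ≤ Nat.card JJ * (Nat.card JJ * (Nat.card (TT (m + 1)) * Nat.card (DihedralGroup 5))) :=
        Nat.le_mul_of_pos_left _ h1
    _ ≤ Nat.card JJ * (Nat.card JJ * (Nat.card JJ *
          (Nat.card (TT (m + 1)) * Nat.card (DihedralGroup 5)))) :=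
        Nat.le_mul_of_pos_left _ h1

theorem family (N : ℕ) : ∃ (H : Type) (_ : Group H) (_ : Fintype H), N < Fintype.card H ∧
    Set.range (orderOf : H → ℕ) = Set.range (orderOf : JJ × JJ × JJ × JJ → ℕ) := by
  letI : Fintype (HH N) := Fintype.ofFinite _
  refine ⟨HH N, inferInstance, inferInstance, ?_, ?_⟩
  · rw [← Nat.card_eq_fintype_card]
    exact HH_card N
  · rw [HH_range, J4_range, spectra_eq]

end Cfsg.Agent.Lib.L0.J1Spec
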