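import Cfsg.Agent.Lib.L0.QuadraticRing

/-!
# Quadratic action and coprime elements, general odd exponent (lead's library)

Same as `QuadraticRing`, with the prime `p` replaced by an odd number `q` (the exponent of an
abelian normal subgroup `V`).

* `commute_of_quadratic'`, `commutator_mem_centralizer_of_quadratic'`.
-/

set_option autoImplicit false

namespace Cfsg.Agent.Lib.L0

open scoped commutatorElement

theorem commute_of_quadratic' {E : Type*} [Ring E] {p : ℕ} (hpo : Odd p)
    (hchar : (p : E) = 0) (N x xi : E) (hx : x * xi = 1) (hx' : xi * x = 1)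
    {n : ℕ} (hn : n.Coprime p) (hxn : x ^ n = 1)
    (h1 : x * ((1 - N) * x * (1 + N)) = ((1 - N) * x * (1 + N)) * x)
    (h2 : x * ((1 + N) * x * (1 - N)) = ((1 + N) * x * (1 - N)) * x) : x * N = N * x := by
  rcases Nat.lt_or_ge 1 p with hp1 | hp1
  swap
  · have hp0 : p = 1 := by
      rcases hpo with ⟨m, hm⟩
      omega
    rw [hp0, Nat.cast_one] at hchar
    have : Subsingleton E := subsingleton_of_zero_eq_one hchar.symm
    exact Subsingleton.elim _ _
  set d := x * N - N * x with hd
  have h3 : (2 : E) * (x * d - d * x) = 0 := by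
    have e1 : x * ((1 - N) * x * (1 + N)) - ((1 - N) * x * (1 + N)) * x -
        (x * ((1 + N) * x * (1 - N)) - ((1 + N) * x * (1 - N)) * x) = 2 * (x * d - d * x) := by
      rw [hd]; noncomm_ring
    rw [← e1, h1, h2]; simp
  have h4 : x * d = d * x := by
    obtain ⟨m, hm⟩ : ∃ m, p = 2 * m + 1 := hpo
    have e : x * d - d * x = (p : E) * (x * d - d * x) - (m : E) * (2 * (x * d - d * x)) := by
      rw [hm]; push_cast; noncomm_ring
    rw [hchar, h3] at e
    simp at e
    exact sub_eq_zero.mp e
  set g := d * xi with hg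
  have hxg : x * g = d := by rw [hg, ← mul_assoc, h4, mul_assoc, hx, mul_one]
  have hgx : g * x = d := by rw [hg, mul_assoc, hx', mul_one]
  have hconj : x * N * xi = N + g := by
    rw [hg, hd, sub_mul, mul_assoc N, hx, mul_one]; abel
  have hind : ∀ m : ℕ, x ^ m * N * xi ^ m = N + (m : E) * g := by
    intro m
    induction m with
    | zero => simp
    | succ m ih =>
      have e1 : x ^ (m + 1) * N * xi ^ (m + 1) = x * (x ^ m * N * xi ^ m) * xi := by
        rw [pow_succ' x, pow_succ xi]; simp only [mul_assoc]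
      rw [e1, ih, mul_add, add_mul, hconj]
      have e2 : x * ((m : E) * g) * xi = (m : E) * g := by
        rw [← mul_assoc, ← (Nat.cast_commute m x).eq, mul_assoc, mul_assoc, ← mul_assoc x g xi,
          hxg, ← hg]
      rw [e2]; push_cast; noncomm_ring
  have hxin : xi ^ n = 1 := by
    have hc : Commute xi x := by rw [Commute, SemiconjBy, hx, hx']
    have := hc.mul_pow n
    rw [hx', one_pow, hxn, mul_one] at this
    exact this.symm
  have hng : (n : E) * g = 0 := by
    have := hind n
    rw [hxn, hxin, one_mul, mul_one] at this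
    exact (left_eq_add).mp this
  have hg0 : g = 0 := by
    obtain ⟨m, -, hm⟩ := Nat.exists_mul_mod_eq_one_of_coprime hn hp1
    have e1 : n * m = p * (n * m / p) + 1 := by
      have := Nat.div_add_mod (n * m) p
      rw [hm] at this; exact this.symm
    have e2 : ((n * m : ℕ) : E) = 1 := by
      rw [e1]; push_cast; rw [hchar, zero_mul, zero_add]
    calc g = ((n * m : ℕ) : E) * g := by rw [e2, one_mul]
      _ = (m : E) * ((n : E) * g) := by
          rw [Nat.cast_mul, ← mul_assoc (m : E), (Nat.cast_commute m (n : E)).eq]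
      _ = 0 := by rw [hng, mul_zero]
  have hd0 : d = 0 := by rw [← hgx, hg0, zero_mul]
  exact sub_eq_zero.mp hd0

section rep

variable {G : Type*} [Group G]

theorem commutator_mem_centralizer_of_quadratic' {p : ℕ} (hpo : Odd p)
    (V : Subgroup G) [hVn : V.Normal] (hVc : ∀ u ∈ V, ∀ v ∈ V, u * v = v * u)
    (hVp : ∀ v ∈ V, v ^ p = 1) (a x : G) (hquad : ∀ v ∈ V, a * ⁅a, v⁆ = ⁅a, v⁆ * a)
    {n : ℕ} (hn : n.Coprime p) (hxn : x ^ n ∈ Subgroup.centralizer (V : Set G))
    (h1 : ⁅x, a⁻¹ * x * a⁆ ∈ Subgroup.centralizer (V : Set G))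
    (h2 : ⁅x, a * x * a⁻¹⁆ ∈ Subgroup.centralizer (V : Set G)) :
    ⁅x, a⁆ ∈ Subgroup.centralizer (V : Set G) := by
  letI : CommGroup V := commGroupOfForallComm V hVc
  let ρ : G →* AddMonoid.End (Additive V) :=
    { toFun := fun g => MonoidHom.toAdditive ((MulAut.conjNormal g : V ≃* V).toMonoidHom)
      map_one' := by
        ext w
        rw [map_one]; rfl
      map_mul' := by
        intro g h
        ext w
        rw [map_mul]; rfl }
  have hρ : ∀ g (v : V), ρ g (Additive.ofMul v) = Additive.ofMul (MulAut.conjNormal g v) :=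
    fun _ _ => rfl
  have hker : ∀ g, ρ g = 1 ↔ g ∈ Subgroup.centralizer (V : Set G) := by
    intro g
    rw [Subgroup.mem_centralizer_iff]
    constructor
    · intro hg v hv
      have h3 := hρ g ⟨v, hv⟩
      rw [hg] at h3
      have h4 : (MulAut.conjNormal g (⟨v, hv⟩ : V) : V) = ⟨v, hv⟩ :=
        (Additive.ofMul.injective h3).symm
      have h5 := congrArg Subtype.val h4
      rw [MulAut.conjNormal_apply] at h5
      calc v * g = (g * v * g⁻¹) * g := by rw [h5]
        _ = g * v := by group
    · intro hg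
      refine DFunLike.ext _ _ (fun w => ?_)
      obtain ⟨v, rfl⟩ := Additive.ofMul.surjective w
      rw [hρ]
      show Additive.ofMul _ = Additive.ofMul v
      congr 1
      apply Subtype.ext
      rw [MulAut.conjNormal_apply, ← hg v v.2]
      group
  have hcomm : ∀ y z : G, ⁅y, z⁆ ∈ Subgroup.centralizer (V : Set G) ↔ ρ y * ρ z = ρ z * ρ y := by
    intro y z
    rw [← hker, commutatorElement_def, map_mul, map_mul, map_mul]
    constructor
    · intro h
      calc ρ y * ρ z = (ρ y * ρ z * ρ y⁻¹ * ρ z⁻¹) * (ρ z * ρ y) := by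
            rw [mul_assoc (ρ y * ρ z * ρ y⁻¹), ← mul_assoc (ρ z⁻¹), ← map_mul ρ z⁻¹,
              inv_mul_cancel, map_one, one_mul, mul_assoc (ρ y * ρ z), ← map_mul ρ y⁻¹,
              inv_mul_cancel, map_one, mul_one]
        _ = ρ z * ρ y := by rw [h, one_mul]
    · intro h
      rw [h, mul_assoc (ρ z), ← map_mul ρ y, mul_inv_cancel, map_one, mul_one, ← map_mul,
        mul_inv_cancel, map_one]
  have hchar : ((p : ℕ) : AddMonoid.End (Additive V)) = 0 := by
    refine DFunLike.ext _ _ (fun w => ?_)
    obtain ⟨v, rfl⟩ := Additive.ofMul.surjective w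
    rw [AddMonoid.End.natCast_apply, ← ofMul_pow]
    have : v ^ p = 1 := Subtype.ext (by rw [Subgroup.coe_pow, hVp v v.2]; rfl)
    rw [this]; rfl
  set N : AddMonoid.End (Additive V) := ρ a - 1 with hN
  have hNN : N * N = 0 := by
    refine DFunLike.ext _ _ (fun w => ?_)
    obtain ⟨v, rfl⟩ := Additive.ofMul.surjective w
    have e1 : N (Additive.ofMul v) = Additive.ofMul (MulAut.conjNormal a v / v) := by
      rw [hN]; show ρ a (Additive.ofMul v) - Additive.ofMul v = _
      rw [hρ, ← ofMul_div]
    have e2 : ∀ u : V, N (Additive.ofMul u) = Additive.ofMul (MulAut.conjNormal a u / u) := by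
      intro u
      rw [hN]; show ρ a (Additive.ofMul u) - Additive.ofMul u = _
      rw [hρ, ← ofMul_div]
    show N (N (Additive.ofMul v)) = 0
    rw [e2 v, e2]
    have e3 : MulAut.conjNormal a (MulAut.conjNormal a v / v) = MulAut.conjNormal a v / v := by
      apply Subtype.ext
      rw [MulAut.conjNormal_apply]
      have e4 : ((MulAut.conjNormal a v / v : V) : G) = ⁅a, (v : G)⁆ := by
        rw [Subgroup.coe_div, MulAut.conjNormal_apply, commutatorElement_def, div_eq_mul_inv]
      rw [e4, hquad v v.2]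
      group
    rw [e3, div_self']; rfl
  have ha1 : ρ a = 1 + N := by rw [hN]; abel
  have ha2 : ρ a⁻¹ = 1 - N := by
    have e1 : (1 + N) * (1 - N) = 1 := by
      rw [mul_sub, mul_one, add_mul, one_mul, hNN]; abel
    calc ρ a⁻¹ = ρ a⁻¹ * ((1 + N) * (1 - N)) := by rw [e1, mul_one]
      _ = (ρ a⁻¹ * ρ a) * (1 - N) := by rw [ha1, mul_assoc]
      _ = 1 - N := by rw [← map_mul, inv_mul_cancel, map_one, one_mul]
  have hxn' : ρ x ^ n = 1 := by rw [← map_pow, hker]; exact hxn
  have key := commute_of_quadratic' hpo hchar N (ρ x) (ρ x⁻¹)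
    (by rw [← map_mul, mul_inv_cancel, map_one]) (by rw [← map_mul, inv_mul_cancel, map_one])
    hn hxn'
    (by
      rw [← ha1, ← ha2, ← map_mul, ← map_mul]
      exact (hcomm x (a⁻¹ * x * a)).mp h1)
    (by
      rw [← ha1, ← ha2, ← map_mul, ← map_mul]
      have := (hcomm x (a * x * a⁻¹)).mp h2
      exact this)
  rw [hcomm, ha1, mul_add, add_mul, key, mul_one, one_mul]

end rep

end Cfsg.Agent.Lib.L0
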