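import Cfsg.Agent.Lib.L0.NPCTools
import Cfsg.Agent.Lib.L0.QuadraticRing2
import Cfsg.Agent.Lib.H1.PCore
import Cfsg.Prelude.Def_PLocal

/-!
# `p`-stability in a minimal counterexample to a normal `p`-complement theorem (lead's library)

In the configuration `NPCStruct p G H K` (with `p` odd), the group `G` acts `p`-stably on each of
its normal `p`-subgroups (`isPStableOn_of_struct`).

Tools:
* `conj_pow_eq` : `z b z⁻¹ = c b`, `z c = c z` imply `z^m b z^-m = c^m b`.
* `commutator_mem_centralizerMod_of_quadratic` : quotient form of the quadratic lemma.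
* `commutator_lt_of_isNilpotent` : `[B, H] < B` for `1 ≠ B ⊴ G`, `B ≤ H`, `H` nilpotent.
* `exists_pow_mem_centralizer_of_quadratic` : for `a` quadratic on the normal `p`-subgroup `B`
  and `x ∈ K`, a `p`-power of `[x, a]` centralizes `B`.
-/

set_option autoImplicit false

universe u

namespace Cfsg.Agent.Lib.L0

open Cfsg.Agent.Lib
open scoped commutatorElement

section tools

variable {G : Type*} [Group G]

theorem conj_pow_eq {z b c : G} (hc : z * b * z⁻¹ = c * b) (hzc : z * c = c * z) :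
    ∀ m : ℕ, z ^ m * b * (z ^ m)⁻¹ = c ^ m * b := by
  intro m
  induction m with
  | zero => simp
  | succ m ih =>
    have e1 : z ^ (m + 1) * b * (z ^ (m + 1))⁻¹ = z * (z ^ m * b * (z ^ m)⁻¹) * z⁻¹ := by
      rw [pow_succ']; group
    have hzc' : z * c * z⁻¹ = c := by rw [hzc]; group
    have e2 : z * (c ^ m * b) * z⁻¹ = (z * c * z⁻¹) ^ m * (z * b * z⁻¹) := by
      rw [conj_pow]; group
    rw [e1, ih, e2, hzc', hc, ← mul_assoc, ← pow_succ]

theorem card_lt_card_of_lt [Finite G] {A B : Subgroup G} (h : A < B) : Nat.card A < Nat.card B := by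
  by_contra hcon
  push Not at hcon
  exact h.ne (Subgroup.eq_of_le_of_card_ge h.le hcon)

theorem commutator_lt_of_isNilpotent {H B : Subgroup G} [B.Normal] (hnil : Group.IsNilpotent H)
    (hBH : B ≤ H) (hB : B ≠ ⊥) : ⁅B, H⁆ < B := by
  refine lt_of_le_of_ne (Subgroup.commutator_le_left B H) ?_
  intro heq
  apply hB
  obtain ⟨c, hc⟩ := (Subgroup.isNilpotent_iff_lowerCentralSeries H).mp hnil
  have key : ∀ i, B ≤ H.lowerCentralSeries i := by
    intro i
    induction i with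
    | zero => exact hBH
    | succ i ih =>
      rw [Subgroup.lowerCentralSeries_succ]
      calc B = ⁅B, H⁆ := heq.symm
        _ ≤ ⁅H.lowerCentralSeries i, H⁆ := Subgroup.commutator_mono ih le_rfl
  rw [eq_bot_iff, ← hc]
  exact key c

theorem commutator_mem_centralizerMod_of_quadratic {q : ℕ} (hq : Odd q) (Bs B : Subgroup G)
    [hBsn : Bs.Normal] [hBn : B.Normal] (hcomm : ⁅B, B⁆ ≤ Bs) (hpow : ∀ b ∈ B, b ^ q ∈ Bs)
    (a x : G) (hquad : ∀ b ∈ B, ⁅a, ⁅a, b⁆⁆ ∈ Bs) {n : ℕ} (hn : n.Coprime q)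
    (hxn : x ^ n ∈ centralizerMod Bs B) (h1 : ⁅x, a⁻¹ * x * a⁆ ∈ centralizerMod Bs B)
    (h2 : ⁅x, a * x * a⁻¹⁆ ∈ centralizerMod Bs B) : ⁅x, a⁆ ∈ centralizerMod Bs B := by
  have hVn : (B.map (QuotientGroup.mk' Bs)).Normal :=
    Subgroup.Normal.map hBn _ (QuotientGroup.mk'_surjective Bs)
  have hone : ∀ g : G, g ∈ Bs → (QuotientGroup.mk' Bs) g = 1 := fun g hg =>
    (QuotientGroup.eq_one_iff g).mpr hg
  unfold centralizerMod at hxn h1 h2 ⊢
  rw [Subgroup.mem_comap] at hxn h1 h2 ⊢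
  rw [map_commutatorElement] at h1 h2 ⊢
  rw [map_mul, map_mul, map_inv] at h1 h2
  rw [map_pow] at hxn
  apply commutator_mem_centralizer_of_quadratic' hq (B.map (QuotientGroup.mk' Bs)) ?_ ?_ _ _ ?_ hn
    hxn h1 h2
  · rintro _ ⟨b₁, hb₁, rfl⟩ _ ⟨b₂, hb₂, rfl⟩
    rw [← commutatorElement_eq_one_iff_mul_comm, ← map_commutatorElement]
    exact hone _ (hcomm (Subgroup.commutator_mem_commutator hb₁ hb₂))
  · rintro _ ⟨b, hb, rfl⟩
    rw [← map_pow]
    exact hone _ (hpow b hb)
  · rintro _ ⟨b, hb, rfl⟩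
    rw [← commutatorElement_eq_one_iff_mul_comm, ← map_commutatorElement,
      ← map_commutatorElement]
    exact hone _ (hquad b hb)

end tools

section stable

variable {G : Type u} [Group G] [Finite G] {p : ℕ} [hp : Fact p.Prime]

theorem exists_pow_mem_centralizer_of_quadratic (hp2 : p ≠ 2) {H K : Subgroup G}
    (hS : NPCStruct p G H K) (a : G) :
    ∀ (m : ℕ) (B : Subgroup G), Nat.card B ≤ m → B.Normal → IsPGroup p B →
      (∀ b ∈ B, ⁅a, ⁅a, b⁆⁆ = 1) → ∀ x ∈ K, ∃ j : ℕ,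
        ⁅x, a⁆ ^ (p ^ j) ∈ Subgroup.centralizer (B : Set G) := by
  obtain ⟨hHn, hKn, hHp, hHne, hmax, hHK, hidx, hrel, hcent, hirr, hcomm⟩ := hS
  intro m
  induction m with
  | zero =>
    intro B hB _ _
    exact absurd hB (by have : 0 < Nat.card B := Nat.card_pos; omega)
  | succ m ih =>
    intro B hBcard hBn hBp hquad x hx
    by_cases hB : B = ⊥
    · refine ⟨0, ?_⟩
      rw [hB, Subgroup.mem_centralizer_iff]
      intro h hh
      rw [SetLike.mem_coe, Subgroup.mem_bot] at hh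
      rw [hh, one_mul, mul_one]
    have hBH : B ≤ H := hmax B hBn hBp
    have hnil : Group.IsNilpotent H := hHp.isNilpotent
    have hlt : ⁅B, H⁆ < B := commutator_lt_of_isNilpotent hnil hBH hB
    have hBsn : (⁅B, H⁆).Normal := Subgroup.commutator_normal B H
    have hcard : Nat.card (⁅B, H⁆ : Subgroup G) ≤ m := by
      have := card_lt_card_of_lt hlt
      omega
    obtain ⟨j, hj⟩ := ih ⁅B, H⁆ hcard hBsn (hBp.to_le hlt.le)
      (fun b hb => hquad b (hlt.le hb)) x hx
    -- `H` acts trivially on `B / [B, H]`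
    have hHD : H ≤ centralizerMod ⁅B, H⁆ B := by
      intro h hh
      rw [mem_centralizerMod]
      intro b hb
      exact Subgroup.commutator_mem_commutator hb hh
    obtain ⟨e, he⟩ := IsPGroup.iff_card.mp hBp
    have hodd : Odd (Nat.card B) := by
      rw [he]; exact (hp.out.odd_of_ne_two hp2).pow
    have hyD : ⁅x, a⁆ ∈ centralizerMod ⁅B, H⁆ B := by
      apply commutator_mem_centralizerMod_of_quadratic hodd ⁅B, H⁆ B
        (Subgroup.commutator_mono le_rfl hBH) ?_ a x ?_ (n := H.relIndex K) ?_ ?_ ?_ ?_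
      · intro b hb
        have : b ^ Nat.card B = 1 := by
          have := pow_card_eq_one' (G := B) (x := ⟨b, hb⟩)
          exact congrArg Subtype.val this
        rw [this]; exact Subgroup.one_mem _
      · intro b hb
        rw [hquad b hb]; exact Subgroup.one_mem _
      · rw [he]; exact Nat.Coprime.pow_right e hrel
      · exact hHD (pow_relIndex_mem hx)
      · apply hHD; apply hcomm
        apply Subgroup.commutator_mem_commutator hx
        have := hKn.conj_mem x hx a⁻¹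
        rwa [inv_inv] at this
      · apply hHD; apply hcomm
        exact Subgroup.commutator_mem_commutator hx (hKn.conj_mem x hx a)
    obtain ⟨k, hk⟩ := IsPGroup.iff_card.mp (hBp.to_le hlt.le)
    refine ⟨j + k, ?_⟩
    set z := ⁅x, a⁆ ^ (p ^ j) with hz
    have hzD : z ∈ centralizerMod ⁅B, H⁆ B := Subgroup.pow_mem _ hyD _
    have hzk : ⁅x, a⁆ ^ p ^ (j + k) = z ^ Nat.card (⁅B, H⁆ : Subgroup G) := by
      rw [hz, ← pow_mul, hk, pow_add]
    rw [hzk, Subgroup.mem_centralizer_iff]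
    intro b hb
    have hcmem : ⁅z, b⁆ ∈ (⁅B, H⁆ : Subgroup G) := by
      have := mem_centralizerMod.mp hzD b hb
      rw [← commutatorElement_inv]
      exact Subgroup.inv_mem _ this
    have hc1 : z * b * z⁻¹ = ⁅z, b⁆ * b := by rw [commutatorElement_def]; group
    have hc2 : z * ⁅z, b⁆ = ⁅z, b⁆ * z :=
      (Subgroup.mem_centralizer_iff.mp hj _ hcmem).symm
    have h3 := conj_pow_eq hc1 hc2 (Nat.card (⁅B, H⁆ : Subgroup G))
    have h4 : ⁅z, b⁆ ^ Nat.card (⁅B, H⁆ : Subgroup G) = 1 := by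
      have := pow_card_eq_one' (G := (⁅B, H⁆ : Subgroup G)) (x := ⟨⁅z, b⁆, hcmem⟩)
      exact congrArg Subtype.val this
    rw [h4, one_mul] at h3
    calc b * z ^ Nat.card (⁅B, H⁆ : Subgroup G)
        = (z ^ Nat.card (⁅B, H⁆ : Subgroup G) * b * (z ^ Nat.card (⁅B, H⁆ : Subgroup G))⁻¹) *
            z ^ Nat.card (⁅B, H⁆ : Subgroup G) := by rw [h3]
      _ = z ^ Nat.card (⁅B, H⁆ : Subgroup G) * b := by group

/-- an element whose `p^j`-th and `n`-th powers lie in the normal subgroup `H`, with `(n, p) = 1`,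
lies in `H`. -/
theorem mem_of_pow_mem_of_coprime {X : Type*} [Group X] {H : Subgroup X} [H.Normal] {y : X}
    {p j n : ℕ} (hn : n.Coprime p) (h1 : y ^ p ^ j ∈ H) (h2 : y ^ n ∈ H) : y ∈ H := by
  rw [← QuotientGroup.eq_one_iff] at h1 h2 ⊢
  rw [QuotientGroup.mk_pow] at h1 h2
  have h3 : orderOf (y : X ⧸ H) ∣ Nat.gcd (p ^ j) n :=
    Nat.dvd_gcd (orderOf_dvd_of_pow_eq_one h1) (orderOf_dvd_of_pow_eq_one h2)
  rw [(Nat.Coprime.pow_right j hn).symm, Nat.dvd_one] at h3
  exact orderOf_eq_one_iff.mp h3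

theorem isPStableOn_of_struct (hp2 : p ≠ 2) {H K : Subgroup G} (hS : NPCStruct p G H K)
    (B : Subgroup G) [hBn : B.Normal] (hBp : IsPGroup p B) : Cfsg.IsPStableOn p B := by
  have hS' := hS
  obtain ⟨hHn, hKn, hHp, hHne, hmax, hHK, hidx, hrel, hcent, hirr, hcomm⟩ := hS
  intro a hquad0
  -- quadratic action of every power of `a`
  have hquad : ∀ g ∈ Subgroup.zpowers a, ∀ b ∈ B, ⁅g, ⁅g, b⁆⁆ = 1 := by
    intro g hg b hb
    have h1 : ⁅⁅b, g⁆, g⁆ ∈ ⁅⁅B, Subgroup.zpowers a⁆, Subgroup.zpowers a⁆ :=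
      Subgroup.commutator_mem_commutator (Subgroup.commutator_mem_commutator hb hg) hg
    rw [hquad0, Subgroup.mem_bot, commutatorElement_eq_one_iff_mul_comm] at h1
    rw [commutatorElement_eq_one_iff_mul_comm, ← commutatorElement_inv b g]
    calc g * ⁅b, g⁆⁻¹ = ⁅b, g⁆⁻¹ * (⁅b, g⁆ * g) * ⁅b, g⁆⁻¹ := by group
      _ = ⁅b, g⁆⁻¹ * (g * ⁅b, g⁆) * ⁅b, g⁆⁻¹ := by rw [h1]
      _ = ⁅b, g⁆⁻¹ * g := by group
  set CB := Subgroup.centralizer (B : Set G) with hCB
  have hCBn : CB.Normal := inferInstance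
  have hsurj := QuotientGroup.mk'_surjective CB
  obtain ⟨P⟩ : Nonempty (Sylow p G) := inferInstance
  have hHP : H ≤ P := normal_le_sylow hHp P
  have hKP : K ⊔ (P : Subgroup G) = ⊤ := sup_sylow_eq_top hidx P
  have hHCn : (H ⊔ CB).Normal := Subgroup.sup_normal H CB
  -- it suffices to find an element of `H` with the same image as `a`
  have hsuff : ∀ h ∈ H, (QuotientGroup.mk' CB) a = (QuotientGroup.mk' CB) h →
      (QuotientGroup.mk a : G ⧸ CB) ∈ Cfsg.pCore p (G ⧸ CB) := by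
    intro h hh heq
    have h1 : H.map (QuotientGroup.mk' CB) ≤ Cfsg.pCore p (G ⧸ CB) :=
      H1.le_pCore (Subgroup.Normal.map hHn _ hsurj) (hHp.map _)
    have h2 : (QuotientGroup.mk' CB) a ∈ H.map (QuotientGroup.mk' CB) := by
      rw [heq]; exact Subgroup.mem_map_of_mem _ hh
    exact h1 h2
  rcases hirr (H ⊔ CB) hHCn le_sup_left with hK1 | hK2
  · -- `G / C_G(B)` is a `p`-group
    have htop : (P : Subgroup G) ⊔ CB = ⊤ := by
      rw [eq_top_iff, ← hKP]
      apply sup_le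
      · exact hK1.trans (sup_le (hHP.trans le_sup_left) le_sup_right)
      · exact le_sup_left
    have hpg : IsPGroup p (G ⧸ CB) := by
      intro y
      obtain ⟨g, rfl⟩ := hsurj y
      have hg : g ∈ (P : Subgroup G) ⊔ CB := by rw [htop]; exact Subgroup.mem_top g
      obtain ⟨u, hu, c, hc, rfl⟩ := Subgroup.mem_sup_of_normal_right.mp hg
      obtain ⟨k, hk⟩ := P.2 ⟨u, hu⟩
      refine ⟨k, ?_⟩
      have hc1 : (QuotientGroup.mk' CB) c = 1 := (QuotientGroup.eq_one_iff c).mpr hc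
      rw [map_mul, hc1, mul_one, ← map_pow]
      have : u ^ p ^ k = 1 := congrArg Subtype.val hk
      rw [this, map_one]
    have h1 : (⊤ : Subgroup (G ⧸ CB)) ≤ Cfsg.pCore p (G ⧸ CB) :=
      H1.le_pCore inferInstance (IsPGroup.of_equiv hpg Subgroup.topEquiv.symm)
    exact h1 (Subgroup.mem_top _)
  · -- `C_K(B) ≤ H`
    have hCK : CB ⊓ K ≤ H := (inf_le_inf_right K le_sup_right).trans hK2
    have hxa : ∀ x ∈ K, ⁅x, a⁆ ∈ H := by
      intro x hx
      obtain ⟨j, hj⟩ := exists_pow_mem_centralizer_of_quadratic hp2 hS' a (Nat.card B) B le_rfl hBn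
        hBp (hquad a (Subgroup.mem_zpowers a)) x hx
      have hyK : ⁅x, a⁆ ∈ K := by
        have : ⁅x, a⁆ = x * (a * x⁻¹ * a⁻¹) := by rw [commutatorElement_def]; group
        rw [this]; exact K.mul_mem hx (hKn.conj_mem _ (K.inv_mem hx) _)
      exact mem_of_pow_mem_of_coprime hrel (hCK ⟨hj, Subgroup.pow_mem _ hyK _⟩)
        (pow_relIndex_mem hyK)
    have haD : a ∈ centralizerMod H K := mem_centralizerMod.mpr hxa
    have hKD : K ≤ centralizerMod H K := by
      intro k hk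
      rw [mem_centralizerMod]
      intro x hx
      exact hcomm (Subgroup.commutator_mem_commutator hx hk)
    have haK : a ∈ K := by
      have ha : a ∈ K ⊔ (P : Subgroup G) := by rw [hKP]; exact Subgroup.mem_top a
      obtain ⟨k, hk, u, hu, hku⟩ := Subgroup.mem_sup_of_normal_left.mp ha
      have huD : u ∈ centralizerMod H K := by
        have : u = k⁻¹ * a := by rw [← hku]; group
        rw [this]; exact Subgroup.mul_mem _ (Subgroup.inv_mem _ (hKD hk)) haD
      have huH : u ∈ H := centralizerMod_inf_sylow_le hmax P hHP hKP ⟨huD, hu⟩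
      rw [← hku]; exact K.mul_mem hk (hHK huH)
    -- the `p'`-part of `a` centralizes `B`
    obtain ⟨e, he⟩ := IsPGroup.iff_card.mp hHp
    have hanH : a ^ H.relIndex K ∈ H := pow_relIndex_mem haK
    set a' := a ^ p ^ e with ha'
    have ha'z : a' ∈ Subgroup.zpowers a := Subgroup.pow_mem _ (Subgroup.mem_zpowers a) _
    have ha'n : a' ^ H.relIndex K = 1 := by
      rw [ha', ← pow_mul, mul_comm, pow_mul, ← he]
      have := pow_card_eq_one' (G := H) (x := ⟨a ^ H.relIndex K, hanH⟩)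
      exact congrArg Subtype.val this
    have ha'C : a' ∈ CB := by
      rw [hCB, Subgroup.mem_centralizer_iff]
      intro b hb
      have hcB : ⁅a', b⁆ ∈ B := by
        have : ⁅a', b⁆ = (a' * b * a'⁻¹) * b⁻¹ := by rw [commutatorElement_def]
        rw [this]; exact B.mul_mem (hBn.conj_mem b hb a') (B.inv_mem hb)
      have hc1 : a' * b * a'⁻¹ = ⁅a', b⁆ * b := by rw [commutatorElement_def]; group
      have hc2 : a' * ⁅a', b⁆ = ⁅a', b⁆ * a' :=
        commutatorElement_eq_one_iff_mul_comm.mp (hquad a' ha'z b hb)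
      have h3 := conj_pow_eq hc1 hc2 (H.relIndex K)
      rw [ha'n] at h3
      have h4 : ⁅a', b⁆ ^ H.relIndex K = 1 := by
        have : 1 * b = ⁅a', b⁆ ^ H.relIndex K * b := by
          rw [one_mul, ← h3]; group
        exact (mul_right_cancel this).symm
      obtain ⟨k, hk⟩ := hBp ⟨⁅a', b⁆, hcB⟩
      have hk' : ⁅a', b⁆ ^ p ^ k = 1 := congrArg Subtype.val hk
      have h5 : orderOf ⁅a', b⁆ ∣ Nat.gcd (p ^ k) (H.relIndex K) :=
        Nat.dvd_gcd (orderOf_dvd_of_pow_eq_one hk') (orderOf_dvd_of_pow_eq_one h4)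
      rw [(Nat.Coprime.pow_right k hrel).symm, Nat.dvd_one] at h5
      have h6 : ⁅a', b⁆ = 1 := orderOf_eq_one_iff.mp h5
      exact (commutatorElement_eq_one_iff_mul_comm.mp h6).symm
    -- Bezout
    have hpe1 : 1 < p ^ e := by
      rw [← he]; exact (Subgroup.one_lt_card_iff_ne_bot H).mpr hHne
    obtain ⟨m', -, hm'⟩ := Nat.exists_mul_mod_eq_one_of_coprime
      (Nat.Coprime.pow_right e hrel) hpe1
    have e1 : H.relIndex K * m' = p ^ e * (H.relIndex K * m' / p ^ e) + 1 := by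
      have := Nat.div_add_mod (H.relIndex K * m') (p ^ e)
      rw [hm'] at this; exact this.symm
    apply hsuff ((a ^ H.relIndex K) ^ m') (H.pow_mem hanH _)
    have e2 : a ^ (H.relIndex K * m') = a' ^ (H.relIndex K * m' / p ^ e) * a := by
      rw [e1, pow_add, pow_one, pow_mul, ← ha']
      congr 2
      rw [← e1]
    have hc1 : (QuotientGroup.mk' CB) a' = 1 := (QuotientGroup.eq_one_iff a').mpr ha'C
    rw [← pow_mul, e2, map_mul, map_pow, hc1, one_pow, one_mul]


end stable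

end Cfsg.Agent.Lib.L0
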