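import Cfsg.Agent.Lib.L0.NPCStruct

/-!
# Tools for the final step of normal `p`-complement theorems (lead's library)

* `conj_eq_of_centralizes_omega` : an element `x` normalizing an abelian `p`-group `Z`,
  centralizing `Ω₁(Z)`, with `x ^ n` centralizing `Z` for some `n` prime to `p`, centralizes `Z`.
* `pow_relIndex_mem` : `x ^ |K : H| ∈ H` for `x ∈ K`, `H` normal.
* `centralizerMod H K` : the subgroup `{y | [K, y] ≤ H}` (`= C_G(K/H)`), normal if `K` is.
* `centralizerMod_inf_sylow_le` : `C_G(K/H) ∩ P ≤ H` when `H` contains all normal `p`-subgroups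
  and `G = K P`.
* `omegaCenter H` : `Ω₁(Z(H))` for a normal subgroup `H`, as a normal subgroup of `G`.
-/

set_option autoImplicit false

universe u

namespace Cfsg.Agent.Lib.L0

open scoped commutatorElement

variable {G : Type*} [Group G]

theorem conj_eq_of_centralizes_omega {p : ℕ} (hp : p.Prime) (Z : Subgroup G)
    (hZc : ∀ u ∈ Z, ∀ v ∈ Z, u * v = v * u) (hZp : IsPGroup p Z) (x : G)
    (hxN : ∀ z ∈ Z, x * z * x⁻¹ ∈ Z)
    (hxV : ∀ z ∈ Z, z ^ p = 1 → x * z * x⁻¹ = z) {n : ℕ} (hn : n.Coprime p)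
    (hxn : ∀ z ∈ Z, x ^ n * z * (x ^ n)⁻¹ = z) : ∀ z ∈ Z, x * z * x⁻¹ = z := by
  have key : ∀ k : ℕ, ∀ z ∈ Z, z ^ p ^ k = 1 → x * z * x⁻¹ = z := by
    intro k
    induction k with
    | zero =>
      intro z _ hz
      rw [pow_zero, pow_one] at hz
      rw [hz]; group
    | succ k ih =>
      intro z hz hzk
      have hzp : x * z ^ p * x⁻¹ = z ^ p := by
        apply ih _ (Z.pow_mem hz p)
        rw [← pow_mul, ← pow_succ']; exact hzk
      set w := x * z * x⁻¹ * z⁻¹ with hw
      have hwZ : w ∈ Z := Z.mul_mem (hxN z hz) (Z.inv_mem hz)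
      have hwp : w ^ p = 1 := by
        have hc : Commute (x * z * x⁻¹) z⁻¹ := hZc _ (hxN z hz) _ (Z.inv_mem hz)
        rw [hw, hc.mul_pow, conj_pow, hzp, inv_pow, mul_inv_cancel]
      have hxw : x * w * x⁻¹ = w := hxV w hwZ hwp
      have hind : ∀ m : ℕ, x ^ m * z * (x ^ m)⁻¹ = w ^ m * z := by
        intro m
        induction m with
        | zero => simp
        | succ m ihm =>
          have e1 : x ^ (m + 1) * z * (x ^ (m + 1))⁻¹ = x * (x ^ m * z * (x ^ m)⁻¹) * x⁻¹ := by
            rw [pow_succ']; group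
          have e2 : x * (w ^ m * z) * x⁻¹ = (x * w * x⁻¹) ^ m * (x * z * x⁻¹) := by
            rw [conj_pow]; group
          have e3 : x * z * x⁻¹ = w * z := by rw [hw]; group
          rw [e1, ihm, e2, hxw, e3, ← mul_assoc, ← pow_succ]
      have h1 := hind n
      rw [hxn z hz] at h1
      have hwn : w ^ n = 1 := by
        have : w ^ n * z = 1 * z := by rw [one_mul]; exact h1.symm
        exact mul_right_cancel this
      have hw1 : w = 1 := by
        have h2 : orderOf w ∣ Nat.gcd n p :=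
          Nat.dvd_gcd (orderOf_dvd_of_pow_eq_one hwn) (orderOf_dvd_of_pow_eq_one hwp)
        rw [hn, Nat.dvd_one] at h2
        exact orderOf_eq_one_iff.mp h2
      have : x * z * x⁻¹ = w * z := by rw [hw]; group
      rw [this, hw1, one_mul]
  intro z hz
  obtain ⟨k, hk⟩ := hZp ⟨z, hz⟩
  exact key k z hz (by simpa using congrArg Subtype.val hk)

theorem pow_relIndex_mem {H K : Subgroup G} [H.Normal] {x : G} (hx : x ∈ K) :
    x ^ H.relIndex K ∈ H := by
  have hn : (H.subgroupOf K).Normal := Subgroup.normal_subgroupOf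
  have h1 := Subgroup.pow_index_mem (H.subgroupOf K) (⟨x, hx⟩ : K)
  rw [Subgroup.mem_subgroupOf] at h1
  exact h1

/-- `C_G(K/H) = {y | [K, y] ≤ H}`. -/
def centralizerMod (H K : Subgroup G) [H.Normal] : Subgroup G :=
  (Subgroup.centralizer ((K.map (QuotientGroup.mk' H) : Subgroup (G ⧸ H)) : Set (G ⧸ H))).comap
    (QuotientGroup.mk' H)

theorem mem_centralizerMod {H K : Subgroup G} [H.Normal] {y : G} :
    y ∈ centralizerMod H K ↔ ∀ k ∈ K, ⁅k, y⁆ ∈ H := by
  unfold centralizerMod
  rw [Subgroup.mem_comap, Subgroup.mem_centralizer_iff]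
  constructor
  · intro h k hk
    have h1 := h _ (Subgroup.mem_map_of_mem _ hk)
    rw [← QuotientGroup.eq_one_iff, ← QuotientGroup.mk'_apply, map_commutatorElement,
      commutatorElement_eq_one_iff_mul_comm]
    exact h1
  · rintro h _ ⟨k, hk, rfl⟩
    have h1 := h k hk
    rw [← QuotientGroup.eq_one_iff, ← QuotientGroup.mk'_apply, map_commutatorElement,
      commutatorElement_eq_one_iff_mul_comm] at h1
    exact h1

instance centralizerMod_normal (H K : Subgroup G) [H.Normal] [hK : K.Normal] :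
    (centralizerMod H K).Normal := by
  unfold centralizerMod
  have h1 : (K.map (QuotientGroup.mk' H)).Normal :=
    Subgroup.Normal.map hK _ (QuotientGroup.mk'_surjective H)
  exact Subgroup.Normal.comap inferInstance _

/-- `C_G(K/H) ∩ P ≤ H` when `H` contains every normal `p`-subgroup and `G = K P`. -/
theorem centralizerMod_inf_sylow_le {p : ℕ} [Fact p.Prime] {H K : Subgroup G} [hHn : H.Normal]
    [hKn : K.Normal] (hmax : ∀ H' : Subgroup G, H'.Normal → IsPGroup p H' → H' ≤ H)
    (P : Sylow p G) (hHP : H ≤ P) (hKP : K ⊔ (P : Subgroup G) = ⊤) :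
    centralizerMod H K ⊓ (P : Subgroup G) ≤ H := by
  have hDn : (centralizerMod H K).Normal := inferInstance
  apply hmax _ _ (P.2.to_le inf_le_right)
  constructor
  rintro y ⟨hyD, hyP⟩ g
  have hg : g ∈ K ⊔ (P : Subgroup G) := by rw [hKP]; exact Subgroup.mem_top g
  obtain ⟨k, hk, u, hu, rfl⟩ := Subgroup.mem_sup_of_normal_left.mp hg
  refine ⟨hDn.conj_mem y hyD _, ?_⟩
  have hy'D : u * y * u⁻¹ ∈ centralizerMod H K := hDn.conj_mem y hyD u
  have hy'P : u * y * u⁻¹ ∈ (P : Subgroup G) :=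
    (P : Subgroup G).mul_mem ((P : Subgroup G).mul_mem hu hyP) ((P : Subgroup G).inv_mem hu)
  have h1 : ⁅k, u * y * u⁻¹⁆ ∈ H := mem_centralizerMod.mp hy'D k hk
  have e : k * u * y * (k * u)⁻¹ = ⁅k, u * y * u⁻¹⁆ * (u * y * u⁻¹) := by
    rw [commutatorElement_def]; group
  rw [e]
  exact (P : Subgroup G).mul_mem (hHP h1) hy'P

/-- `Ω₁(Z(H))` for `H` a subgroup (normal in applications), as a subgroup of the ambient group. -/
def omegaCenter (p : ℕ) (H : Subgroup G) : Subgroup G where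
  carrier := {z | z ∈ H ∧ z ∈ Subgroup.centralizer (H : Set G) ∧ z ^ p = 1}
  one_mem' := ⟨H.one_mem, Subgroup.one_mem _, one_pow p⟩
  mul_mem' := by
    rintro a b ⟨haH, haC, hap⟩ ⟨hbH, hbC, hbp⟩
    refine ⟨H.mul_mem haH hbH, Subgroup.mul_mem _ haC hbC, ?_⟩
    have hc : Commute a b := (Subgroup.mem_centralizer_iff.mp hbC a haH)
    rw [hc.mul_pow, hap, hbp, one_mul]
  inv_mem' := by
    rintro a ⟨haH, haC, hap⟩
    exact ⟨H.inv_mem haH, Subgroup.inv_mem _ haC, by rw [inv_pow, hap, inv_one]⟩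

theorem mem_omegaCenter {p : ℕ} {H : Subgroup G} {z : G} :
    z ∈ omegaCenter p H ↔ z ∈ H ∧ z ∈ Subgroup.centralizer (H : Set G) ∧ z ^ p = 1 := Iff.rfl

theorem omegaCenter_le (p : ℕ) (H : Subgroup G) : omegaCenter p H ≤ H := fun _ h => h.1

theorem omegaCenter_le_centralizer (p : ℕ) (H : Subgroup G) :
    omegaCenter p H ≤ Subgroup.centralizer (H : Set G) := fun _ h => h.2.1

theorem omegaCenter_comm (p : ℕ) (H : Subgroup G) :
    ∀ u ∈ omegaCenter p H, ∀ v ∈ omegaCenter p H, u * v = v * u :=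
  fun u hu v hv => (Subgroup.mem_centralizer_iff.mp hv.2.1 u hu.1)

theorem omegaCenter_pow (p : ℕ) (H : Subgroup G) : ∀ v ∈ omegaCenter p H, v ^ p = 1 :=
  fun _ hv => hv.2.2

instance omegaCenter_normal (p : ℕ) (H : Subgroup G) [hH : H.Normal] :
    (omegaCenter p H).Normal := by
  constructor
  rintro z ⟨hzH, hzC, hzp⟩ g
  have hCn : (Subgroup.centralizer (H : Set G)).Normal := inferInstance
  exact ⟨hH.conj_mem z hzH g, hCn.conj_mem z hzC g, by rw [conj_pow, hzp]; group⟩

theorem omegaCenter_ne_bot {p : ℕ} [hp : Fact p.Prime] (H : Subgroup G) [Finite H]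
    (hHp : IsPGroup p H) (hHne : H ≠ ⊥) : omegaCenter p H ≠ ⊥ := by
  haveI : Nontrivial H := (Subgroup.nontrivial_iff_ne_bot H).mpr hHne
  haveI := hHp.center_nontrivial
  have hZp : IsPGroup p (Subgroup.center H) := hHp.to_subgroup _
  have hdvd : p ∣ Nat.card (Subgroup.center H) := by
    obtain ⟨n, hn⟩ := IsPGroup.iff_card.mp hZp
    rcases Nat.eq_zero_or_pos n with h0 | h0
    · rw [h0, pow_zero] at hn
      exact absurd hn (Finite.one_lt_card (α := Subgroup.center H)).ne'
    · rw [hn]; exact dvd_pow_self p h0.ne'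
  obtain ⟨z, hz⟩ := exists_prime_orderOf_dvd_card' p hdvd
  have hz1 : z ≠ 1 := by
    intro h; rw [h, orderOf_one] at hz; exact hp.out.one_lt.ne hz
  have hzp : z ^ p = 1 := by rw [← hz, pow_orderOf_eq_one]
  intro hbot
  have hmem : ((z : H) : G) ∈ omegaCenter p H := by
    refine ⟨(z : H).2, ?_, ?_⟩
    · rw [Subgroup.mem_centralizer_iff]
      intro h hh
      have := Subgroup.mem_center_iff.mp z.2 ⟨h, hh⟩
      exact congrArg Subtype.val this
    · have := congrArg (fun t : Subgroup.center H => ((t : H) : G)) hzp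
      simpa using this
  rw [hbot, Subgroup.mem_bot] at hmem
  apply hz1
  apply Subtype.ext
  apply Subtype.ext
  exact hmem

end Cfsg.Agent.Lib.L0
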