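import Mathlib
import Cfsg.Prelude.Def_BrauerPairs
import Cfsg.Agent.Lib.L0.BlockCoverAut
import Cfsg.Agent.Lib.L0.BrauerPairHom
import Cfsg.Agent.Lib.L0.BrauerSubpair
import Cfsg.Agent.Lib.L0.BlockNormal
import Cfsg.Agent.Lib.L0.BlockOrbitCover

/-!
# Brauer pairs of a normal subgroup `N` and of `G` (lead)

For `R' ≤ N` (a subgroup of the group `N`), `R` its image in `G`, `K = C_G(R)` and
`L = N ∩ K` (as a normal subgroup of `K`, isomorphic to `C_N(R')` via `iota`):
* `brauerOmega_transport`: the Brauer pair conditions for `(R, ·)` (w.r.t. a block `B` of `G` whose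
  idempotent is that of a block `c` of `N`) and `(R', ·)` agree along a constituent;
* `tauHom`: the conjugation action of `N_G(R)` on `L`; `stab_transport`.
-/

set_option autoImplicit false

namespace Cfsg.Agent.Lib.L0.NormalIndexPairs

open Cfsg MonoidAlgebra Cfsg.Agent.Lib.H23 Cfsg.Agent.Lib.H24 Cfsg.Agent.Lib.L0
  Cfsg.Agent.Lib.L0.BlockAut Cfsg.Agent.Lib.L0.BrauerNormal Cfsg.Agent.Lib.L0.BrauerPairHom
  Cfsg.Agent.Lib.L0.BrauerSubpair Cfsg.Agent.Lib.L0.BlockOrbitCover
  Cfsg.Agent.Lib.L0.PrincipalBrauerPair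
open scoped ComplexConjugate

variable {G : Type*} [Group G] (N : Subgroup G) [hN : N.Normal]

/-- The image in `G` of a subgroup of `N`. -/
abbrev upR (R' : Subgroup N) : Subgroup G := R'.map N.subtype

/-- `K = C_G(R)`. -/
abbrev KK (R' : Subgroup N) : Subgroup G :=
  Subgroup.centralizer ((upR N R' : Subgroup G) : Set G)

/-- `L = N ∩ K` as a subgroup of `K`. -/
abbrev LL (R' : Subgroup N) : Subgroup (KK N R') := N.subgroupOf (KK N R')

instance normal_LL (R' : Subgroup N) : (LL N R').Normal := hN.subgroupOf _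

omit hN in
theorem coe_mem_KK {R' : Subgroup N} {c' : N} (hc : c' ∈ Subgroup.centralizer (R' : Set N)) :
    (c' : G) ∈ KK N R' := by
  rw [Subgroup.mem_centralizer_iff]
  rintro _ ⟨r', hr', rfl⟩
  have h1 := Subgroup.mem_centralizer_iff.1 hc r' hr'
  exact congrArg (Subtype.val : N → G) h1

omit hN in
theorem mem_centralizer_of_mem_KK {R' : Subgroup N} {n : N} (h : (n : G) ∈ KK N R') :
    n ∈ Subgroup.centralizer (R' : Set N) := by
  rw [Subgroup.mem_centralizer_iff]
  intro r' hr'
  apply Subtype.ext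
  exact Subgroup.mem_centralizer_iff.1 h (r' : G) ⟨r', hr', rfl⟩

/-- `C_N(R') ≃ L`. -/
noncomputable def iota (R' : Subgroup N) : Subgroup.centralizer (R' : Set N) ≃* LL N R' where
  toFun c' := ⟨⟨((c' : N) : G), coe_mem_KK N c'.2⟩, Subgroup.mem_subgroupOf.2 (c' : N).2⟩
  invFun l := ⟨⟨((l : KK N R') : G), Subgroup.mem_subgroupOf.1 l.2⟩,
    mem_centralizer_of_mem_KK N (l : KK N R').2⟩
  left_inv c' := rfl
  right_inv l := rfl
  map_mul' a b := rfl

omit hN in
theorem iota_coe (R' : Subgroup N) (c' : Subgroup.centralizer (R' : Set N)) :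
    (((iota N R' c' : LL N R') : KK N R') : G) = ((c' : N) : G) := rfl

omit hN in
theorem iota_symm_coe (R' : Subgroup N) (l : LL N R') :
    ((((iota N R').symm l : Subgroup.centralizer (R' : Set N)) : N) : G) =
      ((l : KK N R') : G) := rfl

theorem index_LL {p : ℕ} [Fact p.Prime] (hidx : ∃ k : ℕ, N.index = p ^ k) (R' : Subgroup N) :
    ∃ k : ℕ, (LL N R').index = p ^ k := by
  obtain ⟨k, hk⟩ := hidx
  have h1 : (LL N R').index ∣ N.index := Subgroup.relIndex_dvd_index_of_normal N (KK N R')
  rw [hk] at h1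
  obtain ⟨j, _, hj⟩ := (Nat.dvd_prime_pow Fact.out).1 h1
  exact ⟨j, hj⟩

/-! ### Conjugation by elements of `N_G(R)` -/

/-- Conjugation by `y ∈ N_G(R)` on `K`. -/
noncomputable def sigK (R' : Subgroup N) (y : G)
    (hy : y ∈ Subgroup.normalizer ((upR N R' : Subgroup G) : Set G)) : MulAut (KK N R') :=
  conjAut (KK N R') y (normalizer_le_normalizer_centralizer _ hy)

omit hN in
theorem sigK_apply (R' : Subgroup N) (y : G)
    (hy : y ∈ Subgroup.normalizer ((upR N R' : Subgroup G) : Set G)) (k : KK N R') :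
    ((sigK N R' y hy k : KK N R') : G) = y * (k : G) * y⁻¹ := rfl

omit hN in
theorem sigK_symm_apply (R' : Subgroup N) (y : G)
    (hy : y ∈ Subgroup.normalizer ((upR N R' : Subgroup G) : Set G)) (k : KK N R') :
    (((sigK N R' y hy).symm k : KK N R') : G) = y⁻¹ * (k : G) * y := rfl

/-- Conjugation by `y ∈ N_G(R)` on `L`. -/
noncomputable def tauL (R' : Subgroup N) (y : G)
    (hy : y ∈ Subgroup.normalizer ((upR N R' : Subgroup G) : Set G)) : MulAut (LL N R') where
  toFun l := ⟨sigK N R' y hy l, by
    rw [Subgroup.mem_subgroupOf, sigK_apply]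
    exact hN.conj_mem _ (Subgroup.mem_subgroupOf.1 l.2) y⟩
  invFun l := ⟨(sigK N R' y hy).symm l, by
    rw [Subgroup.mem_subgroupOf, sigK_symm_apply]
    have := hN.conj_mem _ (Subgroup.mem_subgroupOf.1 l.2) y⁻¹
    rwa [inv_inv] at this⟩
  left_inv l := by
    apply Subtype.ext
    exact (sigK N R' y hy).symm_apply_apply (l : KK N R')
  right_inv l := by
    apply Subtype.ext
    exact (sigK N R' y hy).apply_symm_apply (l : KK N R')
  map_mul' a b := by
    apply Subtype.ext
    exact map_mul (sigK N R' y hy) (a : KK N R') (b : KK N R')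

theorem tauL_coe (R' : Subgroup N) (y : G)
    (hy : y ∈ Subgroup.normalizer ((upR N R' : Subgroup G) : Set G)) (l : LL N R') :
    ((tauL N R' y hy l : LL N R') : KK N R') = sigK N R' y hy (l : KK N R') := rfl

theorem tauL_apply (R' : Subgroup N) (y : G)
    (hy : y ∈ Subgroup.normalizer ((upR N R' : Subgroup G) : Set G)) (l : LL N R') :
    (((tauL N R' y hy l : LL N R') : KK N R') : G) = y * ((l : KK N R') : G) * y⁻¹ := rfl

/-- The conjugation action of `N_G(R)` on `L` as a homomorphism. -/
noncomputable def tauHom (R' : Subgroup N) :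
    Subgroup.normalizer ((upR N R' : Subgroup G) : Set G) →* MulAut (LL N R') where
  toFun y := tauL N R' y y.2
  map_one' := by
    apply MulEquiv.ext
    intro l
    apply Subtype.ext
    apply Subtype.ext
    rw [tauL_apply]
    simp
  map_mul' a b := by
    apply MulEquiv.ext
    intro l
    apply Subtype.ext
    apply Subtype.ext
    rw [MulAut.mul_apply, tauL_apply, tauL_apply, tauL_apply]
    show ((a : G) * (b : G)) * _ * ((a : G) * (b : G))⁻¹ = _
    group

theorem tauHom_apply (R' : Subgroup N)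
    (y : Subgroup.normalizer ((upR N R' : Subgroup G) : Set G)) :
    tauHom N R' y = tauL N R' y y.2 := rfl

/-- Elements of `K` act on `L` by inner automorphisms of `K`. -/
theorem tauL_of_mem_KK (R' : Subgroup N) (k : KK N R')
    (hk : (k : G) ∈ Subgroup.normalizer ((upR N R' : Subgroup G) : Set G)) :
    tauL N R' k hk = (MulAut.conjNormal k : MulAut (LL N R')) := by
  apply MulEquiv.ext
  intro l
  apply Subtype.ext
  apply Subtype.ext
  rw [tauL_apply, MulAut.conjNormal_apply]
  rfl


/-! ### Transport of the Brauer pair condition -/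

section Transport

variable [Fintype G] [Fintype N]

theorem brauerOmega_transport (R' : Subgroup N) [Fintype (KK N R')] [Fintype (LL N R')]
    [Fintype (Subgroup.centralizer (R' : Set N))]
    (c : Set (IrrCharacter N)) (B : Set (IrrCharacter G))
    (hBc : ∀ g : G, blockCoeff B g = subgroupBlockCoeff N c g)
    (ξ : IrrCharacter (KK N R')) (θ : IrrCharacter (LL N R'))
    (hθ : classInner (fun l : LL N R' => (ξ : KK N R' → ℂ) l) (θ : LL N R' → ℂ) ≠ 0) :
    brauerOmega (upR N R') (blockCoeff B) (ξ : KK N R' → ℂ) =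
      brauerOmega R' (blockCoeff c)
        (irrEquiv (iota N R') θ : Subgroup.centralizer (R' : Set N) → ℂ) := by
  classical
  rw [brauerOmega_blockCoeff (upR N R') B ξ]
  have hz : resAlg (KK N R') (blockIdem B) ∈ Subalgebra.center ℂ (MonoidAlgebra ℂ (KK N R')) :=
    resAlg_mem_center (KK N R') (blockIdem_mem_center B)
  have hsupp : ∀ k : KK N R', k ∉ LL N R' →
      (resAlg (KK N R') (blockIdem B)).coeff k = 0 := by
    intro k hk
    rw [coeff_resAlg, coeff_blockIdem, hBc]
    unfold subgroupBlockCoeff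
    rw [dif_neg]
    exact fun h => hk (Subgroup.mem_subgroupOf.2 h)
  rw [BlockNormal.omega_eq_of_constituent (LL N R') ξ θ hθ hz hsupp]
  unfold brauerOmega omega BlockNormal.resAlg
  rw [charEval_ofFun, finsum_eq_sum_of_fintype, Finset.sum_div]
  symm
  refine Fintype.sum_equiv (iota N R').toEquiv _ _ fun c' => ?_
  have h1 : (resAlg (KK N R') (blockIdem B)).coeff
      (((iota N R') c' : LL N R') : KK N R') = blockCoeff c (c' : N) := by
    rw [coeff_resAlg, coeff_blockIdem, hBc]
    unfold subgroupBlockCoeff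
    have hmem : ((((iota N R') c' : LL N R') : KK N R') : G) ∈ N := (c' : N).2
    rw [dif_pos hmem]
    rfl
  show blockCoeff c (c' : N) *
      (irrEquiv (iota N R') θ : Subgroup.centralizer (R' : Set N) → ℂ) c' /
      (irrEquiv (iota N R') θ : Subgroup.centralizer (R' : Set N) → ℂ) 1 = _
  rw [irrEquiv_apply, irrEquiv_apply, map_one, ← h1]
  rfl

/-- `θ^τ` corresponds to `θ'^{x'}` under `iota`. -/
theorem irrEquiv_cj (R' : Subgroup N) (x' : N)
    (hx' : x' ∈ Subgroup.normalizer ((Subgroup.centralizer (R' : Set N) : Subgroup N) : Set N))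
    (hx : (x' : G) ∈ Subgroup.normalizer ((upR N R' : Subgroup G) : Set G))
    (θ' : IrrCharacter (Subgroup.centralizer (R' : Set N))) :
    irrEquiv (iota N R').symm (cj (conjAut (Subgroup.centralizer (R' : Set N)) x' hx') θ') =
      cj (tauL N R' (x' : G) hx) (irrEquiv (iota N R').symm θ') := by
  apply Subtype.ext
  funext l
  rw [irrEquiv_apply, cj_apply, cj_apply, irrEquiv_apply]
  congr 1

theorem stab_transport {M : Ideal AlgInt} [hPr : M.IsPrime] (R' : Subgroup N) (x' : N)
    (hx' : x' ∈ Subgroup.normalizer (R' : Set N))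
    (hx : (x' : G) ∈ Subgroup.normalizer ((upR N R' : Subgroup G) : Set G))
    [Fintype (Subgroup.centralizer (R' : Set N))]
    {f' : Set (IrrCharacter (Subgroup.centralizer (R' : Set N)))} (hf' : IsPBlock M f') :
    StabilizesBlock (Subgroup.centralizer (R' : Set N)) f' x' ↔
      cj (tauL N R' (x' : G) hx) '' (irrEquiv (iota N R').symm '' f') =
        irrEquiv (iota N R').symm '' f' := by
  have hx'' := normalizer_le_normalizer_centralizer R' hx'
  rw [stabilizesBlock_iff (Subgroup.centralizer (R' : Set N)) x' hx'' hf']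
  have h1 : cj (tauL N R' (x' : G) hx) '' (irrEquiv (iota N R').symm '' f') =
      irrEquiv (iota N R').symm ''
        (cj (conjAut (Subgroup.centralizer (R' : Set N)) x' hx'') '' f') := by
    rw [Set.image_image, Set.image_image]
    refine Set.image_congr fun θ' _ => ?_
    exact (irrEquiv_cj N R' x' hx'' hx θ').symm
  rw [h1]
  constructor
  · intro h
    rw [h]
  · intro h
    exact Set.image_injective.2 (irrEquiv (iota N R').symm).injective h

end Transport

end Cfsg.Agent.Lib.L0.NormalIndexPairs
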