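import Mathlib
import Cfsg.Prelude.Def_BrauerPairs
import Cfsg.Agent.Lib.L0.NormalIndexPairs
import Cfsg.Agent.Lib.L0.BrauerAbelian
import Cfsg.Agent.Lib.L0.BrauerNilpotent

/-!
# Nilpotent blocks and normal subgroups of `p`-power index (lead)

`N ⊴ G` of `p`-power index, `c` a `G`-stable block of `N`, `B` the block of `G` with the same
idempotent.  Then `c` is nilpotent iff `B` is nilpotent (S4692).
-/

set_option autoImplicit false

namespace Cfsg.Agent.Lib.L0.NilpotentIndex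

open Cfsg MonoidAlgebra Cfsg.Agent.Lib.H23 Cfsg.Agent.Lib.H24 Cfsg.Agent.Lib.L0
  Cfsg.Agent.Lib.L0.BlockAut Cfsg.Agent.Lib.L0.BrauerNormal Cfsg.Agent.Lib.L0.BrauerPairHom
  Cfsg.Agent.Lib.L0.BrauerSubpair Cfsg.Agent.Lib.L0.BlockOrbitCover
  Cfsg.Agent.Lib.L0.PrincipalBrauerPair Cfsg.Agent.Lib.L0.BlockCoverAut
  Cfsg.Agent.Lib.L0.NormalIndexPairs Cfsg.Agent.Lib.L0.BrauerAbelian
open scoped ComplexConjugate

section General

variable {G : Type*} [Group G]

/-- A `p`-regular element normalizing `Q` and acting on `Q` as an element whose `p^k`-th power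
centralizes `Q` centralizes `Q`. -/
theorem mem_centralizer_of_pRegular_of_conj_eq' {p : ℕ} [Fact p.Prime] {Q : Subgroup G} {x u : G}
    (hxN : x ∈ Subgroup.normalizer (Q : Set G)) (hx : IsPRegular p x)
    {k : ℕ} (hu : u ^ (p ^ k) ∈ Subgroup.centralizer (Q : Set G))
    (h : ∀ q ∈ Q, x * q * x⁻¹ = u * q * u⁻¹) : x ∈ Subgroup.centralizer (Q : Set G) := by
  have hp : p.Prime := Fact.out
  have hpow : ∀ n : ℕ, ∀ q ∈ Q, x ^ n * q * (x ^ n)⁻¹ = u ^ n * q * (u ^ n)⁻¹ := by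
    intro n
    induction n with
    | zero => intro q _; simp
    | succ n ih =>
      intro q hq
      have hq' : x ^ n * q * (x ^ n)⁻¹ ∈ Q :=
        (Subgroup.mem_normalizer_iff.1 (Subgroup.pow_mem _ hxN n) q).1 hq
      have h1 := h _ hq'
      rw [ih q hq] at h1
      calc x ^ (n + 1) * q * (x ^ (n + 1))⁻¹ = x * (x ^ n * q * (x ^ n)⁻¹) * x⁻¹ := by
            rw [pow_succ']; group
        _ = u * (u ^ n * q * (u ^ n)⁻¹) * u⁻¹ := by rw [ih q hq]; exact h1
        _ = u ^ (n + 1) * q * (u ^ (n + 1))⁻¹ := by rw [pow_succ']; group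
  have h1 : x ^ (p ^ k) ∈ Subgroup.centralizer (Q : Set G) := by
    rw [Subgroup.mem_centralizer_iff]
    intro q hq
    have h2 := hpow (p ^ k) q hq
    have h3 := Subgroup.mem_centralizer_iff.1 hu q hq
    have h4 : u ^ (p ^ k) * q * (u ^ (p ^ k))⁻¹ = q := by rw [← h3]; group
    rw [h4] at h2
    calc q * x ^ (p ^ k) = (x ^ (p ^ k) * q * (x ^ (p ^ k))⁻¹) * x ^ (p ^ k) := by rw [h2]
      _ = x ^ (p ^ k) * q := by group
  have hcop : (p ^ k).Coprime (orderOf x) :=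
    Nat.Coprime.pow_left k ((Nat.Prime.coprime_iff_not_dvd hp).2 hx)
  obtain ⟨m, hm⟩ := exists_pow_eq_self_of_coprime hcop
  rw [← hm]
  exact Subgroup.pow_mem _ h1 m

/-- Coprime action: a `p`-regular element centralizing `R ≤ Q` with `[Q, x] ≤ R` centralizes the
`p`-group `Q`. -/
theorem mem_centralizer_of_commutator_le {p : ℕ} [Fact p.Prime] {Q R : Subgroup G}
    (hQ : IsPGroup p Q) {x : G} (hx : IsPRegular p x)
    (hxR : x ∈ Subgroup.centralizer (R : Set G)) (hRQ : R ≤ Q)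
    (hcomm : ∀ q ∈ Q, q⁻¹ * (x * q * x⁻¹) ∈ R) : x ∈ Subgroup.centralizer (Q : Set G) := by
  have hp : p.Prime := Fact.out
  rw [Subgroup.mem_centralizer_iff]
  intro q hq
  set r := q⁻¹ * (x * q * x⁻¹) with hr
  have hrR : r ∈ R := hcomm q hq
  have hxr : ∀ n : ℕ, x * r ^ n = r ^ n * x := by
    intro n
    exact (Subgroup.mem_centralizer_iff.1 hxR _ (R.pow_mem hrR n)).symm
  have hpow : ∀ n : ℕ, x ^ n * q * (x ^ n)⁻¹ = q * r ^ n := by
    intro n
    induction n with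
    | zero => simp
    | succ n ih =>
      calc x ^ (n + 1) * q * (x ^ (n + 1))⁻¹ = x * (x ^ n * q * (x ^ n)⁻¹) * x⁻¹ := by
            rw [pow_succ']; group
        _ = x * (q * r ^ n) * x⁻¹ := by rw [ih]
        _ = (x * q * x⁻¹) * (x * r ^ n) * x⁻¹ := by group
        _ = (x * q * x⁻¹) * (r ^ n * x) * x⁻¹ := by rw [hxr n]
        _ = q * (q⁻¹ * (x * q * x⁻¹)) * r ^ n := by group
        _ = q * r ^ (n + 1) := by rw [← hr, pow_succ', mul_assoc]
  have h1 := hpow (orderOf x)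
  rw [pow_orderOf_eq_one] at h1
  have h2 : r ^ orderOf x = 1 := by
    have : q = q * r ^ orderOf x := by simpa using h1
    exact (mul_eq_left (a := q)).1 this.symm
  obtain ⟨j, hj⟩ := hQ ⟨r, hRQ hrR⟩
  have hj' : r ^ (p ^ j) = 1 := by
    have := congrArg (Subtype.val : Q → G) hj
    simpa using this
  have hcop : (orderOf x).Coprime (p ^ j) :=
    Nat.Coprime.pow_right j ((Nat.Prime.coprime_iff_not_dvd hp).2 hx).symm
  have h3 : r ^ (Nat.gcd (orderOf x) (p ^ j)) = 1 := pow_gcd_eq_one.2 ⟨h2, hj'⟩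
  rw [hcop, pow_one] at h3
  have h4 : x * q * x⁻¹ = q := by
    have : q * r = x * q * x⁻¹ := by rw [hr]; group
    rw [← this, h3, mul_one]
  calc q * x = (x * q * x⁻¹) * x := by rw [h4]
    _ = x * q := by group

end General

variable {G : Type*} [Group G] [Fintype G] {p : ℕ} {M : Ideal AlgInt}

/-- One member of `e` suffices for the Brauer pair condition. -/
theorem isBrauerPairOf_of_one (hM : IsPModular p M) {B : Set (IrrCharacter G)}
    (hB : IsPBlock M B) {Q : Subgroup G} (hQ : IsPGroup p Q)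
    {e : Set (IrrCharacter (Subgroup.centralizer (Q : Set G)))} (he : IsPBlock M e)
    (ξ₀ : IrrCharacter (Subgroup.centralizer (Q : Set G))) (hξ₀ : ξ₀ ∈ e)
    (h : MemLocalIdeal M (brauerOmega Q (blockCoeff B)
      (ξ₀ : Subgroup.centralizer (Q : Set G) → ℂ) - 1)) : IsBrauerPairOf p M B Q e := by
  classical
  haveI hPr := isPrime_of_isPModular hM
  haveI : Fintype (Subgroup.centralizer (Q : Set G)) := Fintype.ofFinite _
  refine ⟨⟨hQ, he⟩, hB, fun ξ hξ => ?_⟩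
  rw [brauerOmega_blockCoeff] at h ⊢
  obtain ⟨χ₁, rfl⟩ := hB
  obtain ⟨ξ₁, rfl⟩ := he
  have hs : SameBlock M (ξ : Subgroup.centralizer (Q : Set G) → ℂ)
      (ξ₀ : Subgroup.centralizer (Q : Set G) → ℂ) :=
    sameBlock_trans (sameBlock_symm hξ) hξ₀
  have h2 := omega_sub_memLocalIdeal hs
    (resAlg_mem_center (Subgroup.centralizer (Q : Set G)) (blockIdem_mem_center _))
    (resAlg_mem_intCoeff (Subgroup.centralizer (Q : Set G))
      (fun g => blockIdem_memLocalRing hM χ₁ g))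
  have h3 := memLocalIdeal_add h2 h
  rwa [sub_add_sub_cancel] at h3

theorem coe_mem_upR_iff (N : Subgroup G) (R' : Subgroup N) (n : N) :
    (n : G) ∈ upR N R' ↔ n ∈ R' := by
  constructor
  · rintro ⟨m, hm, h⟩
    have : m = n := Subtype.ext h
    rwa [← this]
  · intro h
    exact ⟨n, h, rfl⟩

theorem irrEquiv_symm_irrEquiv {A B : Type*} [Group A] [Group B] (ε : A ≃* B)
    (θ : IrrCharacter B) : irrEquiv ε.symm (irrEquiv ε θ) = θ := by
  apply Subtype.ext
  funext b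
  rw [irrEquiv_apply, irrEquiv_apply, MulEquiv.apply_symm_apply]

theorem irrEquiv_irrEquiv_symm {A B : Type*} [Group A] [Group B] (ε : A ≃* B)
    (θ : IrrCharacter A) : irrEquiv ε (irrEquiv ε.symm θ) = θ := by
  apply Subtype.ext
  funext b
  rw [irrEquiv_apply, irrEquiv_apply, MulEquiv.symm_apply_apply]

theorem cj_pow_image {H : Type*} [Group H] (τ : MulAut H) {f : Set (IrrCharacter H)}
    (h : cj τ '' f = f) (n : ℕ) : cj (τ ^ n) '' f = f := by
  induction n with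
  | zero =>
    rw [pow_zero]
    have : cj (1 : MulAut H) = id := funext fun θ => cj_one θ
    rw [this, Set.image_id]
  | succ n ih =>
    have : cj (τ ^ (n + 1)) = cj (τ ^ n) ∘ cj τ := by
      funext θ
      rw [pow_succ, cj_mul]
      rfl
    rw [this, Set.image_comp, h, ih]

/-- **S4692, ⇐.** -/
theorem nilpotent_down (hM : IsPModular p M) (N : Subgroup G) [hN : N.Normal]
    (hidx : ∃ k : ℕ, N.index = p ^ k) {c : Set (IrrCharacter N)} (hc : IsPBlock M c)
    {B : Set (IrrCharacter G)} (hB : IsPBlock M B)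
    (hBc : ∀ g : G, blockCoeff B g = subgroupBlockCoeff N c g)
    (hnil : IsNilpotentBlock p M B) : IsNilpotentBlock p M c := by
  classical
  haveI hPr := isPrime_of_isPModular hM
  haveI : Fact p.Prime := ⟨prime_of_isPModular hM⟩
  haveI : Fintype N := Fintype.ofFinite _
  refine ⟨hc, fun R' f' hpair x' hx'N hx'st hx'reg => ?_⟩
  haveI : Fintype (KK N R') := Fintype.ofFinite _
  haveI : Fintype (LL N R') := Fintype.ofFinite _
  haveI : Fintype (Subgroup.centralizer (R' : Set N)) := Fintype.ofFinite _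
  have hR'p : IsPGroup p R' := hpair.1.1
  have hf' : IsPBlock M f' := hpair.1.2
  have hf : IsPBlock M (irrEquiv (iota N R').symm '' f') := isPBlock_irrEquiv_image _ hf'
  obtain ⟨θ₀', hθ₀'⟩ := block_nonempty hf'
  have hθ₀ : irrEquiv (iota N R').symm θ₀' ∈ irrEquiv (iota N R').symm '' f' := ⟨θ₀', hθ₀', rfl⟩
  obtain ⟨ξ₀, hξ₀⟩ := exists_irr_over_restrict (LL N R') (irrEquiv (iota N R').symm θ₀')
  have he : IsPBlock M (blockOf M (ξ₀ : KK N R' → ℂ)) := ⟨ξ₀, rfl⟩
  have hRp : IsPGroup p (upR N R') := hR'p.map _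
  have hpairG : IsBrauerPairOf p M B (upR N R') (blockOf M (ξ₀ : KK N R' → ℂ)) := by
    refine isBrauerPairOf_of_one hM hB hRp he ξ₀ (mem_blockOf_self ξ₀) ?_
    rw [brauerOmega_transport N R' c B hBc ξ₀ _ hξ₀, irrEquiv_irrEquiv_symm (iota N R') θ₀']
    exact hpair.2.2 θ₀' hθ₀'
  have hx : (x' : G) ∈ Subgroup.normalizer ((upR N R' : Subgroup G) : Set G) :=
    Subgroup.le_normalizer_map N.subtype ⟨x', hx'N, rfl⟩
  have hτ := (stab_transport N R' x' hx'N hx hf').1 hx'st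
  have hσ : cj (sigK N R' (x' : G) hx) '' blockOf M (ξ₀ : KK N R' → ℂ) =
      blockOf M (ξ₀ : KK N R' → ℂ) :=
    cj_image_eq_of_covers (LL N R') hM (index_LL N hidx R') he hf
      ⟨ξ₀, mem_blockOf_self ξ₀, _, hθ₀, hξ₀⟩ _ (tauL N R' (x' : G) hx) (fun l => rfl) hτ
  have hst : StabilizesBlock (KK N R') (blockOf M (ξ₀ : KK N R' → ℂ)) (x' : G) :=
    (stabilizesBlock_iff (KK N R') (x' : G) (normalizer_le_normalizer_centralizer _ hx) he).2 hσ
  have hreg : IsPRegular p (x' : G) := by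
    unfold IsPRegular at hx'reg ⊢
    rwa [Subgroup.orderOf_coe]
  have hcen := hnil.2 (upR N R') _ hpairG (x' : G) hx hst hreg
  exact mem_centralizer_of_mem_KK N hcen

/-- **S4692, ⇒.** -/
theorem nilpotent_up (hM : IsPModular p M) (N : Subgroup G) [hN : N.Normal]
    (hidx : ∃ k : ℕ, N.index = p ^ k) {c : Set (IrrCharacter N)} (hc : IsPBlock M c)
    {B : Set (IrrCharacter G)} (hB : IsPBlock M B)
    (hBc : ∀ g : G, blockCoeff B g = subgroupBlockCoeff N c g)
    (hnil : IsNilpotentBlock p M c) : IsNilpotentBlock p M B := by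
  classical
  haveI hPr := isPrime_of_isPModular hM
  haveI : Fact p.Prime := ⟨prime_of_isPModular hM⟩
  have hp : p.Prime := Fact.out
  haveI : Fintype N := Fintype.ofFinite _
  refine ⟨hB, fun Q e hpair x hxN hxst hxreg => ?_⟩
  have hQp : IsPGroup p Q := hpair.1.1
  have he : IsPBlock M e := hpair.1.2
  have hxNn : x ∈ N := mem_of_pRegular_of_index_pow' N hidx hxreg
  -- `R = Q ∩ N`
  obtain ⟨R', hR'⟩ : ∃ R' : Subgroup N, R' = Q.subgroupOf N := ⟨_, rfl⟩
  have hmemR : ∀ r : G, r ∈ upR N R' ↔ r ∈ Q ∧ r ∈ N := by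
    intro r
    rw [hR']
    constructor
    · rintro ⟨n, hn, rfl⟩
      exact ⟨Subgroup.mem_subgroupOf.1 hn, n.2⟩
    · rintro ⟨hq, hn⟩
      exact ⟨⟨r, hn⟩, Subgroup.mem_subgroupOf.2 hq, rfl⟩
  haveI : Fintype (KK N R') := Fintype.ofFinite _
  haveI : Fintype (LL N R') := Fintype.ofFinite _
  haveI : Fintype (Subgroup.centralizer (R' : Set N)) := Fintype.ofFinite _
  have hRQ : upR N R' ≤ Q := fun r hr => ((hmemR r).1 hr).1
  have hR'p : IsPGroup p R' := by
    rw [hR']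
    exact hQp.comap_subtype
  obtain ⟨eR, heR, hleR⟩ := exists_subpairLE hM _ Q e rfl hpair.1 (upR N R') hRQ
  have hpairR : IsBrauerPairOf p M B (upR N R') eR :=
    (isBrauerPairOf_iff_of_reflTransGen hM (a := ⟨upR N R', eR⟩) (b := ⟨Q, e⟩) hleR B).2 hpair
  have hxR : x ∈ Subgroup.normalizer ((upR N R' : Subgroup G) : Set G) := by
    rw [Subgroup.mem_normalizer_iff]
    intro r
    rw [hmemR, hmemR]
    constructor
    · rintro ⟨hq, hn⟩
      exact ⟨(Subgroup.mem_normalizer_iff.1 hxN r).1 hq, hN.conj_mem r hn x⟩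
    · rintro ⟨hq, hn⟩
      refine ⟨(Subgroup.mem_normalizer_iff.1 hxN r).2 hq, ?_⟩
      have := hN.conj_mem _ hn x⁻¹
      have e1 : x⁻¹ * (x * r * x⁻¹) * x⁻¹⁻¹ = r := by group
      rwa [e1] at this
  have hxstR : StabilizesBlock (KK N R') eR x := stab_of_stab_of_le hM he hleR hxN hxst hxR
  have hσ : cj (sigK N R' x hxR) '' eR = eR :=
    (stabilizesBlock_iff (KK N R') x (normalizer_le_normalizer_centralizer _ hxR) heR).1 hxstR
  obtain ⟨ξ₀, hξ₀⟩ := block_nonempty heR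
  obtain ⟨θ₀, hθ₀⟩ := exists_constituent_restrict (LL N R') ξ₀
  obtain ⟨k, hk⟩ := exists_conj_stab (LL N R') hM heR (sigK N R' x hxR) (tauL N R' x hxR)
    (fun l => rfl) hσ ξ₀ hξ₀ θ₀ hθ₀
  -- the element `y₁ = k⁻¹ x`
  have hkN : (k : G) ∈ Subgroup.normalizer ((upR N R' : Subgroup G) : Set G) :=
    Subgroup.centralizer_le_normalizer _ k.2
  set yk : Subgroup.normalizer ((upR N R' : Subgroup G) : Set G) := ⟨(k : G), hkN⟩ with hyk
  set yx : Subgroup.normalizer ((upR N R' : Subgroup G) : Set G) := ⟨x, hxR⟩ with hyx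
  set y₁ := yk⁻¹ * yx with hy₁
  have hτ₁ : tauHom N R' y₁ = (MulAut.conjNormal k : MulAut (LL N R'))⁻¹ * tauL N R' x hxR := by
    rw [hy₁, map_mul, map_inv, tauHom_apply, tauHom_apply, tauL_of_mem_KK N R' k hkN]
  rw [← hτ₁] at hk
  have hf₁ : cj (tauHom N R' y₁) '' blockOf M (θ₀ : LL N R' → ℂ) =
      blockOf M (θ₀ : LL N R' → ℂ) := by
    rw [cj_image_blockOf, blockOf_eq_of_mem hk]
  -- its `p'`-part
  set a := (orderOf y₁).factorization p with ha
  set y₂ := y₁ ^ (p ^ a) with hy₂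
  have hf₂ : cj (tauHom N R' y₂) '' blockOf M (θ₀ : LL N R' → ℂ) =
      blockOf M (θ₀ : LL N R' → ℂ) := by
    rw [hy₂, map_pow]
    exact cj_pow_image _ hf₁ _
  have hreg₂ : ¬ p ∣ orderOf y₂ := by
    have hn : orderOf y₁ ≠ 0 := (orderOf_pos y₁).ne'
    rw [hy₂, orderOf_pow' y₁ (pow_ne_zero _ hp.ne_zero),
      Nat.gcd_eq_right (Nat.ordProj_dvd (orderOf y₁) p)]
    exact Nat.not_dvd_ordCompl hp hn
  have hreg₂' : ¬ p ∣ orderOf ((y₂ : Subgroup.normalizer _) : G) := by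
    rwa [Subgroup.orderOf_coe]
  have hy₂N : ((y₂ : Subgroup.normalizer _) : G) ∈ N :=
    mem_of_pRegular_of_index_pow' N hidx hreg₂'
  have hy₂R' : (⟨(y₂ : G), hy₂N⟩ : N) ∈ Subgroup.normalizer (R' : Set N) := by
    rw [Subgroup.mem_normalizer_iff]
    intro h
    rw [← coe_mem_upR_iff N R' h, ← coe_mem_upR_iff N R']
    exact Subgroup.mem_normalizer_iff.1 y₂.2 (h : G)
  -- the `c`-pair `(R', f')`
  have hf'' : IsPBlock M (irrEquiv (iota N R') '' blockOf M (θ₀ : LL N R' → ℂ)) :=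
    isPBlock_irrEquiv_image _ ⟨θ₀, rfl⟩
  have hff : irrEquiv (iota N R').symm '' (irrEquiv (iota N R') '' blockOf M (θ₀ : LL N R' → ℂ)) =
      blockOf M (θ₀ : LL N R' → ℂ) := by
    rw [Set.image_image]
    have : (fun θ : IrrCharacter (LL N R') =>
        irrEquiv (iota N R').symm (irrEquiv (iota N R') θ)) = id :=
      funext fun θ => irrEquiv_symm_irrEquiv (iota N R') θ
    rw [this, Set.image_id]
  have hpairN : IsBrauerPairOf p M c R'
      (irrEquiv (iota N R') '' blockOf M (θ₀ : LL N R' → ℂ)) := by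
    refine isBrauerPairOf_of_one hM hc hR'p hf'' (irrEquiv (iota N R') θ₀)
      ⟨θ₀, mem_blockOf_self θ₀, rfl⟩ ?_
    rw [← brauerOmega_transport N R' c B hBc ξ₀ θ₀ hθ₀]
    exact hpairR.2.2 ξ₀ hξ₀
  have hst₂ : StabilizesBlock (Subgroup.centralizer (R' : Set N))
      (irrEquiv (iota N R') '' blockOf M (θ₀ : LL N R' → ℂ)) ⟨(y₂ : G), hy₂N⟩ := by
    refine (stab_transport N R' ⟨(y₂ : G), hy₂N⟩ hy₂R' y₂.2 hf'').2 ?_
    rw [hff]
    exact hf₂
  have hreg₂'' : IsPRegular p (⟨(y₂ : G), hy₂N⟩ : N) := by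
    unfold IsPRegular
    rw [← Subgroup.orderOf_coe]
    exact hreg₂'
  have hcen₂ := hnil.2 R' _ hpairN ⟨(y₂ : G), hy₂N⟩ hy₂R' hst₂ hreg₂''
  have hcen₂' : ((y₁ : Subgroup.normalizer _) : G) ^ (p ^ a) ∈ KK N R' := by
    have h9 := coe_mem_KK N hcen₂
    have e9 : ((y₂ : Subgroup.normalizer ((upR N R' : Subgroup G) : Set G)) : G) =
        ((y₁ : Subgroup.normalizer ((upR N R' : Subgroup G) : Set G)) : G) ^ (p ^ a) := by
      rw [hy₂]
      exact Subgroup.coe_pow _ _ _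
    rw [← e9]
    exact h9
  -- `x` centralizes `R`
  have hxcR : x ∈ KK N R' := by
    refine mem_centralizer_of_pRegular_of_conj_eq' hxR hxreg hcen₂' fun q hq => ?_
    have hq' : x * q * x⁻¹ ∈ upR N R' := (Subgroup.mem_normalizer_iff.1 hxR q).1 hq
    have h1 := Subgroup.mem_centralizer_iff.1 k.2 _ hq'
    show x * q * x⁻¹ = ((k : G)⁻¹ * x) * q * ((k : G)⁻¹ * x)⁻¹
    calc x * q * x⁻¹ = (k : G)⁻¹ * ((k : G) * (x * q * x⁻¹)) := by group
      _ = (k : G)⁻¹ * ((x * q * x⁻¹) * (k : G)) := by rw [h1]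
      _ = ((k : G)⁻¹ * x) * q * ((k : G)⁻¹ * x)⁻¹ := by group
  -- coprime action
  refine mem_centralizer_of_commutator_le hQp hxreg hxcR hRQ fun q hq => ?_
  rw [hmemR]
  constructor
  · exact Q.mul_mem (Q.inv_mem hq) ((Subgroup.mem_normalizer_iff.1 hxN q).1 hq)
  · have h1 : q⁻¹ * x * q ∈ N := by
      have := hN.conj_mem x hxNn q⁻¹
      rwa [inv_inv] at this
    have e1 : q⁻¹ * (x * q * x⁻¹) = (q⁻¹ * x * q) * x⁻¹ := by group
    rw [e1]
    exact N.mul_mem h1 (N.inv_mem hxNn)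

/-- **S4692.** -/
theorem nilpotent_iff (hM : IsPModular p M) (N : Subgroup G) [hN : N.Normal]
    (hidx : ∃ k : ℕ, N.index = p ^ k) {c : Set (IrrCharacter N)} (hc : IsPBlock M c)
    {B : Set (IrrCharacter G)} (hB : IsPBlock M B)
    (hBc : ∀ g : G, blockCoeff B g = subgroupBlockCoeff N c g) :
    IsNilpotentBlock p M c ↔ IsNilpotentBlock p M B :=
  ⟨nilpotent_up hM N hidx hc hB hBc, nilpotent_down hM N hidx hc hB hBc⟩

end Cfsg.Agent.Lib.L0.NilpotentIndex
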