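import Mathlib
namespace Cfsg.Agent.Lib.L0

/-- An element of prime order `p` normalizing a finite subgroup `H` of order divisible by `p`
centralizes some non-identity element of `H`. -/
theorem exists_commute_of_prime_order_normalizing {G : Type*} [Group G] (H : Subgroup G) [Finite H]
    (k : G) (p : ℕ) [hp : Fact p.Prime] (hk : orderOf k = p) (hnorm : ∀ y ∈ H, k * y * k⁻¹ ∈ H)
    (hdvd : p ∣ Nat.card H) : ∃ y ∈ H, y ≠ 1 ∧ k * y = y * k := by
  classical
  have := Fintype.ofFinite H
  let f : Function.End H := fun y => ⟨k * y.1 * k⁻¹, hnorm y.1 y.2⟩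
  have hpow : ∀ n : ℕ, ∀ y : H, ((f ^ n) y : G) = k ^ n * y.1 * (k ^ n)⁻¹ := by
    intro n
    induction n with
    | zero => intro y; rw [pow_zero]; show (y : G) = _; simp
    | succ n ih =>
      intro y
      rw [pow_succ']
      show k * ((f ^ n) y : G) * k⁻¹ = _
      rw [ih y, pow_succ']
      group
  have hf : f ^ p ^ 1 = 1 := by
    funext y
    apply Subtype.ext
    rw [pow_one, hpow p y, ← hk, pow_orderOf_eq_one]
    simp only [one_mul, inv_one, mul_one]
    rfl
  have hmod := Equiv.Perm.card_fixedPoints_modEq (p := p) (n := 1) hf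
  have hdvd' : p ∣ Fintype.card (Function.fixedPoints f) := by
    rw [Nat.card_eq_fintype_card] at hdvd
    exact (Nat.modEq_zero_iff_dvd.mp (hmod.symm.trans (Nat.modEq_zero_iff_dvd.mpr hdvd)))
  have h1 : (1 : H) ∈ Function.fixedPoints f := by
    show f 1 = 1
    apply Subtype.ext
    show k * (1 : G) * k⁻¹ = 1
    simp
  have hcard : 1 < Fintype.card (Function.fixedPoints f) := by
    have hpos : 0 < Fintype.card (Function.fixedPoints f) := Fintype.card_pos_iff.mpr ⟨⟨1, h1⟩⟩
    have := Nat.le_of_dvd hpos hdvd'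
    exact lt_of_lt_of_le hp.out.one_lt this
  obtain ⟨⟨y, hy⟩, hne⟩ := Fintype.exists_ne_of_one_lt_card hcard ⟨1, h1⟩
  refine ⟨y.1, y.2, ?_, ?_⟩
  · intro h
    apply hne
    apply Subtype.ext
    exact Subtype.ext h
  · have : f y = y := hy
    have h2 : k * y.1 * k⁻¹ = y.1 := congrArg Subtype.val this
    calc k * y.1 = (k * y.1 * k⁻¹) * k := by group
      _ = y.1 * k := by rw [h2]

end Cfsg.Agent.Lib.L0
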