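import Cfsg.Agent.Lib.L0.PrincipalCrit
import Cfsg.Agent.Lib.L0.BlockNormal
import Cfsg.Agent.Lib.L0.CharInd
import Cfsg.Agent.Lib.L0.CharIndChar

/-!
# Principal blocks and normal subgroups

For `H` normal in `G`:
* `constituent_mem_principalBlock`: every irreducible constituent of `χ|_H`, `χ ∈ B₀(G)`, lies in
  `B₀(H)`;
* `exists_mem_principalBlock_over`: every `θ ∈ B₀(H)` lies under some `χ ∈ B₀(G)`.
-/

set_option autoImplicit false
open Cfsg

namespace Cfsg.Agent.Lib.L0.PrincipalCover

open Cfsg.Agent.Lib.H23 Cfsg.Agent.Lib.H24 Cfsg.Agent.Lib.L0 Cfsg.Agent.Lib.L0.Tilde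
  Cfsg.Agent.Lib.L0.PrincipalCrit Cfsg.Agent.Lib.L0.BlockNormal
open scoped ComplexConjugate

variable {G : Type*} [Group G] [Fintype G] (H : Subgroup G) [H.Normal] [Fintype H]
variable {p : ℕ} [Fact p.Prime] {M : Ideal AlgInt}

/-- The sum of the `p`-regular elements of `H`, inside `ℂ[G]`. -/
noncomputable def regSumSub (p : ℕ) : MonoidAlgebra ℂ G := by
  classical
  exact ofFun (fun g : G => if g ∈ H ∧ ¬ p ∣ orderOf g then 1 else 0)

omit [H.Normal] [Fintype H] [Fact p.Prime] in
theorem coeff_regSumSub (g : G) [Decidable (g ∈ H ∧ ¬ p ∣ orderOf g)] :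
    (regSumSub H p).coeff g = if g ∈ H ∧ ¬ p ∣ orderOf g then 1 else 0 := by
  simp only [regSumSub, coeff_ofFun]
  split_ifs <;> rfl

omit [Fintype H] [Fact p.Prime] in
theorem regSumSub_mem_center : regSumSub H p ∈ Subalgebra.center ℂ (MonoidAlgebra ℂ G) := by
  classical
  refine mem_center_of_classFunction fun g h => ?_
  have h1 : orderOf (h * g * h⁻¹) = orderOf g := (MulAut.conj h).orderOf_eq g
  have h2 : h * g * h⁻¹ ∈ H ↔ g ∈ H := by
    constructor
    · intro h1
      have := (inferInstance : H.Normal).conj_mem _ h1 h⁻¹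
      simpa [mul_assoc] using this
    · intro h1; exact (inferInstance : H.Normal).conj_mem _ h1 h
  rw [coeff_regSumSub, coeff_regSumSub, h1, h2]

omit [H.Normal] [Fintype H] [Fact p.Prime] in
theorem regSumSub_mem_intCoeff [hP : M.IsPrime] : regSumSub H p ∈ intCoeff (G := G) M := by
  classical
  intro g
  rw [coeff_regSumSub]
  split_ifs
  · exact memLocalRing_one hP.ne_top
  · exact memLocalRing_zero hP.ne_top

omit [H.Normal] [Fintype H] [Fact p.Prime] in
theorem regSumSub_support (g : G) (hg : g ∉ H) : (regSumSub H p).coeff g = 0 := by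
  classical
  rw [coeff_regSumSub, if_neg (fun h => hg h.1)]

omit [H.Normal] [Fact p.Prime] in
theorem resAlg_regSumSub : resAlg H (regSumSub H p) = regSum p H := by
  classical
  apply MonoidAlgebra.ext
  ext n
  rw [coeff_resAlg, coeff_regSumSub, coeff_regSum, Subgroup.orderOf_coe]
  by_cases h : p ∣ orderOf n
  · rw [if_pos h, if_neg (fun h' => h'.2 h)]
  · rw [if_neg h, if_pos ⟨n.2, h⟩]

omit [H.Normal] [Fact p.Prime] in
theorem omega_triv_regSumSub :
    omega (trivIrr G : G → ℂ) (regSumSub H p) = (nReg p H : ℂ) := by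
  classical
  rw [omega, trivIrr_apply, div_one, nReg]
  unfold charEval
  simp only [trivIrr_apply, mul_one, coeff_regSumSub]
  rw [Finset.card_filter, Nat.cast_sum]
  have e1 : ∑ g : G, (if g ∈ H ∧ ¬ p ∣ orderOf g then (1 : ℂ) else 0) =
      ∑ g ∈ Finset.univ.filter (fun g : G => g ∈ H), (if ¬ p ∣ orderOf g then (1 : ℂ) else 0) := by
    rw [Finset.sum_filter]
    refine Finset.sum_congr rfl fun g _ => ?_
    by_cases hg : g ∈ H <;> simp [hg]
  rw [e1, Finset.sum_subtype (Finset.univ.filter (fun g : G => g ∈ H)) (p := fun g => g ∈ H)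
    (by simp) (fun g => if ¬ p ∣ orderOf g then (1 : ℂ) else 0)]
  refine Finset.sum_congr rfl fun n _ => ?_
  rw [Subgroup.orderOf_coe]
  split_ifs <;> simp

theorem constituent_mem_principalBlock (hM : IsPModular p M) {χ : IrrCharacter G}
    (hχ : χ ∈ principalBlock M G) (θ : IrrCharacter H)
    (hθ : classInner (fun n : H => (χ : G → ℂ) n) (θ : H → ℂ) ≠ 0) :
    θ ∈ principalBlock M H := by
  haveI hPr := isPrime_of_isPModular hM
  rw [mem_principalBlock_iff hM]
  have h1 := omega_eq_of_constituent H χ θ hθ (regSumSub_mem_center H (p := p))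
    (regSumSub_support H)
  rw [resAlg_regSumSub] at h1
  have h2 := omega_sub_memLocalIdeal (M := M) (χ := trivIrr G) (ψ := χ) hχ
    (regSumSub_mem_center H (p := p)) (regSumSub_mem_intCoeff H)
  rw [omega_triv_regSumSub] at h2
  intro h0
  have h3 : omega (χ : G → ℂ) (regSumSub H p) = 0 := by
    rw [h1, omega, h0, zero_div]
  rw [h3, sub_zero] at h2
  exact not_dvd_nReg (G := H) hM ((natCast_memLocalIdeal_iff hM _).mp h2)

/-- The indicator function of the `p`-regular elements. -/
noncomputable def regInd (p : ℕ) (G : Type*) [Group G] : G → ℂ := by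
  classical
  exact fun g => if p ∣ orderOf g then 0 else 1

omit [Fintype G] in
theorem regInd_isClassFunction : IsClassFunction G (regInd p G) := by
  intro g h
  have h1 : orderOf (h * g * h⁻¹) = orderOf g := (MulAut.conj h).orderOf_eq g
  simp only [regInd, h1]

omit [Fact p.Prime] in
theorem classInner_regInd (f : G → ℂ) :
    classInner f (regInd p G) = (Nat.card G : ℂ)⁻¹ * charEval f (regSum p G) := by
  classical
  rw [classInner, charEval_regSum]
  congr 1
  refine Finset.sum_congr rfl fun x _ => ?_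
  simp only [regInd]
  split_ifs <;> simp

theorem exists_mem_principalBlock_over (hM : IsPModular p M) {θ : IrrCharacter H}
    (hθ : θ ∈ principalBlock M H) :
    ∃ χ : IrrCharacter G, χ ∈ principalBlock M G ∧
      classInner (fun n : H => (χ : G → ℂ) n) (θ : H → ℂ) ≠ 0 := by
  classical
  haveI := Fintype.ofFinite (IrrCharacter G)
  have hH0 : (Nat.card H : ℂ) ≠ 0 := by exact_mod_cast (Nat.card_pos (α := H)).ne'
  have hG0 : (Nat.card G : ℂ) ≠ 0 := by exact_mod_cast (Nat.card_pos (α := G)).ne'
  set f := indFun H (θ : H → ℂ) with hf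
  have hfc : IsClassFunction G f :=
    isClassFunction_of_isCharacter (isCharacter_indFun H (isCharacter_of_irr θ.2))
  have h1 : classInner f (regInd p G) ≠ 0 := by
    rw [hf, frobenius_reciprocity H _ _ regInd_isClassFunction]
    have : (fun h : H => regInd p G (h : G)) = regInd p H := by
      funext h
      simp only [regInd, Subgroup.orderOf_coe]
    rw [this, classInner_regInd]
    exact mul_ne_zero (inv_ne_zero hH0) ((mem_principalBlock_iff hM θ).mp hθ)
  have hexp := classFunction_expansion f hfc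
  rw [hexp, classInner_sum_left] at h1
  obtain ⟨χ, -, hχ⟩ := Finset.exists_ne_zero_of_sum_ne_zero h1
  rw [classInner_smul_left, classInner_regInd] at hχ
  have hχ1 : classInner f (χ : G → ℂ) ≠ 0 := left_ne_zero_of_mul hχ
  have hχ2 : charEval (χ : G → ℂ) (regSum p G) ≠ 0 :=
    right_ne_zero_of_mul (right_ne_zero_of_mul hχ)
  refine ⟨χ, (mem_principalBlock_iff hM χ).mpr hχ2, ?_⟩
  rw [hf, frobenius_reciprocity H _ _ (irr_isClassFunction χ)] at hχ1
  intro h0
  apply hχ1
  rw [← classInner_conj_symm, h0, map_zero]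

end Cfsg.Agent.Lib.L0.PrincipalCover
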