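import Mathlib
import Cfsg.Prelude.Def_BrauerPairs
import Cfsg.Prelude.Def_BlockFusion
import Cfsg.Agent.Lib.L0.PrincipalBrauerPair
import Cfsg.Agent.Lib.L0.BrauerFully

/-!
# The fusion system of the principal block (lead)

* `sum_sub_sum_centralizer_of_inv`: `∑_G β ≡ ∑_{C_G(R)} β` for `R`-invariant `β`;
* `normalSubpair_principal`: `(Q, B₀(C_G(Q))) ⊴ (R, B₀(C_G(R)))` for `Q ⊴ R` `p`-groups;
* `subpairLE_principal`; `conjBlock_principal`;
* `principal_fusion` (S4681).
-/

set_option autoImplicit false

namespace Cfsg.Agent.Lib.L0.PrincipalFusion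

open Cfsg MonoidAlgebra Cfsg.Agent.Lib.H23 Cfsg.Agent.Lib.H24 Cfsg.Agent.Lib.L0
  Cfsg.Agent.Lib.L0.BlockAut Cfsg.Agent.Lib.L0.PrincipalCrit
  Cfsg.Agent.Lib.L0.PrincipalBrauerPair
  Cfsg.Agent.Lib.L0.BrauerPairHom Cfsg.Agent.Lib.L0.BrauerLam
  Cfsg.Agent.Lib.L0.BrauerNormal Cfsg.Agent.Lib.L0.BrauerSubpair Cfsg.Agent.Lib.L0.BrauerConj
  Cfsg.Agent.Lib.L0.BrauerDefect Cfsg.Agent.Lib.L0.BrauerSylow Cfsg.Agent.Lib.L0.BrauerCentric
  Cfsg.Agent.Lib.L0.BlockOrbitCover Cfsg.Agent.Lib.L0.BrauerNormalizer
  Cfsg.Agent.Lib.L0.BrauerFully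
open scoped ComplexConjugate

variable {G : Type*} [Group G] [Fintype G] {p : ℕ} {M : Ideal AlgInt}

/-- `∑_{x ∈ C_G(Q)} β(x) ≡ ∑_{x ∈ G} β(x)` for a `p`-group `Q` and a `Q`-invariant function `β`
with local integer values. -/
theorem sum_sub_sum_centralizer_of_inv (hM : IsPModular p M) (Q : Subgroup G)
    (hQ : IsPGroup p Q) [Fintype (Subgroup.centralizer (Q : Set G))] (β : G → ℂ)
    (hβ : ∀ g, MemLocalRing M (β g)) (hinv : ∀ g : G, ∀ h ∈ Q, β (h * g * h⁻¹) = β g) :
    MemLocalIdeal M (∑ g : G, β g - ∑ c : Subgroup.centralizer (Q : Set G), β (c : G)) := by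
  classical
  haveI hPr := isPrime_of_isPModular hM
  set S := Finset.univ.filter (fun x : G => ¬ Q ≤ Subgroup.centralizer ({x} : Set G)) with hS
  have hmem : ∀ x : G, x ∈ Subgroup.centralizer (Q : Set G) ↔
      Q ≤ Subgroup.centralizer ({x} : Set G) := by
    intro x
    constructor
    · intro h q hq
      rw [Subgroup.mem_centralizer_singleton_iff]
      exact Subgroup.mem_centralizer_iff.1 h q hq
    · intro h
      rw [Subgroup.mem_centralizer_iff]
      intro q hq
      exact Subgroup.mem_centralizer_singleton_iff.1 (h hq)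
  have h1 : ∑ c : Subgroup.centralizer (Q : Set G), β (c : G) =
      ∑ g : G, if g ∈ Subgroup.centralizer (Q : Set G) then β g else 0 := by
    rw [sum_eq_sum_subgroup (Subgroup.centralizer (Q : Set G))
      (fun g => if g ∈ Subgroup.centralizer (Q : Set G) then β g else 0)
      (fun g hg => if_neg hg)]
    refine Finset.sum_congr rfl fun c _ => ?_
    rw [if_pos c.2]
  have h2 : ∑ g : G, β g - ∑ c : Subgroup.centralizer (Q : Set G), β (c : G) =
      ∑ x ∈ S, β x := by
    rw [h1, ← Finset.sum_sub_distrib, hS, Finset.sum_filter]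
    refine Finset.sum_congr rfl fun g _ => ?_
    by_cases hg : g ∈ Subgroup.centralizer (Q : Set G)
    · rw [if_pos hg, if_neg (not_not.2 ((hmem g).1 hg)), sub_self]
    · rw [if_neg hg, if_pos (fun h => hg ((hmem g).2 h)), sub_zero]
  rw [h2]
  refine sum_memLocalIdeal_of_no_fixed hM Q hQ S ?_ β (fun x _ => hβ x)
    (fun u hu x _ => hinv x u hu) ?_
  · intro q hq x hx
    rw [hS, Finset.mem_filter] at hx ⊢
    refine ⟨Finset.mem_univ _, fun hle => hx.2 ?_⟩
    intro v hv
    have h1 := Subgroup.mem_centralizer_singleton_iff.1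
      (hle (Q.mul_mem (Q.mul_mem hq hv) (Q.inv_mem hq)))
    rw [Subgroup.mem_centralizer_singleton_iff]
    calc v * x = q⁻¹ * ((q * v * q⁻¹) * (q * x * q⁻¹)) * q := by group
      _ = q⁻¹ * ((q * x * q⁻¹) * (q * v * q⁻¹)) * q := by rw [h1]
      _ = x * v := by group
  · intro x hx
    rw [hS, Finset.mem_filter] at hx
    exact hx.2

/-- `(Q, B₀(C_G(Q))) ⊴ (R, B₀(C_G(R)))` for `Q ⊴ R` `p`-subgroups. -/
theorem normalSubpair_principal (hM : IsPModular p M) {Q R : Subgroup G} (hR : IsPGroup p R)
    (hQR : Q ≤ R) (hRN : R ≤ Subgroup.normalizer (Q : Set G)) :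
    IsNormalSubpair p M Q (principalBlock M (Subgroup.centralizer (Q : Set G))) R
      (principalBlock M (Subgroup.centralizer (R : Set G))) := by
  classical
  haveI hPr := isPrime_of_isPModular hM
  haveI : Fintype (Subgroup.centralizer (Q : Set G)) := Fintype.ofFinite _
  haveI : Fintype (Subgroup.centralizer (R : Set G)) := Fintype.ofFinite _
  have hQ : IsPGroup p Q := hR.to_le hQR
  have hA : IsPBlock M (principalBlock M (Subgroup.centralizer (Q : Set G))) :=
    isPBlock_principalBlock M _
  have hst : ∀ x ∈ R, StabilizesBlock (Subgroup.centralizer (Q : Set G))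
      (principalBlock M (Subgroup.centralizer (Q : Set G))) x := fun x hx =>
    stabilizesBlock_principal M _ x (normalizer_le_normalizer_centralizer Q (hRN hx))
  rw [principalBlock_eq M (Subgroup.centralizer (R : Set G))]
  refine (isNormalSubpair_iff_lam hM R Q (trivIrr _) _).2 ⟨hQ, hR, hQR, hRN, hA, hst, ?_⟩
  have hg := good_block R (Subgroup.centralizer (Q : Set G)) hM
    (Subgroup.centralizer_le hQR) hA hst
  set z := incl (Subgroup.centralizer (Q : Set G))
    (blockIdem (principalBlock M (Subgroup.centralizer (Q : Set G)))) with hz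
  have h4 : lam R (trivIrr (Subgroup.centralizer (R : Set G))) z =
      ∑ c : Subgroup.centralizer (R : Set G), z.coeff (c : G) := by
    unfold lam omega resAlg
    rw [charEval_ofFun, trivIrr_apply, div_one]
    refine Finset.sum_congr rfl fun c _ => ?_
    rw [trivIrr_apply, mul_one]
  have h5 : ∑ g : G, z.coeff g = 1 := by
    have h := omega_blockIdem (principalBlock M (Subgroup.centralizer (Q : Set G)))
      (trivIrr (Subgroup.centralizer (Q : Set G)))
    rw [if_pos (show trivIrr _ ∈ principalBlock M (Subgroup.centralizer (Q : Set G)) from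
      sameBlock_refl _)] at h
    rw [← h, sum_eq_sum_subgroup (Subgroup.centralizer (Q : Set G)) (fun g => z.coeff g)
      (fun g hg => coeff_incl_not_mem _ _ hg)]
    unfold omega blockIdem
    rw [charEval_ofFun, trivIrr_apply, div_one]
    refine Finset.sum_congr rfl fun g _ => ?_
    rw [trivIrr_apply, mul_one, hz, coeff_incl_mem]
    rfl
  have h6 := sum_sub_sum_centralizer_of_inv hM R hR (fun g => z.coeff g)
    (fun g => hg.int g) (fun g h hh => hg.invP h hh g)
  rw [h5, ← h4] at h6
  have h7 := memLocalIdeal_neg h6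
  rwa [neg_sub] at h7

theorem principal_of_normalSubpair (hM : IsPModular p M) {Q R : Subgroup G}
    {f : Set (IrrCharacter (Subgroup.centralizer (Q : Set G)))}
    (hab : IsNormalSubpair p M Q f R (principalBlock M (Subgroup.centralizer (R : Set G)))) :
    f = principalBlock M (Subgroup.centralizer (Q : Set G)) := by
  have hab' := hab
  obtain ⟨_, hPe, hQR, hRN, _⟩ := hab'
  have h2 := normalSubpair_principal (M := M) hM hPe.1 hQR hRN
  obtain ⟨f₀, _, huniq⟩ := exists_unique_normalSubpair hM R Q _ hPe hQR hRN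
  rw [huniq f hab, huniq _ h2]

theorem principal_of_normalSubpairRel (hM : IsPModular p M) {a b : BrauerPairIdx G}
    (hab : NormalSubpairRel p M a b)
    (hb : b.2 = principalBlock M (Subgroup.centralizer (b.1 : Set G))) :
    a.2 = principalBlock M (Subgroup.centralizer (a.1 : Set G)) := by
  have hab' : IsNormalSubpair p M a.1 a.2 b.1 b.2 := hab
  rw [hb] at hab'
  exact principal_of_normalSubpair hM hab'

theorem principal_of_reflTransGen (hM : IsPModular p M) {a b : BrauerPairIdx G}
    (hab : Relation.ReflTransGen (NormalSubpairRel p M) a b)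
    (hb : b.2 = principalBlock M (Subgroup.centralizer (b.1 : Set G))) :
    a.2 = principalBlock M (Subgroup.centralizer (a.1 : Set G)) := by
  induction hab using Relation.ReflTransGen.head_induction_on with
  | refl => exact hb
  | head hac _ ih => exact principal_of_normalSubpairRel hM hac ih

/-- `(Q, B₀(C_G(Q))) ≤ (S, B₀(C_G(S)))` for `p`-subgroups `Q ≤ S`. -/
theorem subpairLE_principal (hM : IsPModular p M) {Q S : Subgroup G} (hS : IsPGroup p S)
    (hQS : Q ≤ S) :
    SubpairLE p M Q (principalBlock M (Subgroup.centralizer (Q : Set G))) S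
      (principalBlock M (Subgroup.centralizer (S : Set G))) := by
  have hSe : IsBrauerPair p M S (principalBlock M (Subgroup.centralizer (S : Set G))) :=
    ⟨hS, isPBlock_principalBlock M _⟩
  obtain ⟨f, hf, hle⟩ := exists_subpairLE hM _ S _ rfl hSe Q hQS
  have h1 := principal_of_reflTransGen hM (a := ⟨Q, f⟩)
    (b := ⟨S, principalBlock M (Subgroup.centralizer (S : Set G))⟩) hle rfl
  simp only at h1
  rw [← h1]
  exact hle

theorem conjBlock_principal (M : Ideal AlgInt) (x : G) (Q : Subgroup G) :
    conjBlock Q x (principalBlock M (Subgroup.centralizer (Q : Set G))) =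
      principalBlock M (Subgroup.centralizer
        ((Q.map (MulAut.conj x).toMonoidHom : Subgroup G) : Set G)) := by
  rw [conjBlock_eq_image, principalBlock_eq, principalBlock_eq, irrEquiv_image_blockOf]
  congr 1

/-- **S4681.** -/
theorem principal_fusion [Fact p.Prime] (hM : IsPModular p M) (S : Sylow p G) :
    IsMaximalBrauerPair p M (principalBlock M G) (S : Subgroup G)
      (principalBlock M (Subgroup.centralizer ((S : Subgroup G) : Set G))) ∧
    ∀ F : FusionSystem (S : Subgroup G),
      IsBlockFusionSystemOn p M (principalBlock M G) (S : Subgroup G)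
        (principalBlock M (Subgroup.centralizer ((S : Subgroup G) : Set G))) F →
      ∀ Q : Subgroup G, F.Hom Q = (groupFusionSystem (S : Subgroup G)).Hom Q := by
  classical
  have hmax : IsMaximalBrauerPair p M (principalBlock M G) (S : Subgroup G)
      (principalBlock M (Subgroup.centralizer ((S : Subgroup G) : Set G))) := by
    refine ⟨isBrauerPairOf_principal hM (S : Subgroup G) S.isPGroup', fun R g hRg hle => ?_⟩
    have hSR : (S : Subgroup G) ≤ R :=
      fst_le_of_reflTransGen (a := ⟨(S : Subgroup G), _⟩) (b := ⟨R, g⟩) hle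
    exact (S.is_maximal' hRg.1.1 hSR)
  refine ⟨hmax, fun F hF Q => ?_⟩
  ext φ
  rw [hF.2 Q φ]
  constructor
  · rintro ⟨hQS, g, hg, hgS, _⟩
    refine ⟨hQS, fun x => ?_, g, hg⟩
    rw [hg x]
    exact hgS ⟨x, x.2, rfl⟩
  · rintro ⟨hQS, hφS, g, hg⟩
    have hgS : Q.map (MulAut.conj g).toMonoidHom ≤ (S : Subgroup G) := by
      rintro _ ⟨u, hu, rfl⟩
      have := hφS ⟨u, hu⟩
      rw [hg] at this
      exact this
    refine ⟨hQS, g, hg, hgS, principalBlock M _, subpairLE_principal hM S.isPGroup' hQS, ?_⟩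
    rw [conjBlock_principal]
    exact subpairLE_principal hM S.isPGroup' hgS


end Cfsg.Agent.Lib.L0.PrincipalFusion
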