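import Cfsg.Agent.Lib.L0.QuatLocal2
import Cfsg.Agent.Lib.L0.CharSpecial

/-!
# The special linear character for a generalized quaternion Sylow 2-subgroup (lead's library)

`exists_specialData` : for `S` generalized quaternion of order `≥ 16`, `D = [S,S]`, there are a
linear character `lam` of `C(D)` of order 4 and `b ∈ S` giving `SpecialData C(D) N(D) lam b`.
-/

set_option autoImplicit false

namespace Cfsg.Agent.Lib.L0

open Subgroup

theorem exists_unit_orderOf (m : ℕ) (hm : m ≠ 0) : ∃ ζ : ℂˣ, orderOf ζ = m := by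
  have h := Complex.isPrimitiveRoot_exp m hm
  have hu : IsUnit (Complex.exp (2 * Real.pi * Complex.I / m)) := h.isUnit hm
  refine ⟨hu.unit, ?_⟩
  rw [← orderOf_units, IsUnit.unit_spec]
  exact h.eq_orderOf.symm

namespace QuatData

variable {G : Type*} [Group G] [Finite G] {S : Sylow 2 G} {N n : ℕ} {a : G}

/-- A hom on `C(D)` that is faithful on `⟨a⟩` and trivial on odd-order elements. -/
theorem exists_faithful_hom (h : QuatData (S : Subgroup G) N a) (hN : N = 2 ^ (n + 2)) :
    ∃ lam' : centralizer (zpowers (a ^ 2) : Set G) →* ℂˣ,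
      orderOf (lam' ⟨a, zpowers_le_centralizer (mem_zpowers a)⟩) = 2 * N ∧
      ∀ x : centralizer (zpowers (a ^ 2) : Set G), (orderOf (x : G)).Coprime 2 → lam' x = 1 := by
  have hN0 : 0 < N := by rw [hN]; positivity
  have hex := exists_complement h hN
  set C := centralizer (zpowers (a ^ 2) : Set G) with hC
  set T' := (zpowers a).subgroupOf C with hT'
  obtain ⟨K', hK'n, hK'c⟩ := hex
  set t : C := ⟨a, zpowers_le_centralizer (mem_zpowers a)⟩ with ht
  have htT : zpowers t = T' := by
    ext x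
    rw [hT', Subgroup.mem_subgroupOf, Subgroup.mem_zpowers_iff, Subgroup.mem_zpowers_iff]
    constructor
    · rintro ⟨k, rfl⟩; exact ⟨k, by simp [ht]⟩
    · rintro ⟨k, hk⟩; exact ⟨k, Subtype.ext (by simpa [ht] using hk)⟩
  have hcardT' : Nat.card T' = 2 ^ (n + 3) := by
    rw [hT', Nat.card_congr (Subgroup.subgroupOfEquivOfLe (zpowers_le_centralizer (a := a))).toEquiv,
      h.card_zpowers, hN]
    ring
  have hidxK' : K'.index = 2 ^ (n + 3) := by
    rw [← hcardT']
    exact hK'c.symm.index_eq_card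
  have hsup : K' ⊔ zpowers t = ⊤ := by rw [htT]; exact hK'c.sup_eq_top
  have hinf : K' ⊓ zpowers t = ⊥ := by rw [htT]; exact disjoint_iff.mp hK'c.disjoint
  have htord : orderOf t = 2 * N := by
    rw [← Subgroup.orderOf_coe]; exact h.order_a
  obtain ⟨ζ, hζ⟩ := exists_unit_orderOf (2 * N) (by omega)
  obtain ⟨f, hft, hfK⟩ := exists_hom_of_cyclic_complement K' t hsup hinf ζ
    (by rw [htord, ← hζ, pow_orderOf_eq_one])
  refine ⟨f, by rw [hft, hζ], ?_⟩
  intro x hx
  apply hfK
  apply mem_of_coprime_orderOf_of_index_pow K' (n + 3) hidxK' x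
  rw [← Subgroup.orderOf_coe]
  exact hx

/-- A subgroup of `↥C(D)` containing the odd-order elements and `a` is everything. -/
theorem mem_of_odd_of_gen (h : QuatData (S : Subgroup G) N a) (hN : N = 2 ^ (n + 2))
    (W : Subgroup (centralizer (zpowers (a ^ 2) : Set G)))
    (hodd : ∀ x : centralizer (zpowers (a ^ 2) : Set G), (orderOf (x : G)).Coprime 2 → x ∈ W)
    (ht : (⟨a, zpowers_le_centralizer (mem_zpowers a)⟩ : centralizer (zpowers (a ^ 2) : Set G)) ∈ W)
    (x : centralizer (zpowers (a ^ 2) : Set G)) : x ∈ W := by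
  obtain ⟨K, hK1, -, hK3, -⟩ := exists_K h hN
  have h1 : K ≤ W.map (centralizer (zpowers (a ^ 2) : Set G)).subtype := by
    intro y hy
    obtain ⟨hyC, hyo⟩ := (hK1 y).mp hy
    exact ⟨⟨y, hyC⟩, hodd ⟨y, hyC⟩ hyo, rfl⟩
  have h2 : zpowers a ≤ W.map (centralizer (zpowers (a ^ 2) : Set G)).subtype := by
    rw [Subgroup.zpowers_le]
    exact ⟨_, ht, rfl⟩
  have h3 : (x : G) ∈ W.map (centralizer (zpowers (a ^ 2) : Set G)).subtype := by
    apply (sup_le h1 h2)
    rw [hK3]; exact x.2
  obtain ⟨y, hy, hyx⟩ := h3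
  have : y = x := Subtype.ext hyx
  rw [← this]; exact hy

/-- conjugation by an element normalizing `C`, as an endomorphism of `C`. -/
def conjHom (C : Subgroup G) (b : G) (hb : ∀ x ∈ C, b⁻¹ * x * b ∈ C) : C →* C where
  toFun x := ⟨b⁻¹ * x * b, hb x x.2⟩
  map_one' := by apply Subtype.ext; simp
  map_mul' x y := by apply Subtype.ext; simp only [Subgroup.coe_mul]; group

theorem conj_mem_centralizer (h : QuatData (S : Subgroup G) N a) {b : G} (hbS : b ∈ (S : Subgroup G))
    (x : G) (hx : x ∈ centralizer (zpowers (a ^ 2) : Set G)) :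
    b⁻¹ * x * b ∈ centralizer (zpowers (a ^ 2) : Set G) := by
  have h1 : b⁻¹ ∈ normalizer (zpowers (a ^ 2) : Set G) :=
    Subgroup.inv_mem _ (h.le_normalizer hbS)
  have := normalizer_le_normalizer_centralizer (zpowers (a ^ 2)) h1
  have h2 := (Subgroup.mem_normalizer_iff.mp this x).mp hx
  simpa using h2

/-- `b ∈ S ∖ ⟨a⟩` inverts the faithful hom. -/
theorem hom_conj_inv (h : QuatData (S : Subgroup G) N a) (hN : N = 2 ^ (n + 2))
    (lam' : centralizer (zpowers (a ^ 2) : Set G) →* ℂˣ)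
    (hodd : ∀ x : centralizer (zpowers (a ^ 2) : Set G), (orderOf (x : G)).Coprime 2 → lam' x = 1)
    {b : G} (hbS : b ∈ (S : Subgroup G)) (hba : b ∉ zpowers a)
    (x : centralizer (zpowers (a ^ 2) : Set G))
    (hx : b⁻¹ * (x : G) * b ∈ centralizer (zpowers (a ^ 2) : Set G)) :
    lam' ⟨b⁻¹ * x * b, hx⟩ = (lam' x)⁻¹ := by
  let cb : centralizer (zpowers (a ^ 2) : Set G) →* centralizer (zpowers (a ^ 2) : Set G) :=
    conjHom _ b (h.conj_mem_centralizer hbS)
  let ψ : centralizer (zpowers (a ^ 2) : Set G) →* ℂˣ := (lam'.comp cb) * lam'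
  have key : ∀ y : centralizer (zpowers (a ^ 2) : Set G), y ∈ ψ.ker := by
    apply mem_of_odd_of_gen h hN ψ.ker
    · intro y hy
      rw [MonoidHom.mem_ker]
      simp only [ψ, MonoidHom.mul_apply, MonoidHom.comp_apply]
      rw [hodd y hy, hodd (cb y) (by
        have : ((cb y : centralizer (zpowers (a ^ 2) : Set G)) : G) = b⁻¹ * (y : G) * b := rfl
        rw [this]
        have h2 := orderOf_conj' b⁻¹ (y : G)
        rw [inv_inv] at h2
        rw [h2]; exact hy), one_mul]
    · rw [MonoidHom.mem_ker]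
      simp only [ψ, MonoidHom.mul_apply, MonoidHom.comp_apply]
      have hb' : b⁻¹ ∉ zpowers a := fun h1 => hba (by simpa using Subgroup.inv_mem _ h1)
      have h2 := h.conj_of_not_mem b⁻¹ (Subgroup.inv_mem _ hbS) hb'
      rw [inv_inv] at h2
      have h3 : cb ⟨a, zpowers_le_centralizer (mem_zpowers a)⟩
          = (⟨a, zpowers_le_centralizer (mem_zpowers a)⟩ :
              centralizer (zpowers (a ^ 2) : Set G))⁻¹ := by
        apply Subtype.ext
        exact h2
      rw [h3, map_inv, inv_mul_cancel]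
  have := key x
  rw [MonoidHom.mem_ker] at this
  simp only [ψ, MonoidHom.mul_apply, MonoidHom.comp_apply] at this
  have h4 : cb x = ⟨b⁻¹ * x * b, hx⟩ := rfl
  rw [h4] at this
  exact eq_inv_of_mul_eq_one_left this

theorem gcd_two_pow_dvd {m k : ℕ} (hm : ¬ 2 ^ (k + 1) ∣ m) (j : ℕ) :
    Nat.gcd m (2 ^ j) ∣ 2 ^ k := by
  obtain ⟨i, hi, hgi⟩ := (Nat.dvd_prime_pow Nat.prime_two).mp (Nat.gcd_dvd_right m (2 ^ j))
  rw [hgi]
  apply Nat.pow_dvd_pow
  by_contra hcon
  push Not at hcon
  apply hm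
  have h1 : 2 ^ (k + 1) ∣ 2 ^ i := Nat.pow_dvd_pow 2 (by omega)
  have h2 : 2 ^ i ∣ m := by rw [← hgi]; exact Nat.gcd_dvd_left m (2 ^ j)
  exact h1.trans h2

/-- The special data attached to a generalized quaternion Sylow 2-subgroup of order `≥ 16`. -/
theorem exists_specialData (h : QuatData (S : Subgroup G) N a) (hN : N = 2 ^ (n + 2)) :
    ∃ (lam : centralizer (zpowers (a ^ 2) : Set G) →* ℂˣ) (b : G),
      SpecialData (centralizer (zpowers (a ^ 2) : Set G)) (normalizer (zpowers (a ^ 2) : Set G))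
        lam b ∧
      b ∈ (S : Subgroup G) ∧ b ∉ zpowers a ∧
      (∀ x : centralizer (zpowers (a ^ 2) : Set G), ¬ N ∣ orderOf (x : G) → lam x = 1) ∧
      orderOf (lam ⟨a, zpowers_le_centralizer (mem_zpowers a)⟩) = 4 := by
  have hN0 : 0 < N := by rw [hN]; positivity
  have hN2 : 2 < N := by
    rw [hN]
    calc 2 < 2 ^ 2 := by norm_num
      _ ≤ 2 ^ (n + 2) := Nat.pow_le_pow_right (by norm_num) (by omega)
  obtain ⟨lam', hord, hodd⟩ := exists_faithful_hom h hN
  obtain ⟨b, hbS, hba⟩ := h.exists_not_mem hN0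
  have h2N : 2 * N = 2 ^ (n + 3) := by rw [hN]; ring
  -- all values are `2N`-th roots of unity
  have hpow : ∀ x : centralizer (zpowers (a ^ 2) : Set G), lam' x ^ (2 * N) = 1 := by
    intro x
    have hx : x ∈ (zpowers (lam' ⟨a, zpowers_le_centralizer (mem_zpowers a)⟩)).comap lam' := by
      apply mem_of_odd_of_gen h hN
      · intro y hy
        rw [Subgroup.mem_comap, hodd y hy]; exact one_mem _
      · rw [Subgroup.mem_comap]; exact Subgroup.mem_zpowers _
    rw [Subgroup.mem_comap] at hx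
    obtain ⟨k, hk⟩ := Subgroup.mem_zpowers_iff.mp hx
    rw [← hk, ← zpow_natCast, ← zpow_mul, mul_comm, zpow_mul, zpow_natCast, ← hord,
      pow_orderOf_eq_one, one_zpow]
  have hlam1 : ∀ x : centralizer (zpowers (a ^ 2) : Set G), ¬ N ∣ orderOf (x : G) →
      (lam' ^ (2 ^ (n + 1))) x = 1 := by
    intro x hx
    rw [MonoidHom.pow_apply]
    have h1 : lam' x ^ orderOf (x : G) = 1 := by
      rw [← map_pow, Subgroup.orderOf_coe, pow_orderOf_eq_one, map_one]
    have h2 : lam' x ^ Nat.gcd (orderOf (x : G)) (2 ^ (n + 3)) = 1 := by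
      rw [pow_gcd_eq_one]
      exact ⟨h1, by rw [← h2N]; exact hpow x⟩
    have h3 : Nat.gcd (orderOf (x : G)) (2 ^ (n + 3)) ∣ 2 ^ (n + 1) :=
      gcd_two_pow_dvd (by rw [← hN]; exact hx) _
    obtain ⟨c, hc⟩ := h3
    rw [hc, pow_mul, h2, one_pow]
  refine ⟨lam' ^ (2 ^ (n + 1)), b, ?_, hbS, hba, hlam1, ?_⟩
  · refine ⟨centralizer_le_normalizer _, h.le_normalizer hbS, ?_, ?_, ?_, ?_, ?_⟩
    · intro hbC
      apply hba
      rw [← h.inf_centralizer hN2]
      exact ⟨hbS, hbC⟩
    · intro g hg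
      by_contra hcon
      push Not at hcon
      obtain ⟨hgC, hbg⟩ := hcon
      have hidx : ((centralizer (zpowers (a ^ 2) : Set G)).subgroupOf
          (normalizer (zpowers (a ^ 2) : Set G))).index = 2 := relIndex_centralizer_eq h hN
      have hbN : b ∈ normalizer (zpowers (a ^ 2) : Set G) := h.le_normalizer hbS
      have key := Subgroup.mul_mem_iff_of_index_two hidx
        (a := (⟨b, hbN⟩ : normalizer (zpowers (a ^ 2) : Set G))⁻¹) (b := ⟨g, hg⟩)
      have h1 : ((⟨b, hbN⟩ : normalizer (zpowers (a ^ 2) : Set G))⁻¹ * ⟨g, hg⟩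
          ∈ (centralizer (zpowers (a ^ 2) : Set G)).subgroupOf
            (normalizer (zpowers (a ^ 2) : Set G))) := by
        rw [key]
        constructor
        · intro h2
          exfalso
          have h3 : b⁻¹ ∈ centralizer (zpowers (a ^ 2) : Set G) := by
            simpa [Subgroup.mem_subgroupOf] using h2
          have h4 : b ∈ centralizer (zpowers (a ^ 2) : Set G) := by
            simpa using Subgroup.inv_mem _ h3
          apply hba
          rw [← h.inf_centralizer hN2]
          exact ⟨hbS, h4⟩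
        · intro h2
          exact absurd (by simpa [Subgroup.mem_subgroupOf] using h2) hgC
      apply hbg
      simpa [Subgroup.mem_subgroupOf] using h1
    · intro g hg x hx
      have h1 : g⁻¹ ∈ normalizer (zpowers (a ^ 2) : Set G) := Subgroup.inv_mem _ hg
      have := normalizer_le_normalizer_centralizer (zpowers (a ^ 2)) h1
      have h2 := (Subgroup.mem_normalizer_iff.mp this x).mp hx
      simpa using h2
    · intro x hx
      rw [MonoidHom.pow_apply, MonoidHom.pow_apply, hom_conj_inv h hN lam' hodd hbS hba x hx,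
        inv_pow]
    · intro g t ht hgt
      have hdvd : N ∣ orderOf (t : G) := by
        by_contra hcon
        exact ht (hlam1 t hcon)
      have h1 : g⁻¹ * (t : G) * g⁻¹⁻¹ ∈ centralizer (zpowers (a ^ 2) : Set G) := by
        rw [inv_inv]; exact hgt
      have := mem_normalizer_of_conj_mem h hN t.2 hdvd h1
      simpa using Subgroup.inv_mem _ this
  · rw [MonoidHom.pow_apply, orderOf_pow' _ (by positivity), hord, h2N]
    have : Nat.gcd (2 ^ (n + 3)) (2 ^ (n + 1)) = 2 ^ (n + 1) :=
      Nat.gcd_eq_right (Nat.pow_dvd_pow 2 (by omega))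
    rw [this]
    have : 2 ^ (n + 3) = 4 * 2 ^ (n + 1) := by ring
    rw [this, Nat.mul_div_cancel _ (by positivity)]

end QuatData

end Cfsg.Agent.Lib.L0
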