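import Cfsg.Agent.Lib.L0.QuatData
import Cfsg.Agent.Lib.L0.DihedralSylow
import Cfsg.Agent.Lib.L0.TransferPC
import Cfsg.Agent.Lib.H22.OrderPCube
import Cfsg.Agent.Lib.H16.SylowBasic
import Cfsg.Agent.Lib.L0.NPCBasic
import Cfsg.Agent.Lib.L0.CyclicQuotientHom

/-!
# Local structure around a generalized quaternion Sylow 2-subgroup (lead's library)

`S` a Sylow 2-subgroup with `QuatData S N a`, `N = 2 ^ (n + 2)`, `D = ⟨a²⟩ = [S,S]`:
`N_G(D) = K ⋊ S`, `C_G(D) = K ⋊ ⟨a⟩`, `|N_G(D) : C_G(D)| = 2`.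
-/

set_option autoImplicit false

namespace Cfsg.Agent.Lib.L0

open Subgroup

namespace QuatData

variable {G : Type*} [Group G] {S : Subgroup G} {N : ℕ} {a : G}

/-- every element of `S` either centralizes or inverts `D = ⟨a²⟩`. -/
theorem conj_mem_D (h : QuatData S N a) {s d : G} (hs : s ∈ S) (hd : d ∈ zpowers (a ^ 2)) :
    s * d * s⁻¹ ∈ zpowers (a ^ 2) := by
  by_cases hsa : s ∈ zpowers a
  · obtain ⟨i, rfl⟩ := Subgroup.mem_zpowers_iff.mp hsa
    obtain ⟨j, hj⟩ := Subgroup.mem_zpowers_iff.mp (zpowers_sq_le hd)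
    have : a ^ i * d * (a ^ i)⁻¹ = d := by
      rw [← hj, ← zpow_neg, ← zpow_add, ← zpow_add]
      congr 1; ring
    rw [this]; exact hd
  · rw [h.conj_mem_zpowers hs hsa (zpowers_sq_le hd)]
    exact Subgroup.inv_mem _ hd

theorem le_normalizer [Finite G] (h : QuatData S N a) :
    S ≤ normalizer (zpowers (a ^ 2) : Set G) := by
  intro s hs
  exact mem_normalizer_of_forall_conj_mem _ s fun d hd => h.conj_mem_D hs hd

theorem zpowers_le_centralizer : zpowers a ≤ centralizer (zpowers (a ^ 2) : Set G) := by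
  intro x hx
  rw [Subgroup.mem_centralizer_iff]
  intro y hy
  obtain ⟨i, rfl⟩ := Subgroup.mem_zpowers_iff.mp hx
  obtain ⟨j, rfl⟩ := Subgroup.mem_zpowers_iff.mp (zpowers_sq_le hy)
  rw [← zpow_add, ← zpow_add, add_comm]

theorem normalizer_le_normalizer_centralizer (D : Subgroup G) :
    normalizer (D : Set G) ≤ normalizer (centralizer (D : Set G) : Set G) := by
  intro g hg
  rw [Subgroup.mem_normalizer_iff]
  have key : ∀ g : G, g ∈ normalizer (D : Set G) → ∀ x ∈ centralizer (D : Set G),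
      g * x * g⁻¹ ∈ centralizer (D : Set G) := by
    intro g hg x hx
    rw [Subgroup.mem_centralizer_iff]
    intro d hd
    have hd' : g⁻¹ * d * g ∈ D := by
      have := (Subgroup.mem_normalizer_iff.mp (Subgroup.inv_mem _ hg) d).mp hd
      simpa using this
    have := (Subgroup.mem_centralizer_iff.mp hx) _ hd'
    calc d * (g * x * g⁻¹) = g * ((g⁻¹ * d * g) * x) * g⁻¹ := by group
      _ = g * (x * (g⁻¹ * d * g)) * g⁻¹ := by rw [this]
      _ = g * x * g⁻¹ * d := by group
  intro x
  constructor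
  · exact key g hg x
  · intro hx
    have := key g⁻¹ (Subgroup.inv_mem _ hg) _ hx
    have h2 : g⁻¹ * (g * x * g⁻¹) * g⁻¹⁻¹ = x := by group
    rwa [h2] at this

section Syl

variable {G : Type*} [Group G] [Finite G] {S : Sylow 2 G} {N n : ℕ} {a : G}

/-- `|N(D) : C(D)|` is a power of two. -/
theorem relIndex_centralizer_dvd (h : QuatData (S : Subgroup G) N a) (hN : N = 2 ^ (n + 2)) :
    (centralizer (zpowers (a ^ 2) : Set G)).relIndex (normalizer (zpowers (a ^ 2) : Set G))
      ∣ 2 ^ (n + 1) := by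
  have hN0 : 0 < N := by rw [hN]; positivity
  have h1 : (centralizer (zpowers (a ^ 2) : Set G)).relIndex (normalizer (zpowers (a ^ 2) : Set G))
      = Nat.card (zpowers (a ^ 2)).normalizerMonoidHom.range := by
    rw [← Subgroup.index_ker, Subgroup.normalizerMonoidHom_ker]
    rfl
  rw [h1]
  have h2 : Nat.card (MulAut (zpowers (a ^ 2))) = 2 ^ (n + 1) := by
    rw [IsCyclic.card_mulAut, h.card_zpowers_sq hN0, hN, Nat.totient_prime_pow Nat.prime_two (by omega)]
    simp
  rw [← h2]
  exact Subgroup.card_subgroup_dvd_card _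

/-- `C(D) S = N(D)`. -/
theorem centralizer_sup_eq (h : QuatData (S : Subgroup G) N a) (hN : N = 2 ^ (n + 2)) :
    centralizer (zpowers (a ^ 2) : Set G) ⊔ (S : Subgroup G)
      = normalizer (zpowers (a ^ 2) : Set G) := by
  apply le_antisymm (sup_le (centralizer_le_normalizer _) h.le_normalizer)
  rw [← Subgroup.relIndex_eq_one]
  have h1 : (centralizer (zpowers (a ^ 2) : Set G) ⊔ (S : Subgroup G)).relIndex
      (normalizer (zpowers (a ^ 2) : Set G)) ∣ 2 ^ (n + 1) :=
    (Subgroup.relIndex_dvd_of_le_left _ le_sup_left).trans (relIndex_centralizer_dvd h hN)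
  have h2 : (centralizer (zpowers (a ^ 2) : Set G) ⊔ (S : Subgroup G)).relIndex
      (normalizer (zpowers (a ^ 2) : Set G)) ∣ (S : Subgroup G).index :=
    (Subgroup.relIndex_dvd_of_le_left _ le_sup_right).trans
      (Subgroup.relIndex_dvd_index_of_le h.le_normalizer)
  have hp2 : Fact (Nat.Prime 2) := ⟨Nat.prime_two⟩
  have h3 : ¬ 2 ∣ (S : Subgroup G).index := S.not_dvd_index
  have h4 : Nat.Coprime (2 ^ (n + 1)) (S : Subgroup G).index :=
    Nat.Coprime.pow_left _ ((Nat.Prime.coprime_iff_not_dvd Nat.prime_two).mpr h3)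
  exact Nat.eq_one_of_dvd_coprimes h4 h1 h2

/-- `|N(D) : C(D)| = 2`. -/
theorem relIndex_centralizer_eq (h : QuatData (S : Subgroup G) N a) (hN : N = 2 ^ (n + 2)) :
    (centralizer (zpowers (a ^ 2) : Set G)).relIndex (normalizer (zpowers (a ^ 2) : Set G)) = 2 := by
  have hN0 : 0 < N := by rw [hN]; positivity
  have hN2 : 2 < N := by
    rw [hN]
    calc 2 < 2 ^ 2 := by norm_num
      _ ≤ 2 ^ (n + 2) := Nat.pow_le_pow_right (by norm_num) (by omega)
  rw [← centralizer_sup_eq h hN, sup_comm]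
  rw [Cfsg.Agent.Lib.H22.relIndex_sup_right_of_le_normalizer _ _
    (h.le_normalizer.trans (normalizer_le_normalizer_centralizer _))]
  rw [← Subgroup.inf_relIndex_right, inf_comm, h.inf_centralizer hN2]
  exact h.relIndex hN0

/-- `⟨a⟩` has odd index in `C(D)`. -/
theorem not_dvd_relIndex_zpowers (h : QuatData (S : Subgroup G) N a) (hN : N = 2 ^ (n + 2)) :
    ¬ 2 ∣ (zpowers a).relIndex (centralizer (zpowers (a ^ 2) : Set G)) := by
  have hN0 : 0 < N := by rw [hN]; positivity
  intro hdvd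
  have hp2 : Fact (Nat.Prime 2) := ⟨Nat.prime_two⟩
  have h3 : ¬ 2 ∣ (S : Subgroup G).index := S.not_dvd_index
  apply h3
  have e1 := card_eq_card_mul_relIndex (centralizer_le_normalizer (zpowers (a ^ 2) : Set G))
  rw [relIndex_centralizer_eq h hN] at e1
  have e2 := card_eq_card_mul_relIndex (zpowers_le_centralizer (a := a))
  rw [h.card_zpowers] at e2
  have e3 : Nat.card (normalizer (zpowers (a ^ 2) : Set G)) ∣ Nat.card G :=
    Subgroup.card_subgroup_dvd_card _
  have e4 := (S : Subgroup G).card_mul_index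
  rw [h.card] at e4
  rw [e1, e2, ← e4] at e3
  have e5 : 4 * N * (zpowers a).relIndex (centralizer (zpowers (a ^ 2) : Set G))
      ∣ 4 * N * (S : Subgroup G).index := by
    have : 2 * N * (zpowers a).relIndex (centralizer (zpowers (a ^ 2) : Set G)) * 2
        = 4 * N * (zpowers a).relIndex (centralizer (zpowers (a ^ 2) : Set G)) := by ring
    rwa [this] at e3
  have e6 := Nat.dvd_of_mul_dvd_mul_left (by omega : 0 < 4 * N) e5
  exact hdvd.trans e6

/-- The normal 2-complement of `C(D)`, as a subgroup of the type `↥C(D)`. -/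
theorem exists_complement (h : QuatData (S : Subgroup G) N a) (hN : N = 2 ^ (n + 2)) :
    ∃ K' : Subgroup (centralizer (zpowers (a ^ 2) : Set G)), K'.Normal ∧
      K'.IsComplement' ((zpowers a).subgroupOf (centralizer (zpowers (a ^ 2) : Set G))) := by
  have hN0 : 0 < N := by rw [hN]; positivity
  have hp2 : Fact (Nat.Prime 2) := ⟨Nat.prime_two⟩
  set C := centralizer (zpowers (a ^ 2) : Set G) with hC
  set T' := (zpowers a).subgroupOf C with hT'
  have hTp : IsPGroup 2 T' := by
    have h1 : IsPGroup 2 (zpowers a) := by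
      apply IsPGroup.of_card (n := n + 3)
      rw [h.card_zpowers, hN]; ring
    exact h1.comap_subtype
  have hTidx : ¬ 2 ∣ T'.index := not_dvd_relIndex_zpowers h hN
  let P : Sylow 2 C := hTp.toSylow hTidx
  have hPcoe : (P : Subgroup C) = T' := rfl
  have hcyc : IsCyclic (P : Subgroup C) := by
    rw [hPcoe]
    have e := Subgroup.subgroupOfEquivOfLe (zpowers_le_centralizer (a := a))
    exact isCyclic_of_surjective e.symm e.symm.surjective
  have hmin : (Nat.card C).minFac = 2 := by
    rw [Nat.minFac_eq_two_iff]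
    have e2 := card_eq_card_mul_relIndex (zpowers_le_centralizer (a := a))
    rw [h.card_zpowers] at e2
    rw [e2, mul_assoc]
    exact Dvd.intro _ rfl
  have hcomp := IsCyclic.isComplement' hmin hcyc
  exact ⟨_, inferInstance, hcomp⟩

end Syl

end QuatData

end Cfsg.Agent.Lib.L0
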