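import Cfsg.Agent.Lib.L0.QuatLocal

/-!
# Local structure around a generalized quaternion Sylow 2-subgroup, part 2 (lead's library)

The odd-order normal complement `K` of `C(D)` and its properties; the special classes.
-/

set_option autoImplicit false

namespace Cfsg.Agent.Lib.L0

open Subgroup

namespace QuatData

variable {G : Type*} [Group G] [Finite G] {S : Sylow 2 G} {N n : ℕ} {a : G}

/-- The set of odd-order elements of `C(D)` is a subgroup `K` with the expected properties. -/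
theorem exists_K (h : QuatData (S : Subgroup G) N a) (hN : N = 2 ^ (n + 2)) :
    ∃ K : Subgroup G, (∀ x, x ∈ K ↔ x ∈ centralizer (zpowers (a ^ 2) : Set G) ∧
        (orderOf x).Coprime 2) ∧
      ¬ 2 ∣ Nat.card K ∧
      K ⊔ zpowers a = centralizer (zpowers (a ^ 2) : Set G) ∧
      K ⊓ zpowers a = ⊥ := by
  have hN0 : 0 < N := by rw [hN]; positivity
  have hex := exists_complement h hN
  set C := centralizer (zpowers (a ^ 2) : Set G) with hC
  set T' := (zpowers a).subgroupOf C with hT'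
  obtain ⟨K', hK'n, hK'c⟩ := hex
  have hcardT' : Nat.card T' = 2 ^ (n + 3) := by
    rw [hT', Nat.card_congr (Subgroup.subgroupOfEquivOfLe (zpowers_le_centralizer (a := a))).toEquiv,
      h.card_zpowers, hN]
    ring
  have hidxK' : K'.index = 2 ^ (n + 3) := by
    rw [← hcardT']
    exact hK'c.symm.index_eq_card
  have hcardK' : Nat.card K' = T'.index := hK'c.index_eq_card.symm
  have hoddK' : ¬ 2 ∣ Nat.card K' := by
    rw [hcardK']
    exact not_dvd_relIndex_zpowers h hN
  have hmemK' : ∀ x : C, x ∈ K' ↔ (orderOf x).Coprime 2 := by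
    intro x
    constructor
    · intro hx
      have h1 : orderOf (⟨x, hx⟩ : K') ∣ Nat.card K' := orderOf_dvd_natCard _
      have h2 : orderOf (⟨x, hx⟩ : K') = orderOf x := Subgroup.orderOf_mk x hx
      rw [h2] at h1
      rw [Nat.coprime_comm, Nat.Prime.coprime_iff_not_dvd Nat.prime_two]
      intro h3
      exact hoddK' (h3.trans h1)
    · intro hx
      exact mem_of_coprime_orderOf_of_index_pow K' (n + 3) hidxK' x hx
  refine ⟨K'.map C.subtype, ?_, ?_, ?_, ?_⟩
  · intro x
    constructor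
    · rintro ⟨y, hy, rfl⟩
      refine ⟨y.2, ?_⟩
      have := (hmemK' y).mp hy
      rwa [← Subgroup.orderOf_coe] at this
    · rintro ⟨hxC, hx⟩
      refine ⟨⟨x, hxC⟩, ?_, rfl⟩
      apply (hmemK' ⟨x, hxC⟩).mpr
      rw [← Subgroup.orderOf_coe]
      exact hx
  · rw [Nat.card_congr (Subgroup.equivMapOfInjective K' C.subtype
      (Subgroup.subtype_injective C)).toEquiv.symm]
    exact hoddK'
  · have h1 : K' ⊔ T' = ⊤ := hK'c.sup_eq_top
    have h2 := congrArg (Subgroup.map C.subtype) h1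
    rw [Subgroup.map_sup, hT', Subgroup.subgroupOf_map_subtype, ← MonoidHom.range_eq_map,
      Subgroup.range_subtype, inf_eq_left.mpr (zpowers_le_centralizer (a := a))] at h2
    exact h2
  · have h1 : K' ⊓ T' = ⊥ := disjoint_iff.mp hK'c.disjoint
    rw [eq_bot_iff]
    rintro x ⟨⟨y, hy, rfl⟩, hxa⟩
    have : y ∈ K' ⊓ T' := ⟨hy, Subgroup.mem_subgroupOf.mpr hxa⟩
    rw [h1, Subgroup.mem_bot] at this
    rw [this]; exact Subgroup.mem_bot.mpr rfl

theorem orderOf_conj' (g x : G) : orderOf (g * x * g⁻¹) = orderOf x := by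
  have := MulEquiv.orderOf_eq (MulAut.conj g) x
  rwa [MulAut.conj_apply] at this

/-- The local structure theorem: `N(D) = K S`, `C(D) = K ⟨a⟩`. -/
theorem local_structure (h : QuatData (S : Subgroup G) N a) (hN : N = 2 ^ (n + 2)) :
    ∃ K : Subgroup G, (∀ x, x ∈ K ↔ x ∈ centralizer (zpowers (a ^ 2) : Set G) ∧
        (orderOf x).Coprime 2) ∧
      Odd (Nat.card K) ∧
      K ≤ centralizer (zpowers (a ^ 2) : Set G) ∧
      normalizer (zpowers (a ^ 2) : Set G) ≤ normalizer (K : Set G) ∧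
      K ⊔ (S : Subgroup G) = normalizer (zpowers (a ^ 2) : Set G) ∧
      K ⊔ zpowers a = centralizer (zpowers (a ^ 2) : Set G) ∧
      K ⊓ zpowers a = ⊥ := by
  obtain ⟨K, hK1, hK2, hK3, hK4⟩ := exists_K h hN
  refine ⟨K, hK1, ?_, ?_, ?_, ?_, hK3, hK4⟩
  · exact Nat.not_even_iff_odd.mp fun he => hK2 (even_iff_two_dvd.mp he)
  · intro x hx; exact ((hK1 x).mp hx).1
  · intro g hg
    apply mem_normalizer_of_forall_conj_mem
    intro x hx
    rw [hK1] at hx ⊢
    refine ⟨?_, by rw [orderOf_conj']; exact hx.2⟩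
    have := normalizer_le_normalizer_centralizer (zpowers (a ^ 2)) hg
    exact (Subgroup.mem_normalizer_iff.mp this x).mp hx.1
  · rw [← centralizer_sup_eq h hN, ← hK3, sup_assoc,
      sup_eq_right.mpr h.zpowers_le]

/-- Special classes, part 1: an element of `C(D)` whose order is divisible by `|D|` has `D` among
its powers. -/
theorem zpowers_sq_le_zpowers (h : QuatData (S : Subgroup G) N a) (hN : N = 2 ^ (n + 2)) {y : G}
    (hy : y ∈ centralizer (zpowers (a ^ 2) : Set G)) (hdvd : N ∣ orderOf y) :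
    zpowers (a ^ 2) ≤ zpowers y := by
  have hN0 : 0 < N := by rw [hN]; positivity
  have hp2 : Fact (Nat.Prime 2) := ⟨Nat.prime_two⟩
  set C := centralizer (zpowers (a ^ 2) : Set G) with hC
  set T' := (zpowers a).subgroupOf C with hT'
  have hTp : IsPGroup 2 T' := by
    have h1 : IsPGroup 2 (zpowers a) := by
      apply IsPGroup.of_card (n := n + 3)
      rw [h.card_zpowers, hN]; ring
    exact h1.comap_subtype
  have hTidx : ¬ 2 ∣ T'.index := not_dvd_relIndex_zpowers h hN
  let P : Sylow 2 C := hTp.toSylow hTidx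
  have hPcoe : (P : Subgroup C) = T' := rfl
  -- the 2-part of `y`
  have hyord : orderOf y ≠ 0 := (orderOf_pos y).ne'
  obtain ⟨e, r, hr, hyer⟩ := Nat.exists_eq_two_pow_mul_odd hyord
  have hrdvd : r ∣ orderOf y := ⟨2 ^ e, by rw [hyer]; ring⟩
  have hr0 : r ≠ 0 := fun h0 => by rw [h0] at hr; exact absurd hr (by decide)
  have hy2ord : orderOf (y ^ r) = 2 ^ e := by
    rw [orderOf_pow_of_dvd hr0 hrdvd, hyer, Nat.mul_div_cancel _ (Nat.pos_of_ne_zero hr0)]
  have hNe : N ∣ 2 ^ e := by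
    rw [hyer] at hdvd
    apply Nat.Coprime.dvd_of_dvd_mul_right _ hdvd
    rw [hN]
    exact Nat.Coprime.pow_left _ (Nat.coprime_two_left.mpr hr)
  have hy2C : y ^ r ∈ C := Subgroup.pow_mem _ hy r
  set y2 : C := ⟨y ^ r, hy2C⟩ with hy2
  have hA : IsPGroup 2 (zpowers y2) := by
    apply IsPGroup.of_card (n := e)
    rw [Nat.card_zpowers, ← Subgroup.orderOf_coe, hy2ord]
  obtain ⟨g, hg⟩ := Cfsg.Agent.Lib.H16.exists_conj_mem_sylow (zpowers y2) hA P
  have hw : (g : G) * y ^ r * (g : G)⁻¹ ∈ zpowers a := by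
    have := hg y2 (Subgroup.mem_zpowers y2)
    have h2 : g * y2 * g⁻¹ ∈ T' := this
    rw [hT', Subgroup.mem_subgroupOf] at h2
    simpa [hy2] using h2
  have hword : orderOf ((g : G) * y ^ r * (g : G)⁻¹) = 2 ^ e := by
    rw [orderOf_conj', hy2ord]
  have haord : orderOf a ≠ 0 := by rw [h.order_a]; omega
  have hle : zpowers (a ^ 2) ≤ zpowers ((g : G) * y ^ r * (g : G)⁻¹) := by
    apply le_of_le_zpowers_of_card_dvd haord zpowers_sq_le (Subgroup.zpowers_le.mpr hw)
    rw [h.card_zpowers_sq hN0, Nat.card_zpowers, hword]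
    exact hNe
  intro d hd
  obtain ⟨k, hk⟩ := Subgroup.mem_zpowers_iff.mp (hle hd)
  -- `d = g (y^r)^k g⁻¹` and `g` centralizes `d`
  have hgd : (g : G) * d * (g : G)⁻¹ = d := by
    have := (Subgroup.mem_centralizer_iff.mp g.2) d hd
    rw [← this]; group
  have hd2 : d = (y ^ r) ^ k := by
    have h3 : ((g : G) * y ^ r * (g : G)⁻¹) ^ k = (g : G) * (y ^ r) ^ k * (g : G)⁻¹ := by
      rw [conj_zpow]
    rw [h3] at hk
    have h4 : (g : G)⁻¹ * d * (g : G) = (y ^ r) ^ k := by rw [← hk]; group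
    rw [← h4]
    have h5 : (g : G)⁻¹ * d * (g : G) = (g : G)⁻¹ * ((g : G) * d * (g : G)⁻¹) * (g : G) := by
      rw [hgd]
    rw [h5]; group
  rw [hd2]
  exact Subgroup.zpow_mem _ (Subgroup.pow_mem _ (Subgroup.mem_zpowers y) r) k

/-- Special classes, part 2: control of fusion. -/
theorem mem_normalizer_of_conj_mem (h : QuatData (S : Subgroup G) N a) (hN : N = 2 ^ (n + 2))
    {g y : G} (hy : y ∈ centralizer (zpowers (a ^ 2) : Set G)) (hdvd : N ∣ orderOf y)
    (hgy : g * y * g⁻¹ ∈ centralizer (zpowers (a ^ 2) : Set G)) :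
    g ∈ normalizer (zpowers (a ^ 2) : Set G) := by
  have hN0 : 0 < N := by rw [hN]; positivity
  have h1 := zpowers_sq_le_zpowers h hN hy hdvd
  have h2 := zpowers_sq_le_zpowers h hN hgy (by rw [orderOf_conj']; exact hdvd)
  apply mem_normalizer_of_forall_conj_mem
  intro d hd
  -- the conjugate of `D`
  have hD' : (zpowers (a ^ 2)).map (MulAut.conj g).toMonoidHom ≤ zpowers (g * y * g⁻¹) := by
    rintro x ⟨d', hd', rfl⟩
    obtain ⟨k, hk⟩ := Subgroup.mem_zpowers_iff.mp (h1 hd')
    rw [Subgroup.mem_zpowers_iff]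
    refine ⟨k, ?_⟩
    simp only [MulEquiv.coe_toMonoidHom, MulAut.conj_apply]
    rw [← hk, conj_zpow]
  have hord : orderOf (g * y * g⁻¹) ≠ 0 := (orderOf_pos _).ne'
  have hcard : Nat.card ((zpowers (a ^ 2)).map (MulAut.conj g).toMonoidHom)
      = Nat.card (zpowers (a ^ 2)) := by
    exact Nat.card_congr (Subgroup.equivMapOfInjective _ _ (MulAut.conj g).injective).toEquiv.symm
  have hle := le_of_le_zpowers_of_card_dvd hord hD' h2 (by rw [hcard])
  apply hle
  exact ⟨d, hd, by simp [MulAut.conj_apply]⟩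

end QuatData

end Cfsg.Agent.Lib.L0
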