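import Mathlib
import Cfsg.Agent.S4664
import Cfsg.Agent.Lib.L0.BlockMinMax
import Cfsg.Agent.Lib.L0.PrincipalCrit
import Cfsg.Agent.Lib.H23.BlockDefectGroups
import Cfsg.Agent.Lib.H5.Orbits
import Cfsg.Agent.Lib.H21.ClassSize

/-!
# `2`-blocks of full defect stable under a Galois automorphism inverting odd-order roots of unity

`trivIrr_mem_of_stable`: if `k` is prime to `|G|`, `g ^ k = g⁻¹` for all `g` of odd order, and the
`2`-block `B` of full defect is stable under `χ ↦ χ ∘ (· ^ k)`, then `B` is the principal block.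
-/

set_option autoImplicit false

namespace Cfsg.Agent.Lib.L0.SigmaBlock2

open Cfsg Cfsg.Agent.Lib.H23 Cfsg.Agent.Lib.H24 Cfsg.Agent.Lib.L0 Cfsg.Agent.Lib.L0.BlockMinMax
  Cfsg.Agent.Lib.L0.PrincipalCrit Cfsg.Agent.S4664
open scoped ComplexConjugate

variable {G : Type*} [Group G] [Fintype G] {M : Ideal AlgInt}

theorem isConj_classRep_mk (x : G) : IsConj (classRep (ConjClasses.mk x)) x :=
  ConjClasses.mk_eq_mk_iff_isConj.mp (mk_classRep _)

theorem centralizer_inv (g : G) :
    Subgroup.centralizer ({g⁻¹} : Set G) = Subgroup.centralizer ({g} : Set G) := by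
  ext x
  simp only [Subgroup.mem_centralizer_singleton_iff]
  constructor
  · intro h
    calc x * g = g * (g⁻¹ * x) * g := by group
      _ = g * (x * g⁻¹) * g := by rw [h]
      _ = g * x := by group
  · intro h
    calc x * g⁻¹ = g⁻¹ * (g * x) * g⁻¹ := by group
      _ = g⁻¹ * (x * g) * g⁻¹ := by rw [h]
      _ = g⁻¹ * x := by group

/-- A real element `g ≠ 1` of odd order has a conjugacy class of even size. -/
theorem even_index_centralizer_of_real {g : G} (hodd : Odd (orderOf g)) (hg1 : g ≠ 1)
    (hreal : IsConj g g⁻¹) : Even (Subgroup.centralizer ({g} : Set G)).index := by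
  classical
  -- the class of g
  set K : Finset G := Finset.univ.filter (fun x => IsConj g x) with hK
  have hcardK : K.card = (Subgroup.centralizer ({g} : Set G)).index := by
    rw [← Cfsg.Agent.Lib.H21.card_conj_eq_index_centralizer g, Nat.card_eq_fintype_card,
      Fintype.card_subtype]
  rw [← hcardK]
  have hsum : ∑ x ∈ K, (1 : ZMod 2) = 0 := by
    refine Finset.sum_involution (fun x _ => x⁻¹) ?_ ?_ ?_ ?_
    · intro x _
      decide
    · intro x hx _ hxx
      rw [hK, Finset.mem_filter] at hx
      have hx2 : x ^ 2 = 1 := by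
        rw [sq]
        nth_rewrite 1 [← hxx]
        exact inv_mul_cancel x
      have hord : orderOf x = orderOf g := by
        obtain ⟨c, hc⟩ := isConj_iff.mp hx.2
        rw [← hc]
        exact (MulAut.conj c).orderOf_eq g
      have hdvd : orderOf x ∣ 2 := orderOf_dvd_of_pow_eq_one hx2
      rcases (Nat.dvd_prime Nat.prime_two).mp hdvd with h | h
      · have hx1 : x = 1 := orderOf_eq_one_iff.mp h
        rw [hx1] at hx
        exact hg1 (isConj_one_left.mp hx.2)
      · rw [hord] at h
        rw [h] at hodd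
        exact absurd hodd (by decide)
    · intro x hx
      rw [hK, Finset.mem_filter] at hx ⊢
      refine ⟨Finset.mem_univ _, ?_⟩
      -- g ~ g⁻¹ ~ x⁻¹
      have h1 : IsConj g⁻¹ x⁻¹ := by
        obtain ⟨c, hc⟩ := isConj_iff.mp hx.2
        rw [isConj_iff]
        exact ⟨c, by rw [← hc]; group⟩
      exact hreal.trans h1
    · intro x _
      exact inv_inv x
  rw [Finset.sum_const, nsmul_eq_mul, mul_one] at hsum
  exact (ZMod.natCast_eq_zero_iff_even).mp hsum


theorem isConj_inv_inv {a b : G} (h : IsConj a b) : IsConj a⁻¹ b⁻¹ := by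
  obtain ⟨c, hc⟩ := isConj_iff.mp h
  rw [isConj_iff]
  exact ⟨c, by rw [← hc]; group⟩

/-- For a block stable under `χ ↦ χ ∘ (· ^ k)`, where `g ^ k = g⁻¹` on elements of odd order, the
idempotent coefficients are invariant under inversion on elements of odd order. -/
theorem blockCoeff_inv_of_stable (B : Set (IrrCharacter G)) (k : ℕ)
    (hk : k.Coprime (Nat.card G)) (hk₂ : ∀ g : G, Odd (orderOf g) → g ^ k = g⁻¹)
    (hstab : ∀ χ ∈ B, gc k hk χ ∈ B) (g : G) (hg : Odd (orderOf g)) :
    blockCoeff B g⁻¹ = blockCoeff B g := by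
  classical
  haveI := Fintype.ofFinite (IrrCharacter G)
  rw [blockCoeff_eq_sum, blockCoeff_eq_sum]
  congr 1
  rw [← Finset.sum_filter, ← Finset.sum_filter]
  have hB : ∀ χ ∈ Finset.univ.filter (· ∈ B), gc k hk χ ∈ Finset.univ.filter (· ∈ B) := by
    intro χ hχ
    rw [Finset.mem_filter] at hχ ⊢
    exact ⟨Finset.mem_univ _, hstab χ hχ.2⟩
  have h := sum_gc_eq (Finset.univ.filter (· ∈ B)) hk hB
    (fun χ => (χ : G → ℂ) 1 * conj ((χ : G → ℂ) g))
  rw [← h]
  refine Finset.sum_congr rfl fun χ _ => ?_
  simp only [gc_apply, one_pow, hk₂ g hg]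

variable [Fact (Nat.Prime 2)]

theorem trivIrr_mem_of_stable (hM : IsPModular 2 M) (k : ℕ) (hk : k.Coprime (Nat.card G))
    (hk₂ : ∀ g : G, Odd (orderOf g) → g ^ k = g⁻¹) (χ₁ : IrrCharacter G)
    (hdef : blockDefect 2 (blockOf M (χ₁ : G → ℂ)) = (Nat.card G).factorization 2)
    (hstab : ∀ χ ∈ blockOf M (χ₁ : G → ℂ), gc k hk χ ∈ blockOf M (χ₁ : G → ℂ)) :
    trivIrr G ∈ blockOf M (χ₁ : G → ℂ) := by
  classical
  haveI hPr := isPrime_of_isPModular hM
  haveI := Fintype.ofFinite (IrrCharacter G)
  haveI := Fintype.ofFinite (ConjClasses G)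
  by_contra hnot
  set B := blockOf M (χ₁ : G → ℂ) with hB
  set a := (Nat.card G).factorization 2 with ha
  have h2M : MemLocalIdeal M (2 : ℂ) := by
    have := memLocalIdeal_p hM
    simpa using this
  -- the principal block has full defect
  have hdef0 : blockDefect 2 (blockOf M (trivIrr G : G → ℂ)) = a := by
    have h1 : minDeg 2 (blockOf M (trivIrr G : G → ℂ)) ≤
        (charDegree (trivIrr G : G → ℂ)).factorization 2 :=
      minDeg_le (trivIrr G) (mem_blockOf_self (trivIrr G))
    have h2 : charDegree (trivIrr G : G → ℂ) = 1 := by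
      have := apply_one_eq_charDegree (trivIrr G : G → ℂ) (trivIrr G).2
      rw [trivIrr_apply] at this
      exact_mod_cast this.symm
    rw [h2, Nat.factorization_one, Finsupp.zero_apply] at h1
    rw [blockDefect]
    have : sInf ((fun χ : IrrCharacter G => (charDegree (χ : G → ℂ)).factorization 2) ''
        blockOf M (trivIrr G : G → ℂ)) = 0 := Nat.le_zero.mp h1
    rw [this, Nat.sub_zero]
  have h1 := omega_blockIdem_sub_sum_mem hM χ₁ χ₁ a hdef hdef
  have h2 := omega_blockIdem_sub_sum_mem hM χ₁ (trivIrr G) a hdef hdef0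
  rw [omega_blockIdem, if_pos (mem_blockOf_self χ₁)] at h1
  rw [omega_blockIdem, if_neg hnot] at h2
  -- the key congruence
  have key : ∀ ψ₀ : IrrCharacter G,
      (∀ g : G, Odd (orderOf g) →
        MemLocalIdeal M (centralChar (ψ₀ : G → ℂ) g⁻¹ - centralChar (ψ₀ : G → ℂ) g)) →
      MemLocalIdeal M ((∑ c : ConjClasses G, if IsRegDefect 2 a c then
        blockCoeff B (classRep c) * centralChar (ψ₀ : G → ℂ) (classRep c) else 0) -
        blockCoeff B 1) := by
    intro ψ₀ hψ₀
    set Φ : G → ℂ := fun g =>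
      if (¬ 2 ∣ orderOf g ∧ (Nat.card (Subgroup.centralizer ({g} : Set G))).factorization 2 = a)
      then blockCoeff B g * centralChar (ψ₀ : G → ℂ) g else 0 with hΦ
    have hF : ∀ c : ConjClasses G, (if IsRegDefect 2 a c then
        blockCoeff B (classRep c) * centralChar (ψ₀ : G → ℂ) (classRep c) else 0) =
        Φ (classRep c) := by
      intro c
      simp only [hΦ]
      exact if_congr Iff.rfl rfl rfl
    simp only [hF]
    have hcond : ∀ g x : G, IsConj g x →
        ((¬ 2 ∣ orderOf g ∧
          (Nat.card (Subgroup.centralizer ({g} : Set G))).factorization 2 = a) ↔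
        (¬ 2 ∣ orderOf x ∧
          (Nat.card (Subgroup.centralizer ({x} : Set G))).factorization 2 = a)) := by
      intro g x hgx
      have ho : orderOf x = orderOf g := by
        obtain ⟨c, hc⟩ := isConj_iff.mp hgx
        rw [← hc]
        exact (MulAut.conj c).orderOf_eq g
      rw [ho, Cfsg.Agent.Lib.H5.card_centralizer_of_isConj hgx]
    have hΦconj : ∀ g x : G, IsConj g x → Φ g = Φ x := by
      intro g x hgx
      simp only [hΦ]
      rw [if_congr (hcond g x hgx) rfl rfl, blockCoeff_eq_of_isConj B hgx,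
        centralChar_eq_of_isConj ψ₀ hgx]
    have hcondinv : ∀ g : G,
        ((¬ 2 ∣ orderOf g⁻¹ ∧
          (Nat.card (Subgroup.centralizer ({g⁻¹} : Set G))).factorization 2 = a) ↔
        (¬ 2 ∣ orderOf g ∧
          (Nat.card (Subgroup.centralizer ({g} : Set G))).factorization 2 = a)) := by
      intro g
      rw [orderOf_inv, centralizer_inv]
    have hΦloc : ∀ g : G, MemLocalRing M (Φ g) := by
      intro g
      simp only [hΦ]
      split_ifs
      · exact memLocalRing_mul (memLocalRing_blockCoeff hM χ₁ g)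
          (coe_mem_localRing (omegaInt ψ₀ g))
      · exact memLocalRing_zero hPr.ne_top
    have hΦinv : ∀ g : G, MemLocalIdeal M (Φ g⁻¹ - Φ g) := by
      intro g
      simp only [hΦ]
      rw [if_congr (hcondinv g) rfl rfl]
      split_ifs with hc
      · have hodd : Odd (orderOf g) := Nat.odd_iff.mpr (Nat.two_dvd_ne_zero.mp hc.1)
        rw [blockCoeff_inv_of_stable B k hk hk₂ hstab g hodd, ← mul_sub]
        exact memLocalIdeal_mul_left (memLocalRing_blockCoeff hM χ₁ g) (hψ₀ g hodd)
      · rw [sub_zero]; exact memLocalIdeal_zero hPr.ne_top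
    have hΦreal : ∀ g : G, g ≠ 1 → IsConj g g⁻¹ → Φ g = 0 := by
      intro g hg1 hreal
      simp only [hΦ]
      rw [if_neg]
      rintro ⟨hc1, hc2⟩
      have hodd : Odd (orderOf g) := Nat.odd_iff.mpr (Nat.two_dvd_ne_zero.mp hc1)
      have hev := even_index_centralizer_of_real hodd hg1 hreal
      have hfac := factorization_card_eq (p := 2) g
      have hidx0 := Cfsg.Agent.Lib.L0.BlockHeight.index_ne_zero
        (Subgroup.centralizer ({g} : Set G))
      have : 1 ≤ (Subgroup.centralizer ({g} : Set G)).index.factorization 2 :=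
        (Nat.prime_two.dvd_iff_one_le_factorization hidx0).mp (even_iff_two_dvd.mp hev)
      omega
    -- split off the class of 1
    set c₁ : ConjClasses G := ConjClasses.mk 1 with hc₁
    have hrep1 : classRep c₁ = 1 := isConj_one_left.mp (isConj_classRep_mk (1 : G))
    have hcent1 : Subgroup.centralizer ({1} : Set G) = ⊤ := by
      ext x
      simp [Subgroup.mem_centralizer_iff]
    have hΦ1 : Φ 1 = blockCoeff B 1 := by
      simp only [hΦ]
      rw [if_pos]
      · have : centralChar (ψ₀ : G → ℂ) 1 = 1 := by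
          unfold centralChar
          rw [hcent1, Subgroup.index_top, Nat.cast_one, one_mul, div_self (irr_one_ne_zero ψ₀)]
        rw [this, mul_one]
      · refine ⟨by rw [orderOf_one]; norm_num, ?_⟩
        rw [hcent1, ha, Nat.card_congr Subgroup.topEquiv.toEquiv]
    rw [← Finset.add_sum_erase Finset.univ _ (Finset.mem_univ c₁), hrep1, hΦ1, add_sub_cancel_left]
    -- the remaining sum, modulo the local ideal
    rw [← mem_localIdeal, ← QuotientAddGroup.eq_zero_iff, QuotientAddGroup.mk_sum]
    refine Finset.sum_involution (fun c _ => ConjClasses.mk (classRep c)⁻¹) ?_ ?_ ?_ ?_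
    · intro c _
      rw [← QuotientAddGroup.mk_add, QuotientAddGroup.eq_zero_iff, mem_localIdeal,
        hΦconj _ _ (isConj_classRep_mk (classRep c)⁻¹)]
      have e : Φ (classRep c) + Φ (classRep c)⁻¹ =
          2 * Φ (classRep c) + (Φ (classRep c)⁻¹ - Φ (classRep c)) := by ring
      rw [e]
      exact memLocalIdeal_add (memLocalIdeal_mul_right h2M (hΦloc _)) (hΦinv _)
    · intro c hc hne hfix
      apply hne
      have hreal : IsConj (classRep c) (classRep c)⁻¹ := by
        have : ConjClasses.mk (classRep c)⁻¹ = ConjClasses.mk (classRep c) := by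
          rw [hfix, mk_classRep]
        exact (ConjClasses.mk_eq_mk_iff_isConj.mp this).symm
      have hne1 : classRep c ≠ 1 := by
        intro h1
        apply Finset.ne_of_mem_erase hc
        rw [← mk_classRep c, h1]
      rw [hΦreal _ hne1 hreal]
      rfl
    · intro c hc
      refine Finset.mem_erase.mpr ⟨?_, Finset.mem_univ _⟩
      intro h
      have h1 : IsConj (classRep c)⁻¹ 1 := ConjClasses.mk_eq_mk_iff_isConj.mp h
      have h2 : (classRep c)⁻¹ = 1 := isConj_one_left.mp h1
      apply Finset.ne_of_mem_erase hc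
      rw [← mk_classRep c, inv_eq_one.mp h2]
    · intro c _
      have h1 : IsConj (classRep (ConjClasses.mk (classRep c)⁻¹)) (classRep c)⁻¹ :=
        isConj_classRep_mk _
      have h2 := isConj_inv_inv h1
      rw [inv_inv] at h2
      rw [ConjClasses.mk_eq_mk_iff_isConj.mpr h2, mk_classRep]
  -- apply to χ₁ and to the trivial character
  have k1 := key χ₁ (by
    intro g hg
    have hs : SameBlock M (χ₁ : G → ℂ) (gc k hk χ₁ : G → ℂ) := hstab χ₁ (mem_blockOf_self χ₁)
    have e : centralChar (χ₁ : G → ℂ) g⁻¹ = centralChar (gc k hk χ₁ : G → ℂ) g := by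
      unfold centralChar
      rw [centralizer_inv, gc_apply, gc_apply, one_pow, hk₂ g hg]
    rw [e]
    have := hs g
    have h3 := memLocalIdeal_neg this
    rwa [neg_sub] at h3)
  have k2 := key (trivIrr G) (by
    intro g _
    have e : centralChar (trivIrr G : G → ℂ) g⁻¹ = centralChar (trivIrr G : G → ℂ) g := by
      unfold centralChar
      rw [centralizer_inv, trivIrr_apply, trivIrr_apply, trivIrr_apply]
    rw [e, sub_self]
    exact memLocalIdeal_zero hPr.ne_top)
  have e1 := memLocalIdeal_add h1 k1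
  have e2 := memLocalIdeal_add h2 k2
  rw [sub_add_sub_cancel] at e1 e2
  have e3 := memLocalIdeal_sub e1 e2
  rw [sub_sub_sub_cancel_right, sub_zero] at e3
  exact not_memLocalIdeal_one e3

end Cfsg.Agent.Lib.L0.SigmaBlock2
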