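import Mathlib
import Cfsg.Agent.Lib.L0.SigmaResidualA
import Cfsg.Agent.Lib.H24.PResidualChar

/-!
# Galois-fixed extensions over a cyclic `p`-quotient, II (lead's library)

`G/N` cyclic of order `p^a > 1` generated by the image of the `p`-element `x`, `N = O^p(N)`, and `σ`
the Galois automorphism realised by `g ↦ g ^ k`, raising `p`-power roots of unity to the power
`1 + p`.  For a `G`-invariant, `σ`-fixed `θ ∈ Irr(N)` of degree prime to `p`:

* `sigma_fixed_extension`: `θ` has a `σ`-fixed extension to `G`;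
* `card_sigma_fixed_extensions`: `θ` has exactly `p` such extensions.
-/

set_option autoImplicit false

namespace Cfsg.Agent.Lib.L0.SigmaRes

open Cfsg Cfsg.Agent.Lib.L0 Cfsg.Agent.Lib.H23 Cfsg.Agent.Lib.H24

section Ext

variable {G : Type*} [Group G] [Fintype G] (p : ℕ) [hp : Fact p.Prime] (N : Subgroup G)
  [hN : N.Normal]

/-- The hypotheses on `k`, `x`, `a`. -/
structure SigmaHyp (k : ℕ) (x : G) (a : ℕ) : Prop where
  cop : k.Coprime (Nat.card G)
  cyc : IsCyclic (G ⧸ N)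
  gen : ∀ q : G ⧸ N, q ∈ Subgroup.zpowers (QuotientGroup.mk' N x)
  xord : ∃ j : ℕ, orderOf x = p ^ j
  xpow : x ^ k = x ^ (1 + p)
  apos : 0 < a
  card : Nat.card (G ⧸ N) = p ^ a
  res : Cfsg.pResidual p ↥N = ⊤
  lin : ∀ β : G →* ℂˣ, (∀ n : N, β n = 1) → ∀ g : G, β (g ^ k) = β g ^ (1 + p)

variable {p N}

theorem SigmaHyp.pow_mem {k : ℕ} {x : G} {a : ℕ} (h : SigmaHyp p N k x a) : x ^ p ^ a ∈ N := by
  rw [← QuotientGroup.eq_one_iff, QuotientGroup.mk_pow, ← h.card]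
  exact pow_card_eq_one'

theorem SigmaHyp.orderOf_mk {k : ℕ} {x : G} {a : ℕ} (h : SigmaHyp p N k x a) :
    orderOf (QuotientGroup.mk' N x) = p ^ a := by
  rw [← h.card]
  exact orderOf_eq_card_of_forall_mem_zpowers h.gen

/-- A `G`-invariant `σ`-fixed irreducible character of `N` of degree prime to `p` has a `σ`-fixed
extension. -/
theorem sigma_fixed_extension {k : ℕ} {x : G} {a : ℕ} (h : SigmaHyp p N k x a) (θ : N → ℂ)
    (hθ : IsIrrCharacter N θ)
    (hθinv : ∀ (g : G) (n : N), θ ⟨g * n * g⁻¹, hN.conj_mem (n : G) n.2 g⟩ = θ n)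
    (d : ℕ) (hd : θ 1 = d) (hpd : ¬ p ∣ d) (hθσ : ∀ n : N, θ (n ^ k) = θ n) :
    ∃ χ : G → ℂ, IsIrrCharacter G χ ∧ (∀ n : N, χ n = θ n) ∧ ∀ g : G, χ (g ^ k) = χ g := by
  classical
  have := Fintype.ofFinite N
  obtain ⟨χ₀, hχ₀, hχ₀N⟩ := exists_extension_of_cyclic N h.cyc θ hθ hθinv
  have hχ₀c := isCharacter_of_irr hχ₀
  have hσirr : IsIrrCharacter G (fun g => χ₀ (g ^ k)) :=
    Cfsg.Agent.Lib.H8.isIrrCharacter_galoisConj hχ₀ k h.cop
  have hσN : ∀ n : N, (fun g => χ₀ (g ^ k)) (n : G) = χ₀ n := by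
    intro n
    show χ₀ ((n : G) ^ k) = χ₀ n
    have e : ((n : G) ^ k) = ((n ^ k : N) : G) := (SubmonoidClass.coe_pow n k).symm
    rw [e, hχ₀N, hθσ, hχ₀N]
  have hχ₀Nirr : IsIrrCharacter N (fun n : N => χ₀ n) := by
    have : (fun n : N => χ₀ n) = θ := funext hχ₀N
    rw [this]
    exact hθ
  obtain ⟨μ, hμN, hμ⟩ := exists_hom_of_restrict_eq N hχ₀ hσirr hχ₀Nirr hσN
  -- determinants
  obtain ⟨δ, hδ⟩ := exists_hom_detChar hχ₀c
  have hχ₀1 : χ₀ 1 = d := by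
    rw [← hd, ← hχ₀N 1]
    rfl
  have hdet1 : detChar (fun y => χ₀ (y ^ k)) x = (δ x : ℂ) ^ k := by
    rw [detChar_galoisConj hχ₀c k h.cop x, hδ, homToFun_apply, map_pow, Units.val_pow_eq_pow_val]
  have hdet2 : detChar (χ₀ * homToFun G μ) x = (δ x : ℂ) * (μ x : ℂ) ^ d := by
    rw [detChar_mul_homToFun hχ₀c d hχ₀1 μ, Pi.mul_apply, Pi.pow_apply, hδ, homToFun_apply,
      homToFun_apply]
  have hkey : δ x ^ k = δ x * μ x ^ d := by
    apply Units.ext
    rw [Units.val_pow_eq_pow_val, Units.val_mul, Units.val_pow_eq_pow_val, ← hdet1, hμ, hdet2]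
  have hkey2 : δ x ^ p = μ x ^ d := by
    have h1 : δ x ^ k = δ x * δ x ^ p := by
      rw [← map_pow, h.xpow, map_pow, pow_add, pow_one]
    rw [h1] at hkey
    exact mul_left_cancel hkey
  -- δ is trivial at y = x ^ p ^ a
  have hyN : x ^ p ^ a ∈ N := h.pow_mem
  have hδy : δ (x ^ p ^ a) = 1 := by
    have hcop := coprime_detOrder p hp.out h.res θ (isCharacter_of_irr hθ)
    have h1 : (detChar θ) ^ (detOrder θ) = 1 := pow_orderOf_eq_one _
    have h2 : detChar θ ⟨x ^ p ^ a, hyN⟩ = (δ (x ^ p ^ a) : ℂ) := by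
      have h3 := detChar_restrict N hχ₀c
      have h4 : (fun n : N => χ₀ n) = θ := funext hχ₀N
      rw [h4] at h3
      rw [h3, hδ]
      rfl
    have h5 : δ (x ^ p ^ a) ^ detOrder θ = 1 := by
      apply Units.ext
      rw [Units.val_pow_eq_pow_val, ← h2, ← Pi.pow_apply, h1]
      rfl
    obtain ⟨j, hj⟩ := h.xord
    have h6 : δ (x ^ p ^ a) ^ p ^ j = 1 := by
      rw [← map_pow, ← pow_mul, mul_comm, pow_mul, ← hj, pow_orderOf_eq_one, one_pow, map_one]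
    have h7 : orderOf (δ (x ^ p ^ a)) = 1 :=
      Nat.eq_one_of_dvd_coprimes (Nat.Coprime.pow_right j hcop)
        (orderOf_dvd_of_pow_eq_one h5) (orderOf_dvd_of_pow_eq_one h6)
    exact orderOf_eq_one_iff.mp h7
  obtain ⟨a', rfl⟩ : ∃ a', a = a' + 1 := ⟨a - 1, by have := h.apos; omega⟩
  have hμ1 : μ x ^ (d * p ^ a') = 1 := by
    rw [pow_mul, ← hkey2, ← pow_mul, ← pow_succ', ← map_pow, hδy]
  have hμ2 : μ x ^ p ^ (a' + 1) = 1 := by
    rw [← map_pow]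
    exact hμN ⟨_, hyN⟩
  have hμ3 : μ x ^ p ^ a' = 1 := by
    obtain ⟨i, _, hi⟩ := (Nat.dvd_prime_pow hp.out).mp (orderOf_dvd_of_pow_eq_one hμ2)
    have h1 : p ^ i ∣ d * p ^ a' := by rw [← hi]; exact orderOf_dvd_of_pow_eq_one hμ1
    have h2 : Nat.Coprime (p ^ i) d :=
      Nat.Coprime.pow_left i ((Nat.Prime.coprime_iff_not_dvd hp.out).mpr hpd)
    have h3 : p ^ i ∣ p ^ a' := h2.dvd_of_dvd_mul_left h1
    rw [← hi] at h3
    exact orderOf_dvd_iff_pow_eq_one.mp h3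
  -- a p-th root of (μ x)⁻¹
  obtain ⟨z, hz⟩ := IsAlgClosed.exists_pow_nat_eq (((μ x)⁻¹ : ℂˣ) : ℂ) hp.out.pos
  have hz0 : z ≠ 0 := by
    intro h0
    rw [h0, zero_pow hp.out.ne_zero] at hz
    exact (Units.ne_zero _) hz.symm
  set ζ : ℂˣ := Units.mk0 z hz0 with hζ
  have hζp : ζ ^ p = (μ x)⁻¹ := by
    apply Units.ext
    rw [Units.val_pow_eq_pow_val]
    exact hz
  have hζa : ζ ^ p ^ (a' + 1) = 1 := by
    rw [pow_succ', pow_mul, hζp, inv_pow, hμ3, inv_one]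
  have hζord : orderOf ζ ∣ orderOf (QuotientGroup.mk' N x) := by
    rw [h.orderOf_mk]
    exact orderOf_dvd_of_pow_eq_one hζa
  obtain ⟨β₁, hβ₁N, hβ₁x⟩ := exists_hom_apply_generator N x h.gen ζ hζord
  have htriv : μ * β₁ ^ p = 1 := by
    apply hom_ext_of_generator N x h.gen
    · intro n
      rw [MonoidHom.mul_apply, MonoidHom.pow_apply, hμN, hβ₁N, one_pow, one_mul]
    · intro n
      rfl
    · rw [MonoidHom.mul_apply, MonoidHom.pow_apply, hβ₁x, hζp, MonoidHom.one_apply,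
        mul_inv_cancel]
  refine ⟨χ₀ * homToFun G β₁, isIrrCharacter_mul_hom χ₀ hχ₀ β₁, ?_, ?_⟩
  · intro n
    rw [Pi.mul_apply, homToFun_apply, hβ₁N, hχ₀N]
    simp
  · intro g
    rw [Pi.mul_apply, Pi.mul_apply, homToFun_apply, homToFun_apply, h.lin β₁ hβ₁N g]
    have h1 : χ₀ (g ^ k) = χ₀ g * (μ g : ℂ) := by
      have := congrFun hμ g
      simpa [homToFun_apply] using this
    have h2 : (μ g : ℂ) * (β₁ g : ℂ) ^ p = 1 := by
      have := congrArg (fun f : G →* ℂˣ => ((f g : ℂˣ) : ℂ)) htriv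
      simpa using this
    rw [h1, pow_add, pow_one, Units.val_mul, Units.val_pow_eq_pow_val]
    calc χ₀ g * (μ g : ℂ) * ((β₁ g : ℂ) * (β₁ g : ℂ) ^ p)
        = χ₀ g * (β₁ g : ℂ) * ((μ g : ℂ) * (β₁ g : ℂ) ^ p) := by ring
      _ = χ₀ g * (β₁ g : ℂ) := by rw [h2, mul_one]

/-- The set of `σ`-fixed extensions of `θ` has exactly `p` elements. -/
theorem card_sigma_fixed_extensions {k : ℕ} {x : G} {a : ℕ} (h : SigmaHyp p N k x a) (θ : N → ℂ)
    (hθ : IsIrrCharacter N θ)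
    (hθinv : ∀ (g : G) (n : N), θ ⟨g * n * g⁻¹, hN.conj_mem (n : G) n.2 g⟩ = θ n)
    (d : ℕ) (hd : θ 1 = d) (hpd : ¬ p ∣ d) (hθσ : ∀ n : N, θ (n ^ k) = θ n) :
    Nat.card {χ : IrrCharacter G // (∀ n : N, (χ : G → ℂ) n = θ n) ∧
      ∀ g : G, (χ : G → ℂ) (g ^ k) = (χ : G → ℂ) g} = p := by
  classical
  have := Fintype.ofFinite N
  haveI : NeZero p := ⟨hp.out.ne_zero⟩
  obtain ⟨χh, hχh, hχhN, hχhσ⟩ := sigma_fixed_extension h θ hθ hθinv d hd hpd hθσ
  have hχhNirr : IsIrrCharacter N (fun n : N => χh n) := by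
    have : (fun n : N => χh n) = θ := funext hχhN
    rw [this]
    exact hθ
  rw [← Complex.card_rootsOfUnity p]
  symm
  -- the homs attached to roots of unity
  have hex : ∀ ζ : rootsOfUnity p ℂ, ∃ β : G →* ℂˣ, (∀ n : N, β n = 1) ∧ β x = ζ.1 := by
    intro ζ
    apply exists_hom_apply_generator N x h.gen
    rw [h.orderOf_mk]
    have h1 : (ζ.1 : ℂˣ) ^ p = 1 := (mem_rootsOfUnity p ζ.1).mp ζ.2
    have h2 : orderOf (ζ.1 : ℂˣ) ∣ p := orderOf_dvd_of_pow_eq_one h1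
    exact h2.trans (dvd_pow_self p h.apos.ne')
  choose B hBN hBx using hex
  have hBp : ∀ ζ : rootsOfUnity p ℂ, (B ζ) ^ p = 1 := by
    intro ζ
    apply hom_ext_of_generator N x h.gen
    · intro n
      rw [MonoidHom.pow_apply, hBN, one_pow]
    · intro n
      rfl
    · rw [MonoidHom.pow_apply, hBx, MonoidHom.one_apply]
      exact (mem_rootsOfUnity p ζ.1).mp ζ.2
  refine Nat.card_congr (Equiv.ofBijective (fun ζ => ⟨⟨χh * homToFun G (B ζ),
    isIrrCharacter_mul_hom χh hχh (B ζ)⟩, ?_, ?_⟩) ⟨?_, ?_⟩)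
  · intro n
    show (χh * homToFun G (B ζ)) (n : G) = θ n
    rw [Pi.mul_apply, homToFun_apply, hBN, hχhN]
    simp
  · intro g
    show (χh * homToFun G (B ζ)) (g ^ k) = (χh * homToFun G (B ζ)) g
    rw [Pi.mul_apply, Pi.mul_apply, homToFun_apply, homToFun_apply, h.lin (B ζ) (hBN ζ) g, hχhσ,
      pow_add, pow_one]
    have h2 : ((B ζ) g) ^ p = 1 := by
      have := congrArg (fun f : G →* ℂˣ => f g) (hBp ζ)
      simpa using this
    rw [h2, mul_one]
  · -- injective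
    intro ζ ζ' hζζ'
    have h1 : χh * homToFun G (B ζ) = χh * homToFun G (B ζ') := by
      have := congrArg (fun z : {χ : IrrCharacter G // (∀ n : N, (χ : G → ℂ) n = θ n) ∧
        ∀ g : G, (χ : G → ℂ) (g ^ k) = (χ : G → ℂ) g} => (z.1 : G → ℂ)) hζζ'
      exact this
    have h2 := hom_eq_of_mul_eq N hχh hχhNirr (B ζ) (B ζ') (hBN ζ) (hBN ζ') h1
    apply Subtype.ext
    rw [← hBx ζ, ← hBx ζ', h2]
  · -- surjective
    rintro ⟨χ, hχN, hχσ⟩
    obtain ⟨β, hβN, hβ⟩ := exists_hom_of_restrict_eq N hχh χ.2 hχhNirr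
      (fun n => (hχN n).trans (hχhN n).symm)
    -- β ^ p = 1
    have h1 : χh * homToFun G (β ^ (1 + p)) = χh * homToFun G β := by
      funext g
      rw [Pi.mul_apply, Pi.mul_apply, homToFun_apply, homToFun_apply, MonoidHom.pow_apply,
        ← h.lin β hβN g]
      have e1 := congrFun hβ (g ^ k)
      have e2 := congrFun hβ g
      rw [Pi.mul_apply, homToFun_apply] at e1 e2
      calc χh g * ((β (g ^ k) : ℂˣ) : ℂ) = χh (g ^ k) * ((β (g ^ k) : ℂˣ) : ℂ) := by rw [hχhσ]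
        _ = (χ : G → ℂ) (g ^ k) := e1.symm
        _ = (χ : G → ℂ) g := hχσ g
        _ = χh g * ((β g : ℂˣ) : ℂ) := e2
    have h2 : β ^ (1 + p) = β := hom_eq_of_mul_eq N hχh hχhNirr _ _ (by
      intro n
      rw [MonoidHom.pow_apply, hβN, one_pow]) hβN h1
    have h3 : β ^ p = 1 := by
      have e : β ^ (1 + p) = β * β ^ p := by rw [pow_add β 1 p, pow_one]
      rw [e] at h2
      exact mul_left_cancel (h2.trans (mul_one β).symm)
    have hζmem : β x ∈ rootsOfUnity p ℂ := by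
      rw [mem_rootsOfUnity]
      have := congrArg (fun f : G →* ℂˣ => f x) h3
      simpa using this
    refine ⟨⟨β x, hζmem⟩, ?_⟩
    apply Subtype.ext
    apply Subtype.ext
    show χh * homToFun G (B ⟨β x, hζmem⟩) = (χ : G → ℂ)
    have h4 : B ⟨β x, hζmem⟩ = β :=
      hom_ext_of_generator N x h.gen _ _ (hBN _) hβN (hBx _)
    rw [h4, hβ]

end Ext

end Cfsg.Agent.Lib.L0.SigmaRes
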