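import Mathlib
import Cfsg.Agent.Lib.L0.SigmaResidualB
import Cfsg.Agent.Lib.H23.BlockCovering
import Cfsg.Agent.Lib.H23.BlockPrincipal
import Cfsg.Agent.Lib.H10.PResidual
import Cfsg.Agent.Lib.L0.ResidualComplement

/-!
# Galois-fixed extensions over a cyclic `p`-quotient, III (lead's library)

* `restrict_mem_principalBlock`: constituents of restrictions of principal block characters to
  normal subgroups are in the principal block;
* `mem_principalBlock_of_over`: for `N ⊴ G` of `p`-power index, every irreducible character over a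
  principal block character of `N` is in the principal block of `G`;
* `sigmaHyp_of`: the hypotheses `SigmaHyp` for `N = O^p(G)` with `G/N` cyclic nontrivial.
-/

set_option autoImplicit false

namespace Cfsg.Agent.Lib.L0.SigmaRes

open Cfsg Cfsg.Agent.Lib.L0 Cfsg.Agent.Lib.H23 Cfsg.Agent.Lib.H24

section Blocks

variable {G : Type*} [Group G] [Fintype G] {p : ℕ} {M : Ideal AlgInt} (N : Subgroup G)
  [hN : N.Normal] [Fintype N]

theorem classInner_trivial_restrict :
    classInner (fun n : N => (trivialIrr G : G → ℂ) n) (trivialIrr N : N → ℂ) ≠ 0 := by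
  have h : (fun n : N => (trivialIrr G : G → ℂ) n) = (trivialIrr N : N → ℂ) := rfl
  rw [h, irr_classInner_self (trivialIrr N).2]
  exact one_ne_zero

theorem restrict_mem_principalBlock (hM : IsPModular p M) (χ : IrrCharacter G)
    (hχ : χ ∈ principalBlock M G) (ψ : IrrCharacter N)
    (hψ : classInner (fun n : N => (χ : G → ℂ) n) (ψ : N → ℂ) ≠ 0) :
    ψ ∈ principalBlock M N := by
  haveI hP := isPrime_of_isPModular hM
  obtain ⟨g, θ', hθ', hgψ⟩ := covers_conj N hM (principalBlock M G) ⟨trivialIrr G, rfl⟩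
    (principalBlock M N) ⟨trivialIrr N, rfl⟩ (trivialIrr G) trivialIrr_mem_principalBlock
    (trivialIrr N) trivialIrr_mem_principalBlock (classInner_trivial_restrict N) χ hχ ψ hψ
  have h1 : ψ = conjIrr N θ' g := Subtype.ext (funext fun n => by rw [conjIrr_apply]; exact hgψ n)
  have h2 := sameBlock_conjIrr N (M := M) (θ := trivialIrr N) (ψ := θ') hθ' g
  have h3 : conjIrr N (trivialIrr N) g = trivialIrr N := Subtype.ext (funext fun n => rfl)
  rw [h3] at h2
  rw [h1]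
  exact h2

theorem mem_principalBlock_of_over [Fact p.Prime] (hM : IsPModular p M)
    (hidx : ∃ k : ℕ, N.index = p ^ k) (χ : IrrCharacter G) (θ : IrrCharacter N)
    (hθ : θ ∈ principalBlock M N)
    (hcon : classInner (fun n : N => (χ : G → ℂ) n) (θ : N → ℂ) ≠ 0) :
    χ ∈ principalBlock M G := by
  haveI hP := isPrime_of_isPModular hM
  obtain ⟨B, -, huniq⟩ := existsUnique_covers_of_index_pow N hM hidx (principalBlock M N)
    ⟨trivialIrr N, rfl⟩
  have h1 : principalBlock M G = B := huniq _ ⟨⟨trivialIrr G, rfl⟩, trivialIrr G,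
    trivialIrr_mem_principalBlock, trivialIrr N, trivialIrr_mem_principalBlock,
    classInner_trivial_restrict N⟩
  have h2 : blockOf M (χ : G → ℂ) = B := huniq _ ⟨⟨χ, rfl⟩, χ, mem_blockOf_self χ, θ, hθ, hcon⟩
  rw [h1, ← h2]
  exact mem_blockOf_self χ

end Blocks

section Hyp

variable {G : Type*} [Group G] [Fintype G]

theorem coprime_of_pow_hyp (p : ℕ) [hp : Fact p.Prime] (k : ℕ)
    (hk₁ : ∀ g : G, (∃ j : ℕ, orderOf g = p ^ j) → g ^ k = g ^ (1 + p))
    (hk₂ : ∀ g : G, Nat.Coprime (orderOf g) p → g ^ k = g) : k.Coprime (Nat.card G) := by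
  apply Nat.coprime_of_dvd
  intro q hq hqk hqG
  haveI : Fact q.Prime := ⟨hq⟩
  obtain ⟨g, hg⟩ := exists_prime_orderOf_dvd_card' q hqG
  have hgk : g ^ k = 1 := by
    obtain ⟨m, rfl⟩ := hqk
    rw [pow_mul, ← hg, pow_orderOf_eq_one, one_pow]
  have hg1 : g ≠ 1 := by
    intro h1
    rw [h1, orderOf_one] at hg
    exact hq.one_lt.ne hg
  apply hg1
  by_cases hqp : q = p
  · have h1 := hk₁ g ⟨1, by rw [hg, hqp, pow_one]⟩
    rw [hgk, pow_add, pow_one, ← hqp, ← hg, pow_orderOf_eq_one, mul_one] at h1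
    exact h1.symm
  · have h1 := hk₂ g (by rw [hg]; exact (Nat.coprime_primes hq hp.out).mpr hqp)
    rw [hgk] at h1
    exact h1.symm

theorem sigmaHyp_of (p : ℕ) [hp : Fact p.Prime] (P : Sylow p G) (N : Subgroup G) [hN : N.Normal]
    (hNres : N = Cfsg.pResidual p G) (hcyc : IsCyclic (G ⧸ N)) (hnt : N ≠ ⊤) (k : ℕ)
    (hk₁ : ∀ g : G, (∃ j : ℕ, orderOf g = p ^ j) → g ^ k = g ^ (1 + p))
    (hk₂ : ∀ g : G, Nat.Coprime (orderOf g) p → g ^ k = g) :
    ∃ x ∈ (P : Subgroup G), ∃ a : ℕ, SigmaHyp p N k x a := by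
  subst hNres
  obtain ⟨q, hq⟩ := hcyc.exists_generator
  obtain ⟨g₀, rfl⟩ := QuotientGroup.mk_surjective q
  obtain ⟨s, hs, u, hu, rfl⟩ :=
    Cfsg.Agent.Lib.H10.exists_mul_of_sylow_pResidual p (P : Subgroup G) P.not_dvd_index g₀
  have hmk : QuotientGroup.mk' (Cfsg.pResidual p G) s =
      ((s * u : G) : G ⧸ Cfsg.pResidual p G) := by
    rw [QuotientGroup.mk_mul, (QuotientGroup.eq_one_iff u).mpr hu, mul_one]
    rfl
  have hsord : ∃ j : ℕ, orderOf s = p ^ j := by
    obtain ⟨j, hj⟩ := (IsPGroup.iff_orderOf.mp P.2) ⟨s, hs⟩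
    exact ⟨j, by rw [← hj, Subgroup.orderOf_mk]⟩
  obtain ⟨a, ha⟩ := (IsPGroup.iff_card (p := p)).mp
    (Cfsg.Agent.Lib.H10.pResidual_quotient_isPGroup p G)
  have ha0 : 0 < a := by
    rcases Nat.eq_zero_or_pos a with h0 | h0
    · exfalso
      apply hnt
      rw [h0, pow_zero, ← Subgroup.index_eq_card] at ha
      exact Subgroup.index_eq_one.mp ha
    · exact h0
  refine ⟨s, hs, a, ?_⟩
  refine
    { cop := coprime_of_pow_hyp p k hk₁ hk₂
      cyc := hcyc
      gen := fun y => by rw [hmk]; exact hq y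
      xord := hsord
      xpow := hk₁ s hsord
      apos := ha0
      card := ha
      res := pResidual_pResidual_eq_top p
      lin := ?_ }
  intro β hβ g
  obtain ⟨s', hs', u', hu', rfl⟩ :=
    Cfsg.Agent.Lib.H10.exists_mul_of_sylow_pResidual p (P : Subgroup G) P.not_dvd_index g
  have hs'ord : ∃ j : ℕ, orderOf s' = p ^ j := by
    obtain ⟨j, hj⟩ := (IsPGroup.iff_orderOf.mp P.2) ⟨s', hs'⟩
    exact ⟨j, by rw [← hj, Subgroup.orderOf_mk]⟩
  have h1 : β (s' * u') = β s' := by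
    rw [map_mul]
    have := hβ ⟨u', hu'⟩
    simp only at this
    rw [this, mul_one]
  rw [map_pow, h1, ← map_pow, hk₁ s' hs'ord, map_pow]

/-- `P`-invariance gives `G`-invariance when `G = P N`. -/
theorem invariant_of_sylow_invariant (p : ℕ) [hp : Fact p.Prime] (P : Sylow p G) (N : Subgroup G)
    [hN : N.Normal] (hNres : N = Cfsg.pResidual p G) (θ : N → ℂ) (hθ : IsClassFunction N θ)
    (hinv : ∀ x ∈ (P : Subgroup G), ∀ n : N, θ ⟨x * n * x⁻¹, hN.conj_mem n n.2 x⟩ = θ n)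
    (g : G) (n : N) : θ ⟨g * n * g⁻¹, hN.conj_mem (n : G) n.2 g⟩ = θ n := by
  subst hNres
  obtain ⟨s, hs, u, hu, rfl⟩ :=
    Cfsg.Agent.Lib.H10.exists_mul_of_sylow_pResidual p (P : Subgroup G) P.not_dvd_index g
  have h1 := hinv s hs ⟨u * n * u⁻¹, hN.conj_mem (n : G) n.2 u⟩
  have h2 : (⟨s * u * ↑n * (s * u)⁻¹, hN.conj_mem (n : G) n.2 (s * u)⟩ :
      ↥(Cfsg.pResidual p G)) = ⟨s * (u * ↑n * u⁻¹) * s⁻¹,
        hN.conj_mem _ (hN.conj_mem (n : G) n.2 u) s⟩ := by
    apply Subtype.ext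
    show s * u * ↑n * (s * u)⁻¹ = s * (u * ↑n * u⁻¹) * s⁻¹
    group
  rw [h2, h1]
  have h3 := hθ n ⟨u, hu⟩
  have h4 : (⟨u * ↑n * u⁻¹, hN.conj_mem (n : G) n.2 u⟩ : ↥(Cfsg.pResidual p G)) =
      (⟨u, hu⟩ : ↥(Cfsg.pResidual p G)) * n * (⟨u, hu⟩ : ↥(Cfsg.pResidual p G))⁻¹ := by
    apply Subtype.ext
    rfl
  rw [h4]
  exact h3

end Hyp

end Cfsg.Agent.Lib.L0.SigmaRes
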